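import Mathlib
import Cfsg.Agent.Lib.Helper93.RU0

/-!
# RU project (helper93 server, S2280): pieces (D2) `W_smul` and (D3) `W_conj`
(self-contained: own copies `h44_*` of the transvection calculus facts they need)
-/

set_option autoImplicit false

namespace Cfsg.Agent.Helper44.RU

open Matrix Cfsg.Agent.Helper93.RU

variable {F : Type*} [Field F] {m : ℕ}

theorem h44_det_tvM (v φ : Fin (m + 3) → F) : (tvM v φ).det = 1 + φ ⬝ᵥ v := by
  unfold tvM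
  rw [Matrix.vecMulVec_eq Unit, Matrix.det_one_add_replicateCol_mul_replicateRow]

theorem h44_tvS_pos (v φ : Fin (m + 3) → F) (hd : (tvM v φ).det = 1) :
    tvS v φ = ⟨tvM v φ, hd⟩ := by
  unfold tvS; exact dif_pos hd

theorem h44_tvS_neg (v φ : Fin (m + 3) → F) (hd : ¬ (tvM v φ).det = 1) :
    tvS v φ = 1 := by
  unfold tvS; exact dif_neg hd

theorem h44_tvS_val (v φ : Fin (m + 3) → F) (h : φ ⬝ᵥ v = 0) : (tvS v φ).1 = tvM v φ := by
  have hd : (tvM v φ).det = 1 := by rw [h44_det_tvM, h, add_zero]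
  rw [h44_tvS_pos v φ hd]

theorem h44_tvM_smul (a : F) (v φ : Fin (m + 3) → F) : tvM (a • v) φ = tvM v (a • φ) := by
  unfold tvM
  rw [Matrix.smul_vecMulVec, Matrix.vecMulVec_smul]

theorem h44_tvS_smul (a : F) (v φ : Fin (m + 3) → F) : tvS (a • v) φ = tvS v (a • φ) := by
  have h := h44_tvM_smul a v φ
  by_cases hd : (tvM v (a • φ)).det = 1
  · have hd' : (tvM (a • v) φ).det = 1 := by rw [h]; exact hd
    rw [h44_tvS_pos _ _ hd, h44_tvS_pos _ _ hd']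
    exact Subtype.ext h
  · have hd' : ¬ (tvM (a • v) φ).det = 1 := by rw [h]; exact hd
    rw [h44_tvS_neg _ _ hd, h44_tvS_neg _ _ hd']

theorem h44_tvS_conj (g : SLm m F) (v φ : Fin (m + 3) → F) (hφ : φ ⬝ᵥ v = 0) :
    (φ ᵥ* (g⁻¹).1) ⬝ᵥ (g.1 *ᵥ v) = 0 ∧ g * tvS v φ * g⁻¹ = tvS (g.1 *ᵥ v) (φ ᵥ* (g⁻¹).1) := by
  have hgi : (g⁻¹).1 * g.1 = 1 := by
    rw [← Matrix.SpecialLinearGroup.coe_mul, inv_mul_cancel, Matrix.SpecialLinearGroup.coe_one]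
  have h0 : (φ ᵥ* (g⁻¹).1) ⬝ᵥ (g.1 *ᵥ v) = 0 := by
    rw [Matrix.dotProduct_mulVec, Matrix.vecMul_vecMul, hgi, Matrix.vecMul_one, hφ]
  refine ⟨h0, ?_⟩
  apply Subtype.ext
  rw [Matrix.SpecialLinearGroup.coe_mul, Matrix.SpecialLinearGroup.coe_mul, h44_tvS_val v φ hφ,
    h44_tvS_val _ _ h0]
  have hgi' : g.1 * (g⁻¹).1 = 1 := by
    rw [← Matrix.SpecialLinearGroup.coe_mul, mul_inv_cancel, Matrix.SpecialLinearGroup.coe_one]
  unfold tvM
  rw [Matrix.mul_add, Matrix.add_mul, Matrix.mul_one, hgi', Matrix.mul_vecMulVec,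
    Matrix.vecMulVec_mul]

/-- (D2) -/
theorem W_smul (H : Subgroup (SLm m F)) (a : F) (v : Fin (m + 3) → F) (hv : v ∈ Wset H) :
    a • v ∈ Wset H := by
  intro φ hφ
  rw [h44_tvS_smul]
  apply hv
  rw [smul_dotProduct]
  rw [dotProduct_smul] at hφ
  exact hφ

/-- (D3) -/
theorem W_conj (H : Subgroup (SLm m F)) (g : SLm m F) (hg : g ∈ H) (v : Fin (m + 3) → F)
    (hv : v ∈ Wset H) : g.1 *ᵥ v ∈ Wset H := by
  intro φ hφ
  have hφ' : (φ ᵥ* g.1) ⬝ᵥ v = 0 := by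
    rw [← Matrix.dotProduct_mulVec]; exact hφ
  obtain ⟨-, hc⟩ := h44_tvS_conj g v (φ ᵥ* g.1) hφ'
  have hgi' : g.1 * (g⁻¹).1 = 1 := by
    rw [← Matrix.SpecialLinearGroup.coe_mul, mul_inv_cancel, Matrix.SpecialLinearGroup.coe_one]
  rw [Matrix.vecMul_vecMul, hgi', Matrix.vecMul_one] at hc
  rw [← hc]
  exact H.mul_mem (H.mul_mem hg (hv _ hφ')) (H.inv_mem hg)

end Cfsg.Agent.Helper44.RU
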