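import Mathlib
import Cfsg.Agent.Lib.Helper13.OrthPermB

/-!
# Theorem P, piece (F2): an invariant totally singular subspace

`M ≥ A ≥ Z` subgroups of `EK Q`, `A` normalised by `M`, not central, with central commutators and
central `p`-th powers (`p` the characteristic), and `rootGroup u' ≤ M`: there is a totally singular
subspace containing `u'` and stabilised by `M`.
-/

set_option autoImplicit false

namespace Cfsg.Agent.Helper44.OrthPermF2

open Matrix QuadraticMap Cfsg.Agent.Helper13 Cfsg.Agent.Helper43 Cfsg.Agent.Helper14.ReflGen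
open Cfsg.Agent.Helper13.OrthPermA
open scoped commutatorElement

variable {F : Type*} [Field F] {ι : Type} [Fintype ι] [DecidableEq ι]
  {Q : QuadraticForm F (ι → F)}

/-! ### powers of Eichler elements -/

theorem E_pow {u w : ι → F} (hu : Q u = 0) (huw : polar (⇑Q) u w = 0) (k : ℕ) :
    (E Q u w) ^ k = E Q u ((k : F) • w) := by
  induction k with
  | zero => rw [pow_zero, Nat.cast_zero, zero_smul, E_zero]
  | succ k ih =>
    have h1 : polar (⇑Q) u ((k : F) • w) = 0 := by rw [polar_smul_right, huw, smul_zero]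
    rw [pow_succ, ih, E_mul hu h1 huw, Nat.cast_succ, add_smul, one_smul]

theorem rootGroup_isPGroup (p : ℕ) [CharP F p] {u : ι → F} (hu : Q u = 0) :
    IsPGroup p (rootGroup Q u hu) := by
  intro g
  refine ⟨1, ?_⟩
  obtain ⟨w, hw, hg⟩ := (mem_rootGroup_iff hu g.1).1 g.2
  apply Subtype.ext
  rw [Subgroup.coe_pow, pow_one, hg, E_pow hu hw, CharP.cast_eq_zero, zero_smul, E_zero]
  rfl

/-! ### the subspaces -/

/-- the common fixed vectors of a subgroup -/
def fixSub (R : Subgroup ↥(EK Q)) : Submodule F (ι → F) where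
  carrier := {y | ∀ a ∈ R, a • y = y}
  add_mem' := by
    intro x y hx hy a ha
    rw [smul_add', hx a ha, hy a ha]
  zero_mem' := by
    intro a _
    exact smul_zero' a
  smul_mem' := by
    intro c y hy a ha
    change a • (c • y) = c • y
    rw [smul_smul', hy a ha]

theorem mem_fixSub (R : Subgroup ↥(EK Q)) (y : ι → F) :
    y ∈ fixSub R ↔ ∀ a ∈ R, a • y = y := Iff.rfl

variable (Q) in
/-- the orthogonal of a subspace with respect to the polar form -/
def perpSub (Y : Submodule F (ι → F)) : Submodule F (ι → F) where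
  carrier := {x | ∀ y ∈ Y, polar (⇑Q) y x = 0}
  add_mem' := by
    intro x x' hx hx' y hy
    rw [polar_add_right, hx y hy, hx' y hy, add_zero]
  zero_mem' := by
    intro y _
    rw [polar_zero_right]
  smul_mem' := by
    intro c x hx y hy
    change polar (⇑Q) y (c • x) = 0
    rw [polar_smul_right, hx y hy, smul_zero]

theorem mem_perpSub (Y : Submodule F (ι → F)) (x : ι → F) :
    x ∈ perpSub Q Y ↔ ∀ y ∈ Y, polar (⇑Q) y x = 0 := Iff.rfl

variable (Q) in
/-- the singular vectors of the radical of a subspace -/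
def singSub (Y : Submodule F (ι → F)) : Submodule F (ι → F) where
  carrier := {y | y ∈ Y ∧ y ∈ perpSub Q Y ∧ Q y = 0}
  add_mem' := by
    rintro x y ⟨hx, hx', hqx⟩ ⟨hy, hy', hqy⟩
    refine ⟨Y.add_mem hx hy, (perpSub Q Y).add_mem hx' hy', ?_⟩
    rw [Q_add', hqx, hqy, hy' x hx]
    simp
  zero_mem' := ⟨Y.zero_mem, (perpSub Q Y).zero_mem, map_zero Q⟩
  smul_mem' := by
    rintro c y ⟨hy, hy', hqy⟩
    refine ⟨Y.smul_mem c hy, (perpSub Q Y).smul_mem c hy', ?_⟩
    rw [Q_smul', hqy, mul_zero]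

theorem mem_singSub (Y : Submodule F (ι → F)) (y : ι → F) :
    y ∈ singSub Q Y ↔ y ∈ Y ∧ y ∈ perpSub Q Y ∧ Q y = 0 := Iff.rfl

/-- the orthogonal of a proper subspace is non-zero -/
theorem perpSub_ne_bot (hQ : (polarBilin Q).Nondegenerate) (Y : Submodule F (ι → F))
    (hY : Y ≠ ⊤) : perpSub Q Y ≠ ⊥ := by
  obtain ⟨g, hg0, hg⟩ := Submodule.exists_le_ker_of_lt_top Y (lt_top_iff_ne_top.2 hY)
  set v := (LinearMap.BilinForm.toDual (polarBilin Q) hQ).symm g with hv
  have hv' : ∀ y, polarBilin Q v y = g y := by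
    intro y
    rw [hv, ← LinearMap.BilinForm.toDual_def hQ, LinearEquiv.apply_symm_apply]
  have hv0 : v ≠ 0 := by
    intro h0
    apply hg0
    apply LinearMap.ext
    intro y
    rw [← hv' y, h0]
    simp
  have hmem : v ∈ perpSub Q Y := by
    intro y hy
    rw [polar_comm, ← polarBilin_apply_apply, hv' y]
    exact hg hy
  intro hbot
  rw [hbot, Submodule.mem_bot] at hmem
  exact hv0 hmem

/-! ### fixed vectors of `p`-groups -/

theorem exists_fixed_of_pgroup [Fintype F] (p : ℕ) [Fact p.Prime] [CharP F p]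
    (R : Subgroup ↥(EK Q)) (hR : IsPGroup p R) (Y' : Submodule F (ι → F)) (hY' : Y' ≠ ⊥)
    (hinv : ∀ r ∈ R, ∀ y ∈ Y', r • y ∈ Y') :
    ∃ y ∈ Y', y ≠ 0 ∧ ∀ r ∈ R, r • y = y := by
  letI : MulAction ↥R ↥Y' :=
    { smul := fun r y => ⟨(r : ↥(EK Q)) • (y : ι → F), hinv r.1 r.2 y.1 y.2⟩
      one_smul := fun y => Subtype.ext (one_smul ↥(EK Q) (y : ι → F))
      mul_smul := fun r s y => Subtype.ext (mul_smul (r : ↥(EK Q)) (s : ↥(EK Q)) (y : ι → F)) }
  have hcard : p ∣ Nat.card ↥Y' := by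
    rw [Module.natCard_eq_pow_finrank (K := F) (V := ↥Y')]
    have hpF : p ∣ Nat.card F := by
      rw [Nat.card_eq_fintype_card, ← CharP.cast_eq_zero_iff F p]
      exact Nat.cast_card_eq_zero F
    have hpos : Module.finrank F ↥Y' ≠ 0 := fun h0 => hY' (Submodule.finrank_eq_zero.mp h0)
    exact dvd_pow hpF hpos
  have h0 : (0 : ↥Y') ∈ MulAction.fixedPoints ↥R ↥Y' := by
    intro r
    exact Subtype.ext (smul_zero' (r : ↥(EK Q)))
  obtain ⟨b, hb, hb0⟩ := hR.exists_fixed_point_of_prime_dvd_card_of_fixed_point _ hcard h0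
  refine ⟨b.1, b.2, ?_, fun r hr => ?_⟩
  · intro hb1
    apply hb0
    apply Subtype.ext
    rw [hb1]
    rfl
  · have := hb ⟨r, hr⟩
    exact congrArg Subtype.val this

/-! ### the centre -/

theorem center_sq (h : WI3 Q) (z : ↥(EK Q)) (hz : z ∈ Subgroup.center ↥(EK Q)) :
    z * z = 1 := by
  obtain ⟨l, hl⟩ := center_scalar h z hz
  obtain ⟨t, t', -, -, htt', -, -, -, -⟩ := h.perp 0 0
  have h1 := EK_polar_smul Q z t t'
  rw [hl, hl, polar_smul_left, polar_smul_right, htt'] at h1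
  have h2 : l * l = 1 := by simpa using h1
  apply EK_ext
  intro x
  rw [mul_smul, hl, hl, smul_smul, h2, one_smul, one_smul]

theorem center_pow_eq_one (h : WI3 Q) (p : ℕ) [Fact p.Prime] [CharP F p] (z : ↥(EK Q))
    (hz : z ∈ Subgroup.center ↥(EK Q)) (hzp : z ^ p = 1) : z = 1 := by
  obtain ⟨l, hl⟩ := center_scalar h z hz
  obtain ⟨t, t', -, -, htt', -, -, -, -⟩ := h.perp 0 0
  have ht0 : t ≠ 0 := by
    rintro rfl
    rw [polar_zero_left] at htt'
    exact zero_ne_one htt'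
  have hpow : ∀ k : ℕ, ∀ x : ι → F, (z ^ k) • x = (l ^ k) • x := by
    intro k
    induction k with
    | zero => intro x; rw [pow_zero, pow_zero, one_smul, one_smul]
    | succ k ih =>
      intro x
      rw [pow_succ, mul_smul, hl, ih, smul_smul, pow_succ]
  have h1 := hpow p t
  rw [hzp, one_smul] at h1
  have h2 : (l ^ p - 1) • t = 0 := by rw [sub_smul, one_smul, ← h1, sub_self]
  have h3 : l ^ p - 1 = 0 := by
    rcases smul_eq_zero.mp h2 with h3 | h3
    · exact h3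
    · exact absurd h3 ht0
  have h4 : (l - 1) ^ p = 0 := by rw [sub_pow_char, one_pow, h3]
  have h5 : l = 1 := by
    have := pow_eq_zero_iff (Fact.out : p.Prime).ne_zero |>.mp h4
    linear_combination this
  apply EK_ext
  intro x
  rw [hl, h5, one_smul, one_smul]

/-! ### the `p`-torsion of an abelian subgroup -/

/-- the elements of exponent `p` of a commutative subgroup -/
def torsionSub {G : Type*} [Group G] (A : Subgroup G) (hA : ∀ a ∈ A, ∀ b ∈ A, a * b = b * a)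
    (p : ℕ) : Subgroup G where
  carrier := {a | a ∈ A ∧ a ^ p = 1}
  one_mem' := ⟨A.one_mem, one_pow _⟩
  mul_mem' := by
    rintro a b ⟨ha, hap⟩ ⟨hb, hbp⟩
    refine ⟨A.mul_mem ha hb, ?_⟩
    have hc : Commute a b := hA a ha b hb
    rw [hc.mul_pow, hap, hbp, one_mul]
  inv_mem' := by
    rintro a ⟨ha, hap⟩
    exact ⟨A.inv_mem ha, by rw [inv_pow, hap, inv_one]⟩

theorem mem_torsionSub {G : Type*} [Group G] (A : Subgroup G)
    (hA : ∀ a ∈ A, ∀ b ∈ A, a * b = b * a) (p : ℕ) (a : G) :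
    a ∈ torsionSub A hA p ↔ a ∈ A ∧ a ^ p = 1 := Iff.rfl

theorem torsionSub_isPGroup {G : Type*} [Group G] (A : Subgroup G)
    (hA : ∀ a ∈ A, ∀ b ∈ A, a * b = b * a) (p : ℕ) : IsPGroup p (torsionSub A hA p) := by
  intro g
  refine ⟨1, ?_⟩
  apply Subtype.ext
  rw [Subgroup.coe_pow, pow_one, g.2.2]
  rfl

/-! ### the main statement -/

/-- (F2) invariant totally singular subspace -/
theorem exists_ts_invariant [Fintype F] (h : WI3 Q) (M A : Subgroup ↥(EK Q))
    (hZA : Subgroup.center ↥(EK Q) ≤ A) (hAM : A ≤ M)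
    (hnorm : ∀ m ∈ M, ∀ a ∈ A, m * a * m⁻¹ ∈ A)
    (hne : ¬ A ≤ Subgroup.center ↥(EK Q))
    (hab : ∀ a ∈ A, ∀ b ∈ A, ⁅a, b⁆ ∈ Subgroup.center ↥(EK Q))
    (hexp : ∀ a ∈ A, a ^ ringChar F ∈ Subgroup.center ↥(EK Q))
    {u' : ι → F} (hu'0 : u' ≠ 0) (hu' : Q u' = 0) (hR : rootGroup Q u' hu' ≤ M) :
    ∃ Y0 : Submodule F (ι → F), u' ∈ Y0 ∧ (∀ y ∈ Y0, Q y = 0) ∧
      ∀ m ∈ M, ∀ y ∈ Y0, m • y ∈ Y0 := by
  obtain ⟨p, hp⟩ : ∃ p : ℕ, p = ringChar F := ⟨_, rfl⟩
  rw [← hp] at hexp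
  haveI : CharP F p := by rw [hp]; exact ringChar.charP F
  haveI : Fact p.Prime := ⟨CharP.char_is_prime F p⟩
  -- `A` is commutative
  have hcomm : ∀ a ∈ A, ∀ b ∈ A, a * b = b * a := by
    intro a ha b hb
    have hz := hab a ha b hb
    have hzp : ⁅a, b⁆ ^ p = 1 := by
      have h1 : a * b * a⁻¹ = ⁅a, b⁆ * b := by rw [commutatorElement_def]; group
      have h2 : (a * b * a⁻¹) ^ p = b ^ p := by
        rw [conj_pow, Subgroup.mem_center_iff.mp (hexp b hb) a, mul_inv_cancel_right]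
      have hc : Commute ⁅a, b⁆ b := (Subgroup.mem_center_iff.mp hz b).symm
      rw [h1, hc.mul_pow] at h2
      exact mul_eq_right.mp h2
    exact commutatorElement_eq_one_iff_mul_comm.mp (center_pow_eq_one h p _ hz hzp)
  -- the `p`-torsion
  obtain ⟨A2, hA2⟩ : ∃ A2 : Subgroup ↥(EK Q), A2 = torsionSub A hcomm p := ⟨_, rfl⟩
  have hA2mem : ∀ a, a ∈ A2 ↔ a ∈ A ∧ a ^ p = 1 := by
    intro a
    rw [hA2]
    exact mem_torsionSub A hcomm p a
  have hA2p : IsPGroup p A2 := by rw [hA2]; exact torsionSub_isPGroup A hcomm p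
  have hA2norm : ∀ m ∈ M, ∀ a ∈ A2, m * a * m⁻¹ ∈ A2 := by
    intro m hm a ha
    rw [hA2mem] at ha ⊢
    exact ⟨hnorm m hm a ha.1, by rw [conj_pow, ha.2, mul_one, mul_inv_cancel]⟩
  have hA2ne : ∃ a ∈ A2, a ≠ 1 := by
    obtain ⟨a, haA, haZ⟩ := SetLike.not_le_iff_exists.1 hne
    have hz := hexp a haA
    have hzz := center_sq h _ hz
    rcases Nat.Prime.eq_two_or_odd' (Fact.out : p.Prime) with h2 | hodd
    · have h1 : a ^ p = 1 := by
        apply center_pow_eq_one h p _ hz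
        rw [h2, pow_two]
        rw [h2] at hzz
        exact hzz
      refine ⟨a, (hA2mem a).2 ⟨haA, h1⟩, ?_⟩
      rintro rfl
      exact haZ (Subgroup.one_mem _)
    · obtain ⟨k, hk⟩ := hodd
      refine ⟨a * a ^ p, (hA2mem _).2 ⟨A.mul_mem haA (hZA hz), ?_⟩, ?_⟩
      · have hc : Commute a (a ^ p) := (Commute.refl a).pow_right p
        rw [hc.mul_pow, ← pow_succ', ← pow_mul]
        have h3 : (a ^ p) ^ (p + 1) = 1 := by
          have : p + 1 = 2 * (k + 1) := by omega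
          rw [this, pow_mul, pow_two, hzz, one_pow]
        rw [pow_mul, h3]
      · intro h1
        apply haZ
        have h3 : a = (a ^ p)⁻¹ := eq_inv_of_mul_eq_one_left h1
        rw [h3]
        exact Subgroup.inv_mem _ hz
  -- the fixed space
  obtain ⟨Y, hYdef⟩ : ∃ Y : Submodule F (ι → F), Y = fixSub A2 := ⟨_, rfl⟩
  have hYmem : ∀ y, y ∈ Y ↔ ∀ a ∈ A2, a • y = y := by
    intro y
    rw [hYdef]
    exact mem_fixSub A2 y
  have hYM : ∀ m ∈ M, ∀ y ∈ Y, m • y ∈ Y := by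
    intro m hm y hy
    rw [hYmem] at hy ⊢
    intro a ha
    have h1 := hA2norm m⁻¹ (M.inv_mem hm) a ha
    rw [inv_inv] at h1
    have h2 := hy _ h1
    calc a • m • y = m • (m⁻¹ * a * m) • y := by
          rw [← mul_smul, ← mul_smul]
          congr 1
          group
      _ = m • y := by rw [h2]
  have hPM : ∀ m ∈ M, ∀ x ∈ perpSub Q Y, m • x ∈ perpSub Q Y := by
    intro m hm x hx y hy
    have h1 := hYM m⁻¹ (M.inv_mem hm) y hy
    have h2 := EK_polar_smul Q m (m⁻¹ • y) x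
    rw [smul_inv_smul] at h2
    rw [h2]
    exact hx _ h1
  have hYtop : Y ≠ ⊤ := by
    obtain ⟨a, ha, ha1⟩ := hA2ne
    intro htop
    apply ha1
    apply EK_ext
    intro x
    rw [one_smul]
    have hx : x ∈ Y := by rw [htop]; exact Submodule.mem_top
    exact (hYmem x).1 hx a ha
  have hperp0 : perpSub Q Y ≠ ⊥ := perpSub_ne_bot h.nd Y hYtop
  -- the radical is non-zero
  obtain ⟨y1, hy1P, hy10, hy1fix⟩ := exists_fixed_of_pgroup p A2 hA2p (perpSub Q Y) hperp0
    (fun a ha x hx => hPM a (hAM ((hA2mem a).1 ha).1) x hx)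
  have hy1Y : y1 ∈ Y := (hYmem y1).2 hy1fix
  have hY1 : Y ⊓ perpSub Q Y ≠ ⊥ := by
    intro hbot
    have : y1 ∈ Y ⊓ perpSub Q Y := ⟨hy1Y, hy1P⟩
    rw [hbot, Submodule.mem_bot] at this
    exact hy10 this
  -- `u'` lies in the radical
  obtain ⟨y2, hy2, hy20, hy2fix⟩ := exists_fixed_of_pgroup p (rootGroup Q u' hu')
    (rootGroup_isPGroup p hu') (Y ⊓ perpSub Q Y) hY1
    (fun r hr x hx => ⟨hYM r (hR hr) x hx.1, hPM r (hR hr) x hx.2⟩)
  obtain ⟨c, hc⟩ := fixed_of_rootGroup h hu'0 hu' y2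
    (fun w hw => hy2fix _ (E_mem_rootGroup hu' hw))
  have hc0 : c ≠ 0 := by
    rintro rfl
    rw [zero_smul] at hc
    exact hy20 hc
  have hu'mem : u' ∈ Y ⊓ perpSub Q Y := by
    have : u' = c⁻¹ • y2 := by rw [hc, smul_smul, inv_mul_cancel₀ hc0, one_smul]
    rw [this]
    exact Submodule.smul_mem _ _ hy2
  refine ⟨singSub Q Y, ⟨hu'mem.1, hu'mem.2, hu'⟩, fun y hy => hy.2.2, ?_⟩
  intro m hm y hy
  exact ⟨hYM m hm y hy.1, hPM m hm y hy.2.1, by rw [EK_Q_smul, hy.2.2]⟩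

end Cfsg.Agent.Helper44.OrthPermF2
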