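import Mathlib

set_option autoImplicit false
set_option linter.unusedSectionVars false

/-!
Representation numbers of functions `Q : V → F` on finite sets, the "type" `(k, ε)` of a
nondefective even-dimensional quadratic form over a finite field expressed through representation
numbers, multiplicativity of types under orthogonal sums, and the congruence forced by a
fixed-point-free isometry of prime order.
-/

namespace Cfsg.Agent.Helper44.QF

open scoped Classical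

section count

variable {F : Type*} [Field F] [Fintype F]

/-- number of representations of `c` by `Q` -/
noncomputable def rep {V : Type*} (Q : V → F) (c : F) : ℕ := Nat.card {v : V // Q v = c}

lemma rep_congr {V V' : Type*} (Q : V → F) (Q' : V' → F) (e : V ≃ V')
    (h : ∀ v, Q' (e v) = Q v) (c : F) : rep Q' c = rep Q c := by
  unfold rep
  apply Nat.card_congr
  exact (e.subtypeEquiv (fun v => by rw [h v])).symm

lemma sum_rep {V : Type*} [Finite V] (Q : V → F) : ∑ c : F, rep Q c = Nat.card V := by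
  unfold rep
  rw [← Nat.card_sigma]
  exact Nat.card_congr (Equiv.sigmaFiberEquiv Q)

lemma rep_prod {V₁ V₂ : Type*} [Finite V₁] [Finite V₂] (Q₁ : V₁ → F) (Q₂ : V₂ → F) (d : F) :
    rep (fun v : V₁ × V₂ => Q₁ v.1 + Q₂ v.2) d = ∑ c : F, rep Q₁ c * rep Q₂ (d - c) := by
  unfold rep
  have e : {v : V₁ × V₂ // Q₁ v.1 + Q₂ v.2 = d} ≃
      Σ c : F, {v₁ : V₁ // Q₁ v₁ = c} × {v₂ : V₂ // Q₂ v₂ = d - c} :=
    { toFun := fun v => ⟨Q₁ v.1.1, ⟨v.1.1, rfl⟩, ⟨v.1.2, eq_sub_of_add_eq' v.2⟩⟩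
      invFun := fun w => ⟨(w.2.1.1, w.2.2.1), by
        show Q₁ w.2.1.1 + Q₂ w.2.2.1 = d
        rw [w.2.1.2, w.2.2.2]; ring⟩
      left_inv := fun v => by
        apply Subtype.ext
        rfl
      right_inv := fun w => by
        obtain ⟨c, ⟨v₁, h₁⟩, ⟨v₂, h₂⟩⟩ := w
        subst h₁
        rfl }
  rw [Nat.card_congr e, Nat.card_sigma]
  apply Finset.sum_congr rfl
  intro c _
  rw [Nat.card_prod]

/-- `Q` has the representation numbers of a nondefective form of dimension `2k` and sign `ε` -/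
def HasType {V : Type*} (Q : V → F) (k : ℕ) (ε : ℤ) : Prop :=
  ∀ c : F, (Fintype.card F : ℤ) * (rep Q c : ℤ) =
    (Fintype.card F : ℤ) ^ (2 * k) - ε * (Fintype.card F : ℤ) ^ k +
      (if c = 0 then ε * (Fintype.card F : ℤ) ^ (k + 1) else 0)

lemma hasType_congr {V V' : Type*} (Q : V → F) (Q' : V' → F) (e : V ≃ V')
    (h : ∀ v, Q' (e v) = Q v) (k : ℕ) (ε : ℤ) (hT : HasType Q k ε) : HasType Q' k ε := by
  intro c
  rw [rep_congr Q Q' e h c]
  exact hT c

lemma card_pos' : (0 : ℤ) < (Fintype.card F : ℤ) := by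
  exact_mod_cast Fintype.card_pos

lemma hasType_prod {V₁ V₂ : Type*} [Finite V₁] [Finite V₂] (Q₁ : V₁ → F) (Q₂ : V₂ → F)
    (k₁ k₂ : ℕ) (ε₁ ε₂ : ℤ) (h₁ : HasType Q₁ k₁ ε₁) (h₂ : HasType Q₂ k₂ ε₂) :
    HasType (fun v : V₁ × V₂ => Q₁ v.1 + Q₂ v.2) (k₁ + k₂) (ε₁ * ε₂) := by
  intro d
  set q : ℤ := (Fintype.card F : ℤ) with hq
  have hq0 : q ≠ 0 := ne_of_gt card_pos'
  have hcard : ((Finset.univ : Finset F).card : ℤ) = q := by
    rw [Finset.card_univ]
  set A₁ : ℤ := q ^ (2 * k₁) - ε₁ * q ^ k₁ with hA₁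
  set B₁ : ℤ := ε₁ * q ^ (k₁ + 1) with hB₁
  set A₂ : ℤ := q ^ (2 * k₂) - ε₂ * q ^ k₂ with hA₂
  set B₂ : ℤ := ε₂ * q ^ (k₂ + 1) with hB₂
  have e1 : ∀ c : F, q * (rep Q₁ c : ℤ) = A₁ + (if c = 0 then B₁ else 0) := h₁
  have e2 : ∀ c : F, q * (rep Q₂ c : ℤ) = A₂ + (if c = 0 then B₂ else 0) := h₂
  have hsum2 : ∑ c : F, q * (rep Q₂ (d - c) : ℤ) = q * A₂ + B₂ := by
    have : ∑ c : F, q * (rep Q₂ (d - c) : ℤ) = ∑ c : F, q * (rep Q₂ c : ℤ) :=
      Fintype.sum_equiv (Equiv.subLeft d) _ _ (fun c => rfl)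
    rw [this]
    simp only [e2, Finset.sum_add_distrib, Finset.sum_const, Finset.sum_ite_eq',
      Finset.mem_univ, if_true, nsmul_eq_mul, hcard]
  have key : q * (q * (rep (fun v : V₁ × V₂ => Q₁ v.1 + Q₂ v.2) d : ℤ)) =
      A₁ * (q * A₂ + B₂) + B₁ * (A₂ + (if d = 0 then B₂ else 0)) := by
    rw [rep_prod, Nat.cast_sum, Finset.mul_sum, Finset.mul_sum]
    have : ∀ c : F, q * (q * ((rep Q₁ c * rep Q₂ (d - c) : ℕ) : ℤ)) =
        A₁ * (q * (rep Q₂ (d - c) : ℤ)) +
          (if c = 0 then B₁ * (q * (rep Q₂ (d - c) : ℤ)) else 0) := by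
      intro c
      have h := e1 c
      rw [Nat.cast_mul]
      split_ifs with hc
      · rw [if_pos hc] at h
        calc q * (q * ((rep Q₁ c : ℤ) * (rep Q₂ (d - c) : ℤ)))
            = (q * (rep Q₁ c : ℤ)) * (q * (rep Q₂ (d - c) : ℤ)) := by ring
          _ = _ := by rw [h]; ring
      · rw [if_neg hc] at h
        calc q * (q * ((rep Q₁ c : ℤ) * (rep Q₂ (d - c) : ℤ)))
            = (q * (rep Q₁ c : ℤ)) * (q * (rep Q₂ (d - c) : ℤ)) := by ring
          _ = _ := by rw [h]; ring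
    simp only [this, Finset.sum_add_distrib, ← Finset.mul_sum, Finset.sum_ite_eq',
      Finset.mem_univ, if_true, sub_zero]
    rw [← Finset.mul_sum] at hsum2
    rw [hsum2, e2]
  apply mul_left_cancel₀ hq0
  rw [key, hA₁, hB₁, hA₂, hB₂]
  split_ifs with hd
  · ring
  · ring

lemma hasType_unique {V : Type*} (Q : V → F) (k : ℕ) (h₁ : HasType Q k 1)
    (h₂ : HasType Q k (-1)) : False := by
  have a := h₁ 1
  have b := h₂ 1
  rw [if_neg one_ne_zero] at a b
  have hpos : (0 : ℤ) < (Fintype.card F : ℤ) ^ k := pow_pos card_pos' k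
  rw [a] at b
  linarith

/-- a permutation of prime order `r` preserving `Q` without fixed points on the level set `c`
forces `r ∣ rep Q c` -/
lemma dvd_rep_of_free {V : Type*} [Finite V] (Q : V → F) (σ : Equiv.Perm V)
    (hσQ : ∀ v, Q (σ v) = Q v) (r : ℕ) (hr : r.Prime) (hσr : σ ^ r = 1) (c : F)
    (hfix : ∀ v, σ v = v → Q v ≠ c) : r ∣ rep Q c := by
  have : Fact r.Prime := ⟨hr⟩
  haveI : Fintype V := Fintype.ofFinite V
  unfold rep
  rw [Nat.card_eq_fintype_card]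
  by_contra hnd
  let τ : Equiv.Perm {v : V // Q v = c} := σ.subtypePerm (fun v => by rw [hσQ v])
  have hτ : τ ^ r ^ 1 = 1 := by
    rw [pow_one]
    apply Equiv.ext
    intro v
    apply Subtype.ext
    have : ((τ ^ r) v : V) = (σ ^ r) v.1 := by
      simp only [τ, Equiv.Perm.subtypePerm_pow, Equiv.Perm.subtypePerm_apply]
    rw [this, hσr]
    rfl
  obtain ⟨a, ha⟩ := Equiv.Perm.exists_fixed_point_of_prime hnd hτ
  have : σ a.1 = a.1 := congrArg Subtype.val ha
  exact hfix a.1 this a.2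

/-- the sign of a type is forced by a fixed-point-free isometry of prime order -/
lemma pow_eq_sign_of_free {V : Type*} [Finite V] (Q : V → F) (k : ℕ) (ε : ℤ)
    (hT : HasType Q k ε) (σ : Equiv.Perm V) (hσQ : ∀ v, Q (σ v) = Q v) (r : ℕ) (hr : r.Prime)
    (hrq : ¬ r ∣ Fintype.card F) (hσr : σ ^ r = 1) (hfix : ∀ v, σ v = v → Q v = 0) :
    ((Fintype.card F : ℕ) : ZMod r) ^ k = (ε : ZMod r) := by
  have : Fact r.Prime := ⟨hr⟩
  have h1 : r ∣ rep Q 1 := dvd_rep_of_free Q σ hσQ r hr hσr 1 (fun v hv => by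
    rw [hfix v hv]; exact zero_ne_one)
  have h2 := hT 1
  rw [if_neg one_ne_zero, add_zero] at h2
  have h3 := congrArg (Int.cast : ℤ → ZMod r) h2
  have h4 : ((rep Q 1 : ℕ) : ZMod r) = 0 := (ZMod.natCast_eq_zero_iff _ _).mpr h1
  push_cast at h3
  rw [h4, mul_zero] at h3
  have hq0 : ((Fintype.card F : ℕ) : ZMod r) ≠ 0 := by
    intro h
    exact hrq ((ZMod.natCast_eq_zero_iff _ _).mp h)
  have h5 : ((Fintype.card F : ℕ) : ZMod r) ^ k *
      (((Fintype.card F : ℕ) : ZMod r) ^ k - (ε : ZMod r)) = 0 := by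
    rw [h3]; ring
  rcases mul_eq_zero.mp h5 with h | h
  · exact absurd h (pow_ne_zero k hq0)
  · exact sub_eq_zero.mp h

end count

end Cfsg.Agent.Helper44.QF
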