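import Mathlib
import Cfsg.Prelude.Def_Classical
import Cfsg.Agent.Lib.Helper44.QFCount

set_option autoImplicit false
set_option linter.unusedSectionVars false

/-!
Quadratic forms over finite fields: isotropy in dimension at least three (Chevalley-Warning),
splitting off hyperbolic planes, and the Witt decomposition of a nondefective form into a
standard hyperbolic part and an anisotropic part.
-/

namespace Cfsg.Agent.Helper44.QF

open QuadraticMap Module

universe u

section sing

variable {F : Type*} [Field F] [Fintype F]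

/-- Chevalley-Warning: a quadratic form in at least three variables over a finite field is
isotropic -/
theorem exists_singular_pi {n : ℕ} (hn : 3 ≤ n) (Q : QuadraticForm F (Fin n → F)) :
    ∃ x : Fin n → F, x ≠ 0 ∧ Q x = 0 := by
  classical
  set β := Q.toBilin (Pi.basisFun F (Fin n)) with hβ
  have hQβ : ∀ x, Q x = β x x := by
    intro x
    have h := QuadraticMap.toQuadraticMap_toBilin Q (Pi.basisFun F (Fin n))
    have h2 := congrArg (fun q : QuadraticMap F (Fin n → F) F => q x) h
    simp only [LinearMap.BilinMap.toQuadraticMap_apply] at h2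
    exact h2.symm
  set M : Matrix (Fin n) (Fin n) F := LinearMap.BilinForm.toMatrix' β with hM
  have hβM : ∀ x y, β x y = x ⬝ᵥ M.mulVec y := by
    intro x y
    rw [hM, ← Matrix.toBilin'_apply', Matrix.toBilin'_toMatrix']
  let f : MvPolynomial (Fin n) F :=
    ∑ i, ∑ j, MvPolynomial.C (M i j) * MvPolynomial.X i * MvPolynomial.X j
  have hdeg : f.totalDegree ≤ 2 := by
    apply MvPolynomial.totalDegree_finsetSum_le
    intro i _
    apply MvPolynomial.totalDegree_finsetSum_le
    intro j _
    have h1 := MvPolynomial.totalDegree_mul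
      (MvPolynomial.C (M i j) * (MvPolynomial.X i : MvPolynomial (Fin n) F))
      (MvPolynomial.X j : MvPolynomial (Fin n) F)
    have h2 := MvPolynomial.totalDegree_mul
      (MvPolynomial.C (M i j) : MvPolynomial (Fin n) F)
      (MvPolynomial.X i : MvPolynomial (Fin n) F)
    rw [MvPolynomial.totalDegree_X] at h1 h2
    rw [MvPolynomial.totalDegree_C] at h2
    omega
  have heval : ∀ x : Fin n → F, MvPolynomial.eval x f = Q x := by
    intro x
    rw [hQβ, hβM]
    simp only [f, map_sum, map_mul, MvPolynomial.eval_C, MvPolynomial.eval_X, dotProduct,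
      Matrix.mulVec, Finset.mul_sum]
    apply Finset.sum_congr rfl
    intro i _
    apply Finset.sum_congr rfl
    intro j _
    ring
  have hp : (ringChar F).Prime := CharP.char_is_prime F (ringChar F)
  have hlt : f.totalDegree < Fintype.card (Fin n) := by
    rw [Fintype.card_fin]; omega
  have hdvd := char_dvd_card_solutions (ringChar F) hlt
  have h0 : MvPolynomial.eval (0 : Fin n → F) f = 0 := by
    rw [heval, map_zero]
  have hpos : 0 < Fintype.card {x : Fin n → F // MvPolynomial.eval x f = 0} :=
    Fintype.card_pos_iff.mpr ⟨⟨0, h0⟩⟩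
  have h1 : 1 < Fintype.card {x : Fin n → F // MvPolynomial.eval x f = 0} :=
    lt_of_lt_of_le hp.one_lt (Nat.le_of_dvd hpos hdvd)
  obtain ⟨⟨x, hx⟩, hxne⟩ := Fintype.exists_ne_of_one_lt_card h1
    (⟨0, h0⟩ : {x : Fin n → F // MvPolynomial.eval x f = 0})
  refine ⟨x, fun h => hxne (Subtype.ext h), ?_⟩
  rw [← heval]
  exact hx

/-- isotropy in dimension at least three -/
theorem exists_singular {V : Type*} [AddCommGroup V] [Module F V] [Module.Finite F V]
    (Q : QuadraticForm F V) (h : 3 ≤ finrank F V) : ∃ v : V, v ≠ 0 ∧ Q v = 0 := by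
  set b := Module.finBasis F V with hb
  set e := b.equivFun with he
  obtain ⟨x, hx0, hx⟩ := exists_singular_pi h (Q.comp e.symm.toLinearMap)
  refine ⟨e.symm x, ?_, ?_⟩
  · intro h0
    apply hx0
    have := congrArg e h0
    rw [LinearEquiv.apply_symm_apply, map_zero] at this
    exact this
  · exact hx

end sing

section split

variable {F : Type*} [Field F]

lemma polar_self' {V : Type*} [AddCommGroup V] [Module F V] (Q : QuadraticForm F V) (x : V) :
    polar Q x x = 2 * Q x := by
  rw [QuadraticMap.polar_self, two_smul, two_mul]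

/-- a hyperbolic partner of a singular vector -/
theorem exists_hyp_partner {V : Type*} [AddCommGroup V] [Module F V] (Q : QuadraticForm F V)
    (hnd : ∀ x, (∀ y, polar Q x y = 0) → x = 0) (u : V) (hu : u ≠ 0) (hQu : Q u = 0) :
    ∃ v : V, polar Q u v = 1 ∧ Q v = 0 := by
  have h1 : ∃ y, polar Q u y ≠ 0 := by
    by_contra hcon
    simp only [not_exists, not_not] at hcon
    exact hu (hnd u hcon)
  obtain ⟨y, hy⟩ := h1
  obtain ⟨y', hy'⟩ : ∃ y' : V, y' = (polar Q u y)⁻¹ • y := ⟨_, rfl⟩
  have h2 : polar Q u y' = 1 := by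
    rw [hy', polar_smul_right, smul_eq_mul, inv_mul_cancel₀ hy]
  have huu : polar Q u u = 0 := by rw [polar_self', hQu, mul_zero]
  refine ⟨y' - Q y' • u, ?_, ?_⟩
  · rw [polar_sub_right, polar_smul_right, huu, h2]
    simp
  · have e1 : y' - Q y' • u = y' + (-(Q y')) • u := by rw [neg_smul, sub_eq_add_neg]
    rw [e1, QuadraticMap.map_add Q y' ((-(Q y')) • u), QuadraticMap.map_smul Q (-(Q y')) u, hQu,
      polar_smul_right, polar_comm, h2]
    simp

/-- splitting off a hyperbolic plane -/
theorem exists_split {V : Type u} [AddCommGroup V] [Module F V] (Q : QuadraticForm F V)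
    (hnd : ∀ x, (∀ y, polar Q x y = 0) → x = 0) (u : V) (hu : u ≠ 0) (hQu : Q u = 0) :
    ∃ (V' : Submodule F V) (e : V ≃ₗ[F] (F × F) × V'),
      (∀ z, Q z = (e z).1.1 * (e z).1.2 + Q ((e z).2 : V)) ∧
      (∀ w : V', (∀ w' : V', polar Q (w : V) (w' : V) = 0) → w = 0) := by
  obtain ⟨v, huv, hQv⟩ := exists_hyp_partner Q hnd u hu hQu
  have hvu : polar Q v u = 1 := by rw [polar_comm]; exact huv
  have huu : polar Q u u = 0 := by rw [polar_self', hQu, mul_zero]
  have hvv : polar Q v v = 0 := by rw [polar_self', hQv, mul_zero]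
  let V' : Submodule F V :=
    LinearMap.ker (polarBilin Q u) ⊓ LinearMap.ker (polarBilin Q v)
  have hmem : ∀ w : V, w ∈ V' ↔ polar Q u w = 0 ∧ polar Q v w = 0 := by
    intro w
    simp only [V', Submodule.mem_inf, LinearMap.mem_ker, polarBilin_apply_apply]
  have hproj : ∀ z : V, z - polar Q v z • u - polar Q u z • v ∈ V' := by
    intro z
    rw [hmem]
    constructor
    · rw [polar_sub_right, polar_sub_right, polar_smul_right, polar_smul_right, huu, huv]
      simp
    · rw [polar_sub_right, polar_sub_right, polar_smul_right, polar_smul_right, hvu, hvv]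
      simp
  let e : V ≃ₗ[F] (F × F) × V' :=
    LinearEquiv.symm
    { toFun := fun p => p.1.1 • u + p.1.2 • v + (p.2 : V)
      map_add' := by
        intro p p'
        simp only [Prod.fst_add, Prod.snd_add, add_smul, Submodule.coe_add]
        abel
      map_smul' := by
        intro c p
        simp only [Prod.smul_fst, Prod.smul_snd, smul_eq_mul, mul_smul, Submodule.coe_smul,
          RingHom.id_apply, smul_add]
      invFun := fun z => ((polar Q v z, polar Q u z),
        ⟨z - polar Q v z • u - polar Q u z • v, hproj z⟩)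
      left_inv := by
        intro p
        obtain ⟨⟨x, y⟩, ⟨w, hw⟩⟩ := p
        have hw' := (hmem w).mp hw
        have e1 : polar Q v (x • u + y • v + w) = x := by
          rw [polar_add_right, polar_add_right, polar_smul_right, polar_smul_right, hvu, hvv,
            hw'.2]
          simp
        have e2 : polar Q u (x • u + y • v + w) = y := by
          rw [polar_add_right, polar_add_right, polar_smul_right, polar_smul_right, huu, huv,
            hw'.1]
          simp
        refine Prod.ext (Prod.ext e1 e2) (Subtype.ext ?_)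
        show (x • u + y • v + w) - polar Q v (x • u + y • v + w) • u -
          polar Q u (x • u + y • v + w) • v = w
        rw [e1, e2]
        abel
      right_inv := by
        intro z
        simp only
        abel }
  have he : ∀ z, z = (e z).1.1 • u + (e z).1.2 • v + ((e z).2 : V) := by
    intro z
    exact (e.symm_apply_apply z).symm
  refine ⟨V', e, ?_, ?_⟩
  · intro z
    rcases h : e z with ⟨⟨x, y⟩, ⟨w, hw⟩⟩
    have hz := he z
    rw [h] at hz
    simp only at hz
    have hw' := (hmem w).mp hw
    simp only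
    rw [hz, QuadraticMap.map_add Q, QuadraticMap.map_add Q, QuadraticMap.map_smul,
      QuadraticMap.map_smul, hQu, hQv, polar_smul_left, polar_smul_right, huv, polar_add_left,
      polar_smul_left, polar_smul_left, hw'.1, hw'.2]
    simp only [smul_eq_mul]
    ring
  · intro w hw
    apply Subtype.ext
    apply hnd
    intro z
    have hz := he z
    have hw' := (hmem w.1).mp w.2
    rw [hz, polar_add_right, polar_add_right, polar_smul_right, polar_smul_right,
      polar_comm Q w.1 u, polar_comm Q w.1 v, hw'.1, hw'.2, hw (e z).2]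
    simp

end split

section cons

variable {F : Type*} [Field F]

/-- adjoining a hyperbolic pair of coordinates -/
def consEquiv (F : Type*) [Field F] (k : ℕ) :
    ((F × F) × (Fin k ⊕ Fin k → F)) ≃ₗ[F] (Fin (k + 1) ⊕ Fin (k + 1) → F) where
  toFun p := Sum.elim (Fin.cons p.1.1 (fun i => p.2 (Sum.inl i)))
    (Fin.cons p.1.2 (fun i => p.2 (Sum.inr i)))
  map_add' p p' := by
    funext s
    rcases s with i | i
    · refine Fin.cases ?_ (fun j => ?_) i <;> simp
    · refine Fin.cases ?_ (fun j => ?_) i <;> simp
  map_smul' c p := by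
    funext s
    rcases s with i | i
    · refine Fin.cases ?_ (fun j => ?_) i <;> simp
    · refine Fin.cases ?_ (fun j => ?_) i <;> simp
  invFun v := ((v (Sum.inl 0), v (Sum.inr 0)),
    fun s => Sum.elim (fun i => v (Sum.inl (Fin.succ i))) (fun i => v (Sum.inr (Fin.succ i))) s)
  left_inv p := by
    refine Prod.ext (Prod.ext ?_ ?_) ?_
    · simp
    · simp
    · funext s
      rcases s with i | i <;> simp
  right_inv v := by
    funext s
    rcases s with i | i
    · refine Fin.cases ?_ (fun j => ?_) i <;> simp
    · refine Fin.cases ?_ (fun j => ?_) i <;> simp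

lemma plus_consEquiv (k : ℕ) (p : (F × F) × (Fin k ⊕ Fin k → F)) :
    Cfsg.quadFormPlus (k + 1) F (consEquiv F k p) = p.1.1 * p.1.2 + Cfsg.quadFormPlus k F p.2 := by
  unfold Cfsg.quadFormPlus
  rw [Fin.sum_univ_succ]
  simp [consEquiv]

lemma plus_zero (v : Fin 0 ⊕ Fin 0 → F) : Cfsg.quadFormPlus 0 F v = 0 := by
  unfold Cfsg.quadFormPlus
  simp

end cons

section witt

variable {F : Type u} [Field F] [Fintype F]

/-- gluing two successive decompositions -/
lemma exists_glue {V A B C V' V₀ : Type*} [AddCommGroup V] [Module F V] [AddCommGroup A]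
    [Module F A] [AddCommGroup B] [Module F B] [AddCommGroup C] [Module F C] [AddCommGroup V']
    [Module F V'] [AddCommGroup V₀] [Module F V₀]
    (e₁ : V ≃ₗ[F] A × V') (e₂ : V' ≃ₗ[F] B × V₀) (c : (A × B) ≃ₗ[F] C) :
    ∃ e : V ≃ₗ[F] C × V₀, ∀ z, e z = (c ((e₁ z).1, (e₂ (e₁ z).2).1), (e₂ (e₁ z).2).2) := by
  refine ⟨e₁ ≪≫ₗ (LinearEquiv.prodCongr (LinearEquiv.refl F A) e₂) ≪≫ₗ
    (LinearEquiv.prodAssoc F A B V₀).symm ≪≫ₗ
    (LinearEquiv.prodCongr c (LinearEquiv.refl F V₀)), ?_⟩
  intro z
  rfl

/-- Witt decomposition of a nondefective quadratic form over a finite field -/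
theorem witt_decomp : ∀ (n : ℕ) (V : Type u) [AddCommGroup V] [Module F V] [Module.Finite F V]
    (Q : QuadraticForm F V), finrank F V = n → (∀ x, (∀ y, polar Q x y = 0) → x = 0) →
    ∃ (k : ℕ) (V₀ : Type u) (_ : AddCommGroup V₀) (_ : Module F V₀) (_ : Module.Finite F V₀)
      (Q₀ : QuadraticForm F V₀) (e : V ≃ₗ[F] (Fin k ⊕ Fin k → F) × V₀),
      (∀ x, Q₀ x = 0 → x = 0) ∧ (∀ x, (∀ y, polar Q₀ x y = 0) → x = 0) ∧
      ∀ v, Q v = Cfsg.quadFormPlus k F (e v).1 + Q₀ (e v).2 := by
  intro n
  induction n using Nat.strong_induction_on with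
  | _ n ih =>
    intro V _ _ _ Q hn hnd
    by_cases hs : ∃ u : V, u ≠ 0 ∧ Q u = 0
    · obtain ⟨u, hu, hQu⟩ := hs
      obtain ⟨V', e₁, h1, h2⟩ := exists_split Q hnd u hu hQu
      have hfr : finrank F V = 2 + finrank F V' := by
        rw [LinearEquiv.finrank_eq e₁, Module.finrank_prod, Module.finrank_prod,
          Module.finrank_self]
      have hlt : finrank F V' < n := by omega
      obtain ⟨k, V₀, i1, i2, i3, Q₀, e₂, h3, h4, h5⟩ :=
        ih (finrank F V') hlt V' (Q.comp V'.subtype) rfl (by
          intro w hw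
          apply h2 w
          intro w'
          exact hw w')
      obtain ⟨e, he⟩ := exists_glue e₁ e₂ (consEquiv F k)
      refine ⟨k + 1, V₀, i1, i2, i3, Q₀, e, h3, h4, ?_⟩
      intro v
      rw [he v]
      simp only
      rw [plus_consEquiv, h1 v]
      have := h5 (e₁ v).2
      rw [QuadraticMap.comp_apply] at this
      simp only [Submodule.subtype_apply] at this
      rw [this]
      ring
    · refine ⟨0, V, inferInstance, inferInstance, inferInstance, Q,
        { toFun := fun v => (0, v)
          map_add' := fun v w => by simp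
          map_smul' := fun c v => by simp
          invFun := fun p => p.2
          left_inv := fun v => rfl
          right_inv := fun p => Prod.ext (Subsingleton.elim _ _) rfl }, ?_, hnd, ?_⟩
      · intro x hx
        by_contra hx0
        exact hs ⟨x, hx0, hx⟩
      · intro v
        rw [plus_zero, zero_add]
        rfl

end witt

end Cfsg.Agent.Helper44.QF
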