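import Mathlib
set_option autoImplicit false

/-! Shared helpers (helper44): trace, norm and Frobenius for a quadratic extension `K/F` of
finite fields, `|F| = q`. -/

namespace Cfsg.Agent.Helper44

section QuadTrace
variable {K F : Type*} [Field K] [Fintype K] [Field F] [Fintype F] [Algebra F K] {q : ℕ}

theorem frob_algebraMap (hF : Fintype.card F = q) (c : F) :
    (algebraMap F K c) ^ q = algebraMap F K c := by
  rw [← map_pow, ← hF, FiniteField.pow_card]

theorem card_of_finrank_two (hfr : Module.finrank F K = 2) (hF : Fintype.card F = q) :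
    Fintype.card K = q ^ 2 := by
  have h1 : Fintype.card K = Fintype.card F ^ Module.finrank F K := Module.card_eq_pow_finrank
  rw [h1, hfr, hF]

theorem frob_frob (hfr : Module.finrank F K = 2) (hF : Fintype.card F = q) (z : K) :
    (z ^ q) ^ q = z := by
  rw [← pow_mul, ← sq, ← card_of_finrank_two hfr hF, FiniteField.pow_card]

theorem algebraMap_trace (hfr : Module.finrank F K = 2) (hF : Fintype.card F = q) (z : K) :
    algebraMap F K (Algebra.trace F K z) = z + z ^ q := by
  rw [FiniteField.algebraMap_trace_eq_sum_pow, hfr, Nat.card_eq_fintype_card, hF]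
  simp [Finset.sum_range_succ]

theorem algebraMap_norm (hfr : Module.finrank F K = 2) (hF : Fintype.card F = q) (z : K) :
    algebraMap F K (Algebra.norm F z) = z * z ^ q := by
  rw [FiniteField.algebraMap_norm_eq_prod_pow, hfr, Nat.card_eq_fintype_card, hF]
  simp [Finset.prod_range_succ]

theorem trace_frob (hfr : Module.finrank F K = 2) (hF : Fintype.card F = q) (z : K) :
    Algebra.trace F K (z ^ q) = Algebra.trace F K z := by
  apply (algebraMap F K).injective
  rw [algebraMap_trace hfr hF, algebraMap_trace hfr hF, frob_frob hfr hF, add_comm]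

theorem frob_eq_neg_of_trace_eq_zero (hfr : Module.finrank F K = 2) (hF : Fintype.card F = q)
    (ε : K) (h : Algebra.trace F K ε = 0) : ε ^ q = -ε := by
  have := algebraMap_trace hfr hF ε
  rw [h, map_zero] at this
  exact (neg_eq_of_add_eq_zero_right this.symm).symm

theorem exists_trace_zero (hfr : Module.finrank F K = 2) :
    ∃ ε : K, ε ≠ 0 ∧ Algebra.trace F K ε = 0 := by
  haveI : FiniteDimensional F K := Module.finite_of_finrank_pos (by omega)
  have hsurj : Function.Surjective (Algebra.trace F K) := Algebra.trace_surjective F K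
  have h1 := LinearMap.finrank_range_add_finrank_ker (Algebra.trace F K)
  rw [LinearMap.range_eq_top.mpr hsurj, finrank_top, Module.finrank_self, hfr] at h1
  have h2 : 0 < Module.finrank F (LinearMap.ker (Algebra.trace F K)) := by omega
  obtain ⟨x, hx⟩ := Module.finrank_pos_iff_exists_ne_zero.mp h2
  refine ⟨x.1, ?_, x.2⟩
  intro h
  exact hx (Subtype.ext h)

theorem exists_trace_eq_one (hfr : Module.finrank F K = 2) (ε : K) (hε : ε ≠ 0) :
    ∃ θ : K, Algebra.trace F K (ε * θ) = 1 := by
  haveI : FiniteDimensional F K := Module.finite_of_finrank_pos (by omega)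
  obtain ⟨z, hz⟩ := Algebra.trace_surjective F K 1
  exact ⟨z / ε, by rw [mul_div_cancel₀ z hε, hz]⟩

end QuadTrace

end Cfsg.Agent.Helper44
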