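import Mathlib
import Cfsg.Agent.Lib.Helper44.QuadTrace
set_option autoImplicit false

/-! Shared helpers (helper44): for a quadratic extension `K/F` of finite fields, the sum of two
copies of the norm form is a hyperbolic 4-space (explicit coordinates). -/

namespace Cfsg.Agent.Helper44

section HypBlock
variable {K F : Type*} [Field K] [Fintype K] [Field F] [Fintype F] [Algebra F K]

/-- the Frobenius of `K/F` -/
noncomputable abbrev frobKF (F K : Type*) [Field K] [Field F] [Fintype F] [Algebra F K] : K →ₐ[F] K :=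
  FiniteField.frobeniusAlgHom F K

theorem frobKF_apply (z : K) : frobKF F K z = z ^ Fintype.card F := rfl

theorem frobKF_frobKF (hfr : Module.finrank F K = 2) (z : K) : frobKF F K (frobKF F K z) = z := by
  rw [frobKF_apply, frobKF_apply]; exact frob_frob hfr rfl z

theorem algebraMap_trace' (hfr : Module.finrank F K = 2) (z : K) :
    algebraMap F K (Algebra.trace F K z) = z + frobKF F K z := algebraMap_trace hfr rfl z

theorem algebraMap_norm' (hfr : Module.finrank F K = 2) (z : K) :
    algebraMap F K (Algebra.norm F z) = z * frobKF F K z := algebraMap_norm hfr rfl z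

theorem exists_frob_ne (hfr : Module.finrank F K = 2) : ∃ x : K, frobKF F K x ≠ x := by
  by_contra h
  simp only [not_exists, not_not] at h
  have h1 : frobKF F K = 1 := AlgHom.ext h
  have h2 := FiniteField.orderOf_frobeniusAlgHom F K
  rw [show FiniteField.frobeniusAlgHom F K = frobKF F K from rfl, h1, orderOf_one, hfr] at h2
  omega

theorem exists_zeta (hfr : Module.finrank F K = 2) :
    ∃ ζ : K, ζ ≠ 1 ∧ ζ * frobKF F K ζ = 1 := by
  obtain ⟨x, hx⟩ := exists_frob_ne (F := F) (K := K) hfr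
  have hx0 : x ≠ 0 := by
    rintro rfl
    exact hx (map_zero _)
  have hσx0 : frobKF F K x ≠ 0 := (map_ne_zero _).mpr hx0
  refine ⟨frobKF F K x / x, ?_, ?_⟩
  · intro h
    rw [div_eq_one_iff_eq hx0] at h
    exact hx h
  · rw [map_div₀, frobKF_frobKF hfr]
    field_simp

theorem exists_norm_neg_one : ∃ c : K, Algebra.norm F c = -1 :=
  FiniteField.norm_surjective F K (-1)

/-- the trace-dual basis -/
noncomputable def dualB [FiniteDimensional F K] (b : Module.Basis (Fin 2) F K) :
    Module.Basis (Fin 2) F K :=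
  (Algebra.traceForm F K).dualBasis (traceForm_nondegenerate F K) b

theorem trace_mul_eq [FiniteDimensional F K] (b : Module.Basis (Fin 2) F K) (x y : K) :
    ∑ s : Fin 2, b.repr x s * (dualB b).repr y s = Algebra.trace F K (x * y) := by
  have h1 : ∀ s, (dualB b).repr y s = Algebra.trace F K (y * b s) := by
    intro s
    rw [dualB, LinearMap.BilinForm.dualBasis_repr_apply, Algebra.traceForm_apply]
  simp only [h1]
  conv_rhs => rw [← b.sum_repr x, Finset.sum_mul, map_sum]
  apply Finset.sum_congr rfl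
  intro s _
  rw [smul_mul_assoc, map_smul, smul_eq_mul, mul_comm y]

/-- `N(u₁) + N(u₂)` is hyperbolic: explicit `F`-linear parametrisation of `K²` by `F⁴`. -/
theorem hyp_block (hfr : Module.finrank F K = 2) :
    ∃ T : (Fin 2 ⊕ Fin 2 → F) →ₗ[F] (Fin 2 → K), ∀ w,
      Algebra.norm F (T w 0) + Algebra.norm F (T w 1) =
        w (Sum.inl 0) * w (Sum.inr 0) + w (Sum.inl 1) * w (Sum.inr 1) := by
  classical
  haveI : FiniteDimensional F K := Module.finite_of_finrank_pos (by omega)
  obtain ⟨c, hc⟩ := exists_norm_neg_one (F := F) (K := K)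
  obtain ⟨ζ, hζ1, hζ⟩ := exists_zeta (F := F) (K := K) hfr
  set σ := frobKF F K with hσ
  have hσσ : ∀ z, σ (σ z) = z := frobKF_frobKF hfr
  set δ : K := 1 - σ ζ with hδ
  have hδ0 : δ ≠ 0 := by
    intro h
    have h1 : σ ζ = 1 := (sub_eq_zero.mp h).symm
    have h2 : ζ = 1 := by
      have := congrArg σ h1
      rwa [hσσ, map_one] at this
    exact hζ1 h2
  let b := Module.finBasisOfFinrankEq F K hfr
  -- the two halves as linear maps
  let A : (Fin 2 ⊕ Fin 2 → F) →ₗ[F] K :=
    (b.equivFun.symm : (Fin 2 → F) →ₗ[F] K) ∘ₗ (LinearMap.funLeft F F Sum.inl)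
  let Y : (Fin 2 ⊕ Fin 2 → F) →ₗ[F] K :=
    ((dualB b).equivFun.symm : (Fin 2 → F) →ₗ[F] K) ∘ₗ (LinearMap.funLeft F F Sum.inr)
  let A' : (Fin 2 ⊕ Fin 2 → F) →ₗ[F] K :=
    σ.toLinearMap ∘ₗ (LinearMap.mulLeft F δ⁻¹) ∘ₗ Y
  let T : (Fin 2 ⊕ Fin 2 → F) →ₗ[F] (Fin 2 → K) :=
    LinearMap.pi ![A + A', (LinearMap.mulLeft F c) ∘ₗ (A + (LinearMap.mulLeft F ζ) ∘ₗ A')]
  refine ⟨T, fun w => ?_⟩
  have hT0 : T w 0 = A w + A' w := rfl
  have hT1 : T w 1 = c * (A w + ζ * A' w) := rfl
  have hA' : σ (A' w) = δ⁻¹ * Y w := by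
    change σ (σ (δ⁻¹ * Y w)) = _
    rw [hσσ]
  have hAr : ∀ s, b.repr (A w) s = w (Sum.inl s) := by
    intro s
    change b.repr (b.equivFun.symm (fun s => w (Sum.inl s))) s = _
    rw [← Module.Basis.equivFun_apply, LinearEquiv.apply_symm_apply]
  have hYr : ∀ s, (dualB b).repr (Y w) s = w (Sum.inr s) := by
    intro s
    change (dualB b).repr ((dualB b).equivFun.symm (fun s => w (Sum.inr s))) s = _
    rw [← Module.Basis.equivFun_apply, LinearEquiv.apply_symm_apply]
  apply (algebraMap F K).injective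
  rw [map_add, algebraMap_norm' hfr, algebraMap_norm' hfr, hT0, hT1]
  have hcc : c * σ c = -1 := by rw [← algebraMap_norm' hfr, hc]; simp
  have key : (A w + A' w) * σ (A w + A' w) + c * (A w + ζ * A' w) * σ (c * (A w + ζ * A' w))
      = A w * Y w + σ (A w * Y w) := by
    have e1 : σ δ = 1 - ζ := by rw [hδ, map_sub, map_one, hσσ]
    have e2 : σ (Y w) = σ δ * A' w := by
      have : Y w = δ * σ (A' w) := by rw [hA', ← mul_assoc, mul_inv_cancel₀ hδ0, one_mul]
      rw [this, map_mul, hσσ]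
    simp only [map_add, map_mul, hA']
    rw [e2, e1]
    have hD : (1 - σ ζ) * δ⁻¹ = 1 := by rw [← hδ]; exact mul_inv_cancel₀ hδ0
    generalize δ⁻¹ = D at hD ⊢
    linear_combination ((A w + ζ * A' w) * (σ (A w) + σ ζ * (D * Y w))) * hcc +
      (A w * Y w) * hD + (-(A' w * D * Y w)) * hζ
  rw [key, ← algebraMap_trace' hfr, ← trace_mul_eq b, Fin.sum_univ_two, hAr, hAr, hYr, hYr]

end HypBlock

end Cfsg.Agent.Helper44
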