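import Mathlib
import Cfsg.Agent.Lib.Helper44.QuadTrace
import Cfsg.Agent.Lib.Helper44.HypBlock
set_option autoImplicit false

/-! Shared helpers (helper44): for a quadratic extension `K/F` of finite fields, an anisotropic
binary form `z₁² + a z₁ z₂ + b z₂²` over `F` is the norm form of `K` in the basis `1, -θ`. -/

namespace Cfsg.Agent.Helper44

open Polynomial

section EllBlock
variable {K F : Type*} [Field K] [Fintype K] [Field F] [Fintype F] [Algebra F K]

theorem mem_range_of_frob_eq (hfr : Module.finrank F K = 2) (z : K) (hz : frobKF F K z = z) :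
    z ∈ Set.range (algebraMap F K) := by
  classical
  by_contra hnot
  haveI : FiniteDimensional F K := Module.finite_of_finrank_pos (by omega)
  have hli : LinearIndependent F ![(1 : K), z] := by
    rw [LinearIndependent.pair_iff]
    intro s t hst
    by_cases ht : t = 0
    · subst ht
      rw [zero_smul, add_zero, Algebra.smul_def, mul_one] at hst
      exact ⟨(map_eq_zero _).mp hst, rfl⟩
    · exfalso
      apply hnot
      refine ⟨-(s / t), ?_⟩
      have h1 : t • z = -(s • (1 : K)) := eq_neg_of_add_eq_zero_right hst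
      have h2 : z = t⁻¹ • (-(s • (1 : K))) := by rw [← h1, smul_smul, inv_mul_cancel₀ ht, one_smul]
      rw [h2, Algebra.smul_def, Algebra.smul_def, mul_one, ← map_neg, ← map_mul]
      congr 1
      field_simp
  let B := basisOfLinearIndependentOfCardEqFinrank hli (by rw [hfr]; rfl)
  have hB : ∀ i, B i = ![(1 : K), z] i := fun i => by
    rw [coe_basisOfLinearIndependentOfCardEqFinrank]
  have hid : (frobKF F K).toLinearMap = LinearMap.id := by
    apply B.ext
    intro i
    rw [hB]
    fin_cases i
    · simp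
    · simpa using hz
  obtain ⟨x, hx⟩ := exists_frob_ne (F := F) (K := K) hfr
  apply hx
  have := congrArg (fun f : K →ₗ[F] K => f x) hid
  simpa using this

theorem exists_root_quadratic (hfr : Module.finrank F K = 2) (a b : F)
    (hab : ∀ z₁ z₂ : F, z₁ ^ 2 + a * z₁ * z₂ + b * z₂ ^ 2 = 0 → z₁ = 0 ∧ z₂ = 0) :
    ∃ θ : K, θ ^ 2 + algebraMap F K a * θ + algebraMap F K b = 0 := by
  classical
  set f : F[X] := X ^ 2 + C a * X + C b with hf
  have hdeg : f.natDegree = 2 := by
    rw [hf]; compute_degree!
  have hnoroot : ∀ x, ¬ IsRoot f x := by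
    intro x hx
    rw [IsRoot.def, hf] at hx
    simp only [eval_add, eval_pow, eval_X, eval_mul, eval_C] at hx
    have := hab x 1 (by rw [← hx]; ring)
    exact one_ne_zero this.2
  have hirr : Irreducible f :=
    irreducible_of_degree_le_three_of_not_isRoot (by rw [hdeg]; decide) hnoroot
  haveI : Fact (Irreducible f) := ⟨hirr⟩
  have hfin : Module.finrank F (AdjoinRoot f) = 2 := by
    rw [(AdjoinRoot.powerBasis hirr.ne_zero).finrank, AdjoinRoot.powerBasis_dim, hdeg]
  obtain ⟨φ⟩ := FiniteField.nonempty_algHom_of_finrank_dvd (F := F) (K := AdjoinRoot f) (L := K)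
    (by rw [hfin, hfr])
  have h1 : aeval (AdjoinRoot.root f) f = 0 := by
    rw [AdjoinRoot.aeval_eq, AdjoinRoot.mk_self]
  obtain ⟨θ, hθdef⟩ : ∃ θ, θ = φ (AdjoinRoot.root f) := ⟨_, rfl⟩
  have h2 : aeval θ f = 0 := by rw [hθdef, aeval_algHom_apply, h1, map_zero]
  refine ⟨θ, ?_⟩
  have h3 : aeval θ (X ^ 2 + C a * X + C b : F[X]) = 0 := h2
  simpa using h3

/-- the elliptic binary form is the norm form -/
theorem norm_ell (hfr : Module.finrank F K = 2) (a b : F)
    (hab : ∀ z₁ z₂ : F, z₁ ^ 2 + a * z₁ * z₂ + b * z₂ ^ 2 = 0 → z₁ = 0 ∧ z₂ = 0)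
    (θ : K) (hθ : θ ^ 2 + algebraMap F K a * θ + algebraMap F K b = 0) (z₁ z₂ : F) :
    Algebra.norm F (z₁ • (1 : K) - z₂ • θ) = z₁ ^ 2 + a * z₁ * z₂ + b * z₂ ^ 2 := by
  set σ := frobKF F K with hσ
  have hne : σ θ ≠ θ := by
    intro h
    obtain ⟨t, ht⟩ := mem_range_of_frob_eq hfr θ h
    rw [← ht, ← map_pow, ← map_mul, ← map_add, ← map_add] at hθ
    have h0 := (map_eq_zero _).mp hθ
    have := hab t 1 (by rw [← h0]; ring)
    exact one_ne_zero this.2
  have hθ' : (σ θ) ^ 2 + algebraMap F K a * σ θ + algebraMap F K b = 0 := by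
    have := congrArg σ hθ
    simpa using this
  have hsum : θ + σ θ = -algebraMap F K a := by
    have h1 : (θ - σ θ) * (θ + σ θ + algebraMap F K a) = 0 := by
      linear_combination hθ - hθ'
    rcases mul_eq_zero.mp h1 with h2 | h2
    · exact absurd (sub_eq_zero.mp h2).symm hne
    · linear_combination h2
  have hprod : θ * σ θ = algebraMap F K b := by
    linear_combination θ * hsum - hθ
  apply (algebraMap F K).injective
  rw [algebraMap_norm' hfr, map_sub, map_smul, map_smul, map_one]
  simp only [Algebra.smul_def, mul_one, map_add, map_mul, map_pow]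
  linear_combination (-(algebraMap F K z₁ * algebraMap F K z₂)) * hsum +
    (algebraMap F K z₂) ^ 2 * hprod

end EllBlock

end Cfsg.Agent.Helper44
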