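import Mathlib
import Cfsg.Prelude.Def_Classical
import Cfsg.Agent.Lib.Helper44.QFSplit
import Cfsg.Agent.Lib.Helper44.EllBlock

set_option autoImplicit false
set_option linter.unusedSectionVars false

/-!
Anisotropic quadratic spaces over finite fields: dimension at most two, the binary ones are all
isometric to any prescribed anisotropic binary form `z₁² + a z₁ z₂ + c z₂²`, and such a form has
the representation numbers of the norm form of the quadratic extension.
-/

namespace Cfsg.Agent.Helper44.QF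

open QuadraticMap Module Polynomial

universe u

section bin

variable {F : Type u} [Field F] [Fintype F]

/-- the binary form `z₁² + a z₁ z₂ + c z₂²` -/
def binF (a c : F) (v : Fin 2 → F) : F := v 0 ^ 2 + a * v 0 * v 1 + c * v 1 ^ 2

/-- coordinates to the quadratic extension -/
noncomputable def PhiK {K : Type*} [Field K] [Algebra F K] (θ : K) : (Fin 2 → F) →ₗ[F] K where
  toFun v := v 0 • (1 : K) - v 1 • θ
  map_add' := by
    intro u v
    simp only [Pi.add_apply, add_smul]
    abel
  map_smul' := by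
    intro c v
    simp only [Pi.smul_apply, smul_eq_mul, RingHom.id_apply, mul_smul, smul_sub]

lemma PhiK_norm {K : Type*} [Field K] [Fintype K] [Algebra F K] (hfr : finrank F K = 2) (a c : F)
    (hac : ∀ z₁ z₂ : F, z₁ ^ 2 + a * z₁ * z₂ + c * z₂ ^ 2 = 0 → z₁ = 0 ∧ z₂ = 0)
    (θ : K) (hθ : θ ^ 2 + algebraMap F K a * θ + algebraMap F K c = 0) (v : Fin 2 → F) :
    Algebra.norm F (PhiK θ v) = binF a c v :=
  Cfsg.Agent.Helper44.norm_ell hfr a c hac θ hθ (v 0) (v 1)

lemma PhiK_bijective {K : Type*} [Field K] [Fintype K] [Algebra F K] (hfr : finrank F K = 2)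
    (a c : F) (hac : ∀ z₁ z₂ : F, z₁ ^ 2 + a * z₁ * z₂ + c * z₂ ^ 2 = 0 → z₁ = 0 ∧ z₂ = 0)
    (θ : K) (hθ : θ ^ 2 + algebraMap F K a * θ + algebraMap F K c = 0) :
    Function.Bijective (PhiK (F := F) θ) := by
  have hinj : Function.Injective (PhiK (F := F) θ) := by
    rw [← LinearMap.ker_eq_bot, LinearMap.ker_eq_bot']
    intro v hv
    have h1 := PhiK_norm hfr a c hac θ hθ v
    rw [hv, Algebra.norm_zero] at h1
    obtain ⟨e0, e1⟩ := hac _ _ h1.symm
    funext i
    fin_cases i
    · exact e0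
    · exact e1
  have hfr' : finrank F (Fin 2 → F) = finrank F K := by
    rw [hfr, Module.finrank_fintype_fun_eq_card]
    rfl
  haveI : FiniteDimensional F K := Module.finite_of_finrank_pos (by omega)
  exact ⟨hinj, (LinearMap.injective_iff_surjective_of_finrank_eq_finrank hfr').mp hinj⟩

/-- a quadratic extension attached to an anisotropic binary form -/
lemma exists_quad_ext (a c : F)
    (hac : ∀ z₁ z₂ : F, z₁ ^ 2 + a * z₁ * z₂ + c * z₂ ^ 2 = 0 → z₁ = 0 ∧ z₂ = 0) :
    ∃ (K : Type u) (_ : Field K) (_ : Fintype K) (_ : Algebra F K), finrank F K = 2 := by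
  classical
  set f : F[X] := X ^ 2 + C a * X + C c with hf
  have hdeg : f.natDegree = 2 := by
    rw [hf]; compute_degree!
  have hnoroot : ∀ x, ¬ IsRoot f x := by
    intro x hx
    rw [IsRoot.def, hf] at hx
    simp only [eval_add, eval_pow, eval_X, eval_mul, eval_C] at hx
    have := hac x 1 (by rw [← hx]; ring)
    exact one_ne_zero this.2
  have hirr : Irreducible f :=
    irreducible_of_degree_le_three_of_not_isRoot (by rw [hdeg]; decide) hnoroot
  haveI : Fact (Irreducible f) := ⟨hirr⟩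
  have hfr : finrank F (AdjoinRoot f) = 2 := by
    rw [(AdjoinRoot.powerBasis hirr.ne_zero).finrank, AdjoinRoot.powerBasis_dim, hdeg]
  haveI : FiniteDimensional F (AdjoinRoot f) := Module.finite_of_finrank_pos (by omega)
  haveI : Finite (AdjoinRoot f) := Module.finite_of_finite F
  exact ⟨AdjoinRoot f, inferInstance, Fintype.ofFinite _, inferInstance, hfr⟩

/-- any two anisotropic binary forms are isometric -/
theorem exists_binF_equiv (a c a' c' : F)
    (hac : ∀ z₁ z₂ : F, z₁ ^ 2 + a * z₁ * z₂ + c * z₂ ^ 2 = 0 → z₁ = 0 ∧ z₂ = 0)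
    (hac' : ∀ z₁ z₂ : F, z₁ ^ 2 + a' * z₁ * z₂ + c' * z₂ ^ 2 = 0 → z₁ = 0 ∧ z₂ = 0) :
    ∃ e : (Fin 2 → F) ≃ₗ[F] (Fin 2 → F), ∀ v, binF a' c' (e v) = binF a c v := by
  obtain ⟨K, i1, i2, i3, hfr⟩ := exists_quad_ext a c hac
  obtain ⟨θ, hθ⟩ := Cfsg.Agent.Helper44.exists_root_quadratic (K := K) hfr a c hac
  obtain ⟨θ', hθ'⟩ := Cfsg.Agent.Helper44.exists_root_quadratic (K := K) hfr a' c' hac'
  let Φ : (Fin 2 → F) ≃ₗ[F] K := LinearEquiv.ofBijective (PhiK θ) (PhiK_bijective hfr a c hac θ hθ)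
  let Φ' : (Fin 2 → F) ≃ₗ[F] K :=
    LinearEquiv.ofBijective (PhiK θ') (PhiK_bijective hfr a' c' hac' θ' hθ')
  refine ⟨Φ ≪≫ₗ Φ'.symm, ?_⟩
  intro v
  rw [← PhiK_norm hfr a' c' hac' θ' hθ', ← PhiK_norm hfr a c hac θ hθ]
  congr 1
  exact Φ'.apply_symm_apply (Φ v)

/-- the representation numbers of an anisotropic binary form are bounded by `q + 1` -/
lemma rep_binF_le (a c : F)
    (hac : ∀ z₁ z₂ : F, z₁ ^ 2 + a * z₁ * z₂ + c * z₂ ^ 2 = 0 → z₁ = 0 ∧ z₂ = 0) (d : F) :
    rep (binF a c) d ≤ Fintype.card F + 1 := by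
  classical
  obtain ⟨K, i1, i2, i3, hfr⟩ := exists_quad_ext a c hac
  obtain ⟨θ, hθ⟩ := Cfsg.Agent.Helper44.exists_root_quadratic (K := K) hfr a c hac
  have hbij := PhiK_bijective hfr a c hac θ hθ
  set n := Fintype.card F + 1 with hn
  have hpow : ∀ v : Fin 2 → F, binF a c v = d → (PhiK θ v) ^ n = algebraMap F K d := by
    intro v hv
    rw [← hv, ← PhiK_norm hfr a c hac θ hθ, Cfsg.Agent.Helper44.algebraMap_norm' hfr,
      Cfsg.Agent.Helper44.frobKF_apply, hn, pow_succ']
  unfold rep
  rw [Nat.card_eq_fintype_card]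
  have h1 : Fintype.card {v : Fin 2 → F // binF a c v = d} ≤
      (nthRoots n (algebraMap F K d)).toFinset.card := by
    rw [← Fintype.card_coe]
    apply Fintype.card_le_of_injective
      (fun v : {v : Fin 2 → F // binF a c v = d} =>
        (⟨PhiK θ v.1, by
          rw [Multiset.mem_toFinset, mem_nthRoots (by omega)]
          exact hpow v.1 v.2⟩ : {z // z ∈ (nthRoots n (algebraMap F K d)).toFinset}))
    intro v w hvw
    apply Subtype.ext
    apply hbij.1
    exact congrArg Subtype.val hvw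
  exact h1.trans ((Multiset.toFinset_card_le _).trans (card_nthRoots n _))

/-- an anisotropic binary form has type `(1, -)` -/
theorem hasType_binF (a c : F)
    (hac : ∀ z₁ z₂ : F, z₁ ^ 2 + a * z₁ * z₂ + c * z₂ ^ 2 = 0 → z₁ = 0 ∧ z₂ = 0) :
    HasType (binF a c) 1 (-1) := by
  classical
  set q := Fintype.card F with hq
  have hq1 : 1 ≤ q := Fintype.card_pos
  have h0 : rep (binF a c) 0 = 1 := by
    unfold rep
    rw [Nat.card_eq_one_iff_unique]
    refine ⟨⟨?_⟩, ⟨⟨0, by simp [binF]⟩⟩⟩
    intro v w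
    apply Subtype.ext
    have hv := hac _ _ v.2
    have hw := hac _ _ w.2
    funext i
    fin_cases i
    · exact hv.1.trans hw.1.symm
    · exact hv.2.trans hw.2.symm
  have hsum : ∑ d : F, rep (binF a c) d = q ^ 2 := by
    rw [sum_rep, Nat.card_eq_fintype_card, Fintype.card_fun, Fintype.card_fin]
  have hsum' : ∑ d ∈ (Finset.univ : Finset F).erase 0, rep (binF a c) d = (q - 1) * (q + 1) := by
    have := Finset.add_sum_erase (Finset.univ : Finset F) (fun d => rep (binF a c) d)
      (Finset.mem_univ 0)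
    rw [hsum, h0] at this
    have e : (q - 1) * (q + 1) + 1 = q ^ 2 := by
      obtain ⟨t, ht⟩ : ∃ t, q = t + 1 := ⟨q - 1, by omega⟩
      rw [ht]; simp only [Nat.add_sub_cancel]; ring
    omega
  have hall : ∀ d : F, d ≠ 0 → rep (binF a c) d = q + 1 := by
    intro d hd
    by_contra hne
    have hlt : rep (binF a c) d < q + 1 := lt_of_le_of_ne (rep_binF_le a c hac d) hne
    have hmem : d ∈ (Finset.univ : Finset F).erase 0 := Finset.mem_erase.mpr ⟨hd, Finset.mem_univ d⟩
    have h2 : ∑ d ∈ (Finset.univ : Finset F).erase 0, rep (binF a c) d <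
        ∑ _d ∈ (Finset.univ : Finset F).erase 0, (q + 1) :=
      Finset.sum_lt_sum (fun x _ => rep_binF_le a c hac x) ⟨d, hmem, hlt⟩
    rw [hsum', Finset.sum_const, Finset.card_erase_of_mem (Finset.mem_univ 0), Finset.card_univ,
      smul_eq_mul] at h2
    exact lt_irrefl _ h2
  intro d
  by_cases hd : d = 0
  · rw [hd, h0, if_pos rfl]
    push_cast
    ring
  · rw [hall d hd, if_neg hd]
    push_cast
    ring

/-- anisotropic binary forms exist over every finite field -/
theorem exists_aniso (F : Type u) [Field F] [Fintype F] :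
    ∃ a c : F, ∀ z₁ z₂ : F, z₁ ^ 2 + a * z₁ * z₂ + c * z₂ ^ 2 = 0 → z₁ = 0 ∧ z₂ = 0 := by
  have hninj : ¬ Function.Injective (fun x : F => x ^ 2 + x) := by
    intro h
    have : (0 : F) = -1 := h (by ring)
    have h1 : (1 : F) = 0 := by
      have := congrArg (fun x : F => x + 1) this
      simpa using this.symm
    exact one_ne_zero h1
  have hnsurj : ¬ Function.Surjective (fun x : F => x ^ 2 + x) :=
    fun h => hninj (Finite.injective_iff_surjective.mpr h)
  obtain ⟨d, hd⟩ : ∃ d : F, ∀ x : F, x ^ 2 + x ≠ d := by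
    by_contra hcon
    apply hnsurj
    intro d
    by_contra hd
    exact hcon ⟨d, fun x hx => hd ⟨x, hx⟩⟩
  refine ⟨1, -d, ?_⟩
  intro z₁ z₂ h
  by_cases hz : z₂ = 0
  · subst hz
    refine ⟨?_, rfl⟩
    have : z₁ ^ 2 = 0 := by linear_combination h
    exact pow_eq_zero_iff (two_ne_zero) |>.mp this
  · exfalso
    apply hd (z₁ / z₂)
    field_simp
    linear_combination h

end bin

section aniso

variable {F : Type*} [Field F] [Fintype F]

lemma finrank_le_two_of_aniso {V : Type*} [AddCommGroup V] [Module F V] [Module.Finite F V]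
    (Q : QuadraticForm F V) (ha : ∀ x, Q x = 0 → x = 0) : finrank F V ≤ 2 := by
  by_contra h
  obtain ⟨v, hv0, hv⟩ := exists_singular Q (by omega)
  exact hv0 (ha v hv)

/-- an anisotropic binary space represents `1` -/
lemma exists_rep_one {V : Type*} [AddCommGroup V] [Module F V] [Module.Finite F V]
    (Q : QuadraticForm F V) (ha : ∀ x, Q x = 0 → x = 0) (hfr : finrank F V = 2) :
    ∃ v : V, Q v = 1 := by
  have h3 : 3 ≤ finrank F (V × F) := by
    rw [Module.finrank_prod, hfr, Module.finrank_self]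
  obtain ⟨p, hp0, hp⟩ := exists_singular (Q.prod (-QuadraticMap.sq)) h3
  have hp' : Q p.1 - p.2 * p.2 = 0 := by
    have : (Q.prod (-QuadraticMap.sq)) p = Q p.1 + -(p.2 * p.2) := rfl
    rw [this] at hp
    linear_combination hp
  have ht : p.2 ≠ 0 := by
    intro h
    rw [h, mul_zero, sub_zero] at hp'
    apply hp0
    exact Prod.ext (ha _ hp') h
  refine ⟨p.2⁻¹ • p.1, ?_⟩
  rw [QuadraticMap.map_smul, smul_eq_mul]
  have : Q p.1 = p.2 * p.2 := by linear_combination hp'
  rw [this]
  field_simp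

/-- anisotropic binary spaces are isometric to any prescribed anisotropic binary form -/
theorem aniso_dim_two {V : Type*} [AddCommGroup V] [Module F V] [Module.Finite F V]
    (Q : QuadraticForm F V) (ha : ∀ x, Q x = 0 → x = 0) (hfr : finrank F V = 2) (a c : F)
    (hac : ∀ z₁ z₂ : F, z₁ ^ 2 + a * z₁ * z₂ + c * z₂ ^ 2 = 0 → z₁ = 0 ∧ z₂ = 0) :
    ∃ e : V ≃ₗ[F] (Fin 2 → F), ∀ v, binF a c (e v) = Q v := by
  classical
  obtain ⟨v₀, hv₀⟩ := exists_rep_one Q ha hfr
  have hv₀0 : v₀ ≠ 0 := by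
    intro h
    rw [h, map_zero] at hv₀
    exact zero_ne_one hv₀
  have hw : ∃ w₀ : V, w₀ ∉ Submodule.span F {v₀} := by
    by_contra hcon
    simp only [not_exists, not_not] at hcon
    have htop : Submodule.span F {v₀} = ⊤ := Submodule.eq_top_iff'.mpr hcon
    have := finrank_span_singleton (K := F) hv₀0
    rw [htop, finrank_top, hfr] at this
    omega
  obtain ⟨w₀, hw₀⟩ := hw
  have hli : LinearIndependent F ![v₀, w₀] := by
    rw [LinearIndependent.pair_iff]
    intro s t hst
    by_cases ht : t = 0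
    · subst ht
      rw [zero_smul, add_zero] at hst
      exact ⟨(smul_eq_zero.mp hst).resolve_right hv₀0, rfl⟩
    · exfalso
      apply hw₀
      have h1 : t • w₀ = -(s • v₀) := eq_neg_of_add_eq_zero_right hst
      have h2 : w₀ = (-(t⁻¹ * s)) • v₀ := by
        have := congrArg (fun x => t⁻¹ • x) h1
        simp only [smul_smul, inv_mul_cancel₀ ht, one_smul, smul_neg] at this
        rw [this, neg_smul]
      rw [h2]
      exact Submodule.smul_mem _ _ (Submodule.mem_span_singleton_self v₀)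
  let b := basisOfLinearIndependentOfCardEqFinrank hli (by rw [hfr]; rfl)
  have hb : ∀ i, b i = ![v₀, w₀] i := fun i => by
    rw [coe_basisOfLinearIndependentOfCardEqFinrank]
  set a₀ := polar Q v₀ w₀ with ha₀
  set c₀ := Q w₀ with hc₀
  have hQb : ∀ v, Q v = binF a₀ c₀ (b.equivFun v) := by
    intro v
    have h1 : v = (b.equivFun v 0) • v₀ + (b.equivFun v 1) • w₀ := by
      have := b.sum_equivFun v
      rw [Fin.sum_univ_two, hb 0, hb 1] at this
      exact this.symm
    set s := b.equivFun v 0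
    set t := b.equivFun v 1
    rw [h1, QuadraticMap.map_add Q, QuadraticMap.map_smul, QuadraticMap.map_smul, polar_smul_left,
      polar_smul_right, hv₀]
    unfold binF
    simp only [smul_eq_mul]
    have e0 : b.equivFun (s • v₀ + t • w₀) 0 = s := by rw [← h1]
    have e1 : b.equivFun (s • v₀ + t • w₀) 1 = t := by rw [← h1]
    rw [e0, e1]
    ring
  have hac₀ : ∀ z₁ z₂ : F, z₁ ^ 2 + a₀ * z₁ * z₂ + c₀ * z₂ ^ 2 = 0 → z₁ = 0 ∧ z₂ = 0 := by
    intro z₁ z₂ h
    have h1 : Q (b.equivFun.symm ![z₁, z₂]) = 0 := by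
      rw [hQb, LinearEquiv.apply_symm_apply]
      unfold binF
      simpa using h
    have h2 := ha _ h1
    have h3 : (![z₁, z₂] : Fin 2 → F) = 0 := by
      have := congrArg b.equivFun h2
      rw [LinearEquiv.apply_symm_apply, map_zero] at this
      exact this
    constructor
    · have := congrFun h3 0
      simpa using this
    · have := congrFun h3 1
      simpa using this
  obtain ⟨e', he'⟩ := exists_binF_equiv a₀ c₀ a c hac₀ hac
  refine ⟨b.equivFun ≪≫ₗ e', ?_⟩
  intro v
  rw [LinearEquiv.trans_apply, he', hQb]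

/-- anisotropic lines -/
theorem aniso_dim_one {V : Type*} [AddCommGroup V] [Module F V] [Module.Finite F V]
    (Q : QuadraticForm F V) (ha : ∀ x, Q x = 0 → x = 0) (hfr : finrank F V = 1) :
    ∃ (d : F) (e : V ≃ₗ[F] F), d ≠ 0 ∧ ∀ v, Q v = d * (e v) ^ 2 := by
  let e : V ≃ₗ[F] F := LinearEquiv.ofFinrankEq V F (by rw [hfr, Module.finrank_self])
  have hb0 : e.symm 1 ≠ 0 := by
    intro h
    have := congrArg e h
    rw [LinearEquiv.apply_symm_apply, map_zero] at this
    exact one_ne_zero this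
  refine ⟨Q (e.symm 1), e, fun h => hb0 (ha _ h), ?_⟩
  intro v
  have h1 : v = (e v) • e.symm 1 := by
    apply e.injective
    rw [map_smul, LinearEquiv.apply_symm_apply, smul_eq_mul, mul_one]
  conv_lhs => rw [h1]
  rw [QuadraticMap.map_smul, smul_eq_mul]
  ring

end aniso

end Cfsg.Agent.Helper44.QF
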