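import Mathlib
import Cfsg.Prelude.Def_Classical
import Cfsg.Agent.Lib.Helper44.QFBin

set_option autoImplicit false
set_option linter.unusedSectionVars false

/-!
The standard quadratic forms over a finite field, their types, and the classification of
nondefective quadratic forms: every such form is isometric to a standard plus form, a standard
minus form (for any prescribed anisotropic binary part) or, in odd dimension, similar to the
standard odd form.
-/

namespace Cfsg.Agent.Helper44.QF

open QuadraticMap Module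

universe u

section std

variable {F : Type u} [Field F] [Fintype F]

lemma hasType_hyp : HasType (fun p : F × F => p.1 * p.2) 1 1 := by
  classical
  intro c
  set q := Fintype.card F with hq
  have hq1 : 1 ≤ q := Fintype.card_pos
  have hrep : rep (fun p : F × F => p.1 * p.2) c = (if c = 0 then q else 0) + (q - 1) := by
    unfold rep
    rw [Nat.card_eq_fintype_card, Fintype.card_subtype, Finset.card_filter,
      Fintype.sum_prod_type]
    have hinner : ∀ x : F, (∑ y : F, if x * y = c then 1 else 0) =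
        if x = 0 then (if c = 0 then q else 0) else 1 := by
      intro x
      split_ifs with hx hc
      · subst hx; subst hc
        simp [hq]
      · subst hx
        simp only [zero_mul]
        rw [Finset.sum_eq_zero]
        intro y _
        rw [if_neg (Ne.symm hc)]
      · have : ∀ y : F, (x * y = c) ↔ (y = x⁻¹ * c) := by
          intro y
          constructor
          · intro h; rw [← h, ← mul_assoc, inv_mul_cancel₀ hx, one_mul]
          · intro h; rw [h, ← mul_assoc, mul_inv_cancel₀ hx, one_mul]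
        simp only [this, Finset.sum_ite_eq', Finset.mem_univ, if_true]
    simp only [hinner]
    rw [← Finset.add_sum_erase (Finset.univ : Finset F) _ (Finset.mem_univ 0), if_pos rfl]
    congr 1
    rw [Finset.sum_congr rfl (fun x hx => if_neg (Finset.ne_of_mem_erase hx)), Finset.sum_const,
      Finset.card_erase_of_mem (Finset.mem_univ 0), Finset.card_univ, smul_eq_mul, mul_one]
  rw [hrep]
  split_ifs with hc
  · push_cast [Nat.cast_sub hq1]
    ring
  · push_cast [Nat.cast_sub hq1]
    ring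

lemma hasType_plus (k : ℕ) : HasType (Cfsg.quadFormPlus k F) k 1 := by
  classical
  induction k with
  | zero =>
    intro c
    have hrep : rep (Cfsg.quadFormPlus 0 F) c = if c = 0 then 1 else 0 := by
      unfold rep
      split_ifs with hc
      · rw [Nat.card_eq_one_iff_unique]
        refine ⟨⟨fun v w => Subtype.ext (Subsingleton.elim _ _)⟩, ⟨⟨0, ?_⟩⟩⟩
        rw [plus_zero, hc]
      · rw [Nat.card_eq_zero]
        left
        refine ⟨fun v => hc ?_⟩
        rw [← v.2, plus_zero]
    rw [hrep]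
    split_ifs with hc
    · simp
    · simp
  | succ k ih =>
    have h1 := hasType_prod (fun p : F × F => p.1 * p.2) (Cfsg.quadFormPlus k F) 1 k 1 1
      hasType_hyp ih
    have h2 := hasType_congr _ (Cfsg.quadFormPlus (k + 1) F) (consEquiv F k).toEquiv
      (fun p => plus_consEquiv k p) (1 + k) (1 * 1) h1
    rw [one_mul, Nat.add_comm 1 k] at h2
    exact h2

/-- the coordinates of the standard minus form -/
def minusEquiv (F : Type u) [Field F] (k : ℕ) :
    ((Fin k ⊕ Fin k → F) × (Fin 2 → F)) ≃ₗ[F] ((Fin k ⊕ Fin k) ⊕ Fin 2 → F) where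
  toFun p := Sum.elim p.1 p.2
  map_add' p p' := by
    funext s
    rcases s with s | s <;> simp
  map_smul' c p := by
    funext s
    rcases s with s | s <;> simp
  invFun v := (fun s => v (Sum.inl s), fun s => v (Sum.inr s))
  left_inv p := by
    refine Prod.ext ?_ ?_ <;> funext s <;> simp
  right_inv v := by
    funext s
    rcases s with s | s <;> simp

lemma minus_minusEquiv (k : ℕ) (a c : F) (p : (Fin k ⊕ Fin k → F) × (Fin 2 → F)) :
    Cfsg.quadFormMinus k F a c (minusEquiv F k p) = Cfsg.quadFormPlus k F p.1 + binF a c p.2 := by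
  unfold Cfsg.quadFormMinus Cfsg.quadFormPlus binF
  simp [minusEquiv]

lemma hasType_minus (k : ℕ) (a c : F)
    (hac : ∀ z₁ z₂ : F, z₁ ^ 2 + a * z₁ * z₂ + c * z₂ ^ 2 = 0 → z₁ = 0 ∧ z₂ = 0) :
    HasType (Cfsg.quadFormMinus k F a c) (k + 1) (-1) := by
  have h1 := hasType_prod (Cfsg.quadFormPlus k F) (binF a c) k 1 1 (-1) (hasType_plus k)
    (hasType_binF a c hac)
  have h2 := hasType_congr _ (Cfsg.quadFormMinus k F a c) (minusEquiv F k).toEquiv
    (fun p => minus_minusEquiv k a c p) (k + 1) (1 * -1) h1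
  rw [one_mul] at h2
  exact h2

/-- the coordinates of the standard odd form -/
def oddEquiv (F : Type u) [Field F] (k : ℕ) :
    ((Fin k ⊕ Fin k → F) × F) ≃ₗ[F] (Unit ⊕ (Fin k ⊕ Fin k) → F) where
  toFun p := Sum.elim (fun _ => p.2) p.1
  map_add' p p' := by
    funext s
    rcases s with s | s <;> simp
  map_smul' c p := by
    funext s
    rcases s with s | s <;> simp
  invFun v := (fun s => v (Sum.inr s), v (Sum.inl ()))
  left_inv p := by
    refine Prod.ext ?_ ?_
    · funext s; simp
    · simp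
  right_inv v := by
    funext s
    rcases s with s | s <;> simp

lemma odd_oddEquiv (k : ℕ) (p : (Fin k ⊕ Fin k → F) × F) :
    Cfsg.quadFormOdd k F (oddEquiv F k p) = p.2 ^ 2 + Cfsg.quadFormPlus k F p.1 := by
  unfold Cfsg.quadFormOdd Cfsg.quadFormPlus
  simp [oddEquiv]

/-- scaling the first half of the hyperbolic coordinates -/
def scaleL (k : ℕ) (l : F) (hl : l ≠ 0) : (Fin k ⊕ Fin k → F) ≃ₗ[F] (Fin k ⊕ Fin k → F) where
  toFun x := Sum.elim (fun i => l * x (Sum.inl i)) (fun i => x (Sum.inr i))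
  map_add' x y := by
    funext s
    rcases s with s | s <;> simp [mul_add]
  map_smul' c x := by
    funext s
    rcases s with s | s <;> simp [mul_left_comm]
  invFun x := Sum.elim (fun i => l⁻¹ * x (Sum.inl i)) (fun i => x (Sum.inr i))
  left_inv x := by
    funext s
    rcases s with s | s <;> simp [← mul_assoc, inv_mul_cancel₀ hl]
  right_inv x := by
    funext s
    rcases s with s | s <;> simp [← mul_assoc, mul_inv_cancel₀ hl]

lemma plus_scaleL (k : ℕ) (l : F) (hl : l ≠ 0) (x : Fin k ⊕ Fin k → F) :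
    Cfsg.quadFormPlus k F (scaleL k l hl x) = l * Cfsg.quadFormPlus k F x := by
  unfold Cfsg.quadFormPlus
  rw [Finset.mul_sum]
  apply Finset.sum_congr rfl
  intro i _
  simp [scaleL, mul_assoc]

end std

section classify

variable {F : Type u} [Field F] [Fintype F]

/-- classification of nondefective quadratic forms over a finite field -/
theorem witt_cases {V : Type u} [AddCommGroup V] [Module F V] [Module.Finite F V]
    (Q : QuadraticForm F V) (hnd : ∀ x, (∀ y, polar Q x y = 0) → x = 0) :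
    (∃ k, finrank F V = 2 * k ∧ ∃ e : V ≃ₗ[F] (Fin k ⊕ Fin k → F),
      ∀ v, Cfsg.quadFormPlus k F (e v) = Q v) ∨
    (∃ k, finrank F V = 2 * k + 2 ∧ ∀ a c : F,
      (∀ z₁ z₂ : F, z₁ ^ 2 + a * z₁ * z₂ + c * z₂ ^ 2 = 0 → z₁ = 0 ∧ z₂ = 0) →
      ∃ e : V ≃ₗ[F] ((Fin k ⊕ Fin k) ⊕ Fin 2 → F), ∀ v, Cfsg.quadFormMinus k F a c (e v) = Q v) ∨
    (∃ k, finrank F V = 2 * k + 1 ∧ ∃ (d : F) (e : V ≃ₗ[F] (Unit ⊕ (Fin k ⊕ Fin k) → F)),
      d ≠ 0 ∧ ∀ v, Cfsg.quadFormOdd k F (e v) = d * Q v) := by
  obtain ⟨k, V₀, i1, i2, i3, Q₀, e, h1, h2, h3⟩ := witt_decomp (finrank F V) V Q rfl hnd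
  have hfr : finrank F V = 2 * k + finrank F V₀ := by
    rw [LinearEquiv.finrank_eq e, Module.finrank_prod, Module.finrank_fintype_fun_eq_card,
      Fintype.card_sum, Fintype.card_fin]
    ring
  have hle := finrank_le_two_of_aniso Q₀ h1
  have hcases : finrank F V₀ = 0 ∨ finrank F V₀ = 1 ∨ finrank F V₀ = 2 := by omega
  rcases hcases with h0 | h0 | h0
  · left
    have hsub : Subsingleton V₀ := Module.finrank_zero_iff.mp h0
    refine ⟨k, by omega, ?_⟩
    let e' : V ≃ₗ[F] (Fin k ⊕ Fin k → F) :=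
      { toFun := fun v => (e v).1
        map_add' := fun v w => by rw [map_add]; rfl
        map_smul' := fun c v => by rw [map_smul]; rfl
        invFun := fun x => e.symm (x, 0)
        left_inv := fun v => by
          have : ((e v).1, (0 : V₀)) = e v := Prod.ext rfl (Subsingleton.elim _ _)
          show e.symm ((e v).1, 0) = v
          rw [this, LinearEquiv.symm_apply_apply]
        right_inv := fun x => by
          show (e (e.symm (x, 0))).1 = x
          rw [LinearEquiv.apply_symm_apply] }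
    refine ⟨e', ?_⟩
    intro v
    rw [h3 v]
    have : (e v).2 = 0 := Subsingleton.elim _ _
    rw [this, map_zero, add_zero]
    rfl
  · right; right
    obtain ⟨d, e₀, hd, he₀⟩ := aniso_dim_one Q₀ h1 h0
    refine ⟨k, by omega, d⁻¹, ?_⟩
    have hd' : d⁻¹ ≠ 0 := inv_ne_zero hd
    refine ⟨e ≪≫ₗ (LinearEquiv.prodCongr (scaleL k d⁻¹ hd') e₀) ≪≫ₗ oddEquiv F k, hd', ?_⟩
    intro v
    have : (e ≪≫ₗ (LinearEquiv.prodCongr (scaleL k d⁻¹ hd') e₀) ≪≫ₗ oddEquiv F k) v =
        oddEquiv F k (scaleL k d⁻¹ hd' (e v).1, e₀ (e v).2) := rfl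
    rw [this, odd_oddEquiv, plus_scaleL, h3 v, he₀]
    simp only
    field_simp
    ring
  · right; left
    refine ⟨k, by omega, ?_⟩
    intro a c hac
    obtain ⟨e₀, he₀⟩ := aniso_dim_two Q₀ h1 h0 a c hac
    refine ⟨e ≪≫ₗ (LinearEquiv.prodCongr (LinearEquiv.refl F _) e₀) ≪≫ₗ minusEquiv F k, ?_⟩
    intro v
    have : (e ≪≫ₗ (LinearEquiv.prodCongr (LinearEquiv.refl F _) e₀) ≪≫ₗ minusEquiv F k) v =
        minusEquiv F k ((e v).1, e₀ (e v).2) := rfl
    rw [this, minus_minusEquiv, h3 v, he₀]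

theorem hasType_or {V : Type u} [AddCommGroup V] [Module F V] [Module.Finite F V]
    (Q : QuadraticForm F V) (hnd : ∀ x, (∀ y, polar Q x y = 0) → x = 0) (m : ℕ)
    (hfr : finrank F V = 2 * m) : HasType Q m 1 ∨ HasType Q m (-1) := by
  rcases witt_cases Q hnd with ⟨k, hk, e, he⟩ | ⟨k, hk, h⟩ | ⟨k, hk, _⟩
  · left
    have hkm : k = m := by omega
    subst hkm
    exact hasType_congr (Cfsg.quadFormPlus k F) Q e.symm.toEquiv (fun x => by
      rw [← he]
      show Cfsg.quadFormPlus k F (e (e.symm x)) = _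
      rw [LinearEquiv.apply_symm_apply]) k 1 (hasType_plus k)
  · right
    obtain ⟨a, c, hac⟩ := exists_aniso F
    obtain ⟨e, he⟩ := h a c hac
    have hkm : k + 1 = m := by omega
    subst hkm
    exact hasType_congr (Cfsg.quadFormMinus k F a c) Q e.symm.toEquiv (fun x => by
      rw [← he]
      show Cfsg.quadFormMinus k F a c (e (e.symm x)) = _
      rw [LinearEquiv.apply_symm_apply]) (k + 1) (-1) (hasType_minus k a c hac)
  · omega

theorem exists_equiv_plus {V : Type u} [AddCommGroup V] [Module F V] [Module.Finite F V]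
    (Q : QuadraticForm F V) (hnd : ∀ x, (∀ y, polar Q x y = 0) → x = 0) (m : ℕ)
    (hfr : finrank F V = 2 * m) (hT : HasType Q m 1) :
    ∃ e : V ≃ₗ[F] (Fin m ⊕ Fin m → F), ∀ v, Cfsg.quadFormPlus m F (e v) = Q v := by
  rcases witt_cases Q hnd with ⟨k, hk, e, he⟩ | ⟨k, hk, h⟩ | ⟨k, hk, _⟩
  · have hkm : k = m := by omega
    subst hkm
    exact ⟨e, he⟩
  · exfalso
    obtain ⟨a, c, hac⟩ := exists_aniso F
    obtain ⟨e, he⟩ := h a c hac
    have hkm : k + 1 = m := by omega
    subst hkm
    have h2 := hasType_congr (Cfsg.quadFormMinus k F a c) Q e.symm.toEquiv (fun x => by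
      rw [← he]
      show Cfsg.quadFormMinus k F a c (e (e.symm x)) = _
      rw [LinearEquiv.apply_symm_apply]) (k + 1) (-1) (hasType_minus k a c hac)
    exact hasType_unique Q (k + 1) hT h2
  · omega

theorem exists_equiv_minus {V : Type u} [AddCommGroup V] [Module F V] [Module.Finite F V]
    (Q : QuadraticForm F V) (hnd : ∀ x, (∀ y, polar Q x y = 0) → x = 0) (m : ℕ)
    (hfr : finrank F V = 2 * m) (hT : HasType Q m (-1)) (a c : F)
    (hac : ∀ z₁ z₂ : F, z₁ ^ 2 + a * z₁ * z₂ + c * z₂ ^ 2 = 0 → z₁ = 0 ∧ z₂ = 0) :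
    ∃ e : V ≃ₗ[F] ((Fin (m - 1) ⊕ Fin (m - 1)) ⊕ Fin 2 → F),
      ∀ v, Cfsg.quadFormMinus (m - 1) F a c (e v) = Q v := by
  rcases witt_cases Q hnd with ⟨k, hk, e, he⟩ | ⟨k, hk, h⟩ | ⟨k, hk, _⟩
  · exfalso
    have hkm : k = m := by omega
    subst hkm
    have h2 := hasType_congr (Cfsg.quadFormPlus k F) Q e.symm.toEquiv (fun x => by
      rw [← he]
      show Cfsg.quadFormPlus k F (e (e.symm x)) = _
      rw [LinearEquiv.apply_symm_apply]) k 1 (hasType_plus k)
    exact hasType_unique Q k h2 hT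
  · have hkm : k = m - 1 := by omega
    subst hkm
    exact h a c hac
  · omega

theorem exists_equiv_odd {V : Type u} [AddCommGroup V] [Module F V] [Module.Finite F V]
    (Q : QuadraticForm F V) (hnd : ∀ x, (∀ y, polar Q x y = 0) → x = 0) (m : ℕ)
    (hfr : finrank F V = 2 * m + 1) :
    ∃ (d : F) (e : V ≃ₗ[F] (Unit ⊕ (Fin m ⊕ Fin m) → F)),
      d ≠ 0 ∧ ∀ v, Cfsg.quadFormOdd m F (e v) = d * Q v := by
  rcases witt_cases Q hnd with ⟨k, hk, _⟩ | ⟨k, hk, _⟩ | ⟨k, hk, h⟩
  · omega
  · omega
  · have hkm : k = m := by omega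
    subst hkm
    exact h

end classify

end Cfsg.Agent.Helper44.QF
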