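import Mathlib
import Cfsg.Agent.Lib.Helper43.QuadBasic

set_option autoImplicit false

namespace Cfsg.Agent.Helper44

open Module QuadraticMap Cfsg.Agent.Helper43

universe u

section CDBasic

variable {K : Type*} [Field K] {V : Type*} [AddCommGroup V] [Module K V]

/-- The reflection `x ↦ x - Q(v)⁻¹ f(v,x) v` as a linear map. -/
noncomputable def reflLin (Q : QuadraticForm K V) (v : V) : V →ₗ[K] V :=
  LinearMap.id - (Q v)⁻¹ • ((polarBilin Q v).smulRight v)

theorem reflLin_apply (Q : QuadraticForm K V) (v x : V) :
    reflLin Q v x = x - ((Q v)⁻¹ * polar Q v x) • v := by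
  simp [reflLin, smul_smul]

theorem Q_reflLin (Q : QuadraticForm K V) (v x : V) (hv : Q v ≠ 0) :
    Q (reflLin Q v x) = Q x := by
  rw [reflLin_apply, sub_eq_add_neg, ← neg_smul, map_add_eq, QuadraticMap.map_smul,
    polar_smul_right, polar_comm Q x v, smul_eq_mul, smul_eq_mul]
  field_simp
  ring

theorem polar_self_mul (Q : QuadraticForm K V) (v : V) : polar Q v v = 2 * Q v := by
  rw [polar_self, two_mul]
  exact two_smul _ _

theorem reflLin_self (Q : QuadraticForm K V) (v : V) (hv : Q v ≠ 0) :
    reflLin Q v v = -v := by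
  rw [reflLin_apply, polar_self_mul]
  have : (Q v)⁻¹ * (2 * Q v) = 2 := by field_simp
  rw [this, two_smul]
  abel

theorem reflLin_of_polar_eq_zero (Q : QuadraticForm K V) (v x : V) (h : polar Q v x = 0) :
    reflLin Q v x = x := by
  rw [reflLin_apply, h]
  simp

theorem reflLin_sub (Q : QuadraticForm K V) (u w : V) (huw : Q u = Q w) (h : Q (u - w) ≠ 0) :
    reflLin Q (u - w) u = w := by
  have h1 : polar Q (u - w) u = Q (u - w) := by
    have e : Q (u - w) = Q u + Q w - polar Q u w := by
      have := map_add_eq Q (u - w) w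
      rw [sub_add_cancel, polar_sub_left, polar_self_mul] at this
      linear_combination -this
    rw [polar_sub_left, polar_self_mul, e, polar_comm Q w u, huw]
    ring
  rw [reflLin_apply, h1, inv_mul_cancel₀ h, one_smul]
  abel

theorem reflLin_mul_self (Q : QuadraticForm K V) (v : V) (hv : Q v ≠ 0) :
    reflLin Q v * reflLin Q v = 1 := by
  ext x
  rw [Module.End.mul_apply, Module.End.one_apply, reflLin_apply Q v (reflLin Q v x),
    reflLin_apply Q v x, polar_sub_right, polar_smul_right, polar_self_mul, smul_eq_mul]
  have : (Q v)⁻¹ * (polar Q v x - (Q v)⁻¹ * polar Q v x * (2 * Q v)) =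
      - ((Q v)⁻¹ * polar Q v x) := by
    field_simp
    ring
  rw [this, neg_smul]
  abel

theorem polar_map_of_isometry (Q : QuadraticForm K V) (g : V →ₗ[K] V) (hg : ∀ x, Q (g x) = Q x)
    (x y : V) : polar Q (g x) (g y) = polar Q x y := by
  unfold polar
  rw [← map_add, hg, hg, hg]

theorem mem_orth_singleton (Q : QuadraticForm K V) (v x : V) :
    x ∈ LinearMap.BilinForm.orthogonal (polarBilin Q) (Submodule.span K {v}) ↔ polar Q v x = 0 := by
  rw [LinearMap.BilinForm.mem_orthogonal_iff]
  constructor
  · intro h
    have := h v (Submodule.mem_span_singleton_self v)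
    rwa [polarBilin_apply_apply] at this
  · intro h n hn
    obtain ⟨a, rfl⟩ := Submodule.mem_span_singleton.mp hn
    rw [polarBilin_apply_apply, polar_smul_left, h, smul_zero]

/-- A product of reflections in vectors of a submodule `W` fixes every vector orthogonal to `W`
and restricts on `W` to the product of the reflections of `W`. -/
theorem prod_refl_restrict (Q : QuadraticForm K V) (W : Submodule K V) (l : List W) :
    (∀ x : V, (∀ w : W, polar Q (w : V) x = 0) →
      (l.map (fun w : W => reflLin Q (w : V))).prod x = x) ∧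
    (∀ x : W, (l.map (fun w : W => reflLin Q (w : V))).prod (x : V) =
      (((l.map (reflLin (qrestrict Q W))).prod x : W) : V)) := by
  induction l with
  | nil =>
    refine ⟨fun x _ => ?_, fun x => ?_⟩
    · simp
    · simp
  | cons w l ih =>
    refine ⟨fun x hx => ?_, fun x => ?_⟩
    · rw [List.map_cons, List.prod_cons, Module.End.mul_apply, ih.1 x hx,
        reflLin_of_polar_eq_zero Q _ _ (hx w)]
    · rw [List.map_cons, List.prod_cons, Module.End.mul_apply, ih.2 x, List.map_cons,
        List.prod_cons, Module.End.mul_apply, reflLin_apply, reflLin_apply, polar_qrestrict,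
        qrestrict_apply]
      simp

end CDBasic

section CDMain

variable {K : Type*} [Field K]

theorem cd_step {V : Type u} [AddCommGroup V] [Module K V]
    (Q : QuadraticForm K V) (v : V) (hv : polar Q v v ≠ 0)
    (IH : ∀ g' : (LinearMap.BilinForm.orthogonal (polarBilin Q) (Submodule.span K {v})) →ₗ[K]
        (LinearMap.BilinForm.orthogonal (polarBilin Q) (Submodule.span K {v})),
      (∀ x, qrestrict Q _ (g' x) = qrestrict Q _ x) →
      ∃ l : List (LinearMap.BilinForm.orthogonal (polarBilin Q) (Submodule.span K {v})),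
        (∀ w ∈ l, qrestrict Q _ w ≠ 0) ∧ g' = (l.map (reflLin (qrestrict Q _))).prod)
    (h : V →ₗ[K] V) (hh : ∀ x, Q (h x) = Q x) (hhv : h v = v) :
    ∃ l : List V, (∀ w ∈ l, Q w ≠ 0) ∧ h = (l.map (reflLin Q)).prod := by
  obtain ⟨W, hW⟩ : ∃ W, W = LinearMap.BilinForm.orthogonal (polarBilin Q) (Submodule.span K {v}) :=
    ⟨_, rfl⟩
  rw [← hW] at IH
  have hmemW : ∀ x, x ∈ W ↔ polar Q v x = 0 := by
    intro x; rw [hW]; exact mem_orth_singleton Q v x
  have hcompl : IsCompl (Submodule.span K {v}) W := by
    rw [hW]
    exact LinearMap.BilinForm.isCompl_span_singleton_orthogonal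
      (by rwa [polarBilin_apply_apply])
  have hpres : ∀ x ∈ W, h x ∈ W := by
    intro x hx
    rw [hmemW] at hx ⊢
    have := polar_map_of_isometry Q h hh v x
    rwa [hhv, hx] at this
  obtain ⟨l, hl, hgl⟩ := IH (h.restrict hpres) (fun x => by
    rw [qrestrict_apply, qrestrict_apply, LinearMap.coe_restrict_apply, hh])
  refine ⟨l.map (fun w : W => (w : V)), ?_, ?_⟩
  · intro w hw
    rw [List.mem_map] at hw
    obtain ⟨w', hw', rfl⟩ := hw
    exact hl w' hw'
  · have key := prod_refl_restrict Q W l
    rw [List.map_map]
    have hfun : (reflLin Q ∘ fun w : W => (w : V)) = fun w : W => reflLin Q (w : V) := rfl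
    rw [hfun]
    apply LinearMap.ext
    intro x
    have hx : x ∈ Submodule.span K {v} ⊔ W := by rw [hcompl.sup_eq_top]; trivial
    obtain ⟨y, hy, z, hz, rfl⟩ := Submodule.mem_sup.mp hx
    obtain ⟨a, rfl⟩ := Submodule.mem_span_singleton.mp hy
    rw [map_add, map_add, map_smul, map_smul, hhv]
    have h1 : (l.map (fun w : W => reflLin Q (w : V))).prod v = v := by
      apply key.1
      intro w
      rw [polar_comm]
      exact (hmemW _).mp w.2
    have h2 := key.2 ⟨z, hz⟩
    rw [← hgl] at h2
    rw [h1, h2]
    rfl

/-- A nonzero quadratic space with nondegenerate polar form has a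
nonsingular vector. -/
theorem exists_Q_ne_zero {V : Type*} [AddCommGroup V] [Module K V]
    [Nontrivial V] (Q : QuadraticForm K V) (hQ : (polarBilin Q).Nondegenerate) :
    ∃ v : V, Q v ≠ 0 := by
  by_contra hcon
  simp only [not_exists, not_not] at hcon
  obtain ⟨x, hx⟩ := exists_ne (0 : V)
  apply hx
  apply hQ.1 x
  intro y
  rw [polarBilin_apply_apply]
  unfold polar
  rw [hcon, hcon, hcon]
  simp

/-- **Cartan–Dieudonné** (weak form, characteristic not two): every isometry of a finite-dimensional
quadratic space with nondegenerate polar form is a product of reflections. -/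
theorem cartan_dieudonne_aux (h2 : (2 : K) ≠ 0) : ∀ (n : ℕ) (V : Type u) [AddCommGroup V]
    [Module K V] [FiniteDimensional K V] (Q : QuadraticForm K V), finrank K V = n →
    (polarBilin Q).Nondegenerate → ∀ g : V →ₗ[K] V, (∀ x, Q (g x) = Q x) →
    ∃ l : List V, (∀ w ∈ l, Q w ≠ 0) ∧ g = (l.map (reflLin Q)).prod := by
  intro n
  induction n with
  | zero =>
    intro V _ _ _ Q hn _ g _
    have : Subsingleton V := Module.finrank_zero_iff.mp hn
    refine ⟨[], by simp, ?_⟩
    apply LinearMap.ext
    intro x
    exact Subsingleton.elim _ _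
  | succ n ih =>
    intro V _ _ _ Q hn hQ g hg
    have : Nontrivial V := Module.nontrivial_of_finrank_pos (R := K) (by omega)
    obtain ⟨v, hv⟩ := exists_Q_ne_zero Q hQ
    have hpv : polar Q v v ≠ 0 := by
      rw [polar_self_mul]
      exact mul_ne_zero h2 hv
    have hv0 : v ≠ 0 := by
      rintro rfl
      exact hv (map_zero Q)
    -- the inductive hypothesis on the orthogonal complement of v
    have IH : ∀ g' : (LinearMap.BilinForm.orthogonal (polarBilin Q) (Submodule.span K {v})) →ₗ[K]
        (LinearMap.BilinForm.orthogonal (polarBilin Q) (Submodule.span K {v})),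
      (∀ x, qrestrict Q _ (g' x) = qrestrict Q _ x) →
      ∃ l : List (LinearMap.BilinForm.orthogonal (polarBilin Q) (Submodule.span K {v})),
        (∀ w ∈ l, qrestrict Q _ w ≠ 0) ∧ g' = (l.map (reflLin (qrestrict Q _))).prod := by
      apply ih
      · have hc : IsCompl (Submodule.span K {v})
            (LinearMap.BilinForm.orthogonal (polarBilin Q) (Submodule.span K {v})) :=
          LinearMap.BilinForm.isCompl_span_singleton_orthogonal
            (by rwa [polarBilin_apply_apply])
        have h1 := Submodule.finrank_add_eq_of_isCompl hc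
        rw [finrank_span_singleton hv0, hn] at h1
        omega
      · rw [polarBilin_qrestrict]
        exact LinearMap.BilinForm.restrict_nondegenerate_orthogonal_spanSingleton _ hQ
          (polarBilin_isRefl Q) (by rwa [polarBilin_apply_apply])
    have hsum : Q (g v - v) + Q (g v + v) = 4 * Q v := by
      have e1 := map_add_eq Q (g v) v
      have e2 := map_add_eq Q (g v - v) v
      rw [sub_add_cancel, polar_sub_left, polar_self_mul] at e2
      rw [hg] at e1 e2
      linear_combination e1 - e2
    have h4 : (4 : K) * Q v ≠ 0 := by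
      have : (4 : K) = 2 * 2 := by norm_num
      rw [this]
      exact mul_ne_zero (mul_ne_zero h2 h2) hv
    by_cases hA : Q (g v - v) ≠ 0
    · -- one reflection moves g v back to v
      obtain ⟨l, hl, hgl⟩ := cd_step Q v hpv IH (reflLin Q (g v - v) * g)
        (fun x => by rw [Module.End.mul_apply, Q_reflLin Q _ _ hA, hg])
        (by rw [Module.End.mul_apply]; exact reflLin_sub Q (g v) v (hg v) hA)
      refine ⟨(g v - v) :: l, ?_, ?_⟩
      · intro w hw
        rcases List.mem_cons.mp hw with rfl | hw
        · exact hA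
        · exact hl w hw
      · rw [List.map_cons, List.prod_cons, ← hgl, ← mul_assoc, reflLin_mul_self Q _ hA, one_mul]
    · simp only [not_not] at hA
      have hB : Q (g v + v) ≠ 0 := by
        rw [hA, zero_add] at hsum
        rw [hsum]
        exact h4
      have hB' : Q (g v - -v) ≠ 0 := by rwa [sub_neg_eq_add]
      have e1 : reflLin Q (g v + v) (g v) = -v := by
        have := reflLin_sub Q (g v) (-v) (by rw [hg, QuadraticMap.map_neg]) hB'
        rwa [sub_neg_eq_add] at this
      obtain ⟨l, hl, hgl⟩ := cd_step Q v hpv IH (reflLin Q v * (reflLin Q (g v + v) * g))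
        (fun x => by
          rw [Module.End.mul_apply, Module.End.mul_apply, Q_reflLin Q _ _ hv,
            Q_reflLin Q _ _ hB, hg])
        (by rw [Module.End.mul_apply, Module.End.mul_apply, e1, map_neg, reflLin_self Q v hv,
          neg_neg])
      refine ⟨(g v + v) :: v :: l, ?_, ?_⟩
      · intro w hw
        rcases List.mem_cons.mp hw with rfl | hw
        · exact hB
        · rcases List.mem_cons.mp hw with rfl | hw
          · exact hv
          · exact hl w hw
      · rw [List.map_cons, List.prod_cons, List.map_cons, List.prod_cons, ← hgl, ← mul_assoc,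
          ← mul_assoc, ← mul_assoc, mul_assoc (reflLin Q (g v + v)), reflLin_mul_self Q _ hv,
          mul_one, reflLin_mul_self Q _ hB, one_mul]

theorem cartan_dieudonne_odd (h2 : (2 : K) ≠ 0) {V : Type u} [AddCommGroup V]
    [Module K V] [FiniteDimensional K V] (Q : QuadraticForm K V)
    (hQ : (polarBilin Q).Nondegenerate) (g : V →ₗ[K] V) (hg : ∀ x, Q (g x) = Q x) :
    ∃ l : List V, (∀ w ∈ l, Q w ≠ 0) ∧ g = (l.map (reflLin Q)).prod :=
  cartan_dieudonne_aux h2 _ V Q rfl hQ g hg

end CDMain

end Cfsg.Agent.Helper44
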