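import Mathlib

set_option autoImplicit false

namespace Cfsg.Agent.Helper44

open Module

universe u

section SympBasic

variable {K : Type*} [Field K] {V : Type*} [AddCommGroup V] [Module K V]

/-- The symplectic transvection `x ↦ x + a B(x,m) m`. -/
def tvLin (B : LinearMap.BilinForm K V) (a : K) (m : V) : V →ₗ[K] V :=
  LinearMap.id + a • ((B.flip m).smulRight m)

theorem tvLin_apply (B : LinearMap.BilinForm K V) (a : K) (m x : V) :
    tvLin B a m x = x + (a * B x m) • m := by
  simp [tvLin, smul_smul]

theorem alt_skew (B : LinearMap.BilinForm K V) (hA : ∀ x, B x x = 0) (x y : V) :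
    B x y = - B y x := by
  have h := hA (x + y)
  simp only [map_add, LinearMap.add_apply, hA] at h
  linear_combination h

theorem tvLin_isometry (B : LinearMap.BilinForm K V) (hA : ∀ x, B x x = 0) (a : K) (m x y : V) :
    B (tvLin B a m x) (tvLin B a m y) = B x y := by
  rw [tvLin_apply, tvLin_apply]
  simp only [map_add, LinearMap.add_apply, map_smul, LinearMap.smul_apply, smul_eq_mul, hA]
  rw [alt_skew B hA m y]
  ring

theorem tvLin_mul_neg (B : LinearMap.BilinForm K V) (hA : ∀ x, B x x = 0) (a : K) (m : V) :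
    tvLin B a m * tvLin B (-a) m = 1 := by
  apply LinearMap.ext
  intro x
  rw [Module.End.mul_apply, Module.End.one_apply, tvLin_apply, tvLin_apply]
  simp only [map_add, LinearMap.add_apply, map_smul, LinearMap.smul_apply, smul_eq_mul, hA,
    mul_zero, add_zero]
  rw [add_assoc, ← add_smul]
  have : -a * B x m + a * B x m = 0 := by ring
  rw [this, zero_smul, add_zero]

theorem tvLin_neg_mul (B : LinearMap.BilinForm K V) (hA : ∀ x, B x x = 0) (a : K) (m : V) :
    tvLin B (-a) m * tvLin B a m = 1 := by
  have := tvLin_mul_neg B hA (-a) m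
  rwa [neg_neg] at this

theorem tvLin_move (B : LinearMap.BilinForm K V) (hA : ∀ x, B x x = 0) (x y : V)
    (h : B x y ≠ 0) : tvLin B (B x y)⁻¹ (y - x) x = y := by
  rw [tvLin_apply, map_sub, hA, sub_zero, inv_mul_cancel₀ h, one_smul]
  abel

theorem tvLin_fix (B : LinearMap.BilinForm K V) (a : K) (m x : V) (h : B x m = 0) :
    tvLin B a m x = x := by
  rw [tvLin_apply, h, mul_zero, zero_smul, add_zero]

/-- The product of the transvections of a list. -/
def tvProd (B : LinearMap.BilinForm K V) (l : List (K × V)) : V →ₗ[K] V :=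
  (l.map (fun p => tvLin B p.1 p.2)).prod

theorem tvProd_nil (B : LinearMap.BilinForm K V) : tvProd B [] = 1 := rfl

theorem tvProd_cons (B : LinearMap.BilinForm K V) (p : K × V) (l : List (K × V)) :
    tvProd B (p :: l) = tvLin B p.1 p.2 * tvProd B l := by
  unfold tvProd
  rw [List.map_cons, List.prod_cons]

theorem tvProd_append (B : LinearMap.BilinForm K V) (l l' : List (K × V)) :
    tvProd B (l ++ l') = tvProd B l * tvProd B l' := by
  unfold tvProd
  rw [List.map_append, List.prod_append]

/-- The list giving the inverse product. -/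
def tvInv (l : List (K × V)) : List (K × V) := (l.map (fun p => (-p.1, p.2))).reverse

omit [AddCommGroup V] [Module K V] in
theorem tvInv_ne (l : List (K × V)) (hl : ∀ p ∈ l, p.1 ≠ 0) : ∀ p ∈ tvInv l, p.1 ≠ 0 := by
  intro p hp
  unfold tvInv at hp
  rw [List.mem_reverse, List.mem_map] at hp
  obtain ⟨p', hp', rfl⟩ := hp
  exact neg_ne_zero.mpr (hl p' hp')

theorem tvInv_mul (B : LinearMap.BilinForm K V) (hA : ∀ x, B x x = 0) (l : List (K × V)) :
    tvProd B (tvInv l) * tvProd B l = 1 := by
  induction l with
  | nil => simp [tvInv, tvProd]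
  | cons p l ih =>
    have : tvInv (p :: l) = tvInv l ++ [(-p.1, p.2)] := by
      unfold tvInv
      rw [List.map_cons, List.reverse_cons]
    rw [this, tvProd_append, tvProd_cons, tvProd_cons, tvProd_nil, mul_one, mul_assoc,
      ← mul_assoc (tvLin B (-p.1) p.2), tvLin_neg_mul B hA, one_mul, ih]

theorem tvProd_isometry (B : LinearMap.BilinForm K V) (hA : ∀ x, B x x = 0) (l : List (K × V))
    (x y : V) : B (tvProd B l x) (tvProd B l y) = B x y := by
  induction l generalizing x y with
  | nil => simp [tvProd]
  | cons p l ih =>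
    rw [tvProd_cons, Module.End.mul_apply, Module.End.mul_apply, tvLin_isometry B hA, ih]

/-- Transitivity on nonzero vectors. -/
theorem tv_trans (B : LinearMap.BilinForm K V) (hA : ∀ x, B x x = 0)
    (hS : ∀ x, (∀ y, B x y = 0) → x = 0) (x y : V) (hx : x ≠ 0) (hy : y ≠ 0) :
    ∃ l : List (K × V), (∀ p ∈ l, p.1 ≠ 0) ∧ tvProd B l x = y := by
  have key : ∀ x y : V, B x y ≠ 0 → ∃ l : List (K × V), (∀ p ∈ l, p.1 ≠ 0) ∧ tvProd B l x = y := by
    intro x y h
    refine ⟨[((B x y)⁻¹, y - x)], ?_, ?_⟩
    · intro p hp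
      rw [List.mem_singleton] at hp
      rw [hp]
      exact inv_ne_zero h
    · rw [tvProd_cons, tvProd_nil, mul_one]
      exact tvLin_move B hA x y h
  by_cases h : B x y ≠ 0
  · exact key x y h
  · simp only [not_not] at h
    -- find z with B x z ≠ 0 and B z y ≠ 0
    have hex : ∃ z, B x z ≠ 0 ∧ B z y ≠ 0 := by
      have h1 : ∃ z, B x z ≠ 0 := by
        by_contra hc
        simp only [not_exists, not_not] at hc
        exact hx (hS x hc)
      have h2 : ∃ z, B y z ≠ 0 := by
        by_contra hc
        simp only [not_exists, not_not] at hc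
        exact hy (hS y hc)
      obtain ⟨z₁, hz₁⟩ := h1
      obtain ⟨z₂, hz₂⟩ := h2
      have hz₂' : B z₂ y ≠ 0 := by
        rw [alt_skew B hA]; exact neg_ne_zero.mpr hz₂
      by_cases h3 : B z₁ y ≠ 0
      · exact ⟨z₁, hz₁, h3⟩
      · simp only [not_not] at h3
        by_cases h4 : B x z₂ ≠ 0
        · exact ⟨z₂, h4, hz₂'⟩
        · simp only [not_not] at h4
          refine ⟨z₁ + z₂, ?_, ?_⟩
          · rw [map_add, h4, add_zero]; exact hz₁
          · rw [map_add, LinearMap.add_apply, h3, zero_add]; exact hz₂'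
    obtain ⟨z, hz1, hz2⟩ := hex
    obtain ⟨l₁, hl₁, e₁⟩ := key x z hz1
    obtain ⟨l₂, hl₂, e₂⟩ := key z y hz2
    refine ⟨l₂ ++ l₁, ?_, ?_⟩
    · intro p hp
      rcases List.mem_append.mp hp with hp | hp
      · exact hl₂ p hp
      · exact hl₁ p hp
    · rw [tvProd_append, Module.End.mul_apply, e₁, e₂]

/-- Transitivity on hyperbolic partners of a fixed vector. -/
theorem tv_pair (B : LinearMap.BilinForm K V) (hA : ∀ x, B x x = 0) (u w w' : V)
    (hw : B u w = 1) (hw' : B u w' = 1) :
    ∃ l : List (K × V), (∀ p ∈ l, p.1 ≠ 0) ∧ tvProd B l u = u ∧ tvProd B l w' = w := by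
  have key : ∀ w₁ w₂ : V, B u w₁ = 1 → B u w₂ = 1 → B w₁ w₂ ≠ 0 →
      ∃ l : List (K × V), (∀ p ∈ l, p.1 ≠ 0) ∧ tvProd B l u = u ∧ tvProd B l w₁ = w₂ := by
    intro w₁ w₂ h1 h2 h
    refine ⟨[((B w₁ w₂)⁻¹, w₂ - w₁)], ?_, ?_, ?_⟩
    · intro p hp
      rw [List.mem_singleton] at hp
      rw [hp]
      exact inv_ne_zero h
    · rw [tvProd_cons, tvProd_nil, mul_one]
      apply tvLin_fix
      rw [map_sub, h1, h2, sub_self]
    · rw [tvProd_cons, tvProd_nil, mul_one]
      exact tvLin_move B hA w₁ w₂ h
  by_cases h : B w' w ≠ 0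
  · exact key w' w hw' hw h
  · simp only [not_not] at h
    have huw : B w u = -1 := by rw [alt_skew B hA, hw]
    have huw' : B w' u = -1 := by rw [alt_skew B hA, hw']
    obtain ⟨l₁, hl₁, e₁, e₁'⟩ := key w' (w + u) hw' (by rw [map_add, hw, hA, add_zero])
      (by rw [map_add, h, huw', zero_add]; exact neg_ne_zero.mpr one_ne_zero)
    obtain ⟨l₂, hl₂, e₂, e₂'⟩ := key (w + u) w (by rw [map_add, hw, hA, add_zero]) hw
      (by rw [map_add, LinearMap.add_apply, hA, hw, zero_add]; exact one_ne_zero)
    refine ⟨l₂ ++ l₁, ?_, ?_, ?_⟩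
    · intro p hp
      rcases List.mem_append.mp hp with hp | hp
      · exact hl₂ p hp
      · exact hl₁ p hp
    · rw [tvProd_append, Module.End.mul_apply, e₁, e₂]
    · rw [tvProd_append, Module.End.mul_apply, e₁', e₂']

/-- The common orthogonal of two vectors. -/
def perpPair (B : LinearMap.BilinForm K V) (u w : V) : Submodule K V :=
  LinearMap.ker (B u) ⊓ LinearMap.ker (B w)

theorem mem_perpPair (B : LinearMap.BilinForm K V) (u w x : V) :
    x ∈ perpPair B u w ↔ B u x = 0 ∧ B w x = 0 := by
  unfold perpPair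
  rw [Submodule.mem_inf, LinearMap.mem_ker, LinearMap.mem_ker]

/-- The projection onto `perpPair B u w` along the span of `u, w` (for `B u w = 1`). -/
def perpProj (B : LinearMap.BilinForm K V) (u w : V) : V →ₗ[K] V :=
  LinearMap.id - (B.flip w).smulRight u + (B.flip u).smulRight w

theorem perpProj_apply (B : LinearMap.BilinForm K V) (u w y : V) :
    perpProj B u w y = y - B y w • u + B y u • w := by
  simp [perpProj]

theorem perpProj_mem (B : LinearMap.BilinForm K V) (hA : ∀ x, B x x = 0) (u w : V)
    (huw : B u w = 1) (y : V) : perpProj B u w y ∈ perpPair B u w := by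
  have hwu : B w u = -1 := by rw [alt_skew B hA, huw]
  rw [perpProj_apply, mem_perpPair]
  constructor
  · simp only [map_add, map_sub, map_smul, smul_eq_mul, hA, huw]
    rw [alt_skew B hA u y]; ring
  · simp only [map_add, map_sub, map_smul, smul_eq_mul, hA, hwu]
    rw [alt_skew B hA w y]; ring

theorem perpProj_decomp (B : LinearMap.BilinForm K V) (u w y : V) :
    y = perpProj B u w y + B y w • u - B y u • w := by
  rw [perpProj_apply]; abel

theorem perpPair_separating (B : LinearMap.BilinForm K V) (hA : ∀ x, B x x = 0)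
    (hS : ∀ x, (∀ y, B x y = 0) → x = 0) (u w : V) (huw : B u w = 1)
    (m : perpPair B u w) (hm : ∀ y : perpPair B u w, B (m : V) (y : V) = 0) : m = 0 := by
  apply Subtype.ext
  apply hS
  intro x
  have hm1 : B (m : V) u = 0 := by
    rw [alt_skew B hA]; rw [((mem_perpPair B u w _).mp m.2).1, neg_zero]
  have hm2 : B (m : V) w = 0 := by
    rw [alt_skew B hA]; rw [((mem_perpPair B u w _).mp m.2).2, neg_zero]
  have hm3 := hm ⟨_, perpProj_mem B hA u w huw x⟩
  have hm3' : B (m : V) (perpProj B u w x) = 0 := hm3
  rw [perpProj_decomp B u w x]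
  simp only [map_add, map_sub, map_smul, hm3', hm1, hm2]
  simp

/-- A product of transvections with vectors in a submodule `W` fixes every vector orthogonal to
`W` and restricts on `W` to the product of the transvections of `W`. -/
theorem prod_tv_restrict (B : LinearMap.BilinForm K V) (W : Submodule K V) (l : List (K × W)) :
    (∀ x : V, (∀ m : W, B x m = 0) →
      tvProd B (l.map (fun p : K × W => (p.1, (p.2 : V)))) x = x) ∧
    (∀ x : W, tvProd B (l.map (fun p : K × W => (p.1, (p.2 : V)))) (x : V) =
      ((tvProd (B.restrict W) l x : W) : V)) := by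
  induction l with
  | nil =>
    refine ⟨fun x _ => ?_, fun x => ?_⟩
    · simp [tvProd]
    · simp [tvProd]
  | cons p l ih =>
    refine ⟨fun x hx => ?_, fun x => ?_⟩
    · rw [List.map_cons, tvProd_cons, Module.End.mul_apply, ih.1 x hx]
      exact tvLin_fix B _ _ _ (hx p.2)
    · rw [List.map_cons, tvProd_cons, Module.End.mul_apply, ih.2 x, tvProd_cons,
        Module.End.mul_apply, tvLin_apply, tvLin_apply]
      simp only [LinearMap.BilinForm.restrict, Submodule.coe_add, Submodule.coe_smul]
      rfl

end SympBasic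

section SympMain

variable {K : Type*} [Field K]

theorem sp_step {V : Type u} [AddCommGroup V] [Module K V] (B : LinearMap.BilinForm K V)
    (hA : ∀ x, B x x = 0) (u w : V) (huw : B u w = 1)
    (IH : ∀ g' : perpPair B u w →ₗ[K] perpPair B u w,
      (∀ x y, B.restrict _ (g' x) (g' y) = B.restrict _ x y) →
      ∃ l : List (K × perpPair B u w), (∀ p ∈ l, p.1 ≠ 0) ∧ g' = tvProd (B.restrict _) l)
    (h : V →ₗ[K] V) (hh : ∀ x y, B (h x) (h y) = B x y) (hu : h u = u) (hw : h w = w) :
    ∃ l : List (K × V), (∀ p ∈ l, p.1 ≠ 0) ∧ h = tvProd B l := by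
  have hwu : B w u = -1 := by rw [alt_skew B hA, huw]
  have hpres : ∀ x ∈ perpPair B u w, h x ∈ perpPair B u w := by
    intro x hx
    rw [mem_perpPair] at hx ⊢
    constructor
    · have := hh u x
      rwa [hu, hx.1] at this
    · have := hh w x
      rwa [hw, hx.2] at this
  obtain ⟨l, hl, hgl⟩ := IH (h.restrict hpres) (fun x y => hh x y)
  refine ⟨l.map (fun p : K × perpPair B u w => (p.1, (p.2 : V))), ?_, ?_⟩
  · intro p hp
    rw [List.mem_map] at hp
    obtain ⟨p', hp', rfl⟩ := hp
    exact hl p' hp'
  · have key := prod_tv_restrict B (perpPair B u w) l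
    have hPu : tvProd B (l.map (fun p : K × perpPair B u w => (p.1, (p.2 : V)))) u = u := by
      apply key.1
      intro m
      exact ((mem_perpPair B u w _).mp m.2).1
    have hPw : tvProd B (l.map (fun p : K × perpPair B u w => (p.1, (p.2 : V)))) w = w := by
      apply key.1
      intro m
      exact ((mem_perpPair B u w _).mp m.2).2
    apply LinearMap.ext
    intro x
    have hx' : x - B x w • u + B x u • w ∈ perpPair B u w := by
      rw [mem_perpPair]
      constructor
      · simp only [map_add, map_sub, map_smul, smul_eq_mul, hA, huw]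
        rw [alt_skew B hA u x]; ring
      · simp only [map_add, map_sub, map_smul, smul_eq_mul, hA, hwu]
        rw [alt_skew B hA w x]; ring
    obtain ⟨a, ha⟩ : ∃ a, a = B x w := ⟨_, rfl⟩
    obtain ⟨b, hb⟩ : ∃ b, b = B x u := ⟨_, rfl⟩
    rw [← ha, ← hb] at hx'
    obtain ⟨x', hx'def⟩ : ∃ x', x' = x - a • u + b • w := ⟨_, rfl⟩
    rw [← hx'def] at hx'
    have hx : x = x' + a • u - b • w := by rw [hx'def]; abel
    have h2 := key.2 ⟨x', hx'⟩
    rw [← hgl] at h2
    have h3 : tvProd B (l.map (fun p : K × perpPair B u w => (p.1, (p.2 : V)))) x' = h x' := h2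
    rw [hx, map_sub, map_add, map_smul, map_smul, hu, hw, map_sub, map_add, map_smul, map_smul,
      hPu, hPw, h3]

/-- Every isometry of a nondegenerate alternating form on a finite-dimensional space is a product
of symplectic transvections. -/
theorem symp_gen_aux : ∀ (n : ℕ) (V : Type u) [AddCommGroup V] [Module K V]
    [FiniteDimensional K V] (B : LinearMap.BilinForm K V), finrank K V ≤ n →
    (∀ x, B x x = 0) → (∀ x, (∀ y, B x y = 0) → x = 0) →
    ∀ g : V →ₗ[K] V, (∀ x y, B (g x) (g y) = B x y) →
    ∃ l : List (K × V), (∀ p ∈ l, p.1 ≠ 0) ∧ g = tvProd B l := by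
  intro n
  induction n with
  | zero =>
    intro V _ _ _ B hn _ _ g _
    have : Subsingleton V := (Module.finrank_zero_iff (R := K)).mp (Nat.le_zero.mp hn)
    refine ⟨[], by simp, ?_⟩
    apply LinearMap.ext
    intro x
    exact Subsingleton.elim _ _
  | succ n ih =>
    intro V _ _ _ B hn hA hS g hg
    by_cases hsub : Subsingleton V
    · refine ⟨[], by simp, ?_⟩
      apply LinearMap.ext
      intro x
      exact Subsingleton.elim _ _
    · rw [not_subsingleton_iff_nontrivial] at hsub
      obtain ⟨u, hu0⟩ := exists_ne (0 : V)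
      -- a partner of u
      obtain ⟨w, huw⟩ : ∃ w, B u w = 1 := by
        have : ∃ y, B u y ≠ 0 := by
          by_contra hc
          simp only [not_exists, not_not] at hc
          exact hu0 (hS u hc)
        obtain ⟨y, hy⟩ := this
        refine ⟨(B u y)⁻¹ • y, ?_⟩
        rw [map_smul, smul_eq_mul, inv_mul_cancel₀ hy]
      -- the inductive hypothesis on the complement
      have IH : ∀ g' : perpPair B u w →ₗ[K] perpPair B u w,
          (∀ x y, B.restrict _ (g' x) (g' y) = B.restrict _ x y) →
          ∃ l : List (K × perpPair B u w), (∀ p ∈ l, p.1 ≠ 0) ∧ g' = tvProd (B.restrict _) l := by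
        apply ih
        · have hlt : perpPair B u w ≠ ⊤ := by
            intro htop
            have : w ∈ perpPair B u w := by rw [htop]; trivial
            rw [mem_perpPair, huw] at this
            exact one_ne_zero this.1
          have := Submodule.finrank_lt hlt
          omega
        · intro x
          exact hA x
        · intro m hm
          apply Subtype.ext
          apply hS
          intro x
          have hwu : B w u = -1 := by rw [alt_skew B hA, huw]
          have hx' : x - B x w • u + B x u • w ∈ perpPair B u w := by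
            rw [mem_perpPair]
            constructor
            · simp only [map_add, map_sub, map_smul, smul_eq_mul, hA, huw]
              rw [alt_skew B hA u x]; ring
            · simp only [map_add, map_sub, map_smul, smul_eq_mul, hA, hwu]
              rw [alt_skew B hA w x]; ring
          have hx : x = (x - B x w • u + B x u • w) + B x w • u - B x u • w := by abel
          have hm1 : B (m : V) u = 0 := by
            rw [alt_skew B hA]; rw [((mem_perpPair B u w _).mp m.2).1, neg_zero]
          have hm2 : B (m : V) w = 0 := by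
            rw [alt_skew B hA]; rw [((mem_perpPair B u w _).mp m.2).2, neg_zero]
          have hm3 := hm ⟨_, hx'⟩
          have hm3' : B (m : V) (x - B x w • u + B x u • w) = 0 := hm3
          rw [hx]
          simp only [map_add, map_sub, map_smul, hm3', hm1, hm2]
          simp
      -- g u ≠ 0
      have hgu : g u ≠ 0 := by
        intro h0
        have := hg u w
        rw [h0, huw] at this
        simp at this
      obtain ⟨l₁, hl₁, e₁⟩ := tv_trans B hA hS (g u) u hgu hu0
      have e₁' : B u (tvProd B l₁ (g w)) = 1 := by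
        rw [← e₁, tvProd_isometry B hA, hg, huw]
      obtain ⟨l₂, hl₂, e₂, e₂'⟩ := tv_pair B hA u w (tvProd B l₁ (g w)) huw e₁'
      obtain ⟨l₃, hl₃, e₃⟩ := sp_step B hA u w huw IH (tvProd B l₂ * (tvProd B l₁ * g))
        (fun x y => by
          rw [Module.End.mul_apply, Module.End.mul_apply, Module.End.mul_apply,
            Module.End.mul_apply, tvProd_isometry B hA, tvProd_isometry B hA, hg])
        (by rw [Module.End.mul_apply, Module.End.mul_apply, e₁, e₂])
        (by rw [Module.End.mul_apply, Module.End.mul_apply, e₂'])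
      refine ⟨tvInv l₁ ++ (tvInv l₂ ++ l₃), ?_, ?_⟩
      · intro p hp
        rcases List.mem_append.mp hp with hp | hp
        · exact tvInv_ne l₁ hl₁ p hp
        · rcases List.mem_append.mp hp with hp | hp
          · exact tvInv_ne l₂ hl₂ p hp
          · exact hl₃ p hp
      · rw [tvProd_append, tvProd_append, ← e₃, ← mul_assoc (tvProd B (tvInv l₂)),
          tvInv_mul B hA, one_mul, ← mul_assoc, tvInv_mul B hA, one_mul]

theorem symp_gen {V : Type u} [AddCommGroup V] [Module K V]
    [FiniteDimensional K V] (B : LinearMap.BilinForm K V)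
    (hA : ∀ x, B x x = 0) (hS : ∀ x, (∀ y, B x y = 0) → x = 0)
    (g : V →ₗ[K] V) (hg : ∀ x y, B (g x) (g y) = B x y) :
    ∃ l : List (K × V), (∀ p ∈ l, p.1 ≠ 0) ∧ g = tvProd B l :=
  symp_gen_aux _ V B le_rfl hA hS g hg

end SympMain

end Cfsg.Agent.Helper44
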