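import Mathlib
import Cfsg.Agent.Lib.Helper43.QuadBasic
import Cfsg.Agent.Lib.Helper43.QuadFinite
import Cfsg.Agent.Lib.Helper44.CartanDieudonne
import Cfsg.Agent.Lib.Helper44.SympGen

set_option autoImplicit false

namespace Cfsg.Agent.Helper44

open Module QuadraticMap Cfsg.Agent.Helper43

universe u

section ReflProd

variable {K : Type*} [Field K] {V : Type*} [AddCommGroup V] [Module K V]

/-- The product of the reflections of a list of vectors. -/
noncomputable def reflProd (Q : QuadraticForm K V) (l : List V) : V →ₗ[K] V :=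
  (l.map (reflLin Q)).prod

theorem reflProd_nil (Q : QuadraticForm K V) : reflProd Q [] = 1 := rfl

theorem reflProd_cons (Q : QuadraticForm K V) (z : V) (l : List V) :
    reflProd Q (z :: l) = reflLin Q z * reflProd Q l := by
  unfold reflProd
  rw [List.map_cons, List.prod_cons]

theorem reflProd_append (Q : QuadraticForm K V) (l l' : List V) :
    reflProd Q (l ++ l') = reflProd Q l * reflProd Q l' := by
  unfold reflProd
  rw [List.map_append, List.prod_append]

theorem Q_reflProd (Q : QuadraticForm K V) (l : List V) (hl : ∀ z ∈ l, Q z ≠ 0) (x : V) :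
    Q (reflProd Q l x) = Q x := by
  induction l generalizing x with
  | nil => simp [reflProd]
  | cons z l ih =>
    rw [reflProd_cons, Module.End.mul_apply, Q_reflLin Q z _ (hl z (List.mem_cons_self ..)),
      ih (fun z' hz' => hl z' (List.mem_cons_of_mem _ hz'))]

theorem reflProd_reverse_mul (Q : QuadraticForm K V) (l : List V) (hl : ∀ z ∈ l, Q z ≠ 0) :
    reflProd Q l.reverse * reflProd Q l = 1 := by
  induction l with
  | nil => simp [reflProd]
  | cons z l ih =>
    rw [List.reverse_cons, reflProd_append, reflProd_cons, reflProd_cons, reflProd_nil, mul_one,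
      mul_assoc, ← mul_assoc (reflLin Q z), reflLin_mul_self Q z (hl z (List.mem_cons_self ..)),
      one_mul, ih (fun z' hz' => hl z' (List.mem_cons_of_mem _ hz'))]

end ReflProd

section Char2Stab

variable {K : Type*} [Field K] {V : Type*} [AddCommGroup V] [Module K V]

theorem mem_perpPair_polar (Q : QuadraticForm K V) (v w x : V) :
    x ∈ perpPair (polarBilin Q) v w ↔ polar Q v x = 0 ∧ polar Q w x = 0 := by
  rw [mem_perpPair, polarBilin_apply_apply, polarBilin_apply_apply]

/-- `h` (fixing `v`) induces `s` on `⟨v,w⟩^⊥` modulo `v`. -/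
def IndRel (Q : QuadraticForm K V) (v w : V) (h : V →ₗ[K] V)
    (s : perpPair (polarBilin Q) v w →ₗ[K] perpPair (polarBilin Q) v w) : Prop :=
  ∀ x : perpPair (polarBilin Q) v w, ∃ lam : K, h (x : V) = lam • v + (s x : V)

theorem exists_indRel (Q : QuadraticForm K V) (hA : ∀ x, polar Q x x = 0) (v w : V)
    (hvw : polar Q v w = 1) (h : V →ₗ[K] V) (hh : ∀ x, Q (h x) = Q x) (hv : h v = v) :
    ∃ s : perpPair (polarBilin Q) v w →ₗ[K] perpPair (polarBilin Q) v w, IndRel Q v w h s ∧
      ∀ x y : perpPair (polarBilin Q) v w,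
        polar Q (s x : V) (s y : V) = polar Q (x : V) (y : V) := by
  have hA' : ∀ x, polarBilin Q x x = 0 := fun x => by rw [polarBilin_apply_apply]; exact hA x
  have hvw' : polarBilin Q v w = 1 := by rw [polarBilin_apply_apply]; exact hvw
  obtain ⟨s, hs⟩ : ∃ s : perpPair (polarBilin Q) v w →ₗ[K] perpPair (polarBilin Q) v w,
      ∀ x, (s x : V) = perpProj (polarBilin Q) v w (h (x : V)) :=
    ⟨LinearMap.codRestrict _ ((perpProj (polarBilin Q) v w).comp
      (h.comp (Submodule.subtype _))) (fun x => perpProj_mem _ hA' v w hvw' _), fun x => rfl⟩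
  have hrel : IndRel Q v w h s := by
    intro x
    refine ⟨polar Q (h x) w, ?_⟩
    have hd := perpProj_decomp (polarBilin Q) v w (h x)
    have h0 : polarBilin Q (h x) v = 0 := by
      rw [polarBilin_apply_apply]
      have := polar_map_of_isometry Q h hh x v
      rw [hv] at this
      rw [this, polar_comm]
      exact ((mem_perpPair_polar Q v w _).mp x.2).1
    rw [h0, zero_smul, sub_zero, polarBilin_apply_apply, ← hs] at hd
    rw [add_comm]
    exact hd
  refine ⟨s, hrel, ?_⟩
  intro x y
  obtain ⟨lam, hx⟩ := hrel x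
  obtain ⟨mu, hy⟩ := hrel y
  have hxy := polar_map_of_isometry Q h hh x y
  rw [hx, hy] at hxy
  have e1 : polar Q v (s y : V) = 0 := ((mem_perpPair_polar Q v w _).mp (s y).2).1
  have e2 : polar Q (s x : V) v = 0 := by
    rw [polar_comm]; exact ((mem_perpPair_polar Q v w _).mp (s x).2).1
  rw [polar_add_left, polar_add_right, polar_add_right, polar_smul_left, polar_smul_left,
    polar_smul_right, polar_smul_right, hA, e1, e2] at hxy
  simpa using hxy

theorem indRel_refl_mul (Q : QuadraticForm K V) (hA : ∀ x, polar Q x x = 0) (v w : V)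
    (h : V →ₗ[K] V) (s : perpPair (polarBilin Q) v w →ₗ[K] perpPair (polarBilin Q) v w)
    (hrel : IndRel Q v w h s) (a : K) (m : perpPair (polarBilin Q) v w) (t : K)
    (ha : a = -(Q (t • v + (m : V)))⁻¹) :
    IndRel Q v w (reflLin Q (t • v + (m : V)) * h)
      (tvLin (LinearMap.BilinForm.restrict (polarBilin Q) _) a m * s) := by
  intro x
  obtain ⟨lam, hx⟩ := hrel x
  have e1 : polar Q v (s x : V) = 0 := ((mem_perpPair_polar Q v w _).mp (s x).2).1
  have e2 : polar Q (m : V) v = 0 := by
    rw [polar_comm]; exact ((mem_perpPair_polar Q v w _).mp m.2).1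
  have hp : polar Q (t • v + (m : V)) (lam • v + (s x : V)) = polar Q (m : V) (s x : V) := by
    rw [polar_add_left, polar_add_right, polar_add_right, polar_smul_left, polar_smul_left,
      polar_smul_right, polar_smul_right, hA, e1, e2]
    simp
  refine ⟨lam - (Q (t • v + (m : V)))⁻¹ * polar Q (m : V) (s x : V) * t, ?_⟩
  rw [Module.End.mul_apply, Module.End.mul_apply, hx, reflLin_apply, hp, tvLin_apply]
  have e3 : (LinearMap.BilinForm.restrict (polarBilin Q) (perpPair (polarBilin Q) v w)) (s x) m =
      polar Q (s x : V) (m : V) := rfl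
  rw [e3, Submodule.coe_add, Submodule.coe_smul, ha, polar_comm Q (s x : V) (m : V)]
  simp only [smul_add, sub_smul, smul_smul, neg_mul, neg_smul]
  abel_nf

theorem ext_perp (B : LinearMap.BilinForm K V) (u w : V) (f g : V →ₗ[K] V)
    (hM : ∀ x ∈ perpPair B u w, f x = g x) (hu : f u = g u) (hw : f w = g w)
    (hP : ∀ y, perpProj B u w y ∈ perpPair B u w) : f = g := by
  apply LinearMap.ext
  intro y
  rw [perpProj_decomp B u w y]
  simp only [map_add, map_sub, map_smul, hu, hw, hM _ (hP y)]

theorem indRel_one_cases (Q : QuadraticForm K V) (h2 : (2 : K) = 0)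
    (hS : ∀ x, (∀ y, polarBilin Q x y = 0) → x = 0) (v w : V) (hv : Q v ≠ 0)
    (hvw : polar Q v w = 1) (h : V →ₗ[K] V) (hh : ∀ x, Q (h x) = Q x) (hhv : h v = v)
    (hrel : IndRel Q v w h 1) : h = 1 ∨ h = reflLin Q v := by
  have hA : ∀ x, polar Q x x = 0 := fun x => by rw [polar_self_mul, h2, zero_mul]
  have hA' : ∀ x, polarBilin Q x x = 0 := fun x => by rw [polarBilin_apply_apply]; exact hA x
  have hvw' : polarBilin Q v w = 1 := by rw [polarBilin_apply_apply]; exact hvw
  have hnegV : ∀ x : V, -x = x := by
    intro x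
    have : x + x = 0 := by rw [← two_smul K x, h2, zero_smul]
    exact neg_eq_of_add_eq_zero_left this
  have hnegK : ∀ a : K, -a = a := by
    intro a
    have : a + a = 0 := by rw [← two_mul, h2, zero_mul]
    exact neg_eq_of_add_eq_zero_left this
  have hP := perpProj_mem (polarBilin Q) hA' v w hvw'
  -- h is the identity on M
  have hM : ∀ x ∈ perpPair (polarBilin Q) v w, h x = x := by
    intro x hx
    obtain ⟨lam, hl⟩ := hrel ⟨x, hx⟩
    rw [Module.End.one_apply] at hl
    have hl' : h x = lam • v + x := hl
    have e := hh x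
    rw [hl', map_add_eq, QuadraticMap.map_smul, polar_smul_left,
      ((mem_perpPair_polar Q v w _).mp hx).1] at e
    have : lam * lam * Q v = 0 := by
      simp only [smul_eq_mul] at e
      linear_combination e
    rcases mul_eq_zero.mp this with h0 | h0
    · have : lam = 0 := by
        rcases mul_eq_zero.mp h0 with h0 | h0 <;> exact h0
      rw [hl', this, zero_smul, zero_add]
    · exact absurd h0 hv
  -- the image of w
  have hpol : ∀ x y, polar Q (h x) (h y) = polar Q x y := polar_map_of_isometry Q h hh
  have hw1 : perpProj (polarBilin Q) v w (h w) = 0 := by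
    have := perpPair_separating (polarBilin Q) hA' hS v w hvw' ⟨_, hP (h w)⟩ (by
      intro y
      show polarBilin Q (perpProj (polarBilin Q) v w (h w)) (y : V) = 0
      have hy := (mem_perpPair_polar Q v w _).mp y.2
      rw [perpProj_apply]
      simp only [map_add, map_sub, map_smul, LinearMap.add_apply, LinearMap.sub_apply,
        LinearMap.smul_apply, polarBilin_apply_apply, hy.1, hy.2, smul_zero, sub_zero, add_zero]
      have := hpol w y
      rw [hM y y.2] at this
      rw [this, hy.2])
    exact congrArg Subtype.val this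
  have hw2 : h w = polar Q (h w) w • v + w := by
    have hd := perpProj_decomp (polarBilin Q) v w (h w)
    have e1 : polarBilin Q (h w) v = 1 := by
      rw [polarBilin_apply_apply]
      have := hpol w v
      rw [hhv] at this
      rw [this, polar_comm, hvw]
    rw [hw1, zero_add, e1, one_smul, polarBilin_apply_apply, sub_eq_add_neg, hnegV] at hd
    exact hd
  obtain ⟨al, hal⟩ : ∃ al, al = polar Q (h w) w := ⟨_, rfl⟩
  rw [← hal] at hw2
  have hal2 : al * (al * Q v + 1) = 0 := by
    have e := hh w
    rw [hw2, map_add_eq, QuadraticMap.map_smul, polar_smul_left, hvw] at e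
    simp only [smul_eq_mul] at e
    linear_combination e
  rcases mul_eq_zero.mp hal2 with h0 | h0
  · left
    apply ext_perp (polarBilin Q) v w h 1 _ _ _ hP
    · intro x hx
      rw [hM x hx, Module.End.one_apply]
    · rw [hhv, Module.End.one_apply]
    · rw [hw2, h0, zero_smul, zero_add, Module.End.one_apply]
  · right
    have hal3 : al = (Q v)⁻¹ := by
      have : al * Q v = 1 := by
        have : al * Q v = -1 := by linear_combination h0
        rw [this, hnegK]
      field_simp
      exact this
    apply ext_perp (polarBilin Q) v w h (reflLin Q v) _ _ _ hP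
    · intro x hx
      rw [hM x hx, reflLin_of_polar_eq_zero Q v x ((mem_perpPair_polar Q v w _).mp hx).1]
    · rw [hhv, reflLin_self Q v hv, hnegV]
    · rw [hw2, reflLin_apply, hvw, mul_one, hal3, sub_eq_add_neg, hnegV, add_comm]

theorem stab_gen_aux [Finite K] (Q : QuadraticForm K V) (h2 : (2 : K) = 0)
    (hS : ∀ x, (∀ y, polarBilin Q x y = 0) → x = 0) (v w : V) (hv : Q v ≠ 0)
    (hvw : polar Q v w = 1) :
    ∀ (l₀ : List (K × perpPair (polarBilin Q) v w)), (∀ p ∈ l₀, p.1 ≠ 0) →
    ∀ h : V →ₗ[K] V, (∀ x, Q (h x) = Q x) → h v = v →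
    IndRel Q v w h (tvProd (LinearMap.BilinForm.restrict (polarBilin Q) _) l₀) →
    ∃ l : List V, (∀ z ∈ l, Q z ≠ 0) ∧ h = reflProd Q l := by
  have hA : ∀ x, polar Q x x = 0 := fun x => by rw [polar_self_mul, h2, zero_mul]
  have hchar : CharP K 2 := CharTwo.of_one_ne_zero_of_two_eq_zero one_ne_zero h2
  intro l₀
  induction l₀ with
  | nil =>
    intro _ h hh hhv hrel
    rw [tvProd_nil] at hrel
    rcases indRel_one_cases Q h2 hS v w hv hvw h hh hhv hrel with h1 | h1
    · exact ⟨[], by simp, by rw [h1, reflProd_nil]⟩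
    · refine ⟨[v], ?_, ?_⟩
      · intro z hz
        rw [List.mem_singleton] at hz
        rw [hz]; exact hv
      · rw [h1, reflProd_cons, reflProd_nil, mul_one]
  | cons p l₀ ih =>
    intro hl h hh hhv hrel
    have hp : p.1 ≠ 0 := hl p (List.mem_cons_self ..)
    have hm := (mem_perpPair_polar Q v w _).mp p.2.2
    -- choose t with Q (t v + m) = a⁻¹
    obtain ⟨t, ht⟩ : ∃ t : K, (p.1⁻¹ - Q (p.2 : V)) / Q v = t * t :=
      FiniteField.isSquare_of_char_two (ringChar.eq K 2) _
    have hQz : Q (t • v + (p.2 : V)) = p.1⁻¹ := by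
      rw [map_add_eq, QuadraticMap.map_smul, polar_smul_left, hm.1, smul_eq_mul, smul_eq_mul,
        ← ht]
      field_simp
      ring
    have hQz0 : Q (t • v + (p.2 : V)) ≠ 0 := by rw [hQz]; exact inv_ne_zero hp
    have hzv : polar Q (t • v + (p.2 : V)) v = 0 := by
      rw [polar_add_left, polar_smul_left, hA, polar_comm Q (p.2 : V) v, hm.1]
      simp
    have hrel' := indRel_refl_mul Q hA v w h _ hrel (-p.1) p.2 t (by rw [hQz, inv_inv])
    rw [tvProd_cons, ← mul_assoc, tvLin_neg_mul
      (LinearMap.BilinForm.restrict (polarBilin Q) (perpPair (polarBilin Q) v w))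
      (fun x => hA (x : V)) p.1 p.2, one_mul] at hrel'
    obtain ⟨l, hlQ, hl'⟩ := ih (fun p' hp' => hl p' (List.mem_cons_of_mem _ hp'))
      (reflLin Q (t • v + (p.2 : V)) * h)
      (fun x => by rw [Module.End.mul_apply, Q_reflLin Q _ _ hQz0, hh])
      (by rw [Module.End.mul_apply, hhv, reflLin_of_polar_eq_zero Q _ _ hzv]) hrel'
    refine ⟨(t • v + (p.2 : V)) :: l, ?_, ?_⟩
    · intro z hz
      rcases List.mem_cons.mp hz with rfl | hz
      · exact hQz0
      · exact hlQ z hz
    · rw [reflProd_cons, ← hl', ← mul_assoc, reflLin_mul_self Q _ hQz0, one_mul]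

/-- In characteristic two (finite field), an isometry fixing a nonsingular vector is a product of
reflections. -/
theorem stab_gen [Finite K] [FiniteDimensional K V] (Q : QuadraticForm K V) (h2 : (2 : K) = 0)
    (hQ : (polarBilin Q).Nondegenerate) (v : V) (hv : Q v ≠ 0)
    (h : V →ₗ[K] V) (hh : ∀ x, Q (h x) = Q x) (hhv : h v = v) :
    ∃ l : List V, (∀ z ∈ l, Q z ≠ 0) ∧ h = reflProd Q l := by
  have hA : ∀ x, polar Q x x = 0 := fun x => by rw [polar_self_mul, h2, zero_mul]
  have hA' : ∀ x, polarBilin Q x x = 0 := fun x => by rw [polarBilin_apply_apply]; exact hA x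
  have hv0 : v ≠ 0 := by
    rintro rfl
    exact hv (map_zero Q)
  obtain ⟨w, hvw⟩ := exists_polar_eq_one Q hQ v hv0
  have hvw' : polarBilin Q v w = 1 := by rw [polarBilin_apply_apply]; exact hvw
  obtain ⟨s, hrel, hs⟩ := exists_indRel Q hA v w hvw h hh hhv
  obtain ⟨l₀, hl₀, hsl⟩ := symp_gen
    (LinearMap.BilinForm.restrict (polarBilin Q) (perpPair (polarBilin Q) v w))
    (fun x => hA (x : V))
    (fun m hm => perpPair_separating (polarBilin Q) hA' hQ.1 v w hvw' m hm) s
    (fun x y => hs x y)
  rw [hsl] at hrel
  exact stab_gen_aux Q h2 hQ.1 v w hv hvw l₀ hl₀ h hh hhv hrel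

end Char2Stab

section Char2Trans

variable {K : Type*} [Field K] {V : Type*} [AddCommGroup V] [Module K V]

/-- For linearly independent `u, w` the functionals `f(u,·), f(w,·)` take any prescribed pair of
values. -/
theorem exists_pair_values (Q : QuadraticForm K V) (hQ : (polarBilin Q).Nondegenerate) (u w : V)
    (hind : ∀ α β : K, α • u + β • w = 0 → α = 0 ∧ β = 0) (a b : K) :
    ∃ y, polar Q u y = a ∧ polar Q w y = b := by
  have hu0 : u ≠ 0 := by
    intro h0
    have := hind 1 0 (by rw [h0]; simp)
    exact one_ne_zero this.1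
  obtain ⟨y₁, hy₁⟩ := exists_polar_eq_one Q hQ u hu0
  obtain ⟨β, hβ⟩ : ∃ β, β = polar Q w y₁ := ⟨_, rfl⟩
  have hw0 : w - β • u ≠ 0 := by
    intro h0
    have := hind (-β) 1 (by rw [← h0]; simp; abel)
    exact one_ne_zero this.2
  obtain ⟨y₂, hy₂⟩ := exists_polar_eq_one Q hQ _ hw0
  rw [polar_sub_left, polar_smul_left, smul_eq_mul] at hy₂
  refine ⟨a • y₁ + (b - a * β) • (y₂ - polar Q u y₂ • y₁), ?_, ?_⟩
  · rw [polar_add_right, polar_smul_right, polar_smul_right, polar_sub_right, polar_smul_right,
      hy₁]
    simp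
  · rw [polar_add_right, polar_smul_right, polar_smul_right, polar_sub_right, polar_smul_right,
      ← hβ]
    simp only [smul_eq_mul]
    linear_combination (b - a * β) * hy₂

theorem char2_indep (Q : QuadraticForm K V) (h2 : (2 : K) = 0) (u w : V) (c : K) (hc : c ≠ 0)
    (hu : Q u = c) (hw : Q w = c) (hne : u ≠ w) :
    ∀ α β : K, α • u + β • w = 0 → α = 0 ∧ β = 0 := by
  have hnegK : ∀ a : K, -a = a := by
    intro a
    have : a + a = 0 := by rw [← two_mul, h2, zero_mul]
    exact neg_eq_of_add_eq_zero_left this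
  have hnegV : ∀ x : V, -x = x := by
    intro x
    have : x + x = 0 := by rw [← two_smul K x, h2, zero_smul]
    exact neg_eq_of_add_eq_zero_left this
  intro α β h
  have h1 : α • u = β • w := by
    have := eq_neg_of_add_eq_zero_left h
    rw [this, hnegV]
  have h3 : α = β := by
    have h2' := congrArg Q h1
    rw [QuadraticMap.map_smul, QuadraticMap.map_smul, hu, hw, smul_eq_mul, smul_eq_mul] at h2'
    have : α * α = β * β := mul_right_cancel₀ hc h2'
    rcases mul_self_eq_mul_self_iff.mp this with h | h
    · exact h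
    · rw [h, hnegK]
  subst h3
  have h4 : α • (u - w) = 0 := by rw [smul_sub, h1, sub_self]
  rcases smul_eq_zero.mp h4 with h5 | h5
  · exact ⟨h5, h5⟩
  · exact absurd (sub_eq_zero.mp h5) hne

theorem exists_mid [Fintype K] [FiniteDimensional K V] (Q : QuadraticForm K V) (h2 : (2 : K) = 0)
    (hQ : (polarBilin Q).Nondegenerate)
    (hexc : Fintype.card K ≠ 2 ∨ finrank K V ≠ 4) (u w : V) (c : K) (hc : c ≠ 0)
    (hu : Q u = c) (hw : Q w = c) (huw : polar Q u w = 0) (hne : u ≠ w) :
    ∃ z, Q z = c ∧ polar Q u z ≠ 0 ∧ polar Q w z ≠ 0 := by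
  classical
  have hA : ∀ x, polar Q x x = 0 := fun x => by rw [polar_self_mul, h2, zero_mul]
  have hnegK : ∀ a : K, -a = a := by
    intro a
    have : a + a = 0 := by rw [← two_mul, h2, zero_mul]
    exact neg_eq_of_add_eq_zero_left this
  have hind := char2_indep Q h2 u w c hc hu hw hne
  by_cases hcard : Fintype.card K = 2
  · -- the field with two elements
    have h01 : ∀ a : K, a = 0 ∨ a = 1 := by
      have huniv : ({0, 1} : Finset K) = Finset.univ := by
        apply Finset.eq_univ_of_card
        rw [hcard, Finset.card_pair zero_ne_one]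
      intro a
      have : a ∈ ({0, 1} : Finset K) := by rw [huniv]; exact Finset.mem_univ a
      simpa using this
    have hc1 : c = 1 := (h01 c).resolve_left hc
    have hn4 : finrank K V ≠ 4 := hexc.resolve_left (fun h => h hcard)
    obtain ⟨y, hy1, hy2⟩ := exists_pair_values Q hQ u w hind 1 1
    by_cases hQy : Q y = 1
    · exact ⟨y, by rw [hQy, hc1], by rw [hy1]; exact one_ne_zero, by rw [hy2]; exact one_ne_zero⟩
    · have hQy0 : Q y = 0 := (h01 _).resolve_right hQy
      -- find x in u^⊥ ∩ w^⊥ with Q x + f(y,x) = 1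
      have hex : ∃ x, polar Q u x = 0 ∧ polar Q w x = 0 ∧ Q x + polar Q y x = 1 := by
        by_contra hcon
        simp only [not_exists, not_and] at hcon
        have hcon' : ∀ x ∈ perpPair (polarBilin Q) u w, Q x = polar Q y x := by
          intro x hx
          have hx' := (mem_perpPair_polar Q u w x).mp hx
          have := (h01 _).resolve_right (hcon x hx'.1 hx'.2)
          have h' : Q x = - polar Q y x := by linear_combination this
          rw [h', hnegK]
        have hti : perpPair (polarBilin Q) u w ≤
            LinearMap.BilinForm.orthogonal (polarBilin Q) (perpPair (polarBilin Q) u w) := by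
          intro x hx
          rw [LinearMap.BilinForm.mem_orthogonal_iff]
          intro x' hx'
          rw [polarBilin_apply_apply]
          have e1 := hcon' _ (Submodule.add_mem _ hx' hx)
          rw [map_add_eq, hcon' x hx, hcon' x' hx', polar_add_right] at e1
          linear_combination e1
        have hd1 : finrank K V ≤ finrank K (perpPair (polarBilin Q) u w) + 2 := by
          have := finrank_ker_functional₂_ge (polarBilin Q u) (polarBilin Q w)
          rw [LinearMap.ker_prod] at this
          exact this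
        have hd2 := LinearMap.BilinForm.finrank_orthogonal hQ (perpPair (polarBilin Q) u w)
        have hd3 := Submodule.finrank_mono hti
        have hd4 : 2 ≤ finrank K (perpPair (polarBilin Q) u w) := by
          have hli : LinearIndependent K ![u, w] := by
            rw [LinearIndependent.pair_iff]
            exact hind
          have h5 := finrank_span_eq_card hli
          rw [Fintype.card_fin] at h5
          have h5' : finrank K (Submodule.span K (Set.range ![u, w])) = 2 := h5
          rw [← h5']
          apply Submodule.finrank_mono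
          rw [Submodule.span_le]
          rintro x ⟨i, rfl⟩
          fin_cases i
          · show u ∈ perpPair (polarBilin Q) u w
            rw [mem_perpPair_polar]
            exact ⟨hA u, by rw [polar_comm]; exact huw⟩
          · show w ∈ perpPair (polarBilin Q) u w
            rw [mem_perpPair_polar]
            exact ⟨huw, hA w⟩
        omega
      obtain ⟨x, hx1, hx2, hx3⟩ := hex
      refine ⟨y + x, ?_, ?_, ?_⟩
      · rw [map_add_eq, hQy0, zero_add, hx3, hc1]
      · rw [polar_add_right, hy1, hx1, add_zero]; exact one_ne_zero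
      · rw [polar_add_right, hy2, hx2, add_zero]; exact one_ne_zero
  · -- at least four elements: pick a ∉ {0, 1}
    have hexa : ∃ a : K, a ≠ 0 ∧ a ≠ 1 := by
      by_contra hcon
      simp only [not_exists, not_and, not_not] at hcon
      apply hcard
      apply le_antisymm
      · have : (Finset.univ : Finset K) ⊆ {0, 1} := by
          intro a _
          by_cases ha : a = 0
          · simp [ha]
          · simp [hcon a ha]
        calc Fintype.card K = (Finset.univ : Finset K).card := rfl
          _ ≤ ({0, 1} : Finset K).card := Finset.card_le_card this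
          _ ≤ 2 := Finset.card_le_two
      · exact Fintype.one_lt_card
    obtain ⟨a, ha0, ha1⟩ := hexa
    obtain ⟨y, hy1, hy2⟩ := exists_pair_values Q hQ u w hind a 1
    have ha2 : a + 1 ≠ 0 := by
      intro h
      apply ha1
      have : a = -1 := by linear_combination h
      rw [this, hnegK]
    have hQuw : Q (u + w) = 0 := by
      rw [map_add_eq, hu, hw, huw, add_zero, ← two_mul, h2, zero_mul]
    refine ⟨y + ((c - Q y) / (a + 1)) • (u + w), ?_, ?_, ?_⟩
    · rw [map_add_eq, QuadraticMap.map_smul, hQuw, polar_smul_right, polar_add_right,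
        polar_comm Q y u, polar_comm Q y w, hy1, hy2]
      simp only [smul_eq_mul]
      field_simp
      ring
    · rw [polar_add_right, polar_smul_right, polar_add_right, hA, huw, hy1]
      simpa using ha0
    · rw [polar_add_right, polar_smul_right, polar_add_right, hA, polar_comm Q w u, huw, hy2]
      simp

/-- The group generated by reflections is transitive on vectors of a given nonzero norm. -/
theorem refl_trans [Fintype K] [FiniteDimensional K V] (Q : QuadraticForm K V) (h2 : (2 : K) = 0)
    (hQ : (polarBilin Q).Nondegenerate)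
    (hexc : Fintype.card K ≠ 2 ∨ finrank K V ≠ 4) (u w : V) (hu : Q u ≠ 0) (huw : Q u = Q w) :
    ∃ l : List V, (∀ z ∈ l, Q z ≠ 0) ∧ reflProd Q l u = w := by
  have hsub : ∀ x y : V, Q x = Q y → Q (x - y) = - polar Q x y := by
    intro x y hxy
    have := map_add_eq Q (x - y) y
    rw [sub_add_cancel, polar_sub_left, polar_self_mul, h2, zero_mul] at this
    linear_combination -this + hxy
  have key : ∀ x y : V, Q x = Q y → polar Q x y ≠ 0 →
      Q (x - y) ≠ 0 ∧ reflLin Q (x - y) x = y := by
    intro x y hxy hp
    have h1 : Q (x - y) ≠ 0 := by rw [hsub x y hxy]; exact neg_ne_zero.mpr hp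
    exact ⟨h1, reflLin_sub Q x y hxy h1⟩
  by_cases hne : u = w
  · exact ⟨[], by simp, by rw [reflProd_nil, hne]; rfl⟩
  by_cases hp : polar Q u w ≠ 0
  · obtain ⟨h1, h3⟩ := key u w huw hp
    refine ⟨[u - w], ?_, ?_⟩
    · intro z hz
      rw [List.mem_singleton] at hz
      rw [hz]; exact h1
    · rw [reflProd_cons, reflProd_nil, mul_one, h3]
  · simp only [not_not] at hp
    obtain ⟨z, hz, hz1, hz2⟩ := exists_mid Q h2 hQ hexc u w (Q u) hu rfl huw.symm hp hne
    obtain ⟨h1, h3⟩ := key u z hz.symm hz1
    obtain ⟨h4, h5⟩ := key z w (by rw [hz, huw]) (by rw [polar_comm]; exact hz2)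
    refine ⟨[z - w, u - z], ?_, ?_⟩
    · intro x hx
      rcases List.mem_cons.mp hx with rfl | hx
      · exact h4
      · rw [List.mem_singleton] at hx
        rw [hx]; exact h1
    · rw [reflProd_cons, reflProd_cons, reflProd_nil, mul_one, Module.End.mul_apply, h3, h5]

/-- **Cartan–Dieudonné** (weak form) in characteristic two over a finite field, excluding dimension
four over the field with two elements. -/
theorem cartan_dieudonne_char2 [Fintype K] [FiniteDimensional K V] (Q : QuadraticForm K V)
    (h2 : (2 : K) = 0) (hQ : (polarBilin Q).Nondegenerate)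
    (hexc : Fintype.card K ≠ 2 ∨ finrank K V ≠ 4) (g : V →ₗ[K] V) (hg : ∀ x, Q (g x) = Q x) :
    ∃ l : List V, (∀ z ∈ l, Q z ≠ 0) ∧ g = reflProd Q l := by
  by_cases hsub : Subsingleton V
  · refine ⟨[], by simp, ?_⟩
    apply LinearMap.ext
    intro x
    exact Subsingleton.elim _ _
  · rw [not_subsingleton_iff_nontrivial] at hsub
    obtain ⟨v, hv⟩ := exists_Q_ne_zero Q hQ
    obtain ⟨l₁, hl₁, e₁⟩ := refl_trans Q h2 hQ hexc (g v) v (by rw [hg]; exact hv) (hg v)
    obtain ⟨l₂, hl₂, e₂⟩ := stab_gen Q h2 hQ v hv (reflProd Q l₁ * g)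
      (fun x => by rw [Module.End.mul_apply, Q_reflProd Q l₁ hl₁, hg])
      (by rw [Module.End.mul_apply, e₁])
    refine ⟨l₁.reverse ++ l₂, ?_, ?_⟩
    · intro z hz
      rcases List.mem_append.mp hz with hz | hz
      · exact hl₁ z (List.mem_reverse.mp hz)
      · exact hl₂ z hz
    · rw [reflProd_append, ← e₂, ← mul_assoc, reflProd_reverse_mul Q l₁ hl₁, one_mul]

end Char2Trans

end Cfsg.Agent.Helper44
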