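import Mathlib
import Cfsg.Agent.Lib.Helper43.QuadBasic
import Cfsg.Agent.Lib.Helper44.CartanDieudonne
import Cfsg.Agent.Lib.Helper44.CDChar2

set_option autoImplicit false

namespace Cfsg.Agent.Helper44

open Module QuadraticMap Cfsg.Agent.Helper43

section Parity

variable {K : Type*} [Field K] {V : Type*} [AddCommGroup V] [Module K V]

/-- The fixed space of an endomorphism. -/
def fixSp (g : V →ₗ[K] V) : Submodule K V := LinearMap.ker (g - LinearMap.id)

theorem mem_fixSp (g : V →ₗ[K] V) (x : V) : x ∈ fixSp g ↔ g x = x := by
  unfold fixSp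
  rw [LinearMap.mem_ker, LinearMap.sub_apply, LinearMap.id_apply, sub_eq_zero]

theorem finrank_succ_of_extend [FiniteDimensional K V] (W' W : Submodule K V) (hle : W' ≤ W)
    (x₀ : V) (hx₀ : x₀ ∈ W) (hx₀' : x₀ ∉ W') (hspan : ∀ x ∈ W, ∃ a : K, x - a • x₀ ∈ W') :
    finrank K W = finrank K W' + 1 := by
  have hx0 : x₀ ≠ 0 := by
    rintro rfl
    exact hx₀' (Submodule.zero_mem _)
  have hW : W = W' ⊔ Submodule.span K {x₀} := by
    apply le_antisymm
    · intro x hx
      obtain ⟨a, ha⟩ := hspan x hx
      have : x = (x - a • x₀) + a • x₀ := by abel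
      rw [this]
      exact Submodule.add_mem_sup ha
        (Submodule.smul_mem _ _ (Submodule.mem_span_singleton_self x₀))
    · apply sup_le hle
      rw [Submodule.span_le]
      intro x hx
      rw [Set.mem_singleton_iff] at hx
      rw [hx]; exact hx₀
  have hinf : W' ⊓ Submodule.span K {x₀} = ⊥ := by
    rw [Submodule.eq_bot_iff]
    intro x hx
    obtain ⟨hx1, hx2⟩ := Submodule.mem_inf.mp hx
    obtain ⟨a, rfl⟩ := Submodule.mem_span_singleton.mp hx2
    by_cases ha : a = 0
    · rw [ha, zero_smul]
    · exfalso
      apply hx₀'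
      have := Submodule.smul_mem W' a⁻¹ hx1
      rwa [smul_smul, inv_mul_cancel₀ ha, one_smul] at this
  have h1 := Submodule.finrank_sup_add_finrank_inf_eq W' (Submodule.span K {x₀})
  rw [hinf, finrank_bot, add_zero, finrank_span_singleton hx0, ← hW] at h1
  exact h1

theorem Q_sub_eq (Q : QuadraticForm K V) (a b : V) : Q (a - b) = Q a + Q b - polar Q a b := by
  have := map_add_eq Q (a - b) b
  rw [sub_add_cancel, polar_sub_left, polar_self_mul] at this
  linear_combination -this

/-- Multiplying an isometry by a reflection changes the dimension of the fixed space by exactly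
one. -/
theorem fix_flip [FiniteDimensional K V] (Q : QuadraticForm K V)
    (hQ : (polarBilin Q).Nondegenerate) (g : V →ₗ[K] V) (hg : ∀ x, Q (g x) = Q x) (v : V)
    (hv : Q v ≠ 0) :
    finrank K (fixSp (reflLin Q v * g)) = finrank K (fixSp g) + 1 ∨
      finrank K (fixSp g) = finrank K (fixSp (reflLin Q v * g)) + 1 := by
  have hpol := polar_map_of_isometry Q g hg
  have hv0 : v ≠ 0 := by
    rintro rfl
    exact hv (map_zero Q)
  have hrr : ∀ y, reflLin Q v (reflLin Q v y) = y := by
    intro y
    have := congrArg (fun f => f y) (reflLin_mul_self Q v hv)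
    simpa using this
  -- P1
  have P1 : ∀ y x, g x = x → polar Q (g y - y) x = 0 := by
    intro y x hx
    rw [polar_sub_left]
    have := hpol y x
    rw [hx] at this
    rw [this, sub_self]
  -- fixed points of r g
  have hrg : ∀ x, (reflLin Q v * g) x = x → g x - x = -(((Q v)⁻¹ * polar Q v x) • v) := by
    intro x hx
    rw [Module.End.mul_apply] at hx
    have h1 : g x = reflLin Q v x := by
      rw [← hx, hrr, hx]
    rw [h1, reflLin_apply]
    abel
  by_cases hA : ∃ x₀, g x₀ = x₀ ∧ polar Q v x₀ ≠ 0
  · right
    obtain ⟨x₀, hx₀, hpx₀⟩ := hA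
    have hfix : ∀ x, (reflLin Q v * g) x = x → g x = x ∧ polar Q v x = 0 := by
      intro x hx
      have h1 := hrg x hx
      have h2 := P1 x x₀ hx₀
      rw [h1, polar_neg_left, polar_smul_left, smul_eq_mul, neg_eq_zero] at h2
      have h3 : polar Q v x = 0 := by
        rcases mul_eq_zero.mp h2 with h | h
        · rcases mul_eq_zero.mp h with h | h
          · exact absurd h (inv_ne_zero hv)
          · exact h
        · exact absurd h hpx₀
      refine ⟨?_, h3⟩
      rw [h3, mul_zero, zero_smul, neg_zero] at h1
      exact sub_eq_zero.mp h1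
    apply finrank_succ_of_extend (fixSp (reflLin Q v * g)) (fixSp g) _ x₀
    · rw [mem_fixSp]; exact hx₀
    · intro h
      rw [mem_fixSp] at h
      exact hpx₀ (hfix x₀ h).2
    · intro x hx
      rw [mem_fixSp] at hx
      refine ⟨polar Q v x / polar Q v x₀, ?_⟩
      rw [mem_fixSp, Module.End.mul_apply, map_sub, map_smul, hx, hx₀]
      apply reflLin_of_polar_eq_zero
      rw [polar_sub_right, polar_smul_right, smul_eq_mul]
      field_simp
      ring
    · intro x hx
      rw [mem_fixSp] at hx ⊢
      exact (hfix x hx).1
  · left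
    simp only [not_exists, not_and, not_not] at hA
    -- v lies in the range of g - 1
    obtain ⟨y, hy⟩ : ∃ y, g y - y = v := by
      have hle : LinearMap.range (g - LinearMap.id) ≤
          LinearMap.BilinForm.orthogonal (polarBilin Q) (fixSp g) := by
        rintro z ⟨y, rfl⟩
        rw [LinearMap.BilinForm.mem_orthogonal_iff]
        intro x hx
        rw [mem_fixSp] at hx
        rw [polarBilin_apply_apply, polar_comm, LinearMap.sub_apply, LinearMap.id_apply]
        exact P1 y x hx
      have h1 := LinearMap.finrank_range_add_finrank_ker (g - LinearMap.id)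
      have h2 := LinearMap.BilinForm.finrank_orthogonal hQ (fixSp g)
      have h3 : finrank K (LinearMap.range (g - LinearMap.id)) =
          finrank K (LinearMap.BilinForm.orthogonal (polarBilin Q) (fixSp g)) := by
        unfold fixSp at h2 ⊢
        omega
      have h4 := Submodule.eq_of_le_of_finrank_eq hle h3
      have h5 : v ∈ LinearMap.BilinForm.orthogonal (polarBilin Q) (fixSp g) := by
        rw [LinearMap.BilinForm.mem_orthogonal_iff]
        intro x hx
        rw [mem_fixSp] at hx
        rw [polarBilin_apply_apply, polar_comm]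
        exact hA x hx
      rw [← h4] at h5
      obtain ⟨y, hy⟩ := h5
      exact ⟨y, by rw [← hy, LinearMap.sub_apply, LinearMap.id_apply]⟩
    have hgy : g y = y + v := by rw [← hy]; abel
    have hpvy : polar Q v y = -Q v := by
      have e1 : Q v = Q (g y) + Q y - polar Q (g y) y := by rw [← hy]; exact Q_sub_eq Q (g y) y
      rw [hg] at e1
      have e2 : polar Q v y = polar Q (g y) y - 2 * Q y := by
        rw [← hy, polar_sub_left, polar_self_mul]
      rw [e2]
      linear_combination e1
    apply finrank_succ_of_extend (fixSp g) (fixSp (reflLin Q v * g)) _ y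
    · rw [mem_fixSp, Module.End.mul_apply, hgy, map_add, reflLin_self Q v hv, reflLin_apply, hpvy]
      have : (Q v)⁻¹ * -Q v = -1 := by field_simp
      rw [this, neg_smul, one_smul]
      abel
    · intro h
      rw [mem_fixSp] at h
      apply hv0
      rw [← hy, h, sub_self]
    · intro x hx
      rw [mem_fixSp] at hx
      have h1 := hrg x hx
      refine ⟨-((Q v)⁻¹ * polar Q v x), ?_⟩
      rw [mem_fixSp, map_sub, map_smul, hgy]
      have h2 : g x = x + -(((Q v)⁻¹ * polar Q v x) • v) := by rw [← h1]; abel
      rw [h2, smul_add, neg_smul, neg_smul]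
      abel
    · intro x hx
      rw [mem_fixSp] at hx ⊢
      rw [Module.End.mul_apply, hx]
      exact reflLin_of_polar_eq_zero Q v x (hA x hx)

/-- The parity of the number of reflections in a product is determined by the product. -/
theorem fix_parity [FiniteDimensional K V] (Q : QuadraticForm K V)
    (hQ : (polarBilin Q).Nondegenerate) (l : List V) (hl : ∀ z ∈ l, Q z ≠ 0) :
    (finrank K (fixSp (reflProd Q l)) + l.length) % 2 = finrank K V % 2 := by
  induction l with
  | nil =>
    have : fixSp (reflProd Q ([] : List V)) = ⊤ := by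
      rw [eq_top_iff]
      intro x _
      rw [mem_fixSp, reflProd_nil, Module.End.one_apply]
    rw [this, finrank_top, List.length_nil, add_zero]
  | cons z l ih =>
    have ih' := ih (fun z' hz' => hl z' (List.mem_cons_of_mem _ hz'))
    have h1 := fix_flip Q hQ (reflProd Q l)
      (Q_reflProd Q l (fun z' hz' => hl z' (List.mem_cons_of_mem _ hz'))) z
      (hl z (List.mem_cons_self ..))
    rw [reflProd_cons, List.length_cons]
    omega

/-- Two lists of reflections with the same product have lengths of the same parity. -/
theorem length_parity_of_reflProd_eq [FiniteDimensional K V] (Q : QuadraticForm K V)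
    (hQ : (polarBilin Q).Nondegenerate) (l l' : List V) (hl : ∀ z ∈ l, Q z ≠ 0)
    (hl' : ∀ z ∈ l', Q z ≠ 0) (h : reflProd Q l = reflProd Q l') :
    l.length % 2 = l'.length % 2 := by
  have h1 := fix_parity Q hQ l hl
  have h2 := fix_parity Q hQ l' hl'
  rw [h] at h1
  omega

end Parity

end Cfsg.Agent.Helper44
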