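import Mathlib
import Cfsg.Agent.Lib.Helper42.SemiConj8

set_option autoImplicit false
set_option linter.unusedSectionVars false

/-!
The involution `f ↦ f*` ("inverse roots") on the monic irreducible factors of `X ^ r - 1`
over a finite field, and its effect on the primary dimensions of `g⁻¹ = g ^ (r - 1)`.
-/

namespace Cfsg.Agent.Helper44.StarInv

open Polynomial Module
open Cfsg.Agent.Helper42.SemiConj

universe u

section star

variable {F : Type u} [Field F] [Fintype F] {p : ℕ} [Fact p.Prime] [CharP F p]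

lemma powFactors_monic (r : ℕ) (f : F[X]) (hf : f ∈ powFactors F r) : f.Monic := by
  classical
  unfold powFactors at hf
  rcases Finset.mem_insert.mp hf with h | h
  · rw [h]
    have h1 : (X - 1 : F[X]) = X - C 1 := by rw [map_one]
    rw [h1]; exact monic_X_sub_C 1
  · have := cyc_normalize r f h
    rw [← this]; exact Polynomial.monic_normalize (cyc_irr r f h).ne_zero

lemma powFactors_dvd (r : ℕ) (hr : r.Prime) (hrp : r ≠ p) (f : F[X]) (hf : f ∈ powFactors F r) :
    f ∣ X ^ r - 1 := by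
  rw [← powFactors_prod r hr hrp]; exact Finset.dvd_prod_of_mem _ hf

lemma mem_powFactors_of_dvd (r : ℕ) (hr : r.Prime) (hrp : r ≠ p) (g : F[X]) (hg : Irreducible g)
    (hm : g.Monic) (hd : g ∣ X ^ r - 1) : g ∈ powFactors F r := by
  rw [← powFactors_prod r hr hrp] at hd
  obtain ⟨f, hf, hgf⟩ := (Prime.dvd_finsetProd_iff hg.prime _).mp hd
  have hass : Associated g f := hg.associated_of_dvd (powFactors_irr r f hf) hgf
  have : g = f := Polynomial.eq_of_monic_of_associated hm (powFactors_monic r f hf) hass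
  rw [this]; exact hf

lemma mem_cyc_of_mem_pow (r : ℕ) (f : F[X]) (hf : f ∈ powFactors F r) (hne : f ≠ X - 1) :
    f ∈ cycFactors F r := by
  classical
  unfold powFactors at hf
  rcases Finset.mem_insert.mp hf with h | h
  · exact absurd h hne
  · exact h

lemma mem_pow_of_mem_cyc (r : ℕ) (f : F[X]) (hf : f ∈ cycFactors F r) : f ∈ powFactors F r := by
  classical
  unfold powFactors
  exact Finset.mem_insert_of_mem hf

/-- the polynomial of the inverse roots -/
noncomputable def star (r : ℕ) (f : F[X]) : F[X] := minpoly F ((AdjoinRoot.root f) ^ (r - 1))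

lemma root_pow (r : ℕ) (f : F[X]) (hf : f ∣ X ^ r - 1) : (AdjoinRoot.root f) ^ r = 1 := by
  have h : AdjoinRoot.mk f (X ^ r - 1) = 0 := AdjoinRoot.mk_eq_zero.mpr hf
  rw [map_sub, map_pow, AdjoinRoot.mk_X, map_one, sub_eq_zero] at h
  exact h

lemma sq_pred (r : ℕ) (hr : 2 ≤ r) : (r - 1) * (r - 1) = r * (r - 2) + 1 := by
  obtain ⟨k, rfl⟩ : ∃ k, r = k + 2 := ⟨r - 2, by omega⟩
  simp only [Nat.add_sub_cancel]
  have : k + 2 - 1 = k + 1 := by omega
  rw [this]; ring

lemma root_pow_pred_pow (r : ℕ) (hr : 2 ≤ r) (f : F[X]) (hf : f ∣ X ^ r - 1) :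
    ((AdjoinRoot.root f) ^ (r - 1)) ^ (r - 1) = AdjoinRoot.root f := by
  rw [← pow_mul, sq_pred r hr, pow_succ, pow_mul, root_pow r f hf, one_pow, one_mul]

lemma star_mem (r : ℕ) (hr : r.Prime) (hrp : r ≠ p) (f : F[X]) (hf : f ∈ powFactors F r) :
    star r f ∈ powFactors F r := by
  have hirr := powFactors_irr r f hf
  have : Fact (Irreducible f) := ⟨hirr⟩
  have hfin : Module.Finite F (AdjoinRoot f) := (AdjoinRoot.powerBasis hirr.ne_zero).finite
  have hint : IsIntegral F ((AdjoinRoot.root f) ^ (r - 1)) := Algebra.IsIntegral.isIntegral _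
  apply mem_powFactors_of_dvd r hr hrp
  · exact minpoly.irreducible hint
  · exact minpoly.monic hint
  · apply minpoly.dvd
    rw [map_sub, map_pow, aeval_X, map_one, ← pow_mul, mul_comm, pow_mul,
      root_pow r f (powFactors_dvd r hr hrp f hf), one_pow, sub_self]

lemma dvd_star_comp (r : ℕ) (f : F[X]) : f ∣ (star r f).comp (X ^ (r - 1)) := by
  rw [← AdjoinRoot.mk_eq_zero, ← AdjoinRoot.aeval_eq, aeval_comp, map_pow, aeval_X]
  exact minpoly.aeval F _

lemma star_star (r : ℕ) (hr : r.Prime) (hrp : r ≠ p) (f : F[X]) (hf : f ∈ powFactors F r) :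
    star r (star r f) = f := by
  have hirr := powFactors_irr r f hf
  have : Fact (Irreducible f) := ⟨hirr⟩
  have hg := star_mem r hr hrp f hf
  have hgirr := powFactors_irr r _ hg
  have : Fact (Irreducible (star r f)) := ⟨hgirr⟩
  have h0 : (star r f).eval₂ (Algebra.ofId F (AdjoinRoot f)) ((AdjoinRoot.root f) ^ (r - 1)) = 0 := by
    have := minpoly.aeval F ((AdjoinRoot.root f) ^ (r - 1))
    rw [aeval_def] at this
    exact this
  let φ : AdjoinRoot (star r f) →ₐ[F] AdjoinRoot f :=
    AdjoinRoot.liftAlgHom (star r f) (Algebra.ofId F (AdjoinRoot f)) ((AdjoinRoot.root f) ^ (r - 1)) h0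
  have hφ : φ (AdjoinRoot.root (star r f)) = (AdjoinRoot.root f) ^ (r - 1) :=
    AdjoinRoot.liftAlgHom_root _ _ _ h0
  have hinj : Function.Injective φ := φ.toRingHom.injective
  have h1 := minpoly.algHom_eq φ hinj ((AdjoinRoot.root (star r f)) ^ (r - 1))
  have h2 : φ ((AdjoinRoot.root (star r f)) ^ (r - 1)) = AdjoinRoot.root f := by
    rw [map_pow, hφ]
    exact root_pow_pred_pow r hr.two_le f (powFactors_dvd r hr hrp f hf)
  show minpoly F ((AdjoinRoot.root (star r f)) ^ (r - 1)) = f
  rw [← h1, h2, AdjoinRoot.minpoly_root hirr.ne_zero, (powFactors_monic r f hf).leadingCoeff,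
    inv_one, map_one, mul_one]

lemma ker_le_star {V : Type*} [AddCommGroup V] [Module F V] (G : V →ₗ[F] V) (r : ℕ) (f : F[X]) :
    LinearMap.ker (aeval G f) ≤ LinearMap.ker (aeval (G ^ (r - 1)) (star r f)) := by
  obtain ⟨c, hc⟩ := dvd_star_comp r f
  intro v hv
  rw [LinearMap.mem_ker] at hv ⊢
  have h1 : aeval (G ^ (r - 1)) (star r f) = aeval G ((star r f).comp (X ^ (r - 1))) := by
    rw [aeval_comp, map_pow, aeval_X]
  rw [h1, hc, mul_comm, map_mul, Module.End.mul_apply, hv, map_zero]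

lemma ker_star_eq {V : Type*} [AddCommGroup V] [Module F V] (G : V →ₗ[F] V) (r : ℕ)
    (hr : r.Prime) (hrp : r ≠ p) (hG : G ^ r = 1) (f : F[X]) (hf : f ∈ powFactors F r) :
    LinearMap.ker (aeval (G ^ (r - 1)) (star r f)) = LinearMap.ker (aeval G f) := by
  apply le_antisymm
  · have h1 := ker_le_star (G ^ (r - 1)) r (star r f)
    rw [star_star r hr hrp f hf, ← pow_mul, sq_pred r hr.two_le, pow_succ, pow_mul, hG, one_pow,
      one_mul] at h1
    exact h1
  · exact ker_le_star G r f

lemma star_eq_self_iff (r : ℕ) (f : F[X]) (hirr : Irreducible f) (hm : f.Monic) :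
    star r f = f ↔ aeval ((AdjoinRoot.root f) ^ (r - 1)) f = 0 := by
  constructor
  · intro h
    have := minpoly.aeval F ((AdjoinRoot.root f) ^ (r - 1))
    unfold star at h
    rw [h] at this
    exact this
  · intro h
    have : Fact (Irreducible f) := ⟨hirr⟩
    exact (minpoly.eq_of_irreducible_of_monic hirr h hm).symm

lemma root_ne_one (r : ℕ) (hr : r.Prime) (hrp : r ≠ p) (f : F[X]) (hf : f ∈ cycFactors F r) :
    AdjoinRoot.root f ≠ 1 := by
  intro h
  have h1 : AdjoinRoot.mk f (X - 1) = 0 := by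
    rw [map_sub, AdjoinRoot.mk_X, map_one, h, sub_self]
  rw [AdjoinRoot.mk_eq_zero] at h1
  have hass : Associated f (X - 1) := (cyc_irr r f hf).associated_of_dvd X_sub_one_irr h1
  exact X_sub_one_not_dvd_cyc r hr hrp (hass.symm.dvd.trans (cyc_dvd r f hf))

lemma star_eq_self_of_even (r : ℕ) (hr : r.Prime) (hrp : r ≠ p) (f : F[X])
    (hf : f ∈ cycFactors F r) (hev : Even (orderOf ((Fintype.card F : ℕ) : ZMod r))) :
    star r f = f := by
  have hfp := mem_pow_of_mem_cyc r f hf
  have hirr := cyc_irr r f hf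
  have : Fact (Irreducible f) := ⟨hirr⟩
  have : Fact r.Prime := ⟨hr⟩
  rw [star_eq_self_iff r f hirr (powFactors_monic r f hfp)]
  obtain ⟨k, hk⟩ := hev
  set q := Fintype.card F with hq
  have hkpos : 0 < k := by
    rcases Nat.eq_zero_or_pos k with h | h
    · exfalso
      rw [h, add_zero] at hk
      have h1 := cyc_natDegree r hr hrp f hf
      rw [hk] at h1
      have := Polynomial.natDegree_pos_iff_degree_pos.mpr (Polynomial.degree_pos_of_irreducible hirr)
      omega
    · exact h
  have hx2 : ((q : ZMod r) ^ k) * ((q : ZMod r) ^ k) = 1 := by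
    rw [← pow_add, ← hk]; exact pow_orderOf_eq_one _
  have hx1 : (q : ZMod r) ^ k ≠ 1 := by
    intro h
    have := orderOf_dvd_of_pow_eq_one h
    have := Nat.le_of_dvd hkpos this
    omega
  have hxm : (q : ZMod r) ^ k = -1 := by
    rcases mul_self_eq_one_iff.mp hx2 with h | h
    · exact absurd h hx1
    · exact h
  have hdvd : r ∣ q ^ k + 1 := by
    rw [← ZMod.natCast_eq_zero_iff]
    push_cast
    rw [hxm]; ring
  have hroot := root_pow r f (powFactors_dvd r hr hrp f hfp)
  have h1 : (AdjoinRoot.root f) ^ (q ^ k) * AdjoinRoot.root f = 1 := by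
    rw [← pow_succ]
    obtain ⟨c, hc⟩ := hdvd
    rw [hc, pow_mul, hroot, one_pow]
  have h2 : (AdjoinRoot.root f) ^ (r - 1) * AdjoinRoot.root f = 1 := by
    rw [← pow_succ, Nat.sub_add_cancel hr.one_le, hroot]
  have hne : AdjoinRoot.root f ≠ 0 := by
    intro h0
    rw [h0, zero_pow hr.ne_zero] at hroot
    exact zero_ne_one hroot
  have h3 : (AdjoinRoot.root f) ^ (r - 1) = (AdjoinRoot.root f) ^ (q ^ k) :=
    mul_right_cancel₀ hne (h2.trans h1.symm)
  rw [h3]
  let φ := FiniteField.frobeniusAlgHom F (AdjoinRoot f)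
  have hφ : ∀ x : AdjoinRoot f, (φ ^ k) x = x ^ (q ^ k) := by
    intro x
    rw [AlgHom.coe_pow, FiniteField.coe_frobeniusAlgHom, pow_iterate]
  rw [← hφ, Polynomial.aeval_algHom_apply, AdjoinRoot.aeval_eq, AdjoinRoot.mk_self, map_zero]

lemma star_ne_self_of_odd (r : ℕ) (hr : r.Prime) (hr2 : r ≠ 2) (hrp : r ≠ p) (f : F[X])
    (hf : f ∈ cycFactors F r) (hodd : Odd (orderOf ((Fintype.card F : ℕ) : ZMod r))) :
    star r f ≠ f := by
  intro hst
  have hfp := mem_pow_of_mem_cyc r f hf
  have hirr := cyc_irr r f hf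
  have : Fact (Irreducible f) := ⟨hirr⟩
  have hdvd := powFactors_dvd r hr hrp f hfp
  have hroot := root_pow r f hdvd
  rw [star_eq_self_iff r f hirr (powFactors_monic r f hfp)] at hst
  have h0 : f.eval₂ (Algebra.ofId F (AdjoinRoot f)) ((AdjoinRoot.root f) ^ (r - 1)) = 0 := by
    rw [aeval_def] at hst
    exact hst
  let σ : AdjoinRoot f →ₐ[F] AdjoinRoot f :=
    AdjoinRoot.liftAlgHom f (Algebra.ofId F (AdjoinRoot f)) ((AdjoinRoot.root f) ^ (r - 1)) h0
  have hσ : σ (AdjoinRoot.root f) = (AdjoinRoot.root f) ^ (r - 1) :=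
    AdjoinRoot.liftAlgHom_root _ _ _ h0
  have hσσ : σ.comp σ = AlgHom.id F (AdjoinRoot f) := by
    apply AdjoinRoot.algHom_ext
    rw [AlgHom.comp_apply, hσ, map_pow, hσ, root_pow_pred_pow r hr.two_le f hdvd]
    rfl
  let e : AdjoinRoot f ≃ₐ[F] AdjoinRoot f := AlgEquiv.ofAlgHom σ σ hσσ hσσ
  have he2 : e ^ 2 = 1 := by
    apply AlgEquiv.ext
    intro x
    rw [pow_two]
    show σ (σ x) = x
    have := AlgHom.congr_fun hσσ x
    exact this
  have he1 : e ≠ 1 := by
    intro h
    have h1 : e (AdjoinRoot.root f) = AdjoinRoot.root f := by rw [h]; rfl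
    have h2 : (AdjoinRoot.root f) ^ (r - 1) = AdjoinRoot.root f := hσ.symm.trans h1
    have h3 : (AdjoinRoot.root f) ^ 2 = 1 := by
      have : (AdjoinRoot.root f) ^ (r - 1) * AdjoinRoot.root f = 1 := by
        rw [← pow_succ, Nat.sub_add_cancel hr.one_le, hroot]
      rw [h2] at this
      rw [pow_two]; exact this
    obtain ⟨k, hk⟩ : ∃ k, r = 2 * k + 1 := by
      rcases hr.eq_two_or_odd with h | h
      · exact absurd h hr2
      · exact ⟨r / 2, by omega⟩
    have h4 : AdjoinRoot.root f = 1 := by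
      have := hroot
      rw [hk, pow_succ, pow_mul, h3, one_pow, one_mul] at this
      exact this
    exact root_ne_one r hr hrp f hf h4
  have hord : orderOf e = 2 := orderOf_eq_prime he2 he1
  have hfin : Module.Finite F (AdjoinRoot f) := (AdjoinRoot.powerBasis hirr.ne_zero).finite
  have : Finite (AdjoinRoot f) := Module.finite_of_finite F
  have hcard : Nat.card (AdjoinRoot f ≃ₐ[F] AdjoinRoot f) = finrank F (AdjoinRoot f) :=
    IsGalois.card_aut_eq_finrank F (AdjoinRoot f)
  have hdeg : finrank F (AdjoinRoot f) = f.natDegree := by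
    rw [(AdjoinRoot.powerBasis hirr.ne_zero).finrank, AdjoinRoot.powerBasis_dim]
  have h2dvd : 2 ∣ f.natDegree := by
    rw [← hdeg, ← hcard, ← hord]
    exact orderOf_dvd_natCard e
  rw [cyc_natDegree r hr hrp f hf] at h2dvd
  obtain ⟨k, hk⟩ := hodd
  omega

lemma natDegree_star_le (r : ℕ) (f : F[X]) (hirr : Irreducible f) :
    (star r f).natDegree ≤ f.natDegree := by
  have : Fact (Irreducible f) := ⟨hirr⟩
  have hfin : Module.Finite F (AdjoinRoot f) := (AdjoinRoot.powerBasis hirr.ne_zero).finite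
  have h1 := minpoly.natDegree_le (A := F) ((AdjoinRoot.root f) ^ (r - 1))
  have hdeg : finrank F (AdjoinRoot f) = f.natDegree := by
    rw [(AdjoinRoot.powerBasis hirr.ne_zero).finrank, AdjoinRoot.powerBasis_dim]
  rw [hdeg] at h1
  exact h1

lemma natDegree_star (r : ℕ) (hr : r.Prime) (hrp : r ≠ p) (f : F[X]) (hf : f ∈ powFactors F r) :
    (star r f).natDegree = f.natDegree := by
  apply le_antisymm (natDegree_star_le r f (powFactors_irr r f hf))
  have hs := star_mem r hr hrp f hf
  have := natDegree_star_le r (star r f) (powFactors_irr r _ hs)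
  rw [star_star r hr hrp f hf] at this
  exact this

lemma X_sub_one_monic : (X - 1 : F[X]).Monic := by
  have h1 : (X - 1 : F[X]) = X - C 1 := by rw [map_one]
  rw [h1]; exact monic_X_sub_C 1

lemma star_X_sub_one (r : ℕ) : star r (X - 1 : F[X]) = X - 1 := by
  rw [star_eq_self_iff r _ X_sub_one_irr X_sub_one_monic]
  have h1 : AdjoinRoot.root (X - 1 : F[X]) = 1 := by
    have h : AdjoinRoot.mk (X - 1 : F[X]) (X - 1) = 0 := AdjoinRoot.mk_self
    rw [map_sub, AdjoinRoot.mk_X, map_one, sub_eq_zero] at h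
    exact h
  rw [h1, one_pow, map_sub, aeval_X, map_one, sub_self]

lemma X_sub_one_mem_pow (r : ℕ) : (X - 1 : F[X]) ∈ powFactors F r := by
  classical
  unfold powFactors
  exact Finset.mem_insert_self _ _

lemma star_mem_cyc (r : ℕ) (hr : r.Prime) (hrp : r ≠ p) (f : F[X]) (hf : f ∈ cycFactors F r) :
    star r f ∈ cycFactors F r := by
  have hfp := mem_pow_of_mem_cyc r f hf
  apply mem_cyc_of_mem_pow r _ (star_mem r hr hrp f hfp)
  intro h
  have h1 := star_star r hr hrp f hfp
  rw [h, star_X_sub_one] at h1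
  rw [← h1] at hf
  exact X_sub_one_notMem_cyc r hr hrp hf

end star

end Cfsg.Agent.Helper44.StarInv
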