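import Mathlib
import Cfsg.Agent.Lib.Helper44.StarInv

set_option autoImplicit false
set_option linter.unusedSectionVars false

/-!
Primary dimensions `kdi A f = dim ker f(A)` for square matrices over an arbitrary finite index
type, conjugacy from equal primary dimensions, behaviour under transpose, inverse (`star`) and
change of basis.
-/

namespace Cfsg.Agent.Helper44.StarInv

open Polynomial Module Matrix
open Cfsg.Agent.Helper42.SemiConj

universe u

section kdi

variable {F : Type u} [Field F] [Fintype F] {ι : Type} [Fintype ι] [DecidableEq ι]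

/-- the dimension of the `f`-primary component of a matrix -/
noncomputable def kdi (A : Matrix ι ι F) (f : F[X]) : ℕ :=
  finrank F (LinearMap.ker (aeval (Matrix.toLin' A) f))

lemma aeval_toLin_i (A : Matrix ι ι F) (q : F[X]) :
    aeval (Matrix.toLin' A) q = Matrix.toLin' (aeval A q) := by
  have := Polynomial.aeval_algHom_apply (Matrix.toLinAlgEquiv' (R := F) (n := ι)) A q
  exact this

lemma toLin_pow_i (A : Matrix ι ι F) (k : ℕ) :
    Matrix.toLin' (A ^ k) = (Matrix.toLin' A) ^ k := by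
  have := map_pow (Matrix.toLinAlgEquiv' (R := F) (n := ι)) A k
  exact this

lemma aeval_toLin_i_eq_zero_iff (A : Matrix ι ι F) (q : F[X]) :
    aeval (Matrix.toLin' A) q = 0 ↔ aeval A q = 0 := by
  rw [aeval_toLin_i]
  constructor
  · intro h
    apply Matrix.toLin'.injective
    rw [h, map_zero]
  · intro h
    rw [h, map_zero]

lemma kdi_add_rank (A : Matrix ι ι F) (f : F[X]) :
    kdi A f + (aeval A f).rank = Fintype.card ι := by
  unfold kdi
  rw [aeval_toLin_i, Matrix.rank, Matrix.toLin'_apply', add_comm,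
    LinearMap.finrank_range_add_finrank_ker, Module.finrank_fintype_fun_eq_card]

lemma aeval_transpose_i (A : Matrix ι ι F) (q : F[X]) : aeval Aᵀ q = (aeval A q)ᵀ := by
  rw [aeval_eq_sum_range, aeval_eq_sum_range, Matrix.transpose_sum]
  apply Finset.sum_congr rfl
  intro i _
  rw [Matrix.transpose_smul, Matrix.transpose_pow]

lemma kdi_transpose (A : Matrix ι ι F) (f : F[X]) : kdi Aᵀ f = kdi A f := by
  have h1 := kdi_add_rank Aᵀ f
  have h2 := kdi_add_rank A f
  rw [aeval_transpose_i, Matrix.rank_transpose] at h1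
  omega

lemma kdi_eq_of_conj (A B : Matrix ι ι F) (P : (Matrix ι ι F)ˣ)
    (hP : P.val * A = B * P.val) (f : F[X]) : kdi A f = kdi B f := by
  let T : (ι → F) ≃ₗ[F] (ι → F) :=
    LinearEquiv.ofLinear (Matrix.toLin' P.val) (Matrix.toLin' P⁻¹.val)
      (by rw [← Matrix.toLin'_mul, ← Units.val_mul, mul_inv_cancel, Units.val_one, Matrix.toLin'_one])
      (by rw [← Matrix.toLin'_mul, ← Units.val_mul, inv_mul_cancel, Units.val_one, Matrix.toLin'_one])
  apply finrank_ker_aeval_eq_of_conj T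
  intro v
  show Matrix.toLin' P.val (Matrix.toLin' A v) = Matrix.toLin' B (Matrix.toLin' P.val v)
  rw [← LinearMap.comp_apply, ← Matrix.toLin'_mul, hP, Matrix.toLin'_mul, LinearMap.comp_apply]

lemma kdi_eq_of_isConj (A B : Matrix ι ι F) (h : IsConj A B) (f : F[X]) : kdi A f = kdi B f := by
  obtain ⟨c, hc⟩ := h
  exact kdi_eq_of_conj A B c hc f

theorem isConj_of_kdi_eq (S : Finset F[X]) (hirr : ∀ f ∈ S, Irreducible f)
    (hcop : (S : Set F[X]).Pairwise IsCoprime) (A B : Matrix ι ι F)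
    (hA : aeval A (∏ f ∈ S, f) = 0) (hB : aeval B (∏ f ∈ S, f) = 0)
    (hk : ∀ f ∈ S, kdi A f = kdi B f) : IsConj A B := by
  obtain ⟨T, hT⟩ := exists_conj_of_prod S (ι → F) (ι → F) (Matrix.toLin' A) (Matrix.toLin' B)
    hirr hcop ((aeval_toLin_i_eq_zero_iff A _).mpr hA) ((aeval_toLin_i_eq_zero_iff B _).mpr hB) hk
  have h1 : LinearMap.toMatrix' (T : (ι → F) →ₗ[F] (ι → F)) *
      LinearMap.toMatrix' (T.symm : (ι → F) →ₗ[F] (ι → F)) = 1 := by
    rw [← LinearMap.toMatrix'_comp, LinearEquiv.comp_symm, LinearMap.toMatrix'_id]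
  have h2 : LinearMap.toMatrix' (T.symm : (ι → F) →ₗ[F] (ι → F)) *
      LinearMap.toMatrix' (T : (ι → F) →ₗ[F] (ι → F)) = 1 := by
    rw [← LinearMap.toMatrix'_comp, LinearEquiv.symm_comp, LinearMap.toMatrix'_id]
  refine ⟨⟨LinearMap.toMatrix' (T : (ι → F) →ₗ[F] (ι → F)),
    LinearMap.toMatrix' (T.symm : (ι → F) →ₗ[F] (ι → F)), h1, h2⟩, ?_⟩
  show LinearMap.toMatrix' (T : (ι → F) →ₗ[F] (ι → F)) * A =
    B * LinearMap.toMatrix' (T : (ι → F) →ₗ[F] (ι → F))
  apply Matrix.toLin'.injective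
  rw [Matrix.toLin'_mul, Matrix.toLin'_mul, Matrix.toLin'_toMatrix']
  apply LinearMap.ext
  intro v
  exact hT v

theorem sum_kdi (S : Finset F[X]) (hcop : (S : Set F[X]).Pairwise IsCoprime)
    (A : Matrix ι ι F) (hA : aeval A (∏ f ∈ S, f) = 0) :
    ∑ f ∈ S, kdi A f = Fintype.card ι := by
  have := finrank_eq_sum_ker S (ι → F) (Matrix.toLin' A) hcop
    ((aeval_toLin_i_eq_zero_iff A _).mpr hA)
  rw [Module.finrank_fintype_fun_eq_card] at this
  exact this.symm

theorem natDegree_dvd_kdi (A : Matrix ι ι F) (f : F[X]) (hirr : Irreducible f) :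
    f.natDegree ∣ kdi A f :=
  natDegree_dvd_finrank_ker (Matrix.toLin' A) f hirr

variable {p : ℕ} [Fact p.Prime] [CharP F p]

theorem kdi_star (A : Matrix ι ι F) (r : ℕ) (hr : r.Prime) (hrp : r ≠ p) (hA : A ^ r = 1)
    (f : F[X]) (hf : f ∈ powFactors F r) : kdi (A ^ (r - 1)) (star r f) = kdi A f := by
  unfold kdi
  rw [toLin_pow_i, ker_star_eq (Matrix.toLin' A) r hr hrp _ f hf]
  rw [← toLin_pow_i, hA, Matrix.toLin'_one]
  rfl

/-- the matrix of an endomorphism in a basis has the same primary dimensions -/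
theorem kdi_toMatrix {W : Type*} [AddCommGroup W] [Module F W] (b : Basis ι F W)
    (G : W →ₗ[F] W) (f : F[X]) :
    kdi (LinearMap.toMatrix b b G) f = finrank F (LinearMap.ker (aeval G f)) := by
  unfold kdi
  symm
  apply finrank_ker_aeval_eq_of_conj b.equivFun G
  intro w
  show b.equivFun (G w) = Matrix.toLin' (LinearMap.toMatrix b b G) (b.equivFun w)
  rw [Matrix.toLin'_apply]
  exact (LinearMap.toMatrix_mulVec_repr b b G w).symm

theorem toMatrix_pow_i {W : Type*} [AddCommGroup W] [Module F W] (b : Basis ι F W)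
    (G : W →ₗ[F] W) (k : ℕ) :
    (LinearMap.toMatrix b b G) ^ k = LinearMap.toMatrix b b (G ^ k) := by
  have := map_pow (LinearMap.toMatrixAlgEquiv b) G k
  exact this.symm

end kdi

end Cfsg.Agent.Helper44.StarInv
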