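import Mathlib
import Cfsg.Agent.Lib.Helper44.KdIdx

set_option autoImplicit false
set_option linter.unusedSectionVars false

/-!
Realisation of primary-dimension vectors by isometries of nondegenerate alternating spaces:
closure under orthogonal sums, hyperbolic pair blocks and self-dual (trace form) blocks.
-/

namespace Cfsg.Agent.Helper44.SpBlocks

open Polynomial Module
open Cfsg.Agent.Helper42.SemiConj Cfsg.Agent.Helper44.StarInv
open scoped Classical

universe u

section real

variable {F : Type u} [Field F] [Fintype F]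

/-- `d` is the vector of primary dimensions of an isometry, killed by `X ^ r - 1`, of some
nondegenerate alternating space -/
def SpReal (S : Finset F[X]) (r : ℕ) (d : F[X] → ℕ) : Prop :=
  ∃ (W : Type u) (_ : AddCommGroup W) (_ : Module F W) (_ : Module.Finite F W)
    (B : LinearMap.BilinForm F W) (G : W →ₗ[F] W),
    (∀ x, B x x = 0) ∧ (∀ x, (∀ y, B x y = 0) → x = 0) ∧ (∀ x y, B (G x) (G y) = B x y) ∧
    aeval G (X ^ r - 1 : F[X]) = 0 ∧ ∀ f ∈ S, finrank F (LinearMap.ker (aeval G f)) = d f

lemma spReal_zero (S : Finset F[X]) (r : ℕ) : SpReal S r (fun _ => 0) := by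
  refine ⟨PUnit, inferInstance, inferInstance, inferInstance, 0, 0, ?_, ?_, ?_, ?_, ?_⟩
  · intro x; rfl
  · intro x _; exact Subsingleton.elim _ _
  · intro x y; rfl
  · apply LinearMap.ext; intro v; exact Subsingleton.elim _ _
  · intro f _
    exact Module.finrank_zero_of_subsingleton

lemma spReal_congr (S : Finset F[X]) (r : ℕ) (d d' : F[X] → ℕ) (h : ∀ f ∈ S, d f = d' f)
    (hd : SpReal S r d) : SpReal S r d' := by
  obtain ⟨W, i1, i2, i3, B, G, h1, h2, h3, h4, h5⟩ := hd
  exact ⟨W, i1, i2, i3, B, G, h1, h2, h3, h4, fun f hf => (h5 f hf).trans (h f hf)⟩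

lemma spReal_add (S : Finset F[X]) (r : ℕ) (d₁ d₂ : F[X] → ℕ) (h₁ : SpReal S r d₁)
    (h₂ : SpReal S r d₂) : SpReal S r (fun f => d₁ f + d₂ f) := by
  obtain ⟨W₁, i1, i2, i3, B₁, G₁, a1, a2, a3, a4, a5⟩ := h₁
  obtain ⟨W₂, j1, j2, j3, B₂, G₂, b1, b2, b3, b4, b5⟩ := h₂
  let B : LinearMap.BilinForm F (W₁ × W₂) :=
    B₁.compl₁₂ (LinearMap.fst F W₁ W₂) (LinearMap.fst F W₁ W₂) +
      B₂.compl₁₂ (LinearMap.snd F W₁ W₂) (LinearMap.snd F W₁ W₂)
  have hB : ∀ x y : W₁ × W₂, B x y = B₁ x.1 y.1 + B₂ x.2 y.2 := by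
    intro x y
    simp only [B, LinearMap.add_apply, LinearMap.compl₁₂_apply, LinearMap.fst_apply,
      LinearMap.snd_apply]
  refine ⟨W₁ × W₂, inferInstance, inferInstance, inferInstance, B, G₁.prodMap G₂,
    ?_, ?_, ?_, ?_, ?_⟩
  · intro x
    rw [hB, a1, b1, add_zero]
  · intro x hx
    apply Prod.ext
    · apply a2
      intro y
      have := hx (y, 0)
      rw [hB] at this
      simpa using this
    · apply b2
      intro y
      have := hx (0, y)
      rw [hB] at this
      simpa using this
  · intro x y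
    rw [hB, hB]
    simp only [LinearMap.prodMap_apply]
    rw [a3, b3]
  · rw [aeval_prodMap, a4, b4]
    apply LinearMap.ext; intro x; rfl
  · intro f hf
    rw [finrank_ker_aeval_prodMap, a5 f hf, b5 f hf]

lemma spReal_nsmul (S : Finset F[X]) (r : ℕ) (d : F[X] → ℕ) (h : SpReal S r d) (k : ℕ) :
    SpReal S r (fun f => k * d f) := by
  induction k with
  | zero =>
    apply spReal_congr S r _ _ _ (spReal_zero S r)
    intro f _; simp
  | succ k ih =>
    apply spReal_congr S r _ _ _ (spReal_add S r _ _ ih h)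
    intro f _; ring

lemma spReal_sum (S : Finset F[X]) (r : ℕ) {α : Type*} (T : Finset α) (dd : α → F[X] → ℕ)
    (h : ∀ a ∈ T, SpReal S r (dd a)) : SpReal S r (fun f => ∑ a ∈ T, dd a f) := by
  classical
  induction T using Finset.induction_on with
  | empty =>
    apply spReal_congr S r _ _ _ (spReal_zero S r)
    intro f _; simp
  | insert a T' ha ih =>
    have h1 := ih (fun b hb => h b (Finset.mem_insert_of_mem hb))
    have h2 := h a (Finset.mem_insert_self a T')
    apply spReal_congr S r _ _ _ (spReal_add S r _ _ h2 h1)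
    intro f _
    rw [Finset.sum_insert ha]

end real

section blocks

variable {F : Type u} [Field F] [Fintype F] {p : ℕ} [Fact p.Prime] [CharP F p]

/-- the kernel of multiplication by a field element -/
lemma finrank_ker_lmul {K : Type*} [Field K] [Algebra F K] (a : K) :
    finrank F (LinearMap.ker (Algebra.lmul F K a)) = if a = 0 then finrank F K else 0 := by
  split_ifs with h
  · rw [h, map_zero, LinearMap.ker_zero, finrank_top]
  · have : LinearMap.ker (Algebra.lmul F K a) = ⊥ := by
      rw [LinearMap.ker_eq_bot']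
      intro m hm
      have hm' : a * m = 0 := hm
      rcases mul_eq_zero.mp hm' with h1 | h1
      · exact absurd h1 h
      · exact h1
    rw [this, finrank_bot]

lemma aeval_lmul {K : Type*} [Field K] [Algebra F K] (a : K) (q : F[X]) :
    aeval (Algebra.lmul F K a) q = Algebra.lmul F K (aeval a q) := by
  rw [Polynomial.aeval_algHom_apply]

lemma finrank_adjoinRoot (f : F[X]) (hirr : Irreducible f) :
    finrank F (AdjoinRoot f) = f.natDegree := by
  rw [(AdjoinRoot.powerBasis hirr.ne_zero).finrank, AdjoinRoot.powerBasis_dim]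

/-- primary dimensions of multiplication by the root -/
lemma finrank_ker_root (r : ℕ) (_hr : r.Prime) (_hrp : r ≠ p) (f h : F[X])
    (hf : f ∈ powFactors F r) (hh : h ∈ powFactors F r) :
    finrank F (LinearMap.ker (aeval (Algebra.lmul F (AdjoinRoot f) (AdjoinRoot.root f)) h)) =
      if h = f then f.natDegree else 0 := by
  have hirr := powFactors_irr r f hf
  split_ifs with he
  · rw [he]; exact finrank_ker_block_self f hirr
  · apply finrank_ker_block_other f h hirr
    intro hdvd
    have hass : Associated f h := hirr.associated_of_dvd (powFactors_irr r h hh) hdvd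
    exact he (Polynomial.eq_of_monic_of_associated (powFactors_monic r f hf)
      (powFactors_monic r h hh) hass).symm

/-- primary dimensions of multiplication by the inverse root -/
lemma finrank_ker_root_inv (r : ℕ) (hr : r.Prime) (hrp : r ≠ p) (f h : F[X])
    (hf : f ∈ powFactors F r) (hh : h ∈ powFactors F r) :
    finrank F (LinearMap.ker (aeval (Algebra.lmul F (AdjoinRoot f)
      ((AdjoinRoot.root f) ^ (r - 1))) h)) = if h = star r f then f.natDegree else 0 := by
  have hirr := powFactors_irr r f hf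
  have : Fact (Irreducible f) := ⟨hirr⟩
  rw [aeval_lmul, finrank_ker_lmul, finrank_adjoinRoot f hirr]
  by_cases he : h = star r f
  · rw [if_pos he, if_pos]
    rw [he]; exact minpoly.aeval F _
  · rw [if_neg he, if_neg]
    intro h0
    have hdvd : star r f ∣ h := minpoly.dvd F _ h0
    have hs := star_mem r hr hrp f hf
    have hass : Associated (star r f) h :=
      (powFactors_irr r _ hs).associated_of_dvd (powFactors_irr r h hh) hdvd
    exact he (Polynomial.eq_of_monic_of_associated (powFactors_monic r _ hs)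
      (powFactors_monic r h hh) hass).symm

/-- the hyperbolic pair block attached to `f` -/
theorem spReal_pair (r : ℕ) (hr : r.Prime) (hrp : r ≠ p) (f : F[X]) (hf : f ∈ powFactors F r) :
    SpReal (powFactors F r) r (fun h => (if h = f then f.natDegree else 0) +
      (if h = star r f then f.natDegree else 0)) := by
  have hirr := powFactors_irr r f hf
  have : Fact (Irreducible f) := ⟨hirr⟩
  have hfin : Module.Finite F (AdjoinRoot f) := (AdjoinRoot.powerBasis hirr.ne_zero).finite
  have hroot := root_pow r f (powFactors_dvd r hr hrp f hf)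
  set ρ := AdjoinRoot.root f with hρ
  let B : LinearMap.BilinForm F (AdjoinRoot f × AdjoinRoot f) :=
    LinearMap.mk₂ F (fun x y => Algebra.trace F (AdjoinRoot f) (x.1 * y.2) -
      Algebra.trace F (AdjoinRoot f) (x.2 * y.1))
      (by intro x x' y; simp only [Prod.fst_add, Prod.snd_add, add_mul, map_add]; ring)
      (by intro c x y; simp only [Prod.smul_fst, Prod.smul_snd, smul_mul_assoc, map_smul,
            smul_eq_mul]; ring)
      (by intro x y y'; simp only [Prod.fst_add, Prod.snd_add, mul_add, map_add]; ring)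
      (by intro c x y; simp only [Prod.smul_fst, Prod.smul_snd, mul_smul_comm, map_smul,
            smul_eq_mul]; ring)
  have hB : ∀ x y, B x y = Algebra.trace F (AdjoinRoot f) (x.1 * y.2) -
      Algebra.trace F (AdjoinRoot f) (x.2 * y.1) := fun x y => rfl
  let G : (AdjoinRoot f × AdjoinRoot f) →ₗ[F] (AdjoinRoot f × AdjoinRoot f) :=
    (Algebra.lmul F (AdjoinRoot f) ρ).prodMap (Algebra.lmul F (AdjoinRoot f) (ρ ^ (r - 1)))
  have hG : ∀ x, G x = (ρ * x.1, ρ ^ (r - 1) * x.2) := fun x => rfl
  have hinv : ρ * ρ ^ (r - 1) = 1 := by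
    rw [← pow_succ', Nat.sub_add_cancel hr.one_le, hroot]
  have hnd := (_root_.traceForm_nondegenerate F (AdjoinRoot f)).1
  refine ⟨AdjoinRoot f × AdjoinRoot f, inferInstance, inferInstance, inferInstance, B, G,
    ?_, ?_, ?_, ?_, ?_⟩
  · intro x
    rw [hB, mul_comm, sub_self]
  · intro x hx
    apply Prod.ext
    · apply hnd
      intro z
      have := hx (0, z)
      rw [hB] at this
      simpa [Algebra.traceForm_apply] using this
    · apply hnd
      intro z
      have := hx (z, 0)
      rw [hB] at this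
      simp only [mul_zero, map_zero, zero_sub, neg_eq_zero] at this
      rw [Algebra.traceForm_apply]
      exact this
  · intro x y
    rw [hB, hB, hG, hG]
    have e1 : ρ * x.1 * (ρ ^ (r - 1) * y.2) = (ρ * ρ ^ (r - 1)) * (x.1 * y.2) := by ring
    have e2 : ρ ^ (r - 1) * x.2 * (ρ * y.1) = (ρ * ρ ^ (r - 1)) * (x.2 * y.1) := by ring
    simp only [e1, e2, hinv, one_mul]
  · rw [aeval_prodMap, aeval_lmul, aeval_lmul]
    have h1 : aeval ρ (X ^ r - 1 : F[X]) = 0 := by
      rw [map_sub, map_pow, aeval_X, map_one, hroot, sub_self]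
    have h2 : aeval (ρ ^ (r - 1)) (X ^ r - 1 : F[X]) = 0 := by
      rw [map_sub, map_pow, aeval_X, map_one, ← pow_mul, mul_comm, pow_mul, hroot, one_pow,
        sub_self]
    rw [h1, h2, map_zero]
    apply LinearMap.ext; intro x; rfl
  · intro h hh
    rw [finrank_ker_aeval_prodMap, finrank_ker_root r hr hrp f h hf hh,
      finrank_ker_root_inv r hr hrp f h hf hh]

/-- the inverting automorphism of `AdjoinRoot f` for a self-dual factor -/
theorem exists_inv_aut (r : ℕ) (hr : r.Prime) (hrp : r ≠ p) (f : F[X]) (hf : f ∈ powFactors F r)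
    (hst : star r f = f) :
    ∃ e : AdjoinRoot f ≃ₐ[F] AdjoinRoot f,
      e (AdjoinRoot.root f) = (AdjoinRoot.root f) ^ (r - 1) ∧ ∀ x, e (e x) = x := by
  have hirr := powFactors_irr r f hf
  have : Fact (Irreducible f) := ⟨hirr⟩
  have hdvd := powFactors_dvd r hr hrp f hf
  rw [star_eq_self_iff r f hirr (powFactors_monic r f hf)] at hst
  have h0 : f.eval₂ (Algebra.ofId F (AdjoinRoot f)) ((AdjoinRoot.root f) ^ (r - 1)) = 0 := by
    rw [aeval_def] at hst
    exact hst
  let σ : AdjoinRoot f →ₐ[F] AdjoinRoot f :=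
    AdjoinRoot.liftAlgHom f (Algebra.ofId F (AdjoinRoot f)) ((AdjoinRoot.root f) ^ (r - 1)) h0
  have hσ : σ (AdjoinRoot.root f) = (AdjoinRoot.root f) ^ (r - 1) :=
    AdjoinRoot.liftAlgHom_root _ _ _ h0
  have hσσ : σ.comp σ = AlgHom.id F (AdjoinRoot f) := by
    apply AdjoinRoot.algHom_ext
    rw [AlgHom.comp_apply, hσ, map_pow, hσ, root_pow_pred_pow r hr.two_le f hdvd]
    rfl
  refine ⟨AlgEquiv.ofAlgHom σ σ hσσ hσσ, hσ, ?_⟩
  intro x
  exact AlgHom.congr_fun hσσ x

/-- the self-dual block attached to a factor with `f* = f` -/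
theorem spReal_self (r : ℕ) (hr : r.Prime) (hr2 : r ≠ 2) (hrp : r ≠ p) (f : F[X])
    (hf : f ∈ cycFactors F r) (hst : star r f = f) :
    SpReal (powFactors F r) r (fun h => if h = f then f.natDegree else 0) := by
  have hfp := mem_pow_of_mem_cyc r f hf
  have hirr := powFactors_irr r f hfp
  have : Fact (Irreducible f) := ⟨hirr⟩
  have hfin : Module.Finite F (AdjoinRoot f) := (AdjoinRoot.powerBasis hirr.ne_zero).finite
  have hroot := root_pow r f (powFactors_dvd r hr hrp f hfp)
  obtain ⟨e, he1, he2⟩ := exists_inv_aut r hr hrp f hfp hst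
  set ρ := AdjoinRoot.root f with hρ
  have hinv : ρ * ρ ^ (r - 1) = 1 := by
    rw [← pow_succ', Nat.sub_add_cancel hr.one_le, hroot]
  let B : LinearMap.BilinForm F (AdjoinRoot f) :=
    LinearMap.mk₂ F (fun x y => Algebra.trace F (AdjoinRoot f) (ρ * x * e y) -
      Algebra.trace F (AdjoinRoot f) (ρ * y * e x))
      (by intro x x' y; simp only [map_add, mul_add, add_mul]; ring)
      (by intro c x y; simp only [map_smul, mul_smul_comm, smul_mul_assoc, smul_eq_mul]; ring)
      (by intro x y y'; simp only [map_add, mul_add, add_mul]; ring)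
      (by intro c x y; simp only [map_smul, mul_smul_comm, smul_mul_assoc, smul_eq_mul]; ring)
  have hB : ∀ x y, B x y = Algebra.trace F (AdjoinRoot f) (ρ * x * e y) -
      Algebra.trace F (AdjoinRoot f) (ρ * y * e x) := fun x y => rfl
  have hnd := (_root_.traceForm_nondegenerate F (AdjoinRoot f)).1
  have hc0 : ρ - ρ ^ (r - 1) ≠ 0 := by
    intro h
    have h2 : ρ ^ (r - 1) = ρ := (sub_eq_zero.mp h).symm
    have h3 : ρ ^ 2 = 1 := by
      rw [pow_two]
      have := hinv
      rw [h2] at this
      exact this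
    obtain ⟨k, hk⟩ : ∃ k, r = 2 * k + 1 := by
      rcases hr.eq_two_or_odd with h | h
      · exact absurd h hr2
      · exact ⟨r / 2, by omega⟩
    have h4 : ρ = 1 := by
      have := hroot
      rw [hk, pow_succ, pow_mul, h3, one_pow, one_mul] at this
      exact this
    exact root_ne_one r hr hrp f hf h4
  have hB' : ∀ x y, B x y = Algebra.trace F (AdjoinRoot f) ((ρ - ρ ^ (r - 1)) * x * e y) := by
    intro x y
    rw [hB, ← Algebra.trace_eq_of_algEquiv e (ρ * y * e x), map_mul e, map_mul e, he1, he2, ← map_sub]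
    congr 1
    ring
  refine ⟨AdjoinRoot f, inferInstance, inferInstance, inferInstance, B,
    Algebra.lmul F (AdjoinRoot f) ρ, ?_, ?_, ?_, ?_, ?_⟩
  · intro x
    rw [hB, sub_self]
  · intro x hx
    have h1 : (ρ - ρ ^ (r - 1)) * x = 0 := by
      apply hnd
      intro z
      have := hx (e z)
      rw [hB', he2] at this
      rw [Algebra.traceForm_apply]
      exact this
    rcases mul_eq_zero.mp h1 with h | h
    · exact absurd h hc0
    · exact h
  · intro x y
    show B (ρ * x) (ρ * y) = B x y
    rw [hB, hB, map_mul e, map_mul e, he1]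
    have e1 : ρ * (ρ * x) * (ρ ^ (r - 1) * e y) = (ρ * ρ ^ (r - 1)) * (ρ * x * e y) := by ring
    have e2 : ρ * (ρ * y) * (ρ ^ (r - 1) * e x) = (ρ * ρ ^ (r - 1)) * (ρ * y * e x) := by ring
    rw [e1, e2, hinv, one_mul, one_mul]
  · rw [aeval_lmul]
    have h1 : aeval ρ (X ^ r - 1 : F[X]) = 0 := by
      rw [map_sub, map_pow, aeval_X, map_one, hroot, sub_self]
    rw [h1, map_zero]
  · intro h hh
    exact finrank_ker_root r hr hrp f h hfp hh

end blocks

end Cfsg.Agent.Helper44.SpBlocks
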