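import Mathlib
import Cfsg.Agent.Lib.Helper44.SpBlocks
import Cfsg.Agent.S0752

set_option autoImplicit false
set_option linter.unusedSectionVars false

/-!
From an abstract isometry of a nondegenerate alternating space to a symplectic matrix, and the
symmetry `kd A f* = kd A f` for symplectic matrices with `A ^ r = 1`.
-/

namespace Cfsg.Agent.Helper44.SpBlocks

open Polynomial Module Matrix
open Cfsg.Agent.Helper42.SemiConj Cfsg.Agent.Helper44.StarInv

universe u

section transfer

variable {F : Type u} [Field F] [Fintype F] {p : ℕ} [Fact p.Prime] [CharP F p]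

/-- a symplectic basis of an abstract nondegenerate alternating space -/
theorem exists_symp_basis {W : Type*} [AddCommGroup W] [Module F W] [Module.Finite F W]
    (B : LinearMap.BilinForm F W) (hA : ∀ x, B x x = 0) (hnd : ∀ x, (∀ y, B x y = 0) → x = 0)
    (m : ℕ) (hdim : finrank F W = 2 * m) :
    ∃ b : Basis (Fin m ⊕ Fin m) F W, ∀ x x', B (b x) (b x') = Matrix.J (Fin m) F x x' := by
  have hAlt : B.IsAlt := hA
  obtain ⟨m', k', b₀, h1, h2, h3, h4⟩ := Cfsg.Agent.S0752.result B hAlt
  have hk' : k' = 0 := by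
    by_contra hne
    have hpos : 0 < k' := Nat.pos_of_ne_zero hne
    have h0 : b₀ (Sum.inr ⟨0, hpos⟩) = 0 := by
      apply hnd
      intro v
      exact h4 ⟨0, hpos⟩ v
    exact b₀.ne_zero _ h0
  subst hk'
  have hm' : m' = m := by
    have := Module.finrank_eq_card_basis b₀
    rw [hdim] at this
    simp only [Fintype.card_sum, Fintype.card_fin] at this
    omega
  subst hm'
  refine ⟨b₀.reindex ((Equiv.sumEmpty _ _).trans (Equiv.sumComm _ _)), ?_⟩
  intro x x'
  rw [Basis.reindex_apply, Basis.reindex_apply]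
  rcases x with i | i <;> rcases x' with j | j
  · simp only [Equiv.symm_trans_apply, Equiv.sumComm_symm, Equiv.sumComm_apply, Sum.swap_inl,
      Equiv.sumEmpty_symm_apply, Matrix.J, Matrix.fromBlocks_apply₁₁, Matrix.zero_apply]
    exact h3 i j
  · simp only [Equiv.symm_trans_apply, Equiv.sumComm_symm, Equiv.sumComm_apply, Sum.swap_inl,
      Sum.swap_inr, Equiv.sumEmpty_symm_apply, Matrix.J, Matrix.fromBlocks_apply₁₂,
      Matrix.neg_apply, Matrix.one_apply]
    rw [← hAlt.neg_eq, h1 j i]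
    simp [eq_comm]
  · simp only [Equiv.symm_trans_apply, Equiv.sumComm_symm, Equiv.sumComm_apply, Sum.swap_inl,
      Sum.swap_inr, Equiv.sumEmpty_symm_apply, Matrix.J, Matrix.fromBlocks_apply₂₁,
      Matrix.one_apply]
    exact h1 i j
  · simp only [Equiv.symm_trans_apply, Equiv.sumComm_symm, Equiv.sumComm_apply, Sum.swap_inr,
      Equiv.sumEmpty_symm_apply, Matrix.J, Matrix.fromBlocks_apply₂₂, Matrix.zero_apply]
    exact h2 i j

/-- a realised vector of primary dimensions of total dimension `2m` is realised in `Sp_2m` -/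
theorem exists_sp_of_real (m r : ℕ) (hr : r.Prime) (hrp : r ≠ p) (d : F[X] → ℕ)
    (h : SpReal (powFactors F r) r d) (hsum : ∑ f ∈ powFactors F r, d f = 2 * m) :
    ∃ A : Matrix.symplecticGroup (Fin m) F, A ^ r = 1 ∧
      ∀ f ∈ powFactors F r, kdi (A : Matrix (Fin m ⊕ Fin m) (Fin m ⊕ Fin m) F) f = d f := by
  obtain ⟨W, i1, i2, i3, B, G, h1, h2, h3, h4, h5⟩ := h
  have hfin : finrank F W = 2 * m := by
    rw [finrank_eq_sum_ker (powFactors F r) W G (powFactors_coprime r hr hrp)
      (by rw [powFactors_prod r hr hrp]; exact h4), ← hsum]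
    exact Finset.sum_congr rfl h5
  obtain ⟨b, hb⟩ := exists_symp_basis B h1 h2 m hfin
  have hJ : LinearMap.BilinForm.toMatrix b B = Matrix.J (Fin m) F := by
    ext x x'
    rw [LinearMap.BilinForm.toMatrix_apply]
    exact hb x x'
  have hcomp : B.comp G G = B := by
    apply LinearMap.ext; intro x
    apply LinearMap.ext; intro y
    rw [LinearMap.BilinForm.comp_apply]
    exact h3 x y
  have hmem : LinearMap.toMatrix b b G ∈ Matrix.symplecticGroup (Fin m) F := by
    rw [SymplecticGroup.mem_iff']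
    have := LinearMap.BilinForm.toMatrix_comp b b B G G
    rw [hcomp, hJ] at this
    exact this.symm
  have hGr : G ^ r = 1 := by
    rw [map_sub, map_pow, aeval_X, map_one, sub_eq_zero] at h4
    exact h4
  refine ⟨⟨LinearMap.toMatrix b b G, hmem⟩, ?_, ?_⟩
  · apply Subtype.ext
    rw [SubmonoidClass.coe_pow]
    show (LinearMap.toMatrix b b G) ^ r = 1
    rw [toMatrix_pow_i, hGr]
    exact LinearMap.toMatrix_one b
  · intro f hf
    show kdi (LinearMap.toMatrix b b G) f = d f
    rw [kdi_toMatrix, h5 f hf]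

/-- symplectic matrices of order dividing `r` have symmetric primary dimensions -/
theorem kdi_star_sp (m r : ℕ) (hr : r.Prime) (hrp : r ≠ p)
    (A : Matrix.symplecticGroup (Fin m) F) (hA : A ^ r = 1) (f : F[X])
    (hf : f ∈ powFactors F r) :
    kdi (A : Matrix (Fin m ⊕ Fin m) (Fin m ⊕ Fin m) F) (star r f) =
      kdi (A : Matrix (Fin m ⊕ Fin m) (Fin m ⊕ Fin m) F) f := by
  have hAi : (A⁻¹) ^ r = 1 := by rw [inv_pow, hA, inv_one]
  have hXr : ((A⁻¹ : Matrix.symplecticGroup (Fin m) F) :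
      Matrix (Fin m ⊕ Fin m) (Fin m ⊕ Fin m) F) ^ r = 1 := by
    have := congrArg Subtype.val hAi
    rw [SubmonoidClass.coe_pow] at this
    exact this
  have hback : (A⁻¹) ^ (r - 1) = A := by
    have h1 : (A⁻¹) ^ (r - 1) * A⁻¹ = 1 := by
      rw [← pow_succ, Nat.sub_add_cancel hr.one_le, hAi]
    have := eq_inv_of_mul_eq_one_left h1
    rw [inv_inv] at this
    exact this
  have hback' : ((A⁻¹ : Matrix.symplecticGroup (Fin m) F) :
      Matrix (Fin m ⊕ Fin m) (Fin m ⊕ Fin m) F) ^ (r - 1) = A.val := by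
    have := congrArg Subtype.val hback
    rw [SubmonoidClass.coe_pow] at this
    exact this
  have h1 := kdi_star ((A⁻¹ : Matrix.symplecticGroup (Fin m) F) :
      Matrix (Fin m ⊕ Fin m) (Fin m ⊕ Fin m) F) r hr hrp hXr f hf
  rw [hback'] at h1
  rw [h1]
  have hJJ : Matrix.J (Fin m) F * -Matrix.J (Fin m) F = 1 := by
    rw [mul_neg, Matrix.J_squared, neg_neg]
  have hJJ' : -Matrix.J (Fin m) F * Matrix.J (Fin m) F = 1 := by
    rw [neg_mul, Matrix.J_squared, neg_neg]
  let P : (Matrix (Fin m ⊕ Fin m) (Fin m ⊕ Fin m) F)ˣ :=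
    ⟨Matrix.J (Fin m) F, -Matrix.J (Fin m) F, hJJ, hJJ'⟩
  have h2 := kdi_eq_of_conj ((A⁻¹ : Matrix.symplecticGroup (Fin m) F) :
      Matrix (Fin m ⊕ Fin m) (Fin m ⊕ Fin m) F) (A.val)ᵀ P (by
        show Matrix.J (Fin m) F * _ = _ * Matrix.J (Fin m) F
        rw [SymplecticGroup.coe_inv, ← mul_assoc, ← mul_assoc, hJJ, one_mul]) f
  rw [h2, kdi_transpose]

end transfer

end Cfsg.Agent.Helper44.SpBlocks
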