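import Mathlib
import Cfsg.Agent.Lib.Helper62.SLN0
import Cfsg.Agent.Lib.Helper5.SL

/-!
# SLN piece (G6) `normalClosure_uEl` (helper44, for helper62's SLN server, S2332)
The conjugates of `U = {uEl u}` generate `SL (Unit ⊕ κ) F`.
-/

set_option autoImplicit false
set_option linter.style.haveILetI false
set_option linter.unusedSimpArgs false

namespace Cfsg.Agent.Helper44.SLN

open Matrix Module Cfsg.Agent.Helper93.U2 Cfsg.Agent.Helper62.SLN

section Weyl

variable {ι F : Type*} [DecidableEq ι] [Fintype ι] [Field F]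

/-- the matrix identity `w T_ij(-c) = T_ji(c) w` for the Weyl element `w = T_ij(1) T_ji(-1) T_ij(1)` -/
theorem h44_weyl_matrix {i j : ι} (hij : i ≠ j) (c : F) :
    (Matrix.transvection i j (1 : F) * Matrix.transvection j i (-1) * Matrix.transvection i j 1) *
        Matrix.transvection i j (-c) =
      Matrix.transvection j i c *
        (Matrix.transvection i j (1 : F) * Matrix.transvection j i (-1) *
          Matrix.transvection i j 1) := by
  simp only [Matrix.transvection]
  simp [mul_add, add_mul, single_mul_single_same, single_mul_single_of_ne, hij, hij.symm]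
  simp only [← single_neg]
  abel

/-- the lower transvection is conjugate to the upper one -/
theorem h44_weyl_conj {i j : ι} (hij : i ≠ j) (c : F) :
    ∃ w : SpecialLinearGroup ι F,
      SpecialLinearGroup.transvection hij.symm c =
        w * SpecialLinearGroup.transvection hij (-c) * w⁻¹ := by
  refine ⟨SpecialLinearGroup.transvection hij 1 * SpecialLinearGroup.transvection hij.symm (-1) *
    SpecialLinearGroup.transvection hij 1, ?_⟩
  rw [eq_mul_inv_iff_mul_eq]
  apply Subtype.ext
  exact (h44_weyl_matrix hij c).symm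

end Weyl

section GRP

variable {F : Type*} [Field F] {κ : Type} [Fintype κ] [DecidableEq κ]

/-- the upper elementary transvections are in `U` -/
theorem h44_uEl_single (k : κ) (c : F) :
    (uEl (Pi.single k c) : SpecialLinearGroup (Unit ⊕ κ) F) =
      SpecialLinearGroup.transvection (Sum.inl_ne_inr : (Sum.inl () : Unit ⊕ κ) ≠ Sum.inr k) c := by
  apply Subtype.ext
  show fromBlocks 1 (replicateRow Unit (Pi.single k c)) 0 1 =
    Matrix.transvection (Sum.inl ()) (Sum.inr k) c
  ext a b
  rcases a with ⟨⟩ | a <;> rcases b with ⟨⟩ | b <;>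
    simp [Matrix.transvection, Matrix.single_apply, Matrix.one_apply, Pi.single_apply, eq_comm]

/-- piece G6 : the conjugates of `U` generate `SL` -/
theorem normalClosure_uEl [Finite F] (hκ : 1 ≤ Fintype.card κ) :
    Subgroup.normalClosure (Set.range (uEl : (κ → F) → SpecialLinearGroup (Unit ⊕ κ) F)) = ⊤ := by
  set N := Subgroup.normalClosure
    (Set.range (uEl : (κ → F) → SpecialLinearGroup (Unit ⊕ κ) F)) with hN
  haveI hnorm : N.Normal := Subgroup.normalClosure_normal
  have hU : ∀ u : κ → F, uEl u ∈ N := fun u =>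
    Subgroup.subset_normalClosure (Set.mem_range_self u)
  haveI : Nonempty κ := Fintype.card_pos_iff.1 (by omega)
  haveI : Nontrivial (Unit ⊕ κ) := by
    obtain ⟨k⟩ := ‹Nonempty κ›
    exact ⟨⟨Sum.inl (), Sum.inr k, Sum.inl_ne_inr⟩⟩
  -- upper
  have hup : ∀ (k : κ) (c : F),
      SpecialLinearGroup.transvection
        (Sum.inl_ne_inr : (Sum.inl () : Unit ⊕ κ) ≠ Sum.inr k) c ∈ N := by
    intro k c
    rw [← h44_uEl_single]
    exact hU _
  -- lower
  have hlow : ∀ (k : κ) (c : F),
      SpecialLinearGroup.transvection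
        (Sum.inr_ne_inl : (Sum.inr k : Unit ⊕ κ) ≠ Sum.inl ()) c ∈ N := by
    intro k c
    obtain ⟨w, hw⟩ := h44_weyl_conj
      (Sum.inl_ne_inr : (Sum.inl () : Unit ⊕ κ) ≠ Sum.inr k) c
    have h1 : SpecialLinearGroup.transvection
        (Sum.inr_ne_inl : (Sum.inr k : Unit ⊕ κ) ≠ Sum.inl ()) c =
        w * SpecialLinearGroup.transvection
          (Sum.inl_ne_inr : (Sum.inl () : Unit ⊕ κ) ≠ Sum.inr k) (-c) * w⁻¹ := hw
    rw [h1]
    exact hnorm.conj_mem _ (hup k (-c)) w
  rw [eq_top_iff]
  intro A _
  refine Cfsg.Agent.Helper5.transvection_induction (fun A => A ∈ N) ?_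
    (fun A B hA hB => N.mul_mem hA hB) A
  intro a b hab c
  rcases a with ⟨⟩ | j <;> rcases b with ⟨⟩ | k
  · exact absurd rfl hab
  · exact hup k c
  · exact hlow j c
  · have hjk : j ≠ k := fun h => hab (by rw [h])
    have hcomm := Cfsg.Agent.Helper5.transvection_eq_commutator (F := F) hab
      (Sum.inr_ne_inl : (Sum.inr j : Unit ⊕ κ) ≠ Sum.inl ())
      (Sum.inl_ne_inr : (Sum.inl () : Unit ⊕ κ) ≠ Sum.inr k) c
    show SpecialLinearGroup.transvection hab c ∈ N
    rw [hcomm, commutatorElement_def]
    exact N.mul_mem (hnorm.conj_mem _ (hup k 1) _) (N.inv_mem (hup k 1))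

end GRP

end Cfsg.Agent.Helper44.SLN
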