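import Mathlib
import Cfsg.Agent.Lib.Helper93.U20
import Cfsg.Agent.Lib.Helper20.U2Rd

/-!
# U2 project (S2335), piece R2 (helper44): the number of occurring weights is at most the
dimension.
-/

set_option autoImplicit false

namespace Cfsg.Agent.Helper44.U2

open Matrix Cfsg.Agent.Helper13 Cfsg.Agent.Helper93.U2

section REP

variable {G : Type*} [Group G] {𝓐 : Type*} [AddCommGroup 𝓐] [Fintype 𝓐]
  {V : Type*} [AddCommGroup V] [Module ℂ V]
  (pr : Pairing 𝓐) (el : 𝓐 → G) (ρ : Representation ℂ G V)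

/-- the weight spaces are independent -/
theorem h44_wsp_iSupIndep : iSupIndep (fun a : 𝓐 => wsp pr el ρ a) := by
  intro a
  rw [Submodule.disjoint_def]
  intro v hva hvs
  have h1 : eOp pr el ρ a v = v := Cfsg.Agent.Helper20.U2.eOp_self pr el ρ a v hva
  have h2 : (⨆ (b : 𝓐) (_ : b ≠ a), wsp pr el ρ b) ≤ LinearMap.ker (eOp pr el ρ a) := by
    refine iSup₂_le (fun b hb => ?_)
    intro w hw
    rw [LinearMap.mem_ker]
    exact Cfsg.Agent.Helper20.U2.eOp_other pr el ρ a b (fun h => hb h.symm) w hw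
  have h3 : eOp pr el ρ a v = 0 := LinearMap.mem_ker.mp (h2 hvs)
  rw [← h1, h3]

/-- piece R2 (uses Rd) -/
theorem card_wsp_le [FiniteDimensional ℂ V] :
    Nat.card {a : 𝓐 // wsp pr el ρ a ≠ ⊥} ≤ Module.finrank ℂ V := by
  classical
  have h := (h44_wsp_iSupIndep pr el ρ).subtype_ne_bot_le_finrank
  rw [Nat.card_eq_fintype_card]
  convert h

end REP

end Cfsg.Agent.Helper44.U2
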