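import Mathlib
import Cfsg.Agent.Lib.Helper93.U20
import Cfsg.Agent.Lib.Helper34.U2C0
import Cfsg.Agent.Lib.Helper34.U2C1
import Cfsg.Agent.Lib.Helper34.U2C2

/-!
# U2 project (S2335), piece C6 (helper44): lower bound for the number of members of a
congruence-closed set of matrices taking a given nonzero value at a given vector.
-/

set_option autoImplicit false

namespace Cfsg.Agent.Helper44.U2

open Matrix Cfsg.Agent.Helper13 Cfsg.Agent.Helper93.U2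

section CNT

variable {F : Type*} [Field F] [Fintype F] {q : ℕ} (hF : Fintype.card F = q ^ 2) {m : ℕ}

/-- piece C6 (uses C0, C1, C2) -/
theorem count_lower (O : Set (Matrix (Fin m) (Fin m) F))
    (hcl : ∀ E : Matrix (Fin m) (Fin m) F, E * E = 0 → ∀ H ∈ O, cT hF (1 + E) * H * (1 + E) ∈ O)
    (H : Matrix (Fin m) (Fin m) F) (hHO : H ∈ O) (x₀ : Fin m → F) (c : F) (hc : c ≠ 0)
    (hx₀ : hq q H x₀ = c) :
    q ^ (2 * (m - 1)) ≤ {H' ∈ O | hq q H' x₀ = c}.ncard := by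
  classical
  have hqpos : 0 < q := q_pos hF
  -- x₀ ≠ 0
  have hx0 : x₀ ≠ 0 := by
    intro h0
    apply hc
    rw [← hx₀, h0]
    unfold hq
    rw [Matrix.mulVec_zero, dotProduct_zero]
  rw [← Cfsg.Agent.Helper34.U2.ncard_dot_eq_zero hF x₀ hx0]
  -- the map φ ↦ H_φ
  let Eφ : (Fin m → F) → Matrix (Fin m) (Fin m) F := fun φ => Matrix.vecMulVec x₀ φ
  let f : (Fin m → F) → Matrix (Fin m) (Fin m) F :=
    fun φ => cT hF (1 + Eφ φ) * H * (1 + Eφ φ)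
  have hEsq : ∀ φ : Fin m → F, φ ⬝ᵥ x₀ = 0 → Eφ φ * Eφ φ = 0 := by
    intro φ hφ
    change Matrix.vecMulVec x₀ φ * Matrix.vecMulVec x₀ φ = 0
    rw [Matrix.vecMulVec_mul_vecMulVec, hφ, zero_smul]
    ext i j
    simp [Matrix.vecMulVec_apply]
  have hmv : ∀ (φ y : Fin m → F), (1 + Eφ φ) *ᵥ y = y + (φ ⬝ᵥ y) • x₀ := by
    intro φ y
    change (1 + Matrix.vecMulVec x₀ φ) *ᵥ y = y + (φ ⬝ᵥ y) • x₀
    rw [Matrix.add_mulVec, Matrix.one_mulVec, Matrix.vecMulVec_mulVec]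
    congr 1
    funext i
    simp [MulOpposite.smul_eq_mul_unop, mul_comm]
  have hqb : ∀ (K : Matrix (Fin m) (Fin m) F) (x : Fin m → F), hq q K x = hb q K x x :=
    fun K x => rfl
  refine Set.ncard_le_ncard_of_injOn f ?_ ?_ (Set.toFinite _)
  · intro φ hφ
    have hφ0 : φ ⬝ᵥ x₀ = 0 := hφ
    refine ⟨hcl (Eφ φ) (hEsq φ hφ0) H hHO, ?_⟩
    change hq q (cT hF (1 + Eφ φ) * H * (1 + Eφ φ)) x₀ = c
    rw [Cfsg.Agent.Helper34.U2.hq_cong hF, hmv, hφ0, zero_smul, add_zero, hx₀]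
  · intro φ hφ φ' hφ' hff
    have hφ0 : φ ⬝ᵥ x₀ = 0 := hφ
    have hφ0' : φ' ⬝ᵥ x₀ = 0 := hφ'
    have key : ∀ (ψ : Fin m → F), ψ ⬝ᵥ x₀ = 0 → ∀ y : Fin m → F,
        hb q (f ψ) x₀ y = hb q H x₀ y + (ψ ⬝ᵥ y) * c := by
      intro ψ hψ y
      change hb q (cT hF (1 + Eφ ψ) * H * (1 + Eφ ψ)) x₀ y = _
      rw [Cfsg.Agent.Helper34.U2.hb_cong hF, hmv, hmv, hψ, zero_smul, add_zero,
        Cfsg.Agent.Helper34.U2.hb_add_right, Cfsg.Agent.Helper34.U2.hb_smul_right, ← hqb, hx₀]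
    apply dotProduct_eq
    intro y
    have h1 := key φ hφ0 y
    have h2 := key φ' hφ0' y
    have hff' : f φ = f φ' := hff
    rw [hff'] at h1
    rw [h1] at h2
    have h3 : (φ ⬝ᵥ y) * c = (φ' ⬝ᵥ y) * c := add_left_cancel h2
    exact mul_right_cancel₀ hc h3

end CNT

end Cfsg.Agent.Helper44.U2
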