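import Mathlib
import Cfsg.Agent.Lib.Lead.UnitaryGroupCard
set_option autoImplicit false

/-! Shared helpers (helper44): unitary transvections for the standard Hermitian form
`Cfsg.hermForm n F q` (`|F| = q^2`): structure of rank-one unipotent isometries, orthonormal frames
through an isotropic vector, transitivity of `SU_n` (n ≥ 3) on nonzero isotropic vectors. -/

namespace Cfsg.Agent.Helper44

open Matrix Cfsg.Agent.Lead Cfsg.Agent.Helper19

section RankOne
variable {F : Type*} [Field F] {n : Type*} [Fintype n] [DecidableEq n]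

/-- A square matrix of rank one is an outer product of two nonzero vectors (after lead's
`SpTvCent.exists_vecMulVec_of_rank_one`). -/
theorem exists_vecMulVec_of_rank_one' (N : Matrix n n F) (h : N.rank = 1) :
    ∃ u φ : n → F, u ≠ 0 ∧ φ ≠ 0 ∧ N = vecMulVec u φ := by
  unfold Matrix.rank at h
  rw [finrank_eq_one_iff'] at h
  obtain ⟨⟨u, hu⟩, hu0, hspan⟩ := h
  have hcol : ∀ j, ∃ c : F, c • u = N *ᵥ Pi.single j 1 := fun j => by
    obtain ⟨c, hc⟩ := hspan ⟨N *ᵥ Pi.single j 1, ⟨Pi.single j 1, rfl⟩⟩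
    exact ⟨c, congrArg Subtype.val hc⟩
  choose φ hφ using hcol
  have hN : N = vecMulVec u φ := by
    ext i j
    have := congrFun (hφ j) i
    rw [Matrix.mulVec_single_one] at this
    simp only [Pi.smul_apply, smul_eq_mul, Matrix.col_apply] at this
    rw [vecMulVec_apply, ← this, mul_comm]
  have hu0' : u ≠ 0 := fun h0 => hu0 (Subtype.ext h0)
  refine ⟨u, φ, hu0', ?_, hN⟩
  rintro rfl
  obtain ⟨y, hy⟩ := hu
  apply hu0'
  rw [← hy, hN]
  simp

end RankOne

section Herm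
variable {F : Type*} [Field F] [Fintype F] {q : ℕ} {n : ℕ}

local notation "H" => Cfsg.hermForm n F q

theorem hH_add_left (hF : Fintype.card F = q ^ 2) (u v w : Fin n → F) :
    Cfsg.hermForm n F q (u + v) w = Cfsg.hermForm n F q u w + Cfsg.hermForm n F q v w :=
  (stdHerm hF n).add_left u v w

theorem hH_smul_left (hF : Fintype.card F = q ^ 2) (a : F) (u w : Fin n → F) :
    Cfsg.hermForm n F q (a • u) w = a * Cfsg.hermForm n F q u w :=
  (stdHerm hF n).smul_left a u w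

theorem hH_add_right (hF : Fintype.card F = q ^ 2) (u v w : Fin n → F) :
    Cfsg.hermForm n F q u (v + w) = Cfsg.hermForm n F q u v + Cfsg.hermForm n F q u w :=
  (stdHerm hF n).add_right hF u v w

theorem hH_smul_right (hF : Fintype.card F = q ^ 2) (a : F) (u w : Fin n → F) :
    Cfsg.hermForm n F q u (a • w) = a ^ q * Cfsg.hermForm n F q u w :=
  (stdHerm hF n).smul_right a u w

theorem hH_conj (hF : Fintype.card F = q ^ 2) (u v : Fin n → F) :
    Cfsg.hermForm n F q v u = (Cfsg.hermForm n F q u v) ^ q :=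
  (stdHerm hF n).conj u v

theorem hH_zero_left (hF : Fintype.card F = q ^ 2) (w : Fin n → F) :
    Cfsg.hermForm n F q 0 w = 0 :=
  (stdHerm hF n).zero_left w

theorem hH_nondeg (hF : Fintype.card F = q ^ 2) {u : Fin n → F} (hu : u ≠ 0) :
    ∃ v, Cfsg.hermForm n F q v u ≠ 0 := by
  by_contra hcon
  simp only [not_exists, not_not] at hcon
  exact hu (stdHerm_nondeg hF n u hcon)

/-- Structure of a unitary transvection. -/
theorem unitary_tv_structure (hF : Fintype.card F = q ^ 2) (A : Matrix (Fin n) (Fin n) F)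
    (hA : ∀ x y, Cfsg.hermForm n F q (A *ᵥ x) (A *ᵥ y) = Cfsg.hermForm n F q x y)
    (hrank : (A - 1).rank = 1) (hsq : (A - 1) * (A - 1) = 0) :
    ∃ (u : Fin n → F) (a : F), u ≠ 0 ∧ Cfsg.hermForm n F q u u = 0 ∧ a ≠ 0 ∧ a + a ^ q = 0 ∧
      ∀ x, A *ᵥ x = x + (a * Cfsg.hermForm n F q x u) • u := by
  have hq : q ≠ 0 := by have := herm_two_le hF; omega
  obtain ⟨u, φ, hu, hφ, hN⟩ := exists_vecMulVec_of_rank_one' (A - 1) hrank
  have hAx : ∀ x, A *ᵥ x = x + (φ ⬝ᵥ x) • u := by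
    intro x
    have h1 : A = 1 + vecMulVec u φ := by rw [← hN]; abel
    rw [h1, Matrix.add_mulVec, Matrix.one_mulVec, Matrix.vecMulVec_mulVec, op_smul_eq_smul]
  -- φ u = 0
  have hφu : φ ⬝ᵥ u = 0 := by
    rw [hN, Matrix.vecMulVec_mul_vecMulVec] at hsq
    by_contra hne
    obtain ⟨j, hj⟩ : ∃ j, φ j ≠ 0 := by
      by_contra hcon
      simp only [not_exists, not_not] at hcon
      exact hφ (funext hcon)
    obtain ⟨i, hi⟩ : ∃ i, u i ≠ 0 := by
      by_contra hcon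
      simp only [not_exists, not_not] at hcon
      exact hu (funext hcon)
    have := congrFun (congrFun hsq i) j
    simp only [vecMulVec_apply, Pi.smul_apply, smul_eq_mul, Matrix.zero_apply] at this
    rcases mul_eq_zero.mp this with h | h
    · exact hi h
    · rcases mul_eq_zero.mp h with h | h
      · exact hne h
      · exact hj h
  -- the isometry identity
  have hiso : ∀ x y, (φ ⬝ᵥ y) ^ q * Cfsg.hermForm n F q x u
      + (φ ⬝ᵥ x) * Cfsg.hermForm n F q u y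
      + (φ ⬝ᵥ x) * (φ ⬝ᵥ y) ^ q * Cfsg.hermForm n F q u u = 0 := by
    intro x y
    have h := hA x y
    rw [hAx, hAx, hH_add_left hF, hH_add_right hF, hH_add_right hF, hH_smul_left hF,
      hH_smul_right hF, hH_smul_right hF, hH_smul_left hF] at h
    linear_combination h
  -- u isotropic
  obtain ⟨y₀, hy₀⟩ : ∃ y, φ ⬝ᵥ y ≠ 0 := by
    by_contra hcon
    simp only [not_exists, not_not] at hcon
    apply hφ
    funext j
    have := hcon (Pi.single j 1)
    simpa using this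
  have huu : Cfsg.hermForm n F q u u = 0 := by
    have h := hiso u y₀
    simp only [hφu, zero_mul, add_zero] at h
    rcases mul_eq_zero.mp h with h1 | h1
    · exact absurd (pow_eq_zero_iff hq |>.mp h1) hy₀
    · exact h1
  have hiso' : ∀ x y, (φ ⬝ᵥ y) ^ q * Cfsg.hermForm n F q x u
      + (φ ⬝ᵥ x) * Cfsg.hermForm n F q u y = 0 := by
    intro x y
    have h := hiso x y
    rw [huu, mul_zero, add_zero] at h
    exact h
  have hpow : (φ ⬝ᵥ y₀) ^ q ≠ 0 := pow_ne_zero _ hy₀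
  have huy₀ : Cfsg.hermForm n F q u y₀ ≠ 0 := by
    intro h0
    obtain ⟨v, hv⟩ := hH_nondeg hF hu
    have h := hiso' v y₀
    rw [h0, mul_zero, add_zero] at h
    rcases mul_eq_zero.mp h with h1 | h1
    · exact hpow h1
    · exact hv h1
  set a : F := -(φ ⬝ᵥ y₀) ^ q / Cfsg.hermForm n F q u y₀ with ha
  have hφx : ∀ x, φ ⬝ᵥ x = a * Cfsg.hermForm n F q x u := by
    intro x
    have h := hiso' x y₀
    rw [ha]
    field_simp
    linear_combination h
  have ha0 : a ≠ 0 := by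
    rw [ha]
    exact div_ne_zero (neg_ne_zero.mpr hpow) huy₀
  refine ⟨u, a, hu, huu, ha0, ?_, ?_⟩
  · have h := hiso' y₀ y₀
    rw [hφx y₀, mul_pow, ← hH_conj hF] at h
    have hy₀u : Cfsg.hermForm n F q y₀ u ≠ 0 := by
      rw [hH_conj hF]
      exact pow_ne_zero _ huy₀
    have h2 : (a + a ^ q) * (Cfsg.hermForm n F q u y₀ * Cfsg.hermForm n F q y₀ u) = 0 := by
      linear_combination h
    rcases mul_eq_zero.mp h2 with h3 | h3
    · exact h3
    · exact absurd h3 (mul_ne_zero huy₀ hy₀u)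
  · intro x
    rw [hAx, hφx]

end Herm

section Frames
open Module
variable {F : Type*} [Field F] [Fintype F] {q : ℕ}

theorem gu_formula_pos {q : ℕ} (hq : 2 ≤ q) (m : ℕ) :
    0 < q ^ (m * (m - 1) / 2) *
      ∏ i ∈ Finset.range m, (if Even i then q ^ (i + 1) + 1 else q ^ (i + 1) - 1) := by
  apply Nat.mul_pos (Nat.pow_pos (by omega))
  apply Finset.prod_pos
  intro i _
  split_ifs
  · omega
  · have : 1 < q ^ (i + 1) := Nat.one_lt_pow (by omega) (by omega)
    omega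

/-- A nondegenerate Hermitian space has an orthonormal basis. -/
theorem exists_frame (hF : Fintype.card F = q ^ 2) (n : ℕ) (V : Type*) [AddCommGroup V]
    [Module F V] [FiniteDimensional F V] (B : HermForm F q V) (hB : B.Nondeg)
    (hfr : finrank F V = n) : ∃ x : Fin n → V, IsOrthoFam B n x := by
  have hcount := card_orthoFam hF n V B hB hfr
  rw [prod_hermCount_one hF n] at hcount
  have hpos : 0 < Nat.card {x : Fin n → V // IsOrthoFam B n x} := by
    rw [hcount]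
    exact gu_formula_pos (herm_two_le hF) n
  obtain ⟨⟨x, hx⟩⟩ := (Nat.card_pos_iff.mp hpos).1
  exact ⟨x, hx⟩

/-- An orthonormal pair extends to an orthonormal basis. -/
theorem extend_frame (hF : Fintype.card F = q ^ 2) (m : ℕ) (V : Type*) [AddCommGroup V]
    [Module F V] [FiniteDimensional F V] (B : HermForm F q V) (hB : B.Nondeg)
    (hfr : finrank F V = m + 2) (f₁ f₂ : V) (h1 : B f₁ f₁ = 1) (h2 : B f₂ f₂ = 1)
    (h21 : B f₂ f₁ = 0) :
    ∃ x : Fin (m + 2) → V, IsOrthoFam B (m + 2) x ∧ x 0 = f₁ ∧ x 1 = f₂ := by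
  have hq : q ≠ 0 := by have := herm_two_le hF; omega
  have hB₁ := HermForm.nondeg_restrict_perp hF hB h1
  have hfr₁ : finrank F (B.perp f₁) = m + 1 := by
    rw [HermForm.finrank_perp h1, hfr]
    rfl
  let f₂' : B.perp f₁ := ⟨f₂, B.mem_perp.mpr h21⟩
  have h2' : (B.restrict (B.perp f₁)) f₂' f₂' = 1 := h2
  have hB₂ := HermForm.nondeg_restrict_perp hF hB₁ h2'
  have hfr₂ : finrank F ((B.restrict (B.perp f₁)).perp f₂') = m := by
    rw [HermForm.finrank_perp h2', hfr₁]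
    rfl
  obtain ⟨y, hy⟩ := exists_frame hF m _ _ hB₂ hfr₂
  let x' := (orthoFibreEquiv hq m ⟨f₂', h2'⟩).symm ⟨y, hy⟩
  let x := (orthoFibreEquiv hq (m + 1) ⟨f₁, h1⟩).symm ⟨x'.1.1, x'.1.2⟩
  exact ⟨x.1.1, x.1.2, rfl, rfl⟩

end Frames

section Trans
variable {F : Type*} [Field F] [Fintype F] {q : ℕ}

theorem frob_frob' (hF : Fintype.card F = q ^ 2) (c : F) : (c ^ q) ^ q = c := by
  rw [← pow_mul, ← sq, ← hF, FiniteField.pow_card]

theorem frob_sub' (hF : Fintype.card F = q ^ 2) (x y : F) : (x - y) ^ q = x ^ q - y ^ q := by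
  have h := HermForm.herm_add_pow hF (x - y) y
  rw [sub_add_cancel] at h
  rw [h, add_sub_cancel_right]

/-- the trace `λ ↦ λ + λ^q` is onto the fixed field -/
theorem exists_trace_eq' (hF : Fintype.card F = q ^ 2) (t : F) (ht : t ^ q = t) :
    ∃ l : F, l + l ^ q = t := by
  obtain ⟨c₀, hc₀⟩ := HermForm.exists_trace_ne_zero hF
  have hfix : (c₀ + c₀ ^ q) ^ q = c₀ + c₀ ^ q := by
    rw [HermForm.herm_add_pow hF, frob_frob' hF, add_comm]
  set r : F := t / (c₀ + c₀ ^ q) with hr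
  have hrq : r ^ q = r := by rw [hr, div_pow, ht, hfix]
  refine ⟨r * c₀, ?_⟩
  rw [mul_pow, hrq, hr]
  field_simp

/-- the norm is onto the nonzero elements of the fixed field -/
theorem exists_norm_eq' (hF : Fintype.card F = q ^ 2) {y : F} (hy0 : y ≠ 0) (hy : y ^ q = y) :
    ∃ x : F, x ^ (q + 1) = y := by
  classical
  have h := (herm_sandwich hF).2 y (mem_hermFixed.mpr ⟨hy0, hy⟩)
  have hpos : 0 < (Finset.univ.filter (fun x : F => x ^ (q + 1) = y)).card := by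
    rw [h]; omega
  obtain ⟨x, hx⟩ := Finset.card_pos.mp hpos
  exact ⟨x, (Finset.mem_filter.mp hx).2⟩

theorem exists_zeta' (hF : Fintype.card F = q ^ 2) : ∃ ζ : F, ζ ^ (q + 1) = -1 := by
  apply exists_norm_eq' hF (neg_ne_zero.mpr one_ne_zero)
  have h := frob_sub' hF 0 1
  rw [zero_sub, one_pow, zero_pow (by have := herm_two_le hF; omega), zero_sub] at h
  exact h

variable {n : ℕ}

theorem hH_sub_left (hF : Fintype.card F = q ^ 2) (u v w : Fin n → F) :
    Cfsg.hermForm n F q (u - v) w = Cfsg.hermForm n F q u w - Cfsg.hermForm n F q v w :=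
  (stdHerm hF n).sub_left u v w

theorem hH_sub_right (hF : Fintype.card F = q ^ 2) (u v w : Fin n → F) :
    Cfsg.hermForm n F q u (v - w) = Cfsg.hermForm n F q u v - Cfsg.hermForm n F q u w := by
  have h := hH_add_right hF u (v - w) w
  rw [sub_add_cancel] at h
  rw [h, add_sub_cancel_right]

theorem colMat_mulVec_single (x : Fin n → (Fin n → F)) (i : Fin n) :
    colMat x *ᵥ Pi.single i 1 = x i := by
  rw [Matrix.mulVec_single_one]
  funext j
  rfl

/-- Every nonzero isotropic vector is the image of `e₀ + ζ e₁` under an element of `GU`. -/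
theorem exists_GU_map_iso {m : ℕ} (hF : Fintype.card F = q ^ 2) (ζ : F) (hζ : ζ ^ (q + 1) = -1)
    (u : Fin (m + 1 + 2) → F) (hu : u ≠ 0) (huu : Cfsg.hermForm (m + 1 + 2) F q u u = 0) :
    ∃ G : GL (Fin (m + 1 + 2)) F, G ∈ Cfsg.GU (m + 1 + 2) F q ∧
      (G : Matrix (Fin (m + 1 + 2)) (Fin (m + 1 + 2)) F) *ᵥ
        (Pi.single 0 1 + ζ • Pi.single 1 1) = u := by
  have hq : q ≠ 0 := by have := herm_two_le hF; omega
  have hζ0 : ζ ≠ 0 := by
    intro h0
    rw [h0, zero_pow (by omega)] at hζ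
    exact (neg_ne_zero.mpr one_ne_zero) hζ.symm
  obtain ⟨v, hv⟩ := hH_nondeg hF hu
  set c := Cfsg.hermForm (m + 1 + 2) F q v u with hc
  obtain ⟨w₀, hw₀⟩ : ∃ w₀ : Fin (m + 1 + 2) → F, w₀ = c⁻¹ • v := ⟨_, rfl⟩
  have hw₀u : Cfsg.hermForm (m + 1 + 2) F q w₀ u = 1 := by
    rw [hw₀, hH_smul_left hF, ← hc, inv_mul_cancel₀ hv]
  have huw₀ : Cfsg.hermForm (m + 1 + 2) F q u w₀ = 1 := by
    rw [hH_conj hF w₀ u, hw₀u, one_pow]
  set N₀ := Cfsg.hermForm (m + 1 + 2) F q w₀ w₀ with hN₀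
  have hN₀q : N₀ ^ q = N₀ := (hH_conj hF w₀ w₀).symm
  obtain ⟨l, hl⟩ := exists_trace_eq' hF (1 - N₀) (by rw [frob_sub' hF, one_pow, hN₀q])
  obtain ⟨f₁, hf₁⟩ : ∃ f₁ : Fin (m + 1 + 2) → F, f₁ = w₀ + l • u := ⟨_, rfl⟩
  have hf₁f₁ : Cfsg.hermForm (m + 1 + 2) F q f₁ f₁ = 1 := by
    rw [hf₁, hH_add_left hF, hH_add_right hF, hH_add_right hF, hH_smul_left hF, hH_smul_left hF,
      hH_smul_right hF, hH_smul_right hF, huu, huw₀, hw₀u, ← hN₀]
    linear_combination hl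
  have huf₁ : Cfsg.hermForm (m + 1 + 2) F q u f₁ = 1 := by
    rw [hf₁, hH_add_right hF, hH_smul_right hF, huu, huw₀, mul_zero, add_zero]
  have hf₁u : Cfsg.hermForm (m + 1 + 2) F q f₁ u = 1 := by
    rw [hf₁, hH_add_left hF, hH_smul_left hF, huu, hw₀u, mul_zero, add_zero]
  obtain ⟨f₂, hf₂⟩ : ∃ f₂ : Fin (m + 1 + 2) → F, f₂ = ζ⁻¹ • (u - f₁) := ⟨_, rfl⟩
  have hf₂f₂ : Cfsg.hermForm (m + 1 + 2) F q f₂ f₂ = 1 := by
    rw [hf₂, hH_smul_left hF, hH_smul_right hF, hH_sub_left hF, hH_sub_right hF, hH_sub_right hF,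
      huu, huf₁, hf₁u, hf₁f₁, inv_pow]
    have h1 : ζ⁻¹ * ((ζ ^ q)⁻¹ * (0 - 1 - (1 - 1))) = -(ζ ^ (q + 1))⁻¹ := by
      rw [pow_succ, mul_inv]
      ring
    rw [h1, hζ]
    norm_num
  have hf₂f₁ : Cfsg.hermForm (m + 1 + 2) F q f₂ f₁ = 0 := by
    rw [hf₂, hH_smul_left hF, hH_sub_left hF, huf₁, hf₁f₁, sub_self, mul_zero]
  have hfr : Module.finrank F (Fin (m + 1 + 2) → F) = m + 1 + 2 := by simp
  obtain ⟨x, hx, hx0, hx1⟩ := extend_frame hF (m + 1) (Fin (m + 1 + 2) → F) (stdHerm hF (m + 1 + 2))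
    (stdHerm_nondeg hF (m + 1 + 2)) hfr f₁ f₂ hf₁f₁ hf₂f₂ hf₂f₁
  refine ⟨(colMat_isUnit hF x hx).unit, ?_, ?_⟩
  · rw [mem_GU_iff]
    exact colMat_preserves hF x hx
  · change colMat x *ᵥ (Pi.single 0 1 + ζ • Pi.single 1 1) = u
    rw [Matrix.mulVec_add, Matrix.mulVec_smul, colMat_mulVec_single, colMat_mulVec_single, hx0, hx1,
      hf₂, smul_smul, mul_inv_cancel₀ hζ0, one_smul]
    abel

/-- `SU_n`, `n ≥ 3`, is transitive on the nonzero isotropic vectors. -/
theorem exists_SU_map {m : ℕ} (hF : Fintype.card F = q ^ 2)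
    (u w : Fin (m + 1 + 2) → F) (hu : u ≠ 0) (huu : Cfsg.hermForm (m + 1 + 2) F q u u = 0)
    (hw : w ≠ 0) (hww : Cfsg.hermForm (m + 1 + 2) F q w w = 0) :
    ∃ G : GL (Fin (m + 1 + 2)) F, G ∈ Cfsg.GU (m + 1 + 2) F q ∧
      (G : Matrix (Fin (m + 1 + 2)) (Fin (m + 1 + 2)) F).det = 1 ∧
      (G : Matrix (Fin (m + 1 + 2)) (Fin (m + 1 + 2)) F) *ᵥ u = w := by
  classical
  obtain ⟨ζ, hζ⟩ := exists_zeta' hF
  obtain ⟨Gu, hGu, hGu'⟩ := exists_GU_map_iso hF ζ hζ u hu huu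
  obtain ⟨Gw, hGw, hGw'⟩ := exists_GU_map_iso hF ζ hζ w hw hww
  obtain ⟨v₀, hv₀⟩ : ∃ v₀ : Fin (m + 1 + 2) → F, v₀ = Pi.single 0 1 + ζ • Pi.single 1 1 :=
    ⟨_, rfl⟩
  rw [← hv₀] at hGu' hGw'
  have hGu0 : (Gu : Matrix (Fin (m + 1 + 2)) (Fin (m + 1 + 2)) F).det ≠ 0 :=
    ((Matrix.isUnit_iff_isUnit_det _).mp Gu.isUnit).ne_zero
  have hGw0 : (Gw : Matrix (Fin (m + 1 + 2)) (Fin (m + 1 + 2)) F).det ≠ 0 :=
    ((Matrix.isUnit_iff_isUnit_det _).mp Gw.isUnit).ne_zero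
  obtain ⟨δ, hδ⟩ : ∃ δ : F, δ = (Gu : Matrix (Fin (m + 1 + 2)) (Fin (m + 1 + 2)) F).det *
      ((Gw : Matrix (Fin (m + 1 + 2)) (Fin (m + 1 + 2)) F).det)⁻¹ := ⟨_, rfl⟩
  have hδpow : δ ^ (q + 1) = 1 := by
    rw [hδ, mul_pow, inv_pow, GU_det_pow hF Gu hGu, GU_det_pow hF Gw hGw]
    simp
  have hδ0 : δ ≠ 0 := by
    intro h0
    rw [h0, zero_pow (by omega)] at hδpow
    exact zero_ne_one hδpow
  let d : Fin (m + 1 + 2) → F := Function.update (fun _ => (1 : F)) 2 δ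
  have hd2 : d 2 = δ := by simp [d]
  have hdne : ∀ i, i ≠ 2 → d i = 1 := by
    intro i hi
    simp [d, Function.update_of_ne hi]
  have hd : ∀ i, d i ^ (q + 1) = 1 := by
    intro i
    by_cases hi : i = 2
    · rw [hi, hd2, hδpow]
    · rw [hdne i hi, one_pow]
  have hdet : Matrix.det (Matrix.diagonal d) = δ := by
    rw [Matrix.det_diagonal, Fintype.prod_eq_single 2]
    · exact hd2
    · intro i hi
      exact hdne i hi
  let D : GL (Fin (m + 1 + 2)) F :=
    Matrix.GeneralLinearGroup.mkOfDetNeZero (Matrix.diagonal d) (by rw [hdet]; exact hδ0)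
  have hDval : (D : Matrix (Fin (m + 1 + 2)) (Fin (m + 1 + 2)) F) = Matrix.diagonal d := rfl
  have hD : D ∈ Cfsg.GU (m + 1 + 2) F q := diag_mem_GU d hd D rfl
  have hv₀2 : v₀ 2 = 0 := by
    rw [hv₀]
    have h20 : (2 : Fin (m + 1 + 2)) ≠ 0 := by
      intro h
      have h' := congrArg Fin.val h
      simp at h'
      rw [Nat.mod_eq_of_lt (by omega)] at h'
      omega
    have h21 : (2 : Fin (m + 1 + 2)) ≠ 1 := by
      intro h
      have h' := congrArg Fin.val h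
      simp at h'
      rw [Nat.mod_eq_of_lt (by omega)] at h'
      omega
    simp [Pi.single_apply, h20, h21]
  have hDv₀ : (D : Matrix (Fin (m + 1 + 2)) (Fin (m + 1 + 2)) F) *ᵥ v₀ = v₀ := by
    rw [hDval]
    funext i
    rw [Matrix.mulVec_diagonal]
    by_cases hi : i = 2
    · rw [hi, hv₀2, mul_zero]
    · rw [hdne i hi, one_mul]
  have hinv : ((Gu⁻¹ : GL (Fin (m + 1 + 2)) F) : Matrix (Fin (m + 1 + 2)) (Fin (m + 1 + 2)) F) *ᵥ u
      = v₀ := by
    rw [← hGu', Matrix.mulVec_mulVec, ← Units.val_mul, inv_mul_cancel, Units.val_one,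
      Matrix.one_mulVec]
  refine ⟨Gw * D * Gu⁻¹, ?_, ?_, ?_⟩
  · exact (Cfsg.GU _ F q).mul_mem ((Cfsg.GU _ F q).mul_mem hGw hD) ((Cfsg.GU _ F q).inv_mem hGu)
  · have h1 : Matrix.GeneralLinearGroup.det (Gw * D * Gu⁻¹) = 1 := by
      rw [map_mul, map_mul, map_inv]
      apply Units.ext
      rw [Units.val_mul, Units.val_mul, Units.val_inv_eq_inv_val,
        Matrix.GeneralLinearGroup.val_det_apply, Matrix.GeneralLinearGroup.val_det_apply,
        Matrix.GeneralLinearGroup.val_det_apply, Units.val_one, hDval, hdet, hδ]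
      field_simp
    have h2 := congrArg Units.val h1
    rwa [Matrix.GeneralLinearGroup.val_det_apply, Units.val_one] at h2
  · rw [Units.val_mul, Units.val_mul, ← Matrix.mulVec_mulVec, ← Matrix.mulVec_mulVec, hinv, hDv₀,
      hGw']

end Trans

end Cfsg.Agent.Helper44
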