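import Mathlib
import Cfsg.Agent.Lib.Helper44.QFStd

/-!
# Quadratic forms in characteristic two with a fixed polar form: flipping the type

For a nondefective quadratic form `Q` over a finite field of characteristic two and a vector `k`
with `Q k` outside the image of the Artin–Schreier map, the form `Q + (polar Q k ·)²` has the
opposite type.
-/

set_option autoImplicit false
set_option linter.unusedSectionVars false

namespace Cfsg.Agent.Helper44.SQ

open Module QuadraticMap Cfsg.Agent.Helper44.QF

universe u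

section field

variable {F : Type u} [Field F] [Fintype F] [CharP F 2]

theorem sq_inj {a b : F} (h : a ^ 2 = b ^ 2) : a = b := by
  have h1 : (a + b) ^ 2 = 0 := by rw [CharTwo.add_sq, h, CharTwo.add_self_eq_zero]
  exact CharTwo.add_eq_zero.1 ((pow_eq_zero_iff two_ne_zero).1 h1)

theorem exists_sqrt (a : F) : ∃ s : F, s ^ 2 = a := by
  obtain ⟨s, hs⟩ := FiniteField.isSquare_of_char_two (ringChar.eq F 2) a
  exact ⟨s, by rw [hs, pow_two]⟩

/-- square root in a finite field of characteristic two -/
noncomputable def sqrtF (a : F) : F := Classical.choose (exists_sqrt a)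

theorem sqrtF_sq (a : F) : (sqrtF a) ^ 2 = a := Classical.choose_spec (exists_sqrt a)

theorem sqrtF_of_sq (a : F) : sqrtF (a ^ 2) = a := sq_inj (sqrtF_sq _)

/-- the Artin–Schreier map -/
def wp : F →+ F where
  toFun t := t ^ 2 + t
  map_zero' := by simp
  map_add' a b := by rw [CharTwo.add_sq]; abel

theorem wp_apply (t : F) : wp t = t ^ 2 + t := rfl

theorem card_ker_wp : Nat.card (wp (F := F)).ker = 2 := by
  rw [Nat.card_eq_two_iff]
  refine ⟨⟨0, by simp⟩, ⟨1, by
    rw [AddMonoidHom.mem_ker, wp_apply, one_pow]; exact CharTwo.add_self_eq_zero 1⟩, ?_, ?_⟩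
  · intro h
    exact zero_ne_one (congrArg Subtype.val h)
  · ext ⟨t, ht⟩
    simp only [Set.mem_insert_iff, Set.mem_singleton_iff, Set.mem_univ, iff_true]
    rw [AddMonoidHom.mem_ker, wp_apply] at ht
    have : t * (t + 1) = 0 := by rw [← ht]; ring
    rcases mul_eq_zero.1 this with h | h
    · left; exact Subtype.ext h
    · right; apply Subtype.ext; exact CharTwo.add_eq_zero.1 h

theorem index_range_wp : (wp (F := F)).range.index = 2 := by
  have h1 := AddSubgroup.card_mul_index (wp (F := F)).ker
  have h2 := AddSubgroup.card_mul_index (wp (F := F)).range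
  rw [AddSubgroup.index_ker, card_ker_wp] at h1
  have hpos : 0 < Nat.card (wp (F := F)).range := Nat.card_pos
  have : Nat.card (wp (F := F)).range * (wp (F := F)).range.index =
      Nat.card (wp (F := F)).range * 2 := by rw [h2, ← h1, mul_comm]
  exact Nat.eq_of_mul_eq_mul_left hpos this

theorem exists_not_mem_wp : ∃ c : F, c ∉ (wp (F := F)).range := by
  by_contra h
  have h' : ∀ c : F, c ∈ (wp (F := F)).range := by
    intro c
    by_contra hc
    exact h ⟨c, hc⟩
  have : (wp (F := F)).range = ⊤ := by
    ext c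
    simp [h' c]
  have h2 := index_range_wp (F := F)
  rw [this, AddSubgroup.index_top] at h2
  omega

theorem wp_dichotomy {c : F} (hc : c ∉ (wp (F := F)).range) (y : F) :
    y ∈ (wp (F := F)).range ∨ y + c ∈ (wp (F := F)).range := by
  by_cases hy : y ∈ (wp (F := F)).range
  · exact Or.inl hy
  · right
    rw [AddSubgroup.add_mem_iff_of_index_two index_range_wp]
    exact ⟨fun h => absurd h hy, fun h => absurd h hc⟩

end field

section flip

variable {F : Type u} [Field F] [Fintype F] [CharP F 2]
variable {V : Type u} [AddCommGroup V] [Module F V]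

/-- the functions `Q + μ (polar Q k ·)²` -/
def flipQ (Q : QuadraticForm F V) (k : V) (μ : F) (v : V) : F := Q v + μ * (polar Q k v) ^ 2

theorem polar_self_zero (Q : QuadraticForm F V) (x : V) : polar Q x x = 0 := by
  rw [QuadraticMap.polar_self, two_smul]
  exact CharTwo.add_self_eq_zero _

/-- the transvection-like involution along `k` -/
def tauK (Q : QuadraticForm F V) (k : V) (l : F) : V ≃ V :=
  Function.Involutive.toPerm (fun v => v + (l * polar Q k v) • k) (by
    intro v
    show v + (l * polar Q k v) • k + (l * polar Q k (v + (l * polar Q k v) • k)) • k = v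
    rw [polar_add_right, polar_smul_right, polar_self_zero, smul_zero, add_zero, add_assoc,
      ← add_smul, CharTwo.add_self_eq_zero, zero_smul, add_zero])

theorem tauK_apply (Q : QuadraticForm F V) (k : V) (l : F) (v : V) :
    tauK Q k l v = v + (l * polar Q k v) • k := rfl

theorem polar_tauK (Q : QuadraticForm F V) (k : V) (l : F) (v : V) :
    polar Q k (tauK Q k l v) = polar Q k v := by
  rw [tauK_apply, polar_add_right, polar_smul_right, polar_self_zero, smul_zero, add_zero]

theorem flipQ_tauK (Q : QuadraticForm F V) (k : V) (l μ : F) (v : V) :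
    flipQ Q k μ (tauK Q k l v) = flipQ Q k (μ + l ^ 2 * Q k + l) v := by
  unfold flipQ
  rw [polar_tauK, tauK_apply, QuadraticMap.map_add Q v ((l * polar Q k v) • k),
    QuadraticMap.map_smul, polar_smul_right, polar_comm (⇑Q) v k]
  simp only [smul_eq_mul]
  ring

/-- the number of zeros of `flipQ` -/
noncomputable def nz (Q : QuadraticForm F V) (k : V) (μ : F) : ℕ :=
  Nat.card {v : V // flipQ Q k μ v = 0}

theorem nz_shift (Q : QuadraticForm F V) (k : V) (l μ : F) :
    nz Q k (μ + l ^ 2 * Q k + l) = nz Q k μ := by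
  unfold nz
  apply Nat.card_congr
  exact (tauK Q k l).subtypeEquiv (fun v => by rw [flipQ_tauK])

theorem nz_pair (Q : QuadraticForm F V) (k : V) (hk : Q k ∉ (wp (F := F)).range) (μ : F) :
    nz Q k μ + nz Q k (μ + 1) = nz Q k 0 + nz Q k 1 := by
  have hc0 : Q k ≠ 0 := by
    intro h
    apply hk
    rw [h]
    exact zero_mem _
  rcases wp_dichotomy hk (μ * Q k) with ⟨s, hs⟩ | ⟨s, hs⟩
  · rw [wp_apply] at hs
    have hl : (s * (Q k)⁻¹) ^ 2 * Q k + s * (Q k)⁻¹ = μ := by
      field_simp
      linear_combination hs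
    have e1 : nz Q k μ = nz Q k 0 := by
      have := nz_shift Q k (s * (Q k)⁻¹) 0
      rw [zero_add, hl] at this
      exact this
    have e2 : nz Q k (μ + 1) = nz Q k 1 := by
      have := nz_shift Q k (s * (Q k)⁻¹) 1
      rw [add_assoc, hl, add_comm] at this
      exact this
    rw [e1, e2]
  · rw [wp_apply] at hs
    have hl : (s * (Q k)⁻¹) ^ 2 * Q k + s * (Q k)⁻¹ = μ + 1 := by
      field_simp
      linear_combination hs
    have e1 : nz Q k (μ + 1) = nz Q k 0 := by
      have := nz_shift Q k (s * (Q k)⁻¹) 0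
      rw [zero_add, hl] at this
      exact this
    have e2 : nz Q k μ = nz Q k 1 := by
      have := nz_shift Q k (s * (Q k)⁻¹) 1
      rw [add_assoc, hl, add_comm, add_assoc, CharTwo.add_self_eq_zero, add_zero] at this
      exact this
    rw [e1, e2, add_comm]

theorem sum_nz [Finite V] (Q : QuadraticForm F V) (k : V) (hk0 : Q k ≠ 0) :
    ∑ μ : F, nz Q k μ = Nat.card V := by
  classical
  unfold nz
  rw [← Nat.card_sigma]
  apply Nat.card_congr
  have hpol : ∀ (w : V) (s : F), polar Q k (w + s • k) = polar Q k w := by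
    intro w s
    rw [polar_add_right, polar_smul_right, polar_self_zero, smul_zero, add_zero]
  have hQadd : ∀ (w : V) (s : F), Q (w + s • k) = Q w + s ^ 2 * Q k + s * polar Q k w := by
    intro w s
    rw [QuadraticMap.map_add Q w (s • k), QuadraticMap.map_smul, polar_smul_right,
      polar_comm (⇑Q) w k]
    simp only [smul_eq_mul]
    ring
  refine Equiv.ofBijective
    (fun p : (μ : F) × {v : V // flipQ Q k μ v = 0} =>
      if polar Q k p.2.1 = 0 then p.2.1 + p.1 • k else p.2.1) ⟨?_, ?_⟩
  · rintro ⟨μ, v, hv0⟩ ⟨μ', v', hv0'⟩ h0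
    have hv : Q v + μ * polar Q k v ^ 2 = 0 := hv0
    have hv' : Q v' + μ' * polar Q k v' ^ 2 = 0 := hv0'
    have h : (if polar Q k v = 0 then v + μ • k else v) =
        (if polar Q k v' = 0 then v' + μ' • k else v') := h0
    have ht : polar Q k v = polar Q k v' := by
      have h1 : polar Q k (if polar Q k v = 0 then v + μ • k else v) =
          polar Q k (if polar Q k v' = 0 then v' + μ' • k else v') := by rw [h]
      by_cases a : polar Q k v = 0
      · by_cases b : polar Q k v' = 0
        · rw [a, b]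
        · rw [if_pos a, if_neg b, hpol, a] at h1
          exact absurd h1.symm b
      · by_cases b : polar Q k v' = 0
        · rw [if_neg a, if_pos b, hpol, b] at h1
          exact absurd h1 a
        · rw [if_neg a, if_neg b] at h1
          exact h1
    by_cases a : polar Q k v = 0
    · have b : polar Q k v' = 0 := by rw [← ht]; exact a
      rw [if_pos a, if_pos b] at h
      rw [a] at hv
      rw [b] at hv'
      have hq0 : Q v = 0 := by simpa using hv
      have hq0' : Q v' = 0 := by simpa using hv'
      have h2 : Q (v + μ • k) = Q (v' + μ' • k) := by rw [h]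
      rw [hQadd, hQadd, hq0, hq0', a, b] at h2
      have h3 : μ ^ 2 = μ' ^ 2 := by
        have : μ ^ 2 * Q k = μ' ^ 2 * Q k := by linear_combination h2
        exact mul_right_cancel₀ hk0 this
      have hμ : μ = μ' := sq_inj h3
      subst hμ
      have hvv : v = v' := add_right_cancel h
      subst hvv
      rfl
    · have b : ¬ polar Q k v' = 0 := by rw [← ht]; exact a
      rw [if_neg a, if_neg b] at h
      subst h
      have h3 : μ * (polar Q k v) ^ 2 = μ' * (polar Q k v) ^ 2 := by
        linear_combination hv - hv'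
      have hμ : μ = μ' := mul_right_cancel₀ (pow_ne_zero 2 a) h3
      subst hμ
      rfl
  · intro w
    by_cases a : polar Q k w = 0
    · refine ⟨⟨sqrtF (Q w / Q k), ⟨w + sqrtF (Q w / Q k) • k, ?_⟩⟩, ?_⟩
      · unfold flipQ
        rw [hpol, a, hQadd, a, sqrtF_sq, div_mul_cancel₀ _ hk0]
        linear_combination (Q w) * (CharTwo.two_eq_zero : (2 : F) = 0)
      · simp only
        rw [if_pos (by rw [hpol]; exact a), add_assoc, ← add_smul, CharTwo.add_self_eq_zero,
          zero_smul, add_zero]
    · refine ⟨⟨Q w / (polar Q k w) ^ 2, ⟨w, ?_⟩⟩, ?_⟩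
      · unfold flipQ
        rw [div_mul_cancel₀ _ (pow_ne_zero 2 a)]
        exact CharTwo.add_self_eq_zero _
      · simp only
        rw [if_neg a]

theorem nz_zero_add_one [Finite V] (Q : QuadraticForm F V) (k : V)
    (hk : Q k ∉ (wp (F := F)).range) :
    Fintype.card F * (nz Q k 0 + nz Q k 1) = 2 * Nat.card V := by
  have hc0 : Q k ≠ 0 := by
    intro h
    apply hk
    rw [h]
    exact zero_mem _
  have h1 : ∑ μ : F, (nz Q k μ + nz Q k (μ + 1)) = ∑ _μ : F, (nz Q k 0 + nz Q k 1) :=
    Finset.sum_congr rfl (fun μ _ => nz_pair Q k hk μ)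
  rw [Finset.sum_add_distrib, Finset.sum_const, Finset.card_univ, smul_eq_mul] at h1
  have h2 : ∑ μ : F, nz Q k (μ + 1) = ∑ μ : F, nz Q k μ :=
    Equiv.sum_comp (Equiv.addRight (1 : F)) (fun μ => nz Q k μ)
  rw [h2, sum_nz Q k hc0] at h1
  rw [two_mul]
  exact h1.symm

/-- adding the square of a linear functional -/
noncomputable def addSq (Q : QuadraticForm F V) (θ : V →ₗ[F] F) : QuadraticForm F V :=
  Q + QuadraticMap.linMulLin θ θ

theorem addSq_apply (Q : QuadraticForm F V) (θ : V →ₗ[F] F) (v : V) :
    addSq Q θ v = Q v + (θ v) ^ 2 := by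
  show Q v + (QuadraticMap.linMulLin θ θ) v = _
  rw [linMulLin_apply, pow_two]

theorem polar_addSq (Q : QuadraticForm F V) (θ : V →ₗ[F] F) (x y : V) :
    polar (addSq Q θ) x y = polar Q x y := by
  unfold polar
  rw [addSq_apply, addSq_apply, addSq_apply, LinearMap.map_add θ x y]
  linear_combination (θ x * θ y) * (CharTwo.two_eq_zero : (2 : F) = 0)

/-- the flipped quadratic form -/
noncomputable def flipForm (Q : QuadraticForm F V) (k : V) : QuadraticForm F V :=
  addSq Q (polarBilin Q k)

theorem flipForm_apply (Q : QuadraticForm F V) (k v : V) :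
    flipForm Q k v = Q v + (polar Q k v) ^ 2 := by
  rw [flipForm, addSq_apply, polarBilin_apply_apply]

theorem polar_flipForm (Q : QuadraticForm F V) (k x y : V) :
    polar (flipForm Q k) x y = polar Q x y := polar_addSq Q _ x y

theorem rep_eq_nz_zero (Q : QuadraticForm F V) (k : V) : rep (⇑Q) 0 = nz Q k 0 := by
  unfold rep nz
  apply Nat.card_congr
  apply Equiv.subtypeEquivRight
  intro v
  rw [flipQ, zero_mul, add_zero]

theorem rep_flip_eq_nz_one (Q : QuadraticForm F V) (k : V) :
    rep (⇑(flipForm Q k)) 0 = nz Q k 1 := by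
  unfold rep nz
  apply Nat.card_congr
  apply Equiv.subtypeEquivRight
  intro v
  rw [flipForm_apply, flipQ, one_mul]

theorem not_hasType_same [Module.Finite F V] (Q : QuadraticForm F V) (m : ℕ)
    (hfr : finrank F V = 2 * m) (k : V) (hk : Q k ∉ (wp (F := F)).range) (ε : ℤ)
    (hε : ε = 1 ∨ ε = -1) (hT : HasType (⇑Q) m ε) (hT' : HasType (⇑(flipForm Q k)) m ε) :
    False := by
  have : Finite V := Module.finite_of_finite F
  have : Fintype V := Fintype.ofFinite V
  have a := hT 0
  have b := hT' 0
  rw [if_pos rfl] at a b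
  rw [rep_eq_nz_zero Q k] at a
  rw [rep_flip_eq_nz_one Q k] at b
  have key := nz_zero_add_one Q k hk
  rw [Nat.card_eq_fintype_card, Module.card_eq_pow_finrank (K := F) (V := V), hfr] at key
  have key' : (Fintype.card F : ℤ) * ((nz Q k 0 : ℤ) + (nz Q k 1 : ℤ)) =
      2 * (Fintype.card F : ℤ) ^ (2 * m) := by exact_mod_cast key
  have hq : (2 : ℤ) ≤ (Fintype.card F : ℤ) := by exact_mod_cast Fintype.one_lt_card
  have hpos : (0 : ℤ) < (Fintype.card F : ℤ) ^ m := pow_pos (by linarith) m
  have h3 : 2 * (ε * ((Fintype.card F : ℤ) ^ (m + 1) - (Fintype.card F : ℤ) ^ m)) = 0 := by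
    linear_combination key' - a - b
  have h4 : (Fintype.card F : ℤ) ^ (m + 1) = (Fintype.card F : ℤ) ^ m := by
    rcases hε with rfl | rfl <;> linarith
  rw [pow_succ] at h4
  have h5 : (Fintype.card F : ℤ) ^ m * 2 ≤ (Fintype.card F : ℤ) ^ m * (Fintype.card F : ℤ) :=
    mul_le_mul_of_nonneg_left hq hpos.le
  linarith

theorem hasType_flip [Module.Finite F V] (Q : QuadraticForm F V)
    (hnd : ∀ x, (∀ y, polar Q x y = 0) → x = 0) (m : ℕ) (hfr : finrank F V = 2 * m) (k : V)
    (hk : Q k ∉ (wp (F := F)).range) (ε : ℤ) (hε : ε = 1 ∨ ε = -1) (hT : HasType (⇑Q) m ε) :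
    HasType (⇑(flipForm Q k)) m (-ε) := by
  have hnd' : ∀ x, (∀ y, polar (flipForm Q k) x y = 0) → x = 0 := fun x hx =>
    hnd x (fun y => by rw [← polar_flipForm Q k]; exact hx y)
  rcases hasType_or (flipForm Q k) hnd' m hfr with h | h
  · rcases hε with rfl | rfl
    · exact absurd h (fun h => not_hasType_same Q m hfr k hk 1 (Or.inl rfl) hT h)
    · simpa using h
  · rcases hε with rfl | rfl
    · exact h
    · exact absurd h (fun h => not_hasType_same Q m hfr k hk (-1) (Or.inr rfl) hT h)

end flip

end Cfsg.Agent.Helper44.SQ
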