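import Mathlib
import Cfsg.Agent.Lib.Helper44.SQa
import Cfsg.Agent.S0831
import Cfsg.Agent.S2171

/-!
# Quadratic forms in characteristic two invariant under an involution of the polar form
-/

set_option autoImplicit false
set_option linter.unusedSectionVars false

namespace Cfsg.Agent.Helper44.SQ

open Module QuadraticMap Cfsg.Agent.Helper44.QF

universe u

variable {F : Type u} [Field F] [Fintype F] [CharP F 2]
variable {V : Type u} [AddCommGroup V] [Module F V] [Module.Finite F V]

theorem mod_add_self (F : Type u) [Field F] [CharP F 2] {V : Type u} [AddCommGroup V]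
    [Module F V] (v : V) : v + v = 0 := by
  rw [← two_smul F v, CharTwo.two_eq_zero, zero_smul]

theorem eq_of_add_eq_zero' (F : Type u) [Field F] [CharP F 2] {V : Type u} [AddCommGroup V]
    [Module F V] {a b : V} (h : a + b = 0) : a = b := by
  have h1 : a = -b := eq_neg_of_add_eq_zero_left h
  have h2 : -b = b := neg_eq_of_add_eq_zero_left (mod_add_self F b)
  rw [h1, h2]

/-- forms of the same type are isometric -/
theorem exists_isometry (Q₁ Q₂ : QuadraticForm F V)
    (h₁ : ∀ x, (∀ y, polar Q₁ x y = 0) → x = 0) (h₂ : ∀ x, (∀ y, polar Q₂ x y = 0) → x = 0)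
    (m : ℕ) (hfr : finrank F V = 2 * m) (ε : ℤ) (hε : ε = 1 ∨ ε = -1)
    (t₁ : HasType (⇑Q₁) m ε) (t₂ : HasType (⇑Q₂) m ε) :
    ∃ e : V ≃ₗ[F] V, ∀ v, Q₂ (e v) = Q₁ v := by
  rcases hε with rfl | rfl
  · obtain ⟨e₁, he₁⟩ := exists_equiv_plus Q₁ h₁ m hfr t₁
    obtain ⟨e₂, he₂⟩ := exists_equiv_plus Q₂ h₂ m hfr t₂
    refine ⟨e₁ ≪≫ₗ e₂.symm, fun v => ?_⟩
    rw [← he₂, ← he₁]
    show Cfsg.quadFormPlus m F (e₂ (e₂.symm (e₁ v))) = _
    rw [LinearEquiv.apply_symm_apply]
  · obtain ⟨a, c, hac⟩ := exists_aniso F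
    obtain ⟨e₁, he₁⟩ := exists_equiv_minus Q₁ h₁ m hfr t₁ a c hac
    obtain ⟨e₂, he₂⟩ := exists_equiv_minus Q₂ h₂ m hfr t₂ a c hac
    refine ⟨e₁ ≪≫ₗ e₂.symm, fun v => ?_⟩
    rw [← he₂, ← he₁]
    show Cfsg.quadFormMinus (m - 1) F a c (e₂ (e₂.symm (e₁ v))) = _
    rw [LinearEquiv.apply_symm_apply]

theorem nondeg_polarBilin (Q : QuadraticForm F V)
    (hnd : ∀ x, (∀ y, polar Q x y = 0) → x = 0) : (polarBilin Q).Nondegenerate := by
  constructor
  · intro u hu
    exact hnd u (fun y => by rw [← polarBilin_apply_apply]; exact hu y)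
  · intro v hv
    apply hnd v
    intro u
    rw [polar_comm, ← polarBilin_apply_apply]
    exact hv u

/-- totally singular subspaces have at most half the dimension -/
theorem finrank_ts_le (Q : QuadraticForm F V) (hnd : ∀ x, (∀ y, polar Q x y = 0) → x = 0)
    (m : ℕ) (hfr : finrank F V = 2 * m) (U : Submodule F V) (hU : ∀ u ∈ U, Q u = 0) :
    finrank F U ≤ m := by
  have hB := nondeg_polarBilin Q hnd
  have hle : U ≤ LinearMap.BilinForm.orthogonal (polarBilin Q) U := by
    intro x hx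
    rw [LinearMap.BilinForm.mem_orthogonal_iff]
    intro n hn
    show polarBilin Q n x = 0
    rw [polarBilin_apply_apply]
    unfold polar
    rw [hU _ (U.add_mem hn hx), hU n hn, hU x hx]
    simp
  have h1 := Submodule.finrank_mono hle
  rw [LinearMap.BilinForm.finrank_orthogonal hB, hfr] at h1
  omega

theorem aniso_mid_ne_zero {a c : F}
    (hac : ∀ z₁ z₂ : F, z₁ ^ 2 + a * z₁ * z₂ + c * z₂ ^ 2 = 0 → z₁ = 0 ∧ z₂ = 0) : a ≠ 0 := by
  rintro rfl
  have := (hac (sqrtF c) 1 (by
    rw [sqrtF_sq]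
    linear_combination c * (CharTwo.two_eq_zero : (2 : F) = 0))).2
  exact one_ne_zero this

/-- in a form of minus type totally singular subspaces have less than half the dimension -/
theorem finrank_ts_lt_of_minus (Q : QuadraticForm F V)
    (hnd : ∀ x, (∀ y, polar Q x y = 0) → x = 0) (m : ℕ) (hm : 1 ≤ m)
    (hfr : finrank F V = 2 * m) (hT : HasType (⇑Q) m (-1)) (U : Submodule F V)
    (hU : ∀ u ∈ U, Q u = 0) : finrank F U < m := by
  obtain ⟨a, c, hac⟩ := exists_aniso F
  obtain ⟨e, he⟩ := exists_equiv_minus Q hnd m hfr hT a c hac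
  have ha := aniso_mid_ne_zero hac
  have h := Cfsg.Agent.S2171.noTS (k := m - 1) a c hac ha (U.map e.toLinearMap) (by
    rintro _ ⟨u, hu, rfl⟩
    show Cfsg.quadFormMinus (m - 1) F a c (e u) = 0
    rw [he]
    exact hU u hu)
  rw [LinearEquiv.finrank_map_eq] at h
  simp only [Fintype.card_sum, Fintype.card_fin] at h
  omega

/-- plus type means that there is a totally singular subspace of half the dimension -/
theorem hasType_one_iff (Q : QuadraticForm F V) (hnd : ∀ x, (∀ y, polar Q x y = 0) → x = 0)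
    (m : ℕ) (hm : 1 ≤ m) (hfr : finrank F V = 2 * m) :
    HasType (⇑Q) m 1 ↔ ∃ U : Submodule F V, (∀ u ∈ U, Q u = 0) ∧ finrank F U = m := by
  constructor
  · intro hT
    obtain ⟨e, he⟩ := exists_equiv_plus Q hnd m hfr hT
    obtain ⟨U₀, -, ⟨hU₀, hU₀'⟩, -, -⟩ := (Cfsg.Agent.S0831.result (F := F) m hm).2
    refine ⟨U₀.map e.symm.toLinearMap, ?_, ?_⟩
    · rintro _ ⟨w, hw, rfl⟩
      rw [← he]
      show Cfsg.quadFormPlus m F (e (e.symm w)) = 0
      rw [LinearEquiv.apply_symm_apply]
      exact hU₀' w hw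
    · rw [LinearEquiv.finrank_map_eq]
      exact hU₀
  · rintro ⟨U, hU, hUd⟩
    rcases hasType_or Q hnd m hfr with h | h
    · exact h
    · exfalso
      have := finrank_ts_lt_of_minus Q hnd m hm hfr h U hU
      omega

/-- an invariant quadratic form with the same polar form -/
theorem exists_invariant (Q : QuadraticForm F V) (X : V →ₗ[F] V) (hXX : ∀ v, X (X v) = v)
    (hX : ∀ u v, polar Q (X u) (X v) = polar Q u v) :
    ∃ θ : V →ₗ[F] F, ∀ v, addSq Q θ (X v) = addSq Q θ v := by
  let ψ : V →ₗ[F] F :=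
    { toFun := fun v => sqrtF (Q (X v) + Q v)
      map_add' := fun u v => by
        apply sq_inj
        rw [CharTwo.add_sq, sqrtF_sq, sqrtF_sq, sqrtF_sq, map_add,
          QuadraticMap.map_add Q (X u) (X v), QuadraticMap.map_add Q u v, hX]
        linear_combination (polar Q u v) * (CharTwo.two_eq_zero : (2 : F) = 0)
      map_smul' := fun c v => by
        apply sq_inj
        rw [RingHom.id_apply, smul_eq_mul, mul_pow, sqrtF_sq, sqrtF_sq, map_smul,
          QuadraticMap.map_smul, QuadraticMap.map_smul]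
        simp only [smul_eq_mul]
        ring }
  have hψ : ∀ v, (ψ v) ^ 2 = Q (X v) + Q v := fun v => sqrtF_sq _
  have hker : ψ ∈ (LinearMap.ker (X + LinearMap.id)).dualAnnihilator := by
    rw [Submodule.mem_dualAnnihilator]
    intro w hw
    have hw1 : X w + w = 0 := hw
    have hw' : X w = w := eq_of_add_eq_zero' F hw1
    apply sq_inj
    rw [hψ, hw']
    simp [CharTwo.add_self_eq_zero]
  rw [← LinearMap.range_dualMap_eq_dualAnnihilator_ker] at hker
  obtain ⟨θ, hθ⟩ := hker
  have hθ' : ∀ v, θ (X v + v) = ψ v := fun v => by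
    rw [← hθ]
    rfl
  refine ⟨θ, fun v => ?_⟩
  rw [addSq_apply, addSq_apply]
  have h1 : (θ (X v) + θ v) ^ 2 = Q (X v) + Q v := by rw [← map_add, hθ', hψ]
  rw [CharTwo.add_sq] at h1
  linear_combination h1 + (Q (X v) - θ v ^ 2) * (CharTwo.two_eq_zero : (2 : F) = 0)

theorem polar_invariant (Q : QuadraticForm F V) (X : V →ₗ[F] V) (hXQ : ∀ v, Q (X v) = Q v)
    (u v : V) : polar Q (X u) (X v) = polar Q u v := by
  unfold polar
  rw [← map_add, hXQ, hXQ, hXQ]

theorem flip_invariant (Q : QuadraticForm F V) (X : V →ₗ[F] V) (hXQ : ∀ v, Q (X v) = Q v)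
    (k : V) (hk : X k = k) (v : V) : flipForm Q k (X v) = flipForm Q k v := by
  rw [flipForm_apply, flipForm_apply, hXQ]
  have : polar Q k (X v) = polar Q k v := by
    conv_lhs => rw [← hk]
    exact polar_invariant Q X hXQ k v
  rw [this]

/-- the fixed space of an involution has at least half the dimension -/
theorem le_finrank_fixed (X : V →ₗ[F] V) (hXX : ∀ v, X (X v) = v) (m : ℕ)
    (hfr : finrank F V = 2 * m) : m ≤ finrank F (LinearMap.ker (X + LinearMap.id)) := by
  have h1 := LinearMap.finrank_range_add_finrank_ker (X + LinearMap.id)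
  have hle : LinearMap.range (X + LinearMap.id) ≤ LinearMap.ker (X + LinearMap.id) := by
    rintro _ ⟨v, rfl⟩
    rw [LinearMap.mem_ker]
    show X (X v + v) + (X v + v) = 0
    rw [map_add, hXX]
    have := mod_add_self F (X v + v)
    rw [add_comm v (X v)]
    exact this
  have h2 := Submodule.finrank_mono hle
  omega

/-- invariant forms of a prescribed type, or the exceptional situation -/
theorem exists_invariant_of_type (Q : QuadraticForm F V)
    (hnd : ∀ x, (∀ y, polar Q x y = 0) → x = 0) (m : ℕ) (hm : 1 ≤ m)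
    (hfr : finrank F V = 2 * m) (X : V →ₗ[F] V) (hXX : ∀ v, X (X v) = v)
    (hX : ∀ u v, polar Q (X u) (X v) = polar Q u v) (ε : ℤ) (hε : ε = 1 ∨ ε = -1) :
    (∃ Q' : QuadraticForm F V, (∀ u v, polar Q' u v = polar Q u v) ∧ (∀ v, Q' (X v) = Q' v) ∧
      HasType (⇑Q') m ε) ∨
    (ε = -1 ∧ ∃ Q' : QuadraticForm F V, (∀ u v, polar Q' u v = polar Q u v) ∧
      (∀ v, Q' (X v) = Q' v) ∧ ∀ k, X k = k → Q' k = 0) := by
  obtain ⟨θ, hθ⟩ := exists_invariant Q X hXX hX
  have hpol : ∀ u v, polar (addSq Q θ) u v = polar Q u v := polar_addSq Q θ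
  have hnd' : ∀ x, (∀ y, polar (addSq Q θ) x y = 0) → x = 0 := fun x hx =>
    hnd x (fun y => by rw [← hpol]; exact hx y)
  -- the type of the invariant form
  obtain ⟨ε', hε', hT'⟩ : ∃ ε' : ℤ, (ε' = 1 ∨ ε' = -1) ∧ HasType (⇑(addSq Q θ)) m ε' := by
    rcases hasType_or (addSq Q θ) hnd' m hfr with h | h
    · exact ⟨1, Or.inl rfl, h⟩
    · exact ⟨-1, Or.inr rfl, h⟩
  by_cases hee : ε' = ε
  · left
    exact ⟨addSq Q θ, hpol, hθ, hee ▸ hT'⟩
  · have hneg : -ε' = ε := by
      rcases hε with rfl | rfl <;> rcases hε' with rfl | rfl <;> simp_all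
    by_cases hex : ∃ k, X k = k ∧ addSq Q θ k ≠ 0
    · left
      obtain ⟨k, hk, hk0⟩ := hex
      obtain ⟨c₀, hc₀⟩ := exists_not_mem_wp (F := F)
      obtain ⟨k₁, hk₁⟩ : ∃ k₁ : V, k₁ = sqrtF (c₀ / addSq Q θ k) • k := ⟨_, rfl⟩
      have hXk₁ : X k₁ = k₁ := by rw [hk₁, map_smul, hk]
      have hQk₁ : addSq Q θ k₁ = c₀ := by
        rw [hk₁, QuadraticMap.map_smul, ← pow_two, sqrtF_sq, smul_eq_mul, div_mul_cancel₀ _ hk0]
      refine ⟨flipForm (addSq Q θ) k₁, ?_, ?_, ?_⟩
      · intro u v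
        rw [polar_flipForm, hpol]
      · exact flip_invariant (addSq Q θ) X hθ k₁ hXk₁
      · rw [← hneg]
        exact hasType_flip (addSq Q θ) hnd' m hfr k₁ (by rw [hQk₁]; exact hc₀) ε' hε' hT'
    · right
      have hts : ∀ k, X k = k → addSq Q θ k = 0 := by
        intro k hk
        by_contra h
        exact hex ⟨k, hk, h⟩
      refine ⟨?_, addSq Q θ, hpol, hθ, hts⟩
      -- the type of the invariant form is plus
      rcases hε' with rfl | rfl
      · rcases hε with rfl | rfl
        · exact absurd rfl hee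
        · rfl
      · exfalso
        have h1 := finrank_ts_lt_of_minus (addSq Q θ) hnd' m hm hfr hT'
          (LinearMap.ker (X + LinearMap.id)) (by
            intro u hu
            apply hts
            have hu1 : X u + u = 0 := hu
            exact eq_of_add_eq_zero' F hu1)
        have h2 := le_finrank_fixed X hXX m hfr
        omega

end Cfsg.Agent.Helper44.SQ
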