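import Mathlib
import Cfsg.Agent.Lib.Helper44.SQb
import Cfsg.Agent.S2166
import Cfsg.Agent.S0270
import Cfsg.Agent.Lib.Helper93.SpCtr

/-!
# Involutions of `Sp_2d(q)`, `q` even, are conjugate into orthogonal groups (matrix level)
-/

set_option autoImplicit false
set_option linter.unusedSectionVars false

namespace Cfsg.Agent.Helper44.SQ

open Module QuadraticMap Matrix Cfsg.Agent.Helper44.QF

universe u

section general

variable {F : Type u} [Field F] {ι : Type} [Fintype ι] [DecidableEq ι]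

/-- the bundled quadratic form -/
noncomputable def mkQF (Q : (ι → F) → F) (hQ : Cfsg.Geo.IsNondegenerateQuadraticForm Q) :
    QuadraticForm F (ι → F) :=
  QuadraticMap.ofPolar Q (fun a x => by rw [hQ.smul, smul_eq_mul, pow_two])
    (fun x x' y => hQ.polar_bilinear.add_left x x' y)
    (fun a x y => by rw [hQ.polar_bilinear.smul_left, smul_eq_mul])

theorem mkQF_apply (Q : (ι → F) → F) (hQ : Cfsg.Geo.IsNondegenerateQuadraticForm Q)
    (v : ι → F) : mkQF Q hQ v = Q v := rfl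

theorem mkQF_nd (Q : (ι → F) → F) (hQ : Cfsg.Geo.IsNondegenerateQuadraticForm Q) :
    ∀ x, (∀ y, polar (mkQF Q hQ) x y = 0) → x = 0 := by
  intro x hx
  by_contra h0
  obtain ⟨-, ⟨y, hy⟩⟩ := hQ.nondegenerate x h0
  exact hy (hx y)

/-- the invertible matrix of a linear automorphism -/
noncomputable def glOf (e : (ι → F) ≃ₗ[F] (ι → F)) : GL ι F :=
  ⟨LinearMap.toMatrix' e.toLinearMap, LinearMap.toMatrix' e.symm.toLinearMap, by
    rw [← LinearMap.toMatrix'_comp]
    have : e.toLinearMap ∘ₗ e.symm.toLinearMap = LinearMap.id := by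
      apply LinearMap.ext; intro v; simp
    rw [this, LinearMap.toMatrix'_id], by
    rw [← LinearMap.toMatrix'_comp]
    have : e.symm.toLinearMap ∘ₗ e.toLinearMap = LinearMap.id := by
      apply LinearMap.ext; intro v; simp
    rw [this, LinearMap.toMatrix'_id]⟩

theorem glOf_mulVec (e : (ι → F) ≃ₗ[F] (ι → F)) (v : ι → F) :
    ((glOf e : GL ι F) : Matrix ι ι F) *ᵥ v = e v :=
  LinearMap.toMatrix'_mulVec _ _

theorem glOf_inv_mulVec (e : (ι → F) ≃ₗ[F] (ι → F)) (v : ι → F) :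
    (((glOf e)⁻¹ : GL ι F) : Matrix ι ι F) *ᵥ v = e.symm v :=
  LinearMap.toMatrix'_mulVec _ _

theorem gl_mul_mulVec (g h : GL ι F) (v : ι → F) :
    ((g * h : GL ι F) : Matrix ι ι F) *ᵥ v =
      (g : Matrix ι ι F) *ᵥ ((h : Matrix ι ι F) *ᵥ v) := by
  rw [Units.val_mul, Matrix.mulVec_mulVec]

theorem gl_inv_mulVec_mulVec (g : GL ι F) (v : ι → F) :
    ((g⁻¹ : GL ι F) : Matrix ι ι F) *ᵥ ((g : Matrix ι ι F) *ᵥ v) = v := by
  rw [← gl_mul_mulVec, inv_mul_cancel, Units.val_one, Matrix.one_mulVec]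

theorem gl_mulVec_inv_mulVec (g : GL ι F) (v : ι → F) :
    (g : Matrix ι ι F) *ᵥ (((g⁻¹ : GL ι F) : Matrix ι ι F) *ᵥ v) = v := by
  rw [← gl_mul_mulVec, mul_inv_cancel, Units.val_one, Matrix.one_mulVec]

end general

section symp

variable {F : Type u} [Field F] [Fintype F] [CharP F 2] {d : ℕ}

theorem finrank_V' : finrank F (Fin d ⊕ Fin d → F) = 2 * d := by
  rw [Module.finrank_fintype_fun_eq_card, Fintype.card_sum, Fintype.card_fin]
  omega

omit [Fintype F] [CharP F 2] in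
theorem exists_sympForm_ne_zero (hd : 1 ≤ d) :
    ∃ u v : Fin d ⊕ Fin d → F, Cfsg.sympForm d F u v ≠ 0 := by
  have hne : (Pi.single (Sum.inl ⟨0, hd⟩) 1 : Fin d ⊕ Fin d → F) ≠ 0 := by
    intro h
    have := congrFun h (Sum.inl ⟨0, hd⟩)
    simp at this
  obtain ⟨-, ⟨x, hx⟩⟩ := Cfsg.Agent.Helper93.sympForm_nondeg d _ hne
  exact ⟨_, x, hx⟩

/-- similarities of `Q` inside the symplectic group are isometries -/
theorem isometry_of_mem (hd : 1 ≤ d) (Q : (Fin d ⊕ Fin d → F) → F)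
    (hQf : ∀ u v, QuadraticMap.polar Q u v = Cfsg.sympForm d F u v)
    (y : GL (Fin d ⊕ Fin d) F) (hy : y ∈ Cfsg.spGL d F)
    (hyQ : y ∈ Cfsg.Geo.quadSimilarityGroup Q) (v : Fin d ⊕ Fin d → F) :
    Q ((y : Matrix (Fin d ⊕ Fin d) (Fin d ⊕ Fin d) F) *ᵥ v) = Q v := by
  obtain ⟨c, hc⟩ := hyQ
  obtain ⟨u, w, huw⟩ := exists_sympForm_ne_zero (F := F) hd
  have h1 : Cfsg.sympForm d F ((y : Matrix _ _ F) *ᵥ u) ((y : Matrix _ _ F) *ᵥ w) =
      (c : F) * Cfsg.sympForm d F u w := by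
    rw [← hQf, ← hQf]
    unfold QuadraticMap.polar
    rw [← Matrix.mulVec_add, hc, hc, hc]
    ring
  have h2 : Cfsg.sympForm d F ((y : Matrix _ _ F) *ᵥ u) ((y : Matrix _ _ F) *ᵥ w) =
      Cfsg.sympForm d F u w := hy u w
  have hc1 : (c : F) = 1 := by
    have : ((c : F) - 1) * Cfsg.sympForm d F u w = 0 := by linear_combination h2 - h1
    rcases mul_eq_zero.1 this with h | h
    · exact sub_eq_zero.1 h
    · exact absurd h huw
  rw [hc, hc1, one_mul]

/-- every involution of the symplectic group preserves a conjugate of `Q` when `Q` is of plus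
type or `d` is odd -/
theorem conj_mem_of_involution (hd : 1 ≤ d) (Q : (Fin d ⊕ Fin d → F) → F)
    (hQ : Cfsg.Geo.IsNondegenerateQuadraticForm Q)
    (hQf : ∀ u v, QuadraticMap.polar Q u v = Cfsg.sympForm d F u v)
    (hplus : Cfsg.Geo.IsPlusTypeOn Q ⊤ ∨ Odd d)
    (x : GL (Fin d ⊕ Fin d) F) (hx : x ∈ Cfsg.spGL d F) (hxx : x * x = 1) :
    ∃ g ∈ Cfsg.spGL d F, g⁻¹ * x * g ∈ Cfsg.Geo.quadSimilarityGroup Q := by
  have hnd := mkQF_nd Q hQ
  have hfr := finrank_V' (F := F) (d := d)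
  obtain ⟨X, hXdef⟩ : ∃ X : (Fin d ⊕ Fin d → F) →ₗ[F] (Fin d ⊕ Fin d → F),
      X = Matrix.toLin' (x : Matrix (Fin d ⊕ Fin d) (Fin d ⊕ Fin d) F) := ⟨_, rfl⟩
  have hXv : ∀ v, X v = (x : Matrix (Fin d ⊕ Fin d) (Fin d ⊕ Fin d) F) *ᵥ v := by
    intro v
    rw [hXdef, Matrix.toLin'_apply]
  have hXX : ∀ v, X (X v) = v := by
    intro v
    rw [hXv, hXv, ← gl_mul_mulVec, hxx, Units.val_one, Matrix.one_mulVec]
  have hpolQ : ∀ u v, polar (mkQF Q hQ) u v = Cfsg.sympForm d F u v := hQf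
  have hX : ∀ u v, polar (mkQF Q hQ) (X u) (X v) = polar (mkQF Q hQ) u v := by
    intro u v
    rw [hpolQ, hpolQ, hXv, hXv]
    exact hx u v
  obtain ⟨ε, hε, hT⟩ : ∃ ε : ℤ, (ε = 1 ∨ ε = -1) ∧ HasType (⇑(mkQF Q hQ)) d ε := by
    rcases hasType_or (mkQF Q hQ) hnd d hfr with h | h
    · exact ⟨1, Or.inl rfl, h⟩
    · exact ⟨-1, Or.inr rfl, h⟩
  rcases exists_invariant_of_type (mkQF Q hQ) hnd d hd hfr X hXX hX ε hε with
    ⟨Q', hpol', hinv', hT'⟩ | ⟨hεm, Q', hpol', hinv', hts'⟩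
  · have hnd' : ∀ x, (∀ y, polar Q' x y = 0) → x = 0 := fun x hx' =>
      hnd x (fun y => by rw [← hpol']; exact hx' y)
    obtain ⟨e, he⟩ := exists_isometry Q' (mkQF Q hQ) hnd' hnd d hfr ε hε hT' hT
    have hesymp : ∀ u v, Cfsg.sympForm d F (e u) (e v) = Cfsg.sympForm d F u v := by
      intro u v
      calc Cfsg.sympForm d F (e u) (e v) = polar (mkQF Q hQ) (e u) (e v) := (hpolQ _ _).symm
        _ = polar Q' u v := by
          unfold polar
          rw [← map_add, he, he, he]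
        _ = polar (mkQF Q hQ) u v := hpol' u v
        _ = Cfsg.sympForm d F u v := hpolQ u v
    refine ⟨glOf e.symm, ?_, ?_⟩
    · intro u v
      show Cfsg.sympForm d F (((glOf e.symm : GL _ F) : Matrix _ _ F) *ᵥ u)
        (((glOf e.symm : GL _ F) : Matrix _ _ F) *ᵥ v) = Cfsg.sympForm d F u v
      rw [glOf_mulVec, glOf_mulVec]
      have := hesymp (e.symm u) (e.symm v)
      rw [LinearEquiv.apply_symm_apply, LinearEquiv.apply_symm_apply] at this
      exact this.symm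
    · refine ⟨1, fun v => ?_⟩
      rw [gl_mul_mulVec, gl_mul_mulVec, glOf_mulVec, glOf_inv_mulVec, LinearEquiv.symm_symm,
        Units.val_one, one_mul, ← hXv]
      have h1 := he (X (e.symm v))
      rw [hinv', ← he, LinearEquiv.apply_symm_apply] at h1
      exact h1
  · exfalso
    subst hεm
    have hnd' : ∀ x, (∀ y, polar Q' x y = 0) → x = 0 := fun x hx' =>
      hnd x (fun y => by rw [← hpol']; exact hx' y)
    -- `Q` is not of plus type
    have hnp : ¬ Cfsg.Geo.IsPlusTypeOn Q ⊤ := by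
      rintro ⟨U, -, hU, hUd⟩
      rw [finrank_top, hfr] at hUd
      have h1 : HasType (⇑(mkQF Q hQ)) d 1 :=
        (hasType_one_iff (mkQF Q hQ) hnd d hd hfr).2 ⟨U, hU, by omega⟩
      exact hasType_unique _ d h1 hT
    have hodd : Odd d := hplus.resolve_left hnp
    -- the fixed space has dimension exactly `d`
    have hKts : ∀ u ∈ LinearMap.ker (X + LinearMap.id), Q' u = 0 := by
      intro u hu
      apply hts'
      have hu1 : X u + u = 0 := hu
      exact eq_of_add_eq_zero' F hu1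
    have hK1 := finrank_ts_le Q' hnd' d hfr _ hKts
    have hK2 := le_finrank_fixed X hXX d hfr
    have hK : finrank F (LinearMap.ker (X + LinearMap.id)) = d := le_antisymm hK1 hK2
    have hrange := LinearMap.finrank_range_add_finrank_ker (X + LinearMap.id)
    rw [hK, hfr] at hrange
    have hrk : ((x : Matrix (Fin d ⊕ Fin d) (Fin d ⊕ Fin d) F) - 1).rank = d := by
      have h1 : ((x : Matrix (Fin d ⊕ Fin d) (Fin d ⊕ Fin d) F) - 1).mulVecLin =
          X + LinearMap.id := by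
        apply LinearMap.ext
        intro v
        rw [Matrix.mulVecLin_apply, Matrix.sub_mulVec, Matrix.one_mulVec, LinearMap.add_apply,
          LinearMap.id_apply, hXv, sub_eq_add_neg]
        congr 1
        exact neg_eq_of_add_eq_zero_left (mod_add_self F v)
      rw [Matrix.rank, h1]
      omega
    have hA : (x : Matrix (Fin d ⊕ Fin d) (Fin d ⊕ Fin d) F) ∈
        Matrix.symplecticGroup (Fin d) F := Cfsg.Agent.S0270.mem_symplectic_of_preserves _ hx
    have hAA : (x : Matrix (Fin d ⊕ Fin d) (Fin d ⊕ Fin d) F) *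
        (x : Matrix (Fin d ⊕ Fin d) (Fin d ⊕ Fin d) F) = 1 := by
      rw [← Units.val_mul, hxx, Units.val_one]
    have halt : ∀ v, Cfsg.sympForm d F v
        ((x : Matrix (Fin d ⊕ Fin d) (Fin d ⊕ Fin d) F) *ᵥ v) = 0 := by
      intro v
      rw [← hXv, ← hpolQ, ← hpol']
      unfold polar
      have h1 : Q' (v + X v) = 0 := by
        apply hts'
        rw [map_add, hXX, add_comm]
      rw [h1, hinv']
      have := CharTwo.add_self_eq_zero (Q' v)
      linear_combination -this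
    have hev := Cfsg.Agent.S2166.even_rank_of_alt _ hA hAA halt
    rw [hrk] at hev
    exact (Nat.not_even_iff_odd.2 hodd) hev

end symp

end Cfsg.Agent.Helper44.SQ
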