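import Mathlib
import Cfsg.Agent.Lib.Helper44.SQc
import Cfsg.Agent.S0287
import Cfsg.Agent.S0288
import Cfsg.Agent.Lib.Lead.SpCard

/-!
# The index of the orthogonal groups in `Sp_2d(q)`, `q` even
-/

set_option autoImplicit false
set_option linter.unusedSectionVars false

namespace Cfsg.Agent.Helper44.SQ

open Module QuadraticMap Matrix Cfsg.Agent.Helper44.QF

universe u

section transport

variable {F : Type u} [Field F] {ι ι' : Type} [Fintype ι] [DecidableEq ι] [Fintype ι']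
  [DecidableEq ι']

/-- the linear automorphism of an invertible matrix -/
noncomputable def toLE (g : GL ι F) : (ι → F) ≃ₗ[F] (ι → F) :=
  { toLinearMap := Matrix.mulVecLin (g : Matrix ι ι F)
    invFun := fun v => ((g⁻¹ : GL ι F) : Matrix ι ι F) *ᵥ v
    left_inv := fun v => gl_inv_mulVec_mulVec g v
    right_inv := fun v => gl_mulVec_inv_mulVec g v }

theorem toLE_apply (g : GL ι F) (v : ι → F) : toLE g v = (g : Matrix ι ι F) *ᵥ v := rfl

theorem glOf_toLE (g : GL ι F) : glOf (toLE g) = g := by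
  apply Units.ext
  show LinearMap.toMatrix' (Matrix.mulVecLin (g : Matrix ι ι F)) = (g : Matrix ι ι F)
  rw [← Matrix.toLin'_apply', LinearMap.toMatrix'_toLin']

theorem toLE_glOf (e : (ι → F) ≃ₗ[F] (ι → F)) : toLE (glOf e) = e := by
  apply LinearEquiv.ext
  intro v
  rw [toLE_apply, glOf_mulVec]

theorem mem_isometryGroup_iff' (Q : (ι → F) → F) (g : GL ι F) :
    g ∈ Cfsg.isometryGroup F Q ↔ ∀ u, Q ((g : Matrix ι ι F) *ᵥ u) = Q u := by
  constructor
  · intro h u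
    exact h u u
  · intro h u _
    exact h u

/-- isometries as linear automorphisms -/
def IsoSet {V : Type*} [AddCommGroup V] [Module F V] (Q : V → F) : Type _ :=
  {g : V ≃ₗ[F] V // ∀ v, Q (g v) = Q v}

/-- transport of isometries along an isometry -/
def isoSetCongr {V V' : Type*} [AddCommGroup V] [Module F V] [AddCommGroup V'] [Module F V']
    (Q : V → F) (Q' : V' → F) (e : V ≃ₗ[F] V') (he : ∀ v, Q' (e v) = Q v) :
    IsoSet Q ≃ IsoSet Q' where
  toFun g := ⟨e.symm ≪≫ₗ g.1 ≪≫ₗ e, fun w => by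
    show Q' (e (g.1 (e.symm w))) = Q' w
    rw [he, g.2, ← he, LinearEquiv.apply_symm_apply]⟩
  invFun h := ⟨e ≪≫ₗ h.1 ≪≫ₗ e.symm, fun v => by
    show Q (e.symm (h.1 (e v))) = Q v
    rw [← he, LinearEquiv.apply_symm_apply, h.2, he]⟩
  left_inv g := by
    apply Subtype.ext
    apply LinearEquiv.ext
    intro v
    show e.symm (e (g.1 (e.symm (e v)))) = g.1 v
    rw [LinearEquiv.symm_apply_apply, LinearEquiv.symm_apply_apply]
  right_inv h := by
    apply Subtype.ext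
    apply LinearEquiv.ext
    intro v
    show e (e.symm (h.1 (e (e.symm v)))) = h.1 v
    rw [LinearEquiv.apply_symm_apply, LinearEquiv.apply_symm_apply]

/-- the isometry group as a set of linear automorphisms -/
noncomputable def isoSetEquivGroup (Q : (ι → F) → F) : ↥(Cfsg.isometryGroup F Q) ≃ IsoSet Q where
  toFun g := ⟨toLE g.1, fun v => (mem_isometryGroup_iff' Q g.1).1 g.2 v⟩
  invFun h := ⟨glOf h.1, (mem_isometryGroup_iff' Q _).2 (fun v => by
    rw [glOf_mulVec]; exact h.2 v)⟩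
  left_inv g := Subtype.ext (glOf_toLE _)
  right_inv h := Subtype.ext (toLE_glOf _)

theorem card_isometry_congr (Q : (ι → F) → F) (Q' : (ι' → F) → F)
    (e : (ι → F) ≃ₗ[F] (ι' → F)) (he : ∀ v, Q' (e v) = Q v) :
    Nat.card ↥(Cfsg.isometryGroup F Q) = Nat.card ↥(Cfsg.isometryGroup F Q') :=
  Nat.card_congr ((isoSetEquivGroup Q).trans
    ((isoSetCongr Q Q' e he).trans (isoSetEquivGroup Q').symm))

end transport

section index

variable {F : Type u} [Field F] [Fintype F] [CharP F 2] {d : ℕ}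

theorem inf_eq_isometryGroup (hd : 1 ≤ d) (Q : (Fin d ⊕ Fin d → F) → F)
    (hQf : ∀ u v, QuadraticMap.polar Q u v = Cfsg.sympForm d F u v) :
    Cfsg.Geo.quadSimilarityGroup Q ⊓ Cfsg.spGL d F = Cfsg.isometryGroup F Q := by
  ext g
  rw [Subgroup.mem_inf, mem_isometryGroup_iff']
  constructor
  · rintro ⟨h1, h2⟩ v
    exact isometry_of_mem hd Q hQf g h2 h1 v
  · intro h
    refine ⟨⟨1, fun v => by rw [h v, Units.val_one, one_mul]⟩, ?_⟩
    intro u v
    show Cfsg.sympForm d F ((g : Matrix _ _ F) *ᵥ u) ((g : Matrix _ _ F) *ᵥ v) =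
      Cfsg.sympForm d F u v
    rw [← hQf, ← hQf]
    unfold QuadraticMap.polar
    rw [← Matrix.mulVec_add, h, h, h]

omit [Fintype F] [CharP F 2] in
theorem card_spGL [Finite F] : Nat.card ↥(Cfsg.spGL d F) =
    Nat.card F ^ (d ^ 2) * ∏ i ∈ Finset.range d, (Nat.card F ^ (2 * (i + 1)) - 1) := by
  rw [← Cfsg.Agent.Lead.card_symplecticGroup (F := F) d]
  symm
  apply Nat.card_congr
  refine Equiv.ofBijective (Cfsg.Agent.S0270.toSp (F := F) (m := d))
    ⟨?_, Cfsg.Agent.S0270.toSp_surjective⟩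
  intro A B h
  apply Subtype.ext
  have := congrArg (fun g : ↥(Cfsg.spGL d F) =>
    ((g : GL (Fin d ⊕ Fin d) F) : Matrix (Fin d ⊕ Fin d) (Fin d ⊕ Fin d) F)) h
  exact this

/-- the basic relation between the orders -/
theorem card_mul_relIndex (hd : 1 ≤ d) (Q : (Fin d ⊕ Fin d → F) → F)
    (hQf : ∀ u v, QuadraticMap.polar Q u v = Cfsg.sympForm d F u v) :
    Nat.card ↥(Cfsg.isometryGroup F Q) *
      (Cfsg.Geo.quadSimilarityGroup Q).relIndex (Cfsg.spGL d F) = Nat.card ↥(Cfsg.spGL d F) := by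
  have h1 := Subgroup.relIndex_mul_relIndex (⊥ : Subgroup (GL (Fin d ⊕ Fin d) F))
    (Cfsg.Geo.quadSimilarityGroup Q ⊓ Cfsg.spGL d F) (Cfsg.spGL d F) bot_le inf_le_right
  rw [Subgroup.relIndex_bot_left, Subgroup.relIndex_bot_left, Subgroup.inf_relIndex_right,
    inf_eq_isometryGroup hd Q hQf] at h1
  exact h1

theorem prod_pos' (q : ℕ) (hq : 2 ≤ q) (n : ℕ) :
    0 < ∏ i ∈ Finset.range n, (q ^ (2 * (i + 1)) - 1) := by
  apply Finset.prod_pos
  intro i _
  have : 2 ≤ q ^ (2 * (i + 1)) := by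
    calc 2 ≤ q := hq
      _ = q ^ 1 := (pow_one q).symm
      _ ≤ q ^ (2 * (i + 1)) := Nat.pow_le_pow_right (by omega) (by omega)
  omega

theorem index_arith_plus (q m idx P : ℕ) (hq : 2 ≤ q) (hm : 1 ≤ m) (hP : 0 < P)
    (h : 2 * q ^ (m * (m - 1)) * (q ^ m - 1) * P * idx =
      q ^ (m ^ 2) * (P * (q ^ (2 * (m - 1 + 1)) - 1))) :
    2 * idx = q ^ m * (q ^ m + 1) := by
  obtain ⟨k, rfl⟩ : ∃ k, m = k + 1 := ⟨m - 1, by omega⟩
  have hk : k + 1 - 1 = k := by omega
  rw [hk] at h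
  have hqm : 2 ≤ q ^ (k + 1) := by
    calc 2 ≤ q := hq
      _ = q ^ 1 := (pow_one q).symm
      _ ≤ q ^ (k + 1) := Nat.pow_le_pow_right (by omega) (by omega)
  obtain ⟨b, hb⟩ : ∃ b, q ^ (k + 1) = b + 2 := ⟨q ^ (k + 1) - 2, by omega⟩
  have e1 : q ^ (2 * (k + 1)) = (b + 2) ^ 2 := by
    rw [← hb, ← pow_mul]
    congr 1
    ring
  have e2 : q ^ ((k + 1) ^ 2) = q ^ ((k + 1) * k) * (b + 2) := by
    rw [← hb, ← pow_add]
    congr 1
    ring
  have e3 : (b + 2) ^ 2 - 1 = (b + 1) * (b + 3) := by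
    apply Nat.sub_eq_of_eq_add
    ring
  have e4 : b + 2 - 1 = b + 1 := by omega
  rw [e1, e2, e3, hb, e4] at h
  rw [hb]
  have hpos : 0 < q ^ ((k + 1) * k) * (b + 1) * P :=
    Nat.mul_pos (Nat.mul_pos (pow_pos (by omega) _) (by omega)) hP
  apply Nat.eq_of_mul_eq_mul_left hpos
  have e5 : q ^ ((k + 1) * k) * (b + 1) * P * (2 * idx) =
      2 * q ^ ((k + 1) * k) * (b + 1) * P * idx := by ring
  rw [e5, h]
  ring

theorem index_arith_minus (q m idx P : ℕ) (hq : 2 ≤ q) (hm : 1 ≤ m) (hP : 0 < P)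
    (h : 2 * q ^ (m * (m - 1)) * (q ^ m + 1) * P * idx =
      q ^ (m ^ 2) * (P * (q ^ (2 * (m - 1 + 1)) - 1))) :
    2 * idx + q ^ m = q ^ m * q ^ m := by
  obtain ⟨k, rfl⟩ : ∃ k, m = k + 1 := ⟨m - 1, by omega⟩
  have hk : k + 1 - 1 = k := by omega
  rw [hk] at h
  have hqm : 2 ≤ q ^ (k + 1) := by
    calc 2 ≤ q := hq
      _ = q ^ 1 := (pow_one q).symm
      _ ≤ q ^ (k + 1) := Nat.pow_le_pow_right (by omega) (by omega)
  obtain ⟨b, hb⟩ : ∃ b, q ^ (k + 1) = b + 2 := ⟨q ^ (k + 1) - 2, by omega⟩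
  have e1 : q ^ (2 * (k + 1)) = (b + 2) ^ 2 := by
    rw [← hb, ← pow_mul]
    congr 1
    ring
  have e2 : q ^ ((k + 1) ^ 2) = q ^ ((k + 1) * k) * (b + 2) := by
    rw [← hb, ← pow_add]
    congr 1
    ring
  have e3 : (b + 2) ^ 2 - 1 = (b + 1) * (b + 3) := by
    apply Nat.sub_eq_of_eq_add
    ring
  rw [e1, e2, e3, hb] at h
  rw [hb]
  have hpos : 0 < q ^ ((k + 1) * k) * (b + 2 + 1) * P :=
    Nat.mul_pos (Nat.mul_pos (pow_pos (by omega) _) (by omega)) hP
  apply Nat.eq_of_mul_eq_mul_left hpos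
  have e5 : q ^ ((k + 1) * k) * (b + 2 + 1) * P * (2 * idx + (b + 2)) =
      2 * q ^ ((k + 1) * k) * (b + 2 + 1) * P * idx +
        q ^ ((k + 1) * k) * (b + 2 + 1) * P * (b + 2) := by ring
  rw [e5, h]
  ring

theorem card_two_le : 2 ≤ Fintype.card F := Fintype.one_lt_card

/-- twice the index, plus type -/
theorem two_mul_index_plus (hd : 1 ≤ d) (Q : (Fin d ⊕ Fin d → F) → F)
    (hQ : Cfsg.Geo.IsNondegenerateQuadraticForm Q)
    (hQf : ∀ u v, QuadraticMap.polar Q u v = Cfsg.sympForm d F u v)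
    (hT : HasType (⇑(mkQF Q hQ)) d 1) :
    2 * (Cfsg.Geo.quadSimilarityGroup Q).relIndex (Cfsg.spGL d F) =
      Fintype.card F ^ d * (Fintype.card F ^ d + 1) := by
  obtain ⟨e, he⟩ := exists_equiv_plus (mkQF Q hQ) (mkQF_nd Q hQ) d finrank_V' hT
  have h1 := card_mul_relIndex hd Q hQf
  rw [card_isometry_congr Q (Cfsg.quadFormPlus d F) e he,
    Cfsg.Agent.S0287.result (F := F) rfl d hd, card_spGL, Nat.card_eq_fintype_card] at h1
  have hsplit : ∏ i ∈ Finset.range d, (Fintype.card F ^ (2 * (i + 1)) - 1) =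
      (∏ i ∈ Finset.range (d - 1), (Fintype.card F ^ (2 * (i + 1)) - 1)) *
        (Fintype.card F ^ (2 * (d - 1 + 1)) - 1) := by
    have : d = d - 1 + 1 := by omega
    conv_lhs => rw [this]
    rw [Finset.prod_range_succ]
  rw [hsplit] at h1
  exact index_arith_plus _ d _ _ card_two_le hd (prod_pos' _ card_two_le _) h1

/-- twice the index, minus type -/
theorem two_mul_index_minus (hd : 1 ≤ d) (Q : (Fin d ⊕ Fin d → F) → F)
    (hQ : Cfsg.Geo.IsNondegenerateQuadraticForm Q)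
    (hQf : ∀ u v, QuadraticMap.polar Q u v = Cfsg.sympForm d F u v)
    (hT : HasType (⇑(mkQF Q hQ)) d (-1)) :
    2 * (Cfsg.Geo.quadSimilarityGroup Q).relIndex (Cfsg.spGL d F) + Fintype.card F ^ d =
      Fintype.card F ^ d * Fintype.card F ^ d := by
  obtain ⟨a, c, hac⟩ := exists_aniso F
  obtain ⟨e, he⟩ := exists_equiv_minus (mkQF Q hQ) (mkQF_nd Q hQ) d finrank_V' hT a c hac
  have h1 := card_mul_relIndex hd Q hQf
  rw [card_isometry_congr Q (Cfsg.quadFormMinus (d - 1) F a c) e he,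
    Cfsg.Agent.S0288.result (F := F) rfl d hd a c hac, card_spGL,
    Nat.card_eq_fintype_card] at h1
  have hsplit : ∏ i ∈ Finset.range d, (Fintype.card F ^ (2 * (i + 1)) - 1) =
      (∏ i ∈ Finset.range (d - 1), (Fintype.card F ^ (2 * (i + 1)) - 1)) *
        (Fintype.card F ^ (2 * (d - 1 + 1)) - 1) := by
    have : d = d - 1 + 1 := by omega
    conv_lhs => rw [this]
    rw [Finset.prod_range_succ]
  rw [hsplit] at h1
  exact index_arith_minus _ d _ _ card_two_le hd (prod_pos' _ card_two_le _) h1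

end index

end Cfsg.Agent.Helper44.SQ
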