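import Mathlib
import Cfsg.Agent.Lib.Helper32.C3Defs
import Cfsg.Agent.Lib.Helper9.C3M3Defs

/-!
# C3 (M3) sub-split (helper9 sub-server, S4415): piece (D) `pi_R_V4`

`π R ≤ V_4` for a normal subgroup `R` of order prime to `3`, normalised by `b` with `b ^ 3 = 1`, `π b ≠ 1`.
-/

set_option autoImplicit false

namespace Cfsg.Agent.Helper44.C3M3

open Cfsg.Agent.Helper32.C3 Cfsg.Agent.Helper9.C3M3

universe u v

/-- word lemma in `S_4` (kernel evaluation) -/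
theorem h44_s4_word : ∀ c τ : Equiv.Perm (Fin 4), c ^ 3 = 1 → c ≠ 1 → ¬ InV4 τ →
    (τ ^ 3 = 1 ∧ τ ≠ 1) ∨ ∃ k l : Fin 3,
      ((c ^ (k : ℕ) * τ * (c ^ (k : ℕ))⁻¹) * (c ^ (l : ℕ) * τ * (c ^ (l : ℕ))⁻¹)) ^ 3 = 1 ∧
      ((c ^ (k : ℕ) * τ * (c ^ (k : ℕ))⁻¹) * (c ^ (l : ℕ) * τ * (c ^ (l : ℕ))⁻¹)) ≠ 1 := by
  decide +kernel

section Perm

variable {G : Type u} [Group G] [Finite G] (R : Subgroup G) (b : G)
  (π : G →* Equiv.Perm (Fin 4))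

omit [Finite G] in
/-- an element of `R` whose image has cube one has trivial image -/
theorem h44_pi_cube (hcop : (Nat.card ↥R).Coprime 3) (x : G) (hx : x ∈ R)
    (h3 : (π x) ^ 3 = 1) : π x = 1 := by
  have h1 : orderOf (π x) ∣ 3 := orderOf_dvd_of_pow_eq_one h3
  have h2 : orderOf (π x) ∣ orderOf x := orderOf_map_dvd π x
  have h3' : orderOf x ∣ Nat.card ↥R := by
    have : orderOf (⟨x, hx⟩ : ↥R) ∣ Nat.card ↥R := orderOf_dvd_natCard _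
    rwa [← Subgroup.orderOf_coe] at this
  have h4 : orderOf (π x) ∣ Nat.gcd (Nat.card ↥R) 3 := Nat.dvd_gcd (h2.trans h3') h1
  rw [Nat.Coprime] at hcop
  rw [hcop, Nat.dvd_one] at h4
  exact orderOf_eq_one_iff.mp h4

theorem pi_R_V4 [R.Normal] (hcop : (Nat.card ↥R).Coprime 3) (hb3 : b ^ 3 = 1) (hb1 : π b ≠ 1) :
    ∀ r ∈ R, InV4 (π r) := by
  intro r hr
  by_contra hnot
  have hc3 : (π b) ^ 3 = 1 := by rw [← map_pow, hb3, map_one]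
  rcases h44_s4_word (π b) (π r) hc3 hb1 hnot with ⟨h3, h1⟩ | ⟨k, l, h3, h1⟩
  · exact h1 (h44_pi_cube R π hcop r hr h3)
  · have hk : b ^ (k : ℕ) * r * (b ^ (k : ℕ))⁻¹ ∈ R :=
      Subgroup.Normal.conj_mem inferInstance r hr _
    have hl : b ^ (l : ℕ) * r * (b ^ (l : ℕ))⁻¹ ∈ R :=
      Subgroup.Normal.conj_mem inferInstance r hr _
    have hmem := R.mul_mem hk hl
    have himg : π ((b ^ (k : ℕ) * r * (b ^ (k : ℕ))⁻¹) * (b ^ (l : ℕ) * r * (b ^ (l : ℕ))⁻¹)) =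
        ((π b) ^ (k : ℕ) * π r * ((π b) ^ (k : ℕ))⁻¹) *
          ((π b) ^ (l : ℕ) * π r * ((π b) ^ (l : ℕ))⁻¹) := by
      simp only [map_mul, map_inv, map_pow]
    rw [← himg] at h3 h1
    exact h1 (h44_pi_cube R π hcop _ hmem h3)

end Perm

end Cfsg.Agent.Helper44.C3M3
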