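import Mathlib
import Cfsg.Agent.Lib.Helper53.CD3ADefs
import Cfsg.Agent.Lib.Helper81.CharClifford
import Cfsg.Agent.Lib.Helper81.CharCorr
import Cfsg.Agent.Lib.Helper81.CharRam
import Cfsg.Agent.Lib.Helper79.CharBasic

/-!
# CD3A project (S4460), piece (L124d) (helper44): trivial inertia quotient gives an irreducible
induced character.
-/

set_option autoImplicit false
set_option linter.style.haveILetI false

namespace Cfsg.Agent.Helper44.CD3A

open Cfsg Cfsg.Agent.Helper53.CD3A Cfsg.Agent.Helper81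
open scoped ComplexConjugate commutatorElement

universe u

/-- (L124d) -/
theorem induced_irr_of_inertia {G : Type u} [Group G] [Finite G] (F : Subgroup G) (hF : F.Normal)
    (η : IrrCharacter F) (h : ∀ g : G, conjFun F hF (η : F → ℂ) g = (η : F → ℂ) → g ∈ F) :
    ∃ χ : IrrCharacter G, charDegree (χ : G → ℂ) = F.index * charDegree (η : F → ℂ) := by
  classical
  haveI : Fintype G := Fintype.ofFinite G
  haveI : Fintype F := Fintype.ofFinite F
  have hcf : IsClassFunction F (η : F → ℂ) :=
    isClassFunction_of_isCharacter (IsIrrCharacter.isCharacter η.2)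
  have hT : ∀ g : G, g ∈ F ↔ conjFun F hF (η : F → ℂ) g = (η : F → ℂ) := by
    intro g
    constructor
    · intro hg
      funext n
      rw [conjFun_apply]
      have e : (⟨g * n * g⁻¹, hF.conj_mem n n.2 g⟩ : F) = (⟨g, hg⟩ : F) * n * (⟨g, hg⟩ : F)⁻¹ :=
        Subtype.ext rfl
      rw [e]
      exact hcf n ⟨g, hg⟩
    · exact h g
  have hres : resTo (le_refl F) (η : F → ℂ) = (η : F → ℂ) := by
    funext n
    rfl
  have hne : classInner (resTo (le_refl F) (η : F → ℂ)) (η : F → ℂ) ≠ 0 := by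
    rw [hres, irr_orthonormal η.2 η.2, if_pos rfl]
    exact one_ne_zero
  obtain ⟨hirr, -⟩ := clifford_corr_irr F F hF (le_refl F) η.2 hT η.2 hne
  refine ⟨⟨indFun F (η : F → ℂ), hirr⟩, ?_⟩
  have h1 : indFun F (η : F → ℂ) 1 = ((F.index * charDegree (η : F → ℂ) : ℕ) : ℂ) := by
    rw [indFun_one, (Cfsg.Agent.Helper79.irr_one_eq η).1]
    push_cast
    rfl
  show ⌊((indFun F (η : F → ℂ)) 1).re⌋₊ = _
  rw [h1, Complex.natCast_re, Nat.floor_natCast]

end Cfsg.Agent.Helper44.CD3A
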