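import Mathlib
import Cfsg.Agent.Lib.Helper53.CD3ADefs
import Cfsg.Agent.Lib.Helper81.CharClifford

/-!
# CD3A project (S4460), piece (L124e) (helper44): members of `OverSet K F θ` have the degree of `θ`.
-/

set_option autoImplicit false

namespace Cfsg.Agent.Helper44.CD3A

open Cfsg Cfsg.Agent.Helper53.CD3A Cfsg.Agent.Helper81
open scoped ComplexConjugate commutatorElement

universe u

/-- (L124e) -/
theorem degree_overSet {G : Type u} [Group G] (K F : Subgroup G) (θ η : IrrCharacter F)
    (hη : η ∈ OverSet K F (θ : F → ℂ)) :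
    charDegree (η : F → ℂ) = charDegree (θ : F → ℂ) := by
  have h1 : (η : F → ℂ) 1 = (θ : F → ℂ) 1 := hη 1 (by rw [Subgroup.coe_one]; exact K.one_mem)
  unfold charDegree
  rw [h1]

end Cfsg.Agent.Helper44.CD3A
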