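import Cfsg.Agent.Lib.Helper1.CD3.Defs
import Cfsg.Agent.Lib.Helper74.LinChar
import Mathlib

/-!
# CD3B project (S4460), piece (Q1) (helper44): a linear character of `W` extends to its inertia
group when `G = W N` and `W ∩ N ≤ W'`.
-/

set_option autoImplicit false

namespace Cfsg.Agent.Helper44.CD3B

open Cfsg Cfsg.Agent.Helper81 Cfsg.Agent.Helper1.CD3

universe u

/-- (Q1) -/
theorem exists_extension {G : Type u} [Group G] [Finite G] (W : Subgroup G) (hW : W.Normal) (N : Subgroup G)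
    (hsup : W ⊔ N = ⊤) (hint : W ⊓ N ≤ ⁅W, W⁆) (ν : W → ℂ) (hν : IsIrrCharacter W ν) (h1 : ν 1 = 1) :
    ∃ (hle : W ≤ stab W hW ν) (μ : stab W hW ν → ℂ), IsIrrCharacter (stab W hW ν) μ ∧ μ 1 = 1 ∧
      ∀ w : W, μ ⟨(w : G), hle w.2⟩ = ν w := by
  classical
  let φ : W →* ℂˣ := Cfsg.Agent.Helper74.Lin.toHom ⟨ν, hν⟩ h1
  have hφ : ∀ w : W, ((φ w : ℂˣ) : ℂ) = ν w := fun w => rfl
  -- `φ` kills the commutator subgroup
  have hker : ∀ (x : G) (hx : x ∈ W), x ∈ ⁅W, W⁆ → φ ⟨x, hx⟩ = 1 := by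
    intro x hx hxc
    have hle' : ⁅W, W⁆ ≤ (φ.ker).map W.subtype := by
      rw [Subgroup.commutator_le]
      intro a ha b hb
      have hc : (⟨a, ha⟩ : W) * ⟨b, hb⟩ * (⟨a, ha⟩ : W)⁻¹ * (⟨b, hb⟩ : W)⁻¹ ∈ φ.ker := by
        rw [MonoidHom.mem_ker, map_mul, map_mul, map_mul, map_inv, map_inv,
          mul_comm (φ ⟨a, ha⟩), mul_inv_cancel_right, mul_inv_cancel]
      exact ⟨_, hc, rfl⟩
    obtain ⟨y, hy, hyx⟩ := hle' hxc
    have e : y = ⟨x, hx⟩ := Subtype.ext hyx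
    rw [← e]; exact hy
  -- `W` fixes `ν`
  have hle : W ≤ stab W hW ν := by
    intro w hw
    rw [mem_stab]
    funext n
    rw [conjFun_apply, ← hφ, ← hφ]
    have e : (⟨w * n * w⁻¹, hW.conj_mem n n.2 w⟩ : W) = ⟨w, hw⟩ * n * (⟨w, hw⟩ : W)⁻¹ :=
      Subtype.ext rfl
    rw [e, map_mul, map_mul, map_inv, mul_comm (φ ⟨w, hw⟩), mul_inv_cancel_right]
  -- elements of the stabiliser fix `φ`
  have hTfix : ∀ t ∈ stab W hW ν, ∀ w : W, φ ⟨t * w * t⁻¹, hW.conj_mem w w.2 t⟩ = φ w := by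
    intro t ht w
    apply Units.ext
    rw [hφ, hφ]
    have h2 := congrFun ((mem_stab W hW ν t).1 ht) w
    rwa [conjFun_apply] at h2
  -- decomposition
  have hdec : ∀ t : G, ∃ w : W, ∃ h : G, h ∈ N ∧ t = (w : G) * h := by
    intro t
    have ht : t ∈ (↑(W ⊔ N) : Set G) := by rw [hsup]; trivial
    have := hW
    rw [Subgroup.normal_mul] at ht
    obtain ⟨w, hw, h, hh, rfl⟩ := Set.mem_mul.1 ht
    exact ⟨⟨w, hw⟩, h, hh, rfl⟩
  let f : G → ℂˣ := fun t => φ (Classical.choose (hdec t))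
  have hf : ∀ (w : W) (h : G), h ∈ N → f ((w : G) * h) = φ w := by
    intro w h hh
    obtain ⟨h', hh', he⟩ := Classical.choose_spec (hdec ((w : G) * h))
    set w' : W := Classical.choose (hdec ((w : G) * h)) with hw'
    show φ w' = φ w
    have hmem : ((w'⁻¹ * w : W) : G) ∈ W ⊓ N := by
      refine ⟨(w'⁻¹ * w).2, ?_⟩
      have e : ((w'⁻¹ * w : W) : G) = h' * h⁻¹ := by
        rw [Subgroup.coe_mul, Subgroup.coe_inv]
        rw [inv_mul_eq_iff_eq_mul, ← mul_assoc, ← he, mul_inv_cancel_right]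
      rw [e]; exact N.mul_mem hh' (N.inv_mem hh)
    have h3 := hker _ (w'⁻¹ * w).2 (hint hmem)
    have e2 : (⟨((w'⁻¹ * w : W) : G), (w'⁻¹ * w).2⟩ : W) = w'⁻¹ * w := rfl
    rw [e2, map_mul, map_inv, inv_mul_eq_one] at h3
    exact h3
  let μ' : stab W hW ν →* ℂˣ :=
    { toFun := fun t => f (t : G)
      map_one' := by
        have h4 := hf 1 1 N.one_mem
        rw [map_one] at h4
        simpa using h4
      map_mul' := by
        intro t₁ t₂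
        obtain ⟨w₁, k₁, hk₁, e₁⟩ := hdec (t₁ : G)
        obtain ⟨w₂, k₂, hk₂, e₂⟩ := hdec (t₂ : G)
        have hk₁T : k₁ ∈ stab W hW ν := by
          have e : k₁ = (w₁ : G)⁻¹ * t₁ := by rw [e₁, inv_mul_cancel_left]
          rw [e]; exact (stab W hW ν).mul_mem ((stab W hW ν).inv_mem (hle w₁.2)) t₁.2
        have e3 : ((t₁ * t₂ : stab W hW ν) : G)
            = ((w₁ * ⟨k₁ * w₂ * k₁⁻¹, hW.conj_mem w₂ w₂.2 k₁⟩ : W) : G) * (k₁ * k₂) := by
          rw [Subgroup.coe_mul, e₁, e₂, Subgroup.coe_mul]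
          simp only [mul_assoc, inv_mul_cancel_left]
        show f ((t₁ * t₂ : stab W hW ν) : G) = f (t₁ : G) * f (t₂ : G)
        rw [e3, hf _ _ (N.mul_mem hk₁ hk₂), e₁, e₂, hf _ _ hk₁, hf _ _ hk₂, map_mul,
          hTfix k₁ hk₁T w₂] }
  refine ⟨hle, ((Cfsg.Agent.Helper74.Lin.ofHom μ' : IrrCharacter (stab W hW ν)) : stab W hW ν → ℂ),
    (Cfsg.Agent.Helper74.Lin.ofHom μ').2, Cfsg.Agent.Helper74.Lin.ofHom_one_eq μ', ?_⟩
  intro w
  rw [Cfsg.Agent.Helper74.Lin.ofHom_apply]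
  show ((f (w : G) : ℂˣ) : ℂ) = ν w
  have h5 := hf w 1 N.one_mem
  rw [mul_one] at h5
  rw [h5, hφ]

end Cfsg.Agent.Helper44.CD3B
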