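import Mathlib
import Cfsg.Agent.Lib.Helper7.CWDefs

/-!
# CW project (S0406), piece (I) (helper44): integrality of the inner product on a Conway lattice.
-/

set_option autoImplicit false
open Matrix

namespace Cfsg.Agent.Helper44.CW
open Cfsg Cfsg.Agent.Helper7.CW

variable {Λ : AddSubgroup V}

/-- (I) -/
theorem integral (h : CL Λ) (y z : V) (hy : y ∈ Λ) (hz : z ∈ Λ) : (8 : ℤ) ∣ ∑ i, y i * z i := by
  have h1 := h.div y hy
  have h2 := h.div z hz
  have h3 := h.div (y + z) (Λ.add_mem hy hz)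
  have e : ∑ i, (y + z) i ^ 2 = ∑ i, y i ^ 2 + ∑ i, z i ^ 2 + 2 * ∑ i, y i * z i := by
    rw [Finset.mul_sum, ← Finset.sum_add_distrib, ← Finset.sum_add_distrib]
    apply Finset.sum_congr rfl
    intro i _
    simp only [Pi.add_apply]
    ring
  rw [e] at h3
  omega

end Cfsg.Agent.Helper44.CW
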