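import Mathlib
import Cfsg.Agent.Lib.Helper7.CWDefs

/-!
# CW project (S0406), piece (O) (helper44): the code of a Conway lattice is self-orthogonal.
-/

set_option autoImplicit false
open Matrix

namespace Cfsg.Agent.Helper44.CW
open Cfsg Cfsg.Agent.Helper7.CW

variable {Λ : AddSubgroup V}

/-- (O) -/
theorem orth (h : CL Λ)
    (hI : ∀ y ∈ Λ, ∀ z ∈ Λ, (8 : ℤ) ∣ ∑ i, y i * z i)
    (hW1 : ∀ a : V, dbl a ∈ Λ → (∃ i, Odd (a i)) →
      ∃ b : V, dbl b ∈ Λ ∧ ∀ i, (Odd (a i) → (b i = 1 ∨ b i = -1)) ∧ (Even (a i) → b i = 0))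
    (v w : Fin 24 → ZMod 2) (hv : v ∈ code Λ) (hw : w ∈ code Λ) : ∑ i, v i * w i = 0 := by
  obtain ⟨a, ha, rfl⟩ := hv
  obtain ⟨a', ha', rfl⟩ := hw
  have hzero : ∀ c : V, (¬ ∃ i, Odd (c i)) → ∀ i, redV c i = 0 := by
    intro c hc i
    simp only [redV]
    rw [ZMod.intCast_eq_zero_iff_even, ← Int.not_odd_iff_even]
    exact fun ho => hc ⟨i, ho⟩
  by_cases hex : ∃ i, Odd (a i)
  swap
  · have := hzero a hex
    simp [this]
  by_cases hex' : ∃ i, Odd (a' i)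
  swap
  · have := hzero a' hex'
    simp [this]
  obtain ⟨b, hb, hbi⟩ := hW1 a ha hex
  obtain ⟨b', hb', hbi'⟩ := hW1 a' ha' hex'
  have h8 := hI _ hb _ hb'
  have hred : ∀ (c d : V), (∀ i, (Odd (c i) → (d i = 1 ∨ d i = -1)) ∧ (Even (c i) → d i = 0)) →
      ∀ i, redV c i = ((d i : ℤ) : ZMod 2) := by
    intro c d hcd i
    simp only [redV]
    by_cases hi : Odd (c i)
    · rw [ZMod.intCast_eq_one_iff_odd.2 hi]
      rcases (hcd i).1 hi with h1 | h1 <;> rw [h1] <;> simp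
    · have he := Int.not_odd_iff_even.1 hi
      rw [ZMod.intCast_eq_zero_iff_even.2 he, (hcd i).2 he]
      simp
  have hcast : ((∑ i, b i * b' i : ℤ) : ZMod 2) = ∑ i, redV a i * redV a' i := by
    push_cast
    apply Finset.sum_congr rfl
    intro i _
    rw [hred a b hbi i, hred a' b' hbi' i]
  rw [← hcast, ZMod.intCast_zmod_eq_zero_iff_dvd]
  have e : ∑ i, dbl b i * dbl b' i = 4 * ∑ i, b i * b' i := by
    rw [Finset.mul_sum]
    apply Finset.sum_congr rfl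
    intro i _
    simp only [dbl]
    ring
  rw [e] at h8
  push_cast
  omega

end Cfsg.Agent.Helper44.CW
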