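import Mathlib
import Cfsg.Agent.Lib.Helper7.CWDefs

/-!
# CW project (S0406), piece (SC) (helper44): Conway lattices and their codes are invariant under
coordinate sign changes.
-/

set_option autoImplicit false
open Matrix

namespace Cfsg.Agent.Helper44.CW
open Cfsg Cfsg.Agent.Helper7.CW

variable {Λ : AddSubgroup V}

/-- (SC) -/
theorem CL_sign (h : CL Λ) (ε : V) (hε : ∀ i, ε i = 1 ∨ ε i = -1) :
    CL (Λ.map (AddMonoidHom.mulLeft ε)) ∧ code (Λ.map (AddMonoidHom.mulLeft ε)) = code Λ := by
  have hεε : ε * ε = 1 := by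
    funext i
    rcases hε i with h1 | h1 <;> simp [h1]
  have hεε' : ∀ y : V, ε * (ε * y) = y := fun y => by rw [← mul_assoc, hεε, one_mul]
  have hmem : ∀ y : V, y ∈ Λ.map (AddMonoidHom.mulLeft ε) ↔ ε * y ∈ Λ := by
    intro y
    rw [AddSubgroup.mem_map]
    constructor
    · rintro ⟨x, hx, rfl⟩
      rw [AddMonoidHom.coe_mulLeft, hεε']; exact hx
    · intro hy
      exact ⟨ε * y, hy, by rw [AddMonoidHom.coe_mulLeft, hεε']⟩
  have hsq : ∀ y : V, ∑ i, (ε * y) i ^ 2 = ∑ i, y i ^ 2 := by
    intro y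
    apply Finset.sum_congr rfl
    intro i _
    rw [Pi.mul_apply, mul_pow]
    rcases hε i with h1 | h1 <;> simp [h1]
  have hsingle : ∀ (i : Fin 24) (c : ℤ), ε * (Pi.single i c : V) = Pi.single i (ε i * c) := by
    intro i c
    funext k
    by_cases hk : k = i
    · subst hk; simp
    · simp [hk]
  have hpm : ∀ i j : Fin 24, i ≠ j → ∀ s t : ℤ, (s = 1 ∨ s = -1) → (t = 1 ∨ t = -1) →
      (Pi.single i (s * 4) + Pi.single j (t * 4) : V) ∈ Λ := by
    intro i j hij s t hs ht
    obtain ⟨hp, hm⟩ := h.pair i j hij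
    rcases hs with rfl | rfl <;> rcases ht with rfl | rfl
    · simpa using hp
    · have e : (Pi.single i (1 * 4) + Pi.single j (-1 * 4) : V)
          = Pi.single i 4 - Pi.single j 4 := by
        rw [one_mul, neg_one_mul, Pi.single_neg, sub_eq_add_neg]
      rw [e]; exact hm
    · have e : (Pi.single i (-1 * 4) + Pi.single j (1 * 4) : V)
          = -(Pi.single i 4 - Pi.single j 4) := by
        rw [one_mul, neg_one_mul, Pi.single_neg]; abel
      rw [e]; exact Λ.neg_mem hm
    · have e : (Pi.single i (-1 * 4) + Pi.single j (-1 * 4) : V)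
          = -(Pi.single i 4 + Pi.single j 4) := by
        rw [neg_one_mul, Pi.single_neg, Pi.single_neg]; abel
      rw [e]; exact Λ.neg_mem hp
  refine ⟨⟨?_, ?_, ?_, ?_, ?_⟩, ?_⟩
  · intro i j hij
    constructor
    · rw [hmem, mul_add, hsingle, hsingle]
      exact hpm i j hij _ _ (hε i) (hε j)
    · rw [hmem, mul_sub, hsingle, hsingle, sub_eq_add_neg, ← Pi.single_neg, ← neg_mul]
      apply hpm i j hij _ _ (hε i)
      rcases hε j with h1 | h1 <;> simp [h1]
  · intro y hy i j
    rw [hmem] at hy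
    have h2 := h.par _ hy i j
    simp only [Pi.mul_apply] at h2
    rcases hε i with h1 | h1 <;> rcases hε j with h3 | h3 <;> rw [h1, h3] at h2 <;> omega
  · intro y hy hy0
    rw [hmem] at hy
    have hne : ε * y ≠ 0 := by
      intro h0
      apply hy0
      rw [← hεε' y, h0, mul_zero]
    have h2 := h.min _ hy hne
    rwa [hsq] at h2
  · intro y hy
    rw [hmem] at hy
    have h2 := h.div _ hy
    rwa [hsq] at h2
  · rw [← h.cnt]
    have hset : {y : V | y ∈ Λ.map (AddMonoidHom.mulLeft ε) ∧ ∑ i, y i ^ 2 = 32} =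
        (fun y => ε * y) '' {y : V | y ∈ Λ ∧ ∑ i, y i ^ 2 = 32} := by
      ext y
      simp only [Set.mem_setOf_eq, Set.mem_image]
      constructor
      · rintro ⟨hy, h32⟩
        exact ⟨ε * y, ⟨(hmem y).1 hy, by rw [hsq]; exact h32⟩, hεε' y⟩
      · rintro ⟨x, ⟨hx, h32⟩, rfl⟩
        exact ⟨(hmem _).2 (by rw [hεε']; exact hx), by rw [hsq]; exact h32⟩
    rw [hset]
    apply Set.ncard_image_of_injective
    intro x y hxy
    have h2 := congrArg (fun z => ε * z) hxy
    simpa [hεε'] using h2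
  · ext w
    rw [mem_code, mem_code]
    have hdbl : ∀ a : V, ε * dbl a = dbl (ε * a) := by
      intro a
      funext i
      simp only [dbl, Pi.mul_apply]
      ring
    have hred : ∀ a : V, redV (ε * a) = redV a := by
      intro a
      funext i
      simp only [redV, Pi.mul_apply]
      rcases hε i with h1 | h1 <;> simp [h1]
    constructor
    · rintro ⟨a, ha, rfl⟩
      exact ⟨ε * a, by rw [← hdbl]; exact (hmem _).1 ha, hred a⟩
    · rintro ⟨a, ha, rfl⟩
      refine ⟨ε * a, (hmem _).2 ?_, hred a⟩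
      rw [hdbl, hεε']; exact ha

end Cfsg.Agent.Helper44.CW
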