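import Mathlib
import Cfsg.Agent.Lib.Helper7.CWDefs

/-!
# CW project (S0406), piece (W1) (helper44): normal form of an even vector.
-/

set_option autoImplicit false
open Matrix

namespace Cfsg.Agent.Helper44.CW
open Cfsg Cfsg.Agent.Helper7.CW

variable {Λ : AddSubgroup V}

/-- (W1) -/
theorem normal_form (h : CL Λ)
    (hD : ∀ y : V, (∀ i, (4 : ℤ) ∣ y i) → (8 : ℤ) ∣ ∑ i, y i → y ∈ Λ)
    (a : V) (ha : dbl a ∈ Λ) (hodd : ∃ i, Odd (a i)) :
    ∃ b : V, dbl b ∈ Λ ∧ ∀ i, (Odd (a i) → (b i = 1 ∨ b i = -1)) ∧ (Even (a i) → b i = 0) := by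
  obtain ⟨i0, hi0⟩ := hodd
  have key : ∀ b c : V, (∀ i, a i = b i + 2 * c i) → (2 : ℤ) ∣ ∑ i, c i → dbl b ∈ Λ := by
    intro b c hbc hc
    have hy : (fun i => 4 * c i : V) ∈ Λ := by
      apply hD
      · intro i; exact dvd_mul_right 4 (c i)
      · rw [← Finset.mul_sum]
        obtain ⟨k, hk⟩ := hc
        rw [hk]; exact ⟨k, by ring⟩
    have e : dbl b = dbl a - (fun i => 4 * c i : V) := by
      funext i
      simp only [dbl, Pi.sub_apply]
      rw [hbc i]; ring
    rw [e]; exact Λ.sub_mem ha hy
  by_cases hc : (2 : ℤ) ∣ ∑ i, a i / 2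
  · refine ⟨fun i => a i % 2, key _ (fun i => a i / 2) (fun i => ?_) hc, ?_⟩
    · omega
    · intro i
      constructor
      · intro ho
        left
        rcases ho with ⟨k, hk⟩
        show a i % 2 = 1
        omega
      · intro he
        rcases he with ⟨k, hk⟩
        show a i % 2 = 0
        omega
  · refine ⟨fun i => a i % 2 - (if i = i0 then 2 else 0),
      key _ (fun i => a i / 2 + (if i = i0 then 1 else 0)) (fun i => ?_) ?_, ?_⟩
    · by_cases hi : i = i0
      · simp only [hi, if_true]; omega
      · simp only [hi, if_false]; omega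
    · rw [Finset.sum_add_distrib, Finset.sum_ite_eq' Finset.univ i0]
      simp only [Finset.mem_univ, if_true]
      omega
    · intro i
      constructor
      · intro ho
        rcases ho with ⟨k, hk⟩
        by_cases hi : i = i0
        · right
          show a i % 2 - (if i = i0 then 2 else 0) = -1
          simp only [hi, if_true]
          subst hi
          omega
        · left
          show a i % 2 - (if i = i0 then 2 else 0) = 1
          simp only [hi, if_false]
          omega
      · intro he
        rcases he with ⟨k, hk⟩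
        have hi : i ≠ i0 := by
          rintro rfl
          rcases hi0 with ⟨k', hk'⟩
          omega
        show a i % 2 - (if i = i0 then 2 else 0) = 0
        simp only [hi, if_false]
        omega

end Cfsg.Agent.Helper44.CW
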