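import Mathlib
import Cfsg.Agent.Lib.Helper7.CWDefs

/-!
# CW project (S0406), piece (W2) (helper44): minimum weight 8, doubly even.
-/

set_option autoImplicit false
open Matrix

namespace Cfsg.Agent.Helper44.CW
open Cfsg Cfsg.Agent.Helper7.CW

variable {Λ : AddSubgroup V}

/-- (W2) -/
theorem weight (h : CL Λ)
    (hW1 : ∀ a : V, dbl a ∈ Λ → (∃ i, Odd (a i)) →
      ∃ b : V, dbl b ∈ Λ ∧ ∀ i, (Odd (a i) → (b i = 1 ∨ b i = -1)) ∧ (Even (a i) → b i = 0))
    (w : Fin 24 → ZMod 2) (hw : w ∈ code Λ) (hw0 : w ≠ 0) :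
    8 ≤ hammingNorm w ∧ 4 ∣ hammingNorm w := by
  obtain ⟨a, ha, rfl⟩ := hw
  have hodd_iff : ∀ i, redV a i ≠ 0 ↔ Odd (a i) := by
    intro i
    simp only [redV]
    rw [Ne, ZMod.intCast_eq_zero_iff_even, Int.not_even_iff_odd]
  have hex : ∃ i, Odd (a i) := by
    by_contra hne
    apply hw0
    funext i
    by_contra hi
    exact hne ⟨i, (hodd_iff i).1 hi⟩
  obtain ⟨b, hb, hbi⟩ := hW1 a ha hex
  have hsq : ∀ i, (dbl b i) ^ 2 = if redV a i ≠ 0 then 4 else 0 := by
    intro i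
    by_cases hi : Odd (a i)
    · rw [if_pos ((hodd_iff i).2 hi)]
      rcases (hbi i).1 hi with h1 | h1 <;> simp [dbl, h1]
    · rw [if_neg (fun hh => hi ((hodd_iff i).1 hh))]
      have := (hbi i).2 (Int.not_odd_iff_even.1 hi)
      simp [dbl, this]
  have hsum : ∑ i, (dbl b i) ^ 2 = 4 * (hammingNorm (redV a) : ℤ) := by
    simp_rw [hsq]
    rw [Finset.sum_ite, Finset.sum_const_zero, add_zero, Finset.sum_const, hammingNorm]
    simp [mul_comm]
  have hne : dbl b ≠ 0 := by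
    obtain ⟨i, hi⟩ := hex
    intro h0
    have := congrFun h0 i
    rcases (hbi i).1 hi with h1 | h1 <;> simp [dbl, h1] at this
  have hmin := h.min _ hb hne
  have hdiv := h.div _ hb
  rw [hsum] at hmin hdiv
  constructor
  · omega
  · have h4 : (4 : ℤ) ∣ (hammingNorm (redV a) : ℤ) := by omega
    exact_mod_cast h4

end Cfsg.Agent.Helper44.CW
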