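import Mathlib
import Cfsg.Agent.Lib.Helper42.SemiConj7

set_option autoImplicit false
set_option linter.unusedSectionVars false

/-!
Counting weighted multiplicity functions on `insert x₀ C` that are invariant under an involution
`s` of `C` (fixed-point-free, or trivial).
-/

namespace Cfsg.Agent.Helper44.CountInv

open Cfsg.Agent.Helper42.SemiConj

section trans

variable {α : Type*} [DecidableEq α]

lemma exists_transversal (S : Finset α) (s : α → α) (hs : ∀ a ∈ S, s a ∈ S)
    (hss : ∀ a ∈ S, s (s a) = a) (hne : ∀ a ∈ S, s a ≠ a) :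
    ∃ T : Finset α, T ⊆ S ∧ ∀ a ∈ S, (a ∈ T ↔ s a ∉ T) := by
  classical
  let key : α → ℕ := fun a => if h : a ∈ S then ((S.equivFin ⟨a, h⟩ : Fin S.card) : ℕ) else 0
  have hkey : ∀ a ∈ S, ∀ b ∈ S, key a = key b → a = b := by
    intro a ha b hb hab
    simp only [key, dif_pos ha, dif_pos hb] at hab
    have := S.equivFin.injective (Fin.ext hab)
    exact congrArg Subtype.val this
  refine ⟨S.filter (fun a => key a < key (s a)), Finset.filter_subset _ _, ?_⟩
  intro a ha
  simp only [Finset.mem_filter, ha, hs a ha, true_and, hss a ha]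
  have : key a ≠ key (s a) := fun h => hne a ha (hkey a ha (s a) (hs a ha) h).symm
  omega

lemma sum_transversal (S T : Finset α) (s : α → α) (hs : ∀ a ∈ S, s a ∈ S)
    (hss : ∀ a ∈ S, s (s a) = a) (hT : T ⊆ S) (hT2 : ∀ a ∈ S, (a ∈ T ↔ s a ∉ T))
    (g : α → ℕ) : ∑ a ∈ S, g a = ∑ a ∈ T, (g a + g (s a)) := by
  rw [Finset.sum_add_distrib, ← Finset.sum_sdiff hT, add_comm]
  congr 1
  symm
  apply Finset.sum_nbij' s s
  · intro a ha
    rw [Finset.mem_sdiff]
    exact ⟨hs a (hT ha), fun h => ((hT2 a (hT ha)).mp ha) h⟩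
  · intro a ha
    rw [Finset.mem_sdiff] at ha
    have h1 := hT2 (s a) (hs a ha.1)
    rw [hss a ha.1] at h1
    by_contra hcon
    exact hcon (h1.mpr ha.2)
  · intro a ha
    exact hss a (hT ha)
  · intro a ha
    rw [Finset.mem_sdiff] at ha
    exact hss a ha.1
  · intro a _
    rfl

lemma card_transversal (S T : Finset α) (s : α → α) (hs : ∀ a ∈ S, s a ∈ S)
    (hss : ∀ a ∈ S, s (s a) = a) (hT : T ⊆ S) (hT2 : ∀ a ∈ S, (a ∈ T ↔ s a ∉ T)) :
    S.card = 2 * T.card := by
  have := sum_transversal S T s hs hss hT hT2 (fun _ => 1)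
  simp only [Finset.sum_const, smul_eq_mul, mul_one] at this
  omega

/-- extension by zero of a function on a finset -/
def extend (S : Finset α) (mm : ↥S → ℕ) : α → ℕ :=
  fun f => if h : f ∈ S then mm ⟨f, h⟩ else 0

lemma extend_apply (S : Finset α) (mm : ↥S → ℕ) (f : ↥S) : extend S mm f.1 = mm f := by
  unfold extend
  simp only [f.2, dite_true]

lemma extend_mem (S : Finset α) (mm : ↥S → ℕ) (f : α) (hf : f ∈ S) :
    extend S mm f = mm ⟨f, hf⟩ := extend_apply S mm ⟨f, hf⟩

lemma sum_extend (S : Finset α) (mm : ↥S → ℕ) (w : α → ℕ) :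
    ∑ f : ↥S, w f.1 * mm f = ∑ f ∈ S, w f * extend S mm f := by
  rw [← Finset.sum_coe_sort S]
  apply Finset.sum_congr rfl
  intro f _
  rw [extend_apply]

/-- all points fixed: the invariance condition is void -/
theorem card_symm_fixed (x₀ : α) (C : Finset α) (hx₀ : x₀ ∉ C) (s : α → α) (hs0 : s x₀ = x₀)
    (hfix : ∀ a ∈ C, s a = a) (wt : α → ℕ) (hw0 : wt x₀ = 1) (d : ℕ) (hd : 0 < d)
    (hw : ∀ a ∈ C, wt a = d) (N : ℕ) :
    Nat.card {mm : ↥(insert x₀ C) → ℕ // (∑ f : ↥(insert x₀ C), wt f.1 * mm f = N) ∧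
      ∀ f g : ↥(insert x₀ C), g.1 = s f.1 → mm g = mm f} = (N / d + C.card).choose C.card := by
  have hstar : ∀ f ∈ insert x₀ C, s f = f := by
    intro f hf
    rcases Finset.mem_insert.mp hf with h | h
    · rw [h]; exact hs0
    · exact hfix f h
  have e : {mm : ↥(insert x₀ C) → ℕ // (∑ f : ↥(insert x₀ C), wt f.1 * mm f = N) ∧
      ∀ f g : ↥(insert x₀ C), g.1 = s f.1 → mm g = mm f} ≃
      {mm : ↥(insert x₀ C) → ℕ // ∑ f : ↥(insert x₀ C), wt f.1 * mm f = N} :=
    Equiv.subtypeEquivRight (fun mm => ⟨fun h => h.1, fun h => ⟨h, fun f g hg => by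
      have : g = f := Subtype.ext (hg.trans (hstar f.1 f.2))
      rw [this]⟩⟩)
  rw [Nat.card_congr e]
  exact card_weighted x₀ C hx₀ wt hw0 d hd hw N

/-- no point of `C` fixed -/
theorem card_symm_free (x₀ : α) (C : Finset α) (hx₀ : x₀ ∉ C) (s : α → α) (hs0 : s x₀ = x₀)
    (hsm : ∀ a ∈ C, s a ∈ C) (hss : ∀ a ∈ C, s (s a) = a) (hne : ∀ a ∈ C, s a ≠ a)
    (wt : α → ℕ) (hw0 : wt x₀ = 1) (d : ℕ) (hd : 0 < d) (hw : ∀ a ∈ C, wt a = d) (N : ℕ) :
    Nat.card {mm : ↥(insert x₀ C) → ℕ // (∑ f : ↥(insert x₀ C), wt f.1 * mm f = N) ∧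
      ∀ f g : ↥(insert x₀ C), g.1 = s f.1 → mm g = mm f} =
      (N / (2 * d) + C.card / 2).choose (C.card / 2) := by
  classical
  obtain ⟨T, hTs, hT2⟩ := exists_transversal C s hsm hss hne
  have hcardT : T.card = C.card / 2 := by
    have := card_transversal C T s hsm hss hTs hT2
    omega
  have hx0T : x₀ ∉ T := fun h => hx₀ (hTs h)
  set S := insert x₀ C with hS
  set S' := insert x₀ T with hS'
  have hsub : S' ⊆ S := by
    rw [hS, hS']
    exact Finset.insert_subset_insert _ hTs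
  let w : α → ℕ := fun f => if f = x₀ then 1 else 2 * d
  have hw0' : w x₀ = 1 := by simp only [w, if_true]
  have hwT : ∀ f ∈ T, w f = 2 * d := by
    intro f hf
    have : f ≠ x₀ := fun h => hx0T (h ▸ hf)
    simp only [w, if_neg this]
  have h3 := card_weighted x₀ T hx0T w hw0' (2 * d) (by omega) hwT N
  rw [hcardT] at h3
  rw [← h3]
  have hident : ∀ mm' : α → ℕ, (∀ f ∈ C, mm' (s f) = mm' f) →
      ∑ f ∈ S, wt f * mm' f = ∑ f ∈ S', w f * mm' f := by
    intro mm' hsym
    rw [hS, Finset.sum_insert hx₀, hS', Finset.sum_insert hx0T, hw0, hw0']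
    congr 1
    rw [sum_transversal C T s hsm hss hTs hT2 (fun f => wt f * mm' f)]
    apply Finset.sum_congr rfl
    intro f hf
    rw [hwT f hf, hw f (hTs hf), hw _ (hsm f (hTs hf)), hsym f (hTs hf)]
    ring
  have hmemS : ∀ f ∈ S, f = x₀ ∨ f ∈ C := by
    intro f hf
    rw [hS] at hf
    exact Finset.mem_insert.mp hf
  have hmemS' : ∀ f, f ∈ S' ↔ f = x₀ ∨ f ∈ T := by
    intro f
    rw [hS']
    exact Finset.mem_insert
  have hCS : ∀ f ∈ C, f ∈ S := fun f hf => by rw [hS]; exact Finset.mem_insert_of_mem hf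
  have hsymOf : ∀ mm : ↥S → ℕ, (∀ f g : ↥S, g.1 = s f.1 → mm g = mm f) →
      ∀ f ∈ C, extend S mm (s f) = extend S mm f := by
    intro mm hm2 f hf
    have hfS : f ∈ S := hCS f hf
    have hsS : s f ∈ S := hCS _ (hsm f hf)
    rw [extend_mem S mm _ hsS, extend_mem S mm _ hfS]
    exact hm2 ⟨f, hfS⟩ ⟨s f, hsS⟩ rfl
  have hbij : Function.Bijective (fun mm : {mm : ↥S → ℕ // (∑ f : ↥S, wt f.1 * mm f = N) ∧
      ∀ f g : ↥S, g.1 = s f.1 → mm g = mm f} =>
      (⟨fun f : ↥S' => mm.1 ⟨f.1, hsub f.2⟩, by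
        have h1 := mm.2.1
        have h2 := hsymOf mm.1 mm.2.2
        rw [sum_extend S mm.1 wt, hident _ h2] at h1
        refine Eq.trans ?_ h1
        rw [← Finset.sum_coe_sort S']
        apply Finset.sum_congr rfl
        intro f _
        rw [extend_mem S mm.1 f.1 (hsub f.2)]⟩ :
        {mm₀ : ↥S' → ℕ // ∑ f : ↥S', w f.1 * mm₀ f = N})) := by
    constructor
    · intro mm mm'' h
      have hres : ∀ f : α, ∀ hf : f ∈ S', mm.1 ⟨f, hsub hf⟩ = mm''.1 ⟨f, hsub hf⟩ := by
        intro f hf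
        exact congrFun (congrArg Subtype.val h) ⟨f, hf⟩
      apply Subtype.ext
      funext f
      by_cases hf' : f.1 ∈ S'
      · exact hres f.1 hf'
      · have hfc : f.1 ∈ C := by
          rcases hmemS f.1 f.2 with h1 | h1
          · exact absurd ((hmemS' f.1).mpr (Or.inl h1)) hf'
          · exact h1
        have hfT : f.1 ∉ T := fun h1 => hf' ((hmemS' f.1).mpr (Or.inr h1))
        have hsT : s f.1 ∈ T := by
          by_contra hcon
          exact hfT ((hT2 f.1 hfc).mpr hcon)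
        have hsS' : s f.1 ∈ S' := (hmemS' _).mpr (Or.inr hsT)
        have e1 := mm.2.2 f ⟨s f.1, hsub hsS'⟩ rfl
        have e2 := mm''.2.2 f ⟨s f.1, hsub hsS'⟩ rfl
        rw [← e1, ← e2]
        exact hres _ hsS'
    · rintro ⟨mm₀, h0⟩
      let e0 := extend S' mm₀
      let mm : ↥S → ℕ := fun f => if f.1 ∈ S' then e0 f.1 else e0 (s f.1)
      have hmm_in : ∀ f : ↥S, f.1 ∈ S' → mm f = e0 f.1 := by
        intro f hf
        simp only [mm, if_pos hf]
      have hmm_out : ∀ f : ↥S, f.1 ∉ S' → mm f = e0 (s f.1) := by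
        intro f hf
        simp only [mm, if_neg hf]
      have hm2 : ∀ f g : ↥S, g.1 = s f.1 → mm g = mm f := by
        intro f g hg
        rcases hmemS f.1 f.2 with h1 | h1
        · have hg1 : g.1 = x₀ := by rw [hg, h1]; exact hs0
          have : g = f := Subtype.ext (hg1.trans h1.symm)
          rw [this]
        · by_cases hfT : f.1 ∈ T
          · have hgT : g.1 ∉ T := by rw [hg]; exact (hT2 f.1 h1).mp hfT
            have hgc : g.1 ∈ C := by rw [hg]; exact hsm f.1 h1
            have hg' : g.1 ∉ S' := by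
              rw [hmemS']
              rintro (h2 | h2)
              · exact hx₀ (h2 ▸ hgc)
              · exact hgT h2
            rw [hmm_out g hg', hmm_in f ((hmemS' _).mpr (Or.inr hfT)), hg, hss f.1 h1]
          · have hsT : s f.1 ∈ T := by
              by_contra hcon
              exact hfT ((hT2 f.1 h1).mpr hcon)
            have hf' : f.1 ∉ S' := by
              rw [hmemS']
              rintro (h2 | h2)
              · exact hx₀ (h2 ▸ h1)
              · exact hfT h2
            have hg' : g.1 ∈ S' := by rw [hg]; exact (hmemS' _).mpr (Or.inr hsT)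
            rw [hmm_in g hg', hmm_out f hf', hg]
      have hm1 : ∑ f : ↥S, wt f.1 * mm f = N := by
        rw [sum_extend S mm wt, hident _ (hsymOf mm hm2), ← h0, ← Finset.sum_coe_sort S']
        apply Finset.sum_congr rfl
        intro f _
        rw [extend_mem S mm f.1 (hsub f.2), hmm_in ⟨f.1, hsub f.2⟩ f.2]
        show w f.1 * extend S' mm₀ f.1 = _
        rw [extend_apply]
      refine ⟨⟨mm, hm1, hm2⟩, ?_⟩
      apply Subtype.ext
      funext f
      show mm ⟨f.1, hsub f.2⟩ = mm₀ f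
      rw [hmm_in ⟨f.1, hsub f.2⟩ f.2]
      show extend S' mm₀ f.1 = _
      rw [extend_apply]
  exact Nat.card_eq_of_bijective _ hbij

end trans

end Cfsg.Agent.Helper44.CountInv
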