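import Mathlib
set_option autoImplicit false

/-! Centralizers of cyclic (non-derogatory) matrices: `C(M) = F[M]`; rank chain for nilpotent maps. -/

namespace Cfsg.Agent.Helper44


section CyclicCent
open Polynomial
variable {F : Type*} [Field F] {n : ℕ}

/-- evaluation hom from `AdjoinRoot P` to matrices, for `P` annihilating `M`. -/
noncomputable def evP (M : Matrix (Fin n) (Fin n) F) (P : F[X]) (hP : aeval M P = 0) :
    AdjoinRoot P →ₐ[F] Matrix (Fin n) (Fin n) F :=
  Ideal.Quotient.liftₐ (Ideal.span {P}) (aeval M) (by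
    intro a ha
    rw [Ideal.mem_span_singleton] at ha
    obtain ⟨c, rfl⟩ := ha
    rw [map_mul, hP, zero_mul])

theorem evP_mk (M : Matrix (Fin n) (Fin n) F) (P : F[X]) (hP : aeval M P = 0) (g : F[X]) :
    evP M P hP (AdjoinRoot.mk _ g) = aeval M g := rfl

theorem evP_root (M : Matrix (Fin n) (Fin n) F) (P : F[X]) (hP : aeval M P = 0) :
    evP M P hP (AdjoinRoot.root _) = M := by
  rw [AdjoinRoot.root, evP_mk, aeval_X]

theorem commute_aeval (M c : Matrix (Fin n) (Fin n) F) (hc : Commute c M) (g : F[X]) :
    Commute c (aeval M g) := by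
  rw [aeval_eq_sum_range]
  apply Commute.sum_right
  intro i _
  exact (hc.pow_right i).smul_right _

theorem commute_evP (M c : Matrix (Fin n) (Fin n) F) (P : F[X]) (hP : aeval M P = 0)
    (hc : Commute c M) (a : AdjoinRoot P) : Commute c (evP M P hP a) := by
  obtain ⟨g, rfl⟩ := AdjoinRoot.mk_surjective a
  rw [evP_mk]
  exact commute_aeval M c hc g

/-- If `v` is a cyclic vector (expressed via injectivity of `a ↦ ev a v`) and `deg P = n`, then
everything commuting with `M` is a polynomial in `M`. -/
theorem exists_evP_eq (M : Matrix (Fin n) (Fin n) F) (P : F[X]) (hP : aeval M P = 0)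
    (hP0 : P ≠ 0) (hdeg : P.natDegree = n) (v : Fin n → F)
    (hv : ∀ a : AdjoinRoot P, (evP M P hP a).mulVec v = 0 → a = 0)
    (c : Matrix (Fin n) (Fin n) F) (hc : Commute c M) : ∃ a, evP M P hP a = c := by
  classical
  have hfr : Module.finrank F (AdjoinRoot P) = n := by
    rw [(AdjoinRoot.powerBasis hP0).finrank, AdjoinRoot.powerBasis_dim, hdeg]
  have : Module.Finite F (AdjoinRoot P) := (AdjoinRoot.powerBasis hP0).finite
  let φ : AdjoinRoot P →ₗ[F] (Fin n → F) :=
    { toFun := fun a => (evP M P hP a).mulVec v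
      map_add' := by intro a b; rw [map_add, Matrix.add_mulVec]
      map_smul' := by intro k a; rw [map_smul, Matrix.smul_mulVec]; rfl }
  have hφ : ∀ a, φ a = (evP M P hP a).mulVec v := fun _ => rfl
  have hinj : Function.Injective φ := by
    rw [← LinearMap.ker_eq_bot, LinearMap.ker_eq_bot']
    intro a ha
    exact hv a ha
  have hsurj : Function.Surjective φ := by
    apply (LinearMap.injective_iff_surjective_of_finrank_eq_finrank ?_).mp hinj
    rw [hfr, Module.finrank_fin_fun]
  obtain ⟨a, ha⟩ := hsurj (c.mulVec v)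
  refine ⟨a, ?_⟩
  rw [Matrix.ext_iff_mulVec]
  intro w
  obtain ⟨b, rfl⟩ := hsurj w
  rw [hφ, Matrix.mulVec_mulVec, Matrix.mulVec_mulVec, ← map_mul, mul_comm a b, map_mul,
    (commute_evP M c P hP hc b).eq, ← Matrix.mulVec_mulVec, ← Matrix.mulVec_mulVec, ← hφ a, ha]

theorem evP_injective (M : Matrix (Fin n) (Fin n) F) (P : F[X]) (hP : aeval M P = 0)
    (v : Fin n → F) (hv : ∀ a : AdjoinRoot P, (evP M P hP a).mulVec v = 0 → a = 0) :
    Function.Injective (evP M P hP) := by
  rw [injective_iff_map_eq_zero]
  intro a ha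
  apply hv
  rw [ha, Matrix.zero_mulVec]

/-- The centralizer in `GL` of an element `x` (whose commutant coincides with that of a cyclic
matrix `M`) is isomorphic to the unit group of `AdjoinRoot P`. -/
theorem nonempty_centralizer_equiv (M : Matrix (Fin n) (Fin n) F) (P : F[X]) (hP : aeval M P = 0)
    (hP0 : P ≠ 0) (hdeg : P.natDegree = n) (v : Fin n → F)
    (hv : ∀ a : AdjoinRoot P, (evP M P hP a).mulVec v = 0 → a = 0)
    (x : GL (Fin n) F)
    (hxM : ∀ c : Matrix (Fin n) (Fin n) F, Commute c (x : Matrix (Fin n) (Fin n) F) ↔ Commute c M) :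
    Nonempty ((AdjoinRoot P)ˣ ≃* Subgroup.centralizer ({x} : Set (GL (Fin n) F))) := by
  classical
  have hinj0 := evP_injective M P hP v hv
  let f : (AdjoinRoot P)ˣ →* GL (Fin n) F := Units.map (evP M P hP).toMonoidHom
  have hf : ∀ a, ((f a : GL (Fin n) F) : Matrix (Fin n) (Fin n) F) = evP M P hP (a : AdjoinRoot P) :=
    fun _ => rfl
  have hfinj : Function.Injective f := Units.map_injective hinj0
  have hcomm : ∀ c : GL (Fin n) F, c ∈ Subgroup.centralizer ({x} : Set (GL (Fin n) F)) ↔
      Commute (c : Matrix (Fin n) (Fin n) F) M := by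
    intro c
    rw [Subgroup.mem_centralizer_singleton_iff, ← hxM]
    constructor
    · intro h
      have := congrArg (fun u : GL (Fin n) F => (u : Matrix (Fin n) (Fin n) F)) h
      simp only [Units.val_mul] at this
      exact this
    · intro h
      apply Units.ext
      rw [Units.val_mul, Units.val_mul]
      exact h.eq
  have hrange : f.range = Subgroup.centralizer {x} := by
    ext c
    rw [hcomm]
    constructor
    · rintro ⟨a, rfl⟩
      rw [hf]
      exact (commute_evP M M P hP (Commute.refl M) _).symm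
    · intro hc
      obtain ⟨a, ha⟩ := exists_evP_eq M P hP hP0 hdeg v hv c hc
      have hc' : Commute ((c⁻¹ : GL (Fin n) F) : Matrix (Fin n) (Fin n) F) M := by
        rw [← hcomm]
        exact inv_mem ((hcomm c).mpr hc)
      obtain ⟨b, hb⟩ := exists_evP_eq M P hP hP0 hdeg v hv _ hc'
      have hab : a * b = 1 := by
        apply hinj0
        rw [map_mul, ha, hb, map_one, ← Units.val_mul, mul_inv_cancel, Units.val_one]
      have hba : b * a = 1 := by rw [mul_comm, hab]
      exact ⟨⟨a, b, hab, hba⟩, Units.ext ha⟩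
  exact ⟨(MonoidHom.ofInjective hfinj).trans (MulEquiv.subgroupCongr hrange)⟩

end CyclicCent



section RankChain
variable {F : Type*} [Field F] {V : Type*} [AddCommGroup V] [Module F V] [FiniteDimensional F V]

theorem finrank_le_map_add_ker (f : V →ₗ[F] V) (S : Submodule F V) :
    Module.finrank F S ≤ Module.finrank F (S.map f) + Module.finrank F (LinearMap.ker f) := by
  have h := LinearMap.finrank_range_add_finrank_ker (f.domRestrict S)
  rw [LinearMap.range_domRestrict] at h
  have h2 : Module.finrank F (LinearMap.ker (f.domRestrict S)) ≤ Module.finrank F (LinearMap.ker f) := by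
    rw [LinearMap.ker_domRestrict, ← Submodule.finrank_map_subtype_eq, Submodule.map_comap_subtype]
    exact Submodule.finrank_mono inf_le_right
  omega

theorem finrank_le_range_pow_add (f : V →ₗ[F] V) (k : ℕ) :
    Module.finrank F V ≤ Module.finrank F (LinearMap.range (f ^ k))
      + k * Module.finrank F (LinearMap.ker f) := by
  induction k with
  | zero =>
    rw [pow_zero, Module.End.one_eq_id, LinearMap.range_id, finrank_top]
    omega
  | succ k ih =>
    have h1 : LinearMap.range (f ^ (k + 1)) = (LinearMap.range (f ^ k)).map f := by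
      rw [pow_succ', Module.End.mul_eq_comp, LinearMap.range_comp]
    have h2 := finrank_le_map_add_ker f (LinearMap.range (f ^ k))
    rw [h1, add_mul, one_mul]
    omega

end RankChain

section Nilp
open Polynomial
variable {F : Type*} [Field F] {n : ℕ}

theorem mulVecLin_pow (N : Matrix (Fin n) (Fin n) F) (k : ℕ) :
    (N ^ k).mulVecLin = N.mulVecLin ^ k := by
  induction k with
  | zero => rw [pow_zero, pow_zero, Matrix.mulVecLin_one, Module.End.one_eq_id]
  | succ k ih => rw [pow_succ, pow_succ, Matrix.mulVecLin_mul, ih, Module.End.mul_eq_comp]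

/-- A matrix of rank `n - 1` has nonzero `(n-1)`-th power. -/
theorem pow_pred_ne_zero_of_rank (hn : 1 ≤ n) (N : Matrix (Fin n) (Fin n) F)
    (hreg : N.rank = n - 1) : N ^ (n - 1) ≠ 0 := by
  intro h0
  have h1 := finrank_le_range_pow_add N.mulVecLin (n - 1)
  have h2 := LinearMap.finrank_range_add_finrank_ker N.mulVecLin
  rw [Module.finrank_fin_fun] at h1 h2
  have h3 : Module.finrank F (LinearMap.range N.mulVecLin) = n - 1 := hreg
  rw [← mulVecLin_pow, h0, Matrix.mulVecLin_zero, LinearMap.range_zero, finrank_bot] at h1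
  have h4 : Module.finrank F (LinearMap.ker N.mulVecLin) = 1 := by omega
  rw [h4] at h1
  omega

theorem exists_cyclic_vec (hn : 1 ≤ n) (N : Matrix (Fin n) (Fin n) F)
    (hreg : N.rank = n - 1) : ∃ v : Fin n → F, (N ^ (n - 1)).mulVec v ≠ 0 := by
  by_contra h
  simp only [not_exists, not_not] at h
  apply pow_pred_ne_zero_of_rank hn N hreg
  rw [Matrix.ext_iff_mulVec]
  intro v
  rw [h v, Matrix.zero_mulVec]

end Nilp

end Cfsg.Agent.Helper44
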