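import Mathlib
import Cfsg.Agent.Lib.Helper52.FCDefs
import Cfsg.Agent.Lib.Helper52.Coprime
import Cfsg.Agent.Lib.Helper52.CoprimeSylow

/-!
# S3816 lemma server "FC" (helper52): piece (D2) `L2_sgroup`

Route (slightly shorter than the sketch): if `L` is not an `s`-group for any prime `s`, every
`a`-invariant Sylow subgroup `S` of `L` is proper, so `[S,P] ≤ L₂`, `S = [S,P] C_S(a) ≤ C_L(a) L₂`;
hence `L = C_L(a) L₂`, and `[L,P] ≤ L₂` because `L₂` is `a`-invariant: `L = L₂`.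
-/

set_option autoImplicit false
set_option linter.style.haveILetI false

namespace Cfsg.Agent.Helper44.FC

open Subgroup Cfsg.Agent.Helper52.FC
open scoped commutatorElement

universe u

variable {G : Type u} [Group G]

theorem h44_pow_conj_mem (a : G) (X : Subgroup G) (hX : Inv a X) (x : G) (hx : x ∈ X) (i : ℕ) :
    a ^ i * x * (a ^ i)⁻¹ ∈ X := by
  induction i with
  | zero => simpa using hx
  | succ k ih =>
    have : a ^ (k + 1) * x * (a ^ (k + 1))⁻¹ = a * (a ^ k * x * (a ^ k)⁻¹) * a⁻¹ := by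
      rw [pow_succ']; group
    rw [this]; exact hX _ ih

theorem h44_Lh_le (a : G) (X : Subgroup G) (hX : Inv a X) (h : G) (hh : h ∈ X) : Lh a h ≤ X := by
  unfold Lh
  rw [closure_le]
  rintro c ⟨i, rfl⟩
  exact X.mul_mem (X.inv_mem hh) (h44_pow_conj_mem a X hX h hh i)

theorem h44_Lh_inv (a h : G) : Inv a (Lh a h) := by
  intro x hx
  unfold Lh at hx ⊢
  induction hx using closure_induction with
  | mem c hc =>
    obtain ⟨i, rfl⟩ := hc
    have : a * (h⁻¹ * (a ^ i * h * (a ^ i)⁻¹)) * a⁻¹ =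
        (h⁻¹ * (a * h * a⁻¹))⁻¹ * (h⁻¹ * (a ^ (i + 1) * h * (a ^ (i + 1))⁻¹)) := by
      rw [pow_succ']; group
    rw [this]
    exact mul_mem (inv_mem (subset_closure ⟨1, by rw [pow_one]⟩)) (subset_closure ⟨i + 1, rfl⟩)
  | one => simp
  | mul x y _ _ hx hy =>
    have : a * (x * y) * a⁻¹ = (a * x * a⁻¹) * (a * y * a⁻¹) := by group
    rw [this]; exact mul_mem hx hy
  | inv x _ hx =>
    have : a * x⁻¹ * a⁻¹ = (a * x * a⁻¹)⁻¹ := by group
    rw [this]; exact inv_mem hx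

theorem h44_comm_pow (a c : G) (hc : c ∈ Fix a) (i : ℕ) : a ^ i * c = c * a ^ i := by
  have h1 : a * c = c * a := by
    have := (mem_centralizer_iff.mp hc) a (Set.mem_singleton a)
    exact this
  have h2 : Commute a c := h1
  exact (h2.pow_left i).eq

theorem h44_conj_Lh_le (a c : G) (hc : c ∈ Fix a) (l x : G) (hx : x ∈ Lh a l) :
    c * x * c⁻¹ ∈ Lh a (c * l * c⁻¹) := by
  unfold Lh at hx ⊢
  induction hx using closure_induction with
  | mem g hg =>
    obtain ⟨i, rfl⟩ := hg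
    have hb : a ^ i = c * a ^ i * c⁻¹ := by
      rw [← h44_comm_pow a c hc i, mul_inv_cancel_right]
    have : c * (l⁻¹ * (a ^ i * l * (a ^ i)⁻¹)) * c⁻¹ =
        (c * l * c⁻¹)⁻¹ * (a ^ i * (c * l * c⁻¹) * (a ^ i)⁻¹) := by
      conv_rhs => rw [hb]
      group
    rw [this]
    exact subset_closure ⟨i, rfl⟩
  | one => simp
  | mul x y _ _ hx hy =>
    have : c * (x * y) * c⁻¹ = (c * x * c⁻¹) * (c * y * c⁻¹) := by group
    rw [this]; exact mul_mem hx hy
  | inv x _ hx =>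
    have : c * x⁻¹ * c⁻¹ = (c * x * c⁻¹)⁻¹ := by group
    rw [this]; exact inv_mem hx

theorem h44_mem_normalizer {p : ℕ} (hp0 : 0 < p) (a : G) (hpow : a ^ p = 1) (X : Subgroup G)
    (hX : Inv a X) : a ∈ normalizer (X : Set G) := by
  rw [mem_normalizer_iff]
  intro x
  refine ⟨fun hx => hX x hx, fun hx => ?_⟩
  have h1 := h44_pow_conj_mem a X hX _ hx (p - 1)
  have h2 : a ^ (p - 1) * a = 1 := by rw [← pow_succ, Nat.sub_add_cancel hp0, hpow]
  have h3 : a ^ (p - 1) = a⁻¹ := eq_inv_of_mul_eq_one_left h2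
  rw [h3] at h1
  have h4 : a⁻¹ * (a * x * a⁻¹) * a⁻¹⁻¹ = x := by group
  rwa [h4] at h1

theorem h44_zpowers_solvable (a : G) : Group.IsSolvable (zpowers a) := by
  apply Group.isSolvable_of_comm
  rintro ⟨x, hx⟩ ⟨y, hy⟩
  rw [mem_zpowers_iff] at hx hy
  obtain ⟨m, rfl⟩ := hx
  obtain ⟨n, rfl⟩ := hy
  exact Subtype.ext (zpow_mul_comm a m n)

/-- (D2) -/
theorem L2_sgroup [Finite G] {p : ℕ} (hp : p.Prime) (a : G) (L : Subgroup G) (hyp : Hyp p a L) (hL : comm a L = L)
    (h2 : (⨆ l : {l : G // l ∈ L ∧ Lh a l ≠ L}, Lh a (l : G)) ≠ L) : ∃ s : ℕ, s.Prime ∧ IsPGroup s L := by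
  classical
  by_contra hcon
  push Not at hcon
  apply h2
  set L₂ : Subgroup G := ⨆ l : {l : G // l ∈ L ∧ Lh a l ≠ L}, Lh a (l : G) with hL₂
  have hL₂L : L₂ ≤ L := iSup_le fun l => h44_Lh_le a L hyp.inv l.1 l.2.1
  refine le_antisymm hL₂L ?_
  have hkey : ∀ x ∈ L, Lh a x ≠ L → Lh a x ≤ L₂ := fun x hx hne =>
    le_iSup (fun l : {l : G // l ∈ L ∧ Lh a l ≠ L} => Lh a (l : G)) ⟨x, hx, hne⟩
  have hprop : ∀ X : Subgroup G, X ≤ L → X ≠ L → Inv a X → ∀ x ∈ X, Lh a x ≤ L₂ := by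
    intro X hXL hXne hX x hx
    apply hkey x (hXL hx)
    intro heq
    apply hXne
    apply le_antisymm hXL
    rw [← heq]
    exact h44_Lh_le a X hX x hx
  -- `L₂` is `a`-invariant
  have hL₂inv : Inv a L₂ := by
    intro x hx
    have hmap : L₂.map (MulAut.conj a).toMonoidHom ≤ L₂ := by
      rw [hL₂, Subgroup.map_iSup]
      refine iSup_le fun l => le_trans ?_ (le_iSup _ l)
      rintro _ ⟨y, hy, rfl⟩
      exact h44_Lh_inv a l y hy
    exact hmap (Subgroup.mem_map_of_mem _ hx)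
  -- `C_L(a)` normalises `L₂`
  have hCn : ∀ c ∈ L ⊓ Fix a, ∀ x ∈ L₂, c * x * c⁻¹ ∈ L₂ := by
    intro c hc x hx
    have hcL : c ∈ L := hc.1
    have hcF : c ∈ Fix a := hc.2
    have hmap : L₂.map (MulAut.conj c).toMonoidHom ≤ L₂ := by
      rw [hL₂, Subgroup.map_iSup]
      refine iSup_le fun l => ?_
      have hne : Lh a (c * (l : G) * c⁻¹) ≠ L := by
        intro heq
        apply l.2.2
        apply le_antisymm (h44_Lh_le a L hyp.inv l.1 l.2.1)
        intro y hy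
        have h1 : c * y * c⁻¹ ∈ Lh a (c * (l : G) * c⁻¹) := by
          rw [heq]; exact L.mul_mem (L.mul_mem hcL hy) (L.inv_mem hcL)
        have h3 := h44_conj_Lh_le a c⁻¹ (inv_mem hcF) (c * (l : G) * c⁻¹) _ h1
        have e1 : c⁻¹ * (c * y * c⁻¹) * c⁻¹⁻¹ = y := by group
        have e2 : c⁻¹ * (c * (l : G) * c⁻¹) * c⁻¹⁻¹ = (l : G) := by group
        rwa [e1, e2] at h3
      have hmemL : c * (l : G) * c⁻¹ ∈ L := L.mul_mem (L.mul_mem hcL l.2.1) (L.inv_mem hcL)
      refine le_trans ?_ (hkey _ hmemL hne)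
      rintro _ ⟨y, hy, rfl⟩
      exact h44_conj_Lh_le a c hcF l y hy
    exact hmap (Subgroup.mem_map_of_mem _ hx)
  have hCnorm : L ⊓ Fix a ≤ normalizer (L₂ : Set G) := by
    intro c hc
    rw [mem_normalizer_iff]
    intro x
    refine ⟨fun hx => hCn c hc x hx, fun hx => ?_⟩
    have := hCn c⁻¹ (inv_mem hc) _ hx
    have e1 : c⁻¹ * (c * x * c⁻¹) * c⁻¹⁻¹ = x := by group
    rwa [e1] at this
  -- the acting group
  have hp0 : 0 < p := hp.pos
  have haL : a ∈ normalizer (L : Set G) := h44_mem_normalizer hp0 a hyp.pow L hyp.inv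
  have hPL : zpowers a ≤ normalizer (L : Set G) := (zpowers_le).mpr haL
  have hPsolv : Group.IsSolvable (zpowers a) := h44_zpowers_solvable a
  have hPcard : Nat.card (zpowers a) ∣ p := by
    rw [Nat.card_zpowers]; exact orderOf_dvd_of_pow_eq_one hyp.pow
  have hcopPL : (Nat.card (zpowers a)).Coprime (Nat.card L) :=
    Nat.Coprime.coprime_dvd_left hPcard hyp.cop.symm
  -- every invariant Sylow subgroup lies in `C_L(a) ⊔ L₂`
  have hM : (L ⊓ Fix a) ⊔ L₂ = L := by
    have hML : (L ⊓ Fix a) ⊔ L₂ ≤ L := sup_le inf_le_left hL₂L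
    apply Subgroup.eq_of_le_of_card_ge hML
    apply Nat.le_of_dvd Nat.card_pos
    rw [← Nat.factorization_prime_le_iff_dvd Nat.card_pos.ne' Nat.card_pos.ne']
    intro s hs
    haveI : Fact s.Prime := ⟨hs⟩
    obtain ⟨S, hSL, hScard, hSnorm⟩ :=
      Cfsg.Agent.Helper52.exists_invariant_sylow (zpowers a) L hPL hcopPL (Or.inl hPsolv) s
    rw [← hs.pow_dvd_iff_le_factorization Nat.card_pos.ne']
    have hSne : S ≠ L := by
      intro heq
      rw [heq] at hScard
      have hc : Nat.card L = s ^ (Nat.card L).factorization s := hScard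
      exact hcon s hs (IsPGroup.of_card hc)
    have haS : a ∈ normalizer (S : Set G) := hSnorm (mem_zpowers a)
    have hSinv : Inv a S := fun x hx => (mem_normalizer_iff.mp haS x).mp hx
    have hcopPS : (Nat.card (zpowers a)).Coprime (Nat.card S) :=
      Nat.Coprime.coprime_dvd_right (Subgroup.card_dvd_of_le hSL) hcopPL
    have hdec := Cfsg.Agent.Helper52.eq_commutator_sup_centralizer S (zpowers a) hSnorm hcopPS
      (Or.inl hPsolv)
    have h1 : ⁅S, zpowers a⁆ ≤ L₂ := by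
      rw [Subgroup.commutator_le]
      intro x hx g hg
      rw [← mem_powers_iff_mem_zpowers, Submonoid.mem_powers_iff] at hg
      obtain ⟨i, rfl⟩ := hg
      have hle := hprop S hSL hSne hSinv x⁻¹ (inv_mem hx)
      apply hle
      have : ⁅x, a ^ i⁆ = (x⁻¹)⁻¹ * (a ^ i * x⁻¹ * (a ^ i)⁻¹) := by
        rw [commutatorElement_def]; group
      rw [this]
      exact subset_closure ⟨i, rfl⟩
    have h2' : S ⊓ centralizer (zpowers a : Set G) ≤ L ⊓ Fix a := by
      apply inf_le_inf hSL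
      exact Subgroup.centralizer_le (Set.singleton_subset_iff.mpr (mem_zpowers a))
    have hSM : S ≤ (L ⊓ Fix a) ⊔ L₂ := by
      rw [hdec]
      exact sup_le (le_trans h1 le_sup_right) (le_trans h2' le_sup_left)
    have := Subgroup.card_dvd_of_le hSM
    rw [hScard] at this
    exact this
  -- conclusion
  calc L = Cfsg.Agent.Helper52.FC.comm a L := hL.symm
    _ ≤ L₂ := by
      unfold Cfsg.Agent.Helper52.FC.comm
      rw [closure_le]
      rintro g ⟨l, hl, i, rfl⟩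
      have hl' : l ∈ (((L ⊓ Fix a) ⊔ L₂ : Subgroup G) : Set G) := by
        rw [hM]; exact hl
      rw [coe_mul_of_left_le_normalizer_right _ _ hCnorm] at hl'
      obtain ⟨c, hc, x, hx, rfl⟩ := Set.mem_mul.mp hl'
      have hci := h44_comm_pow a c hc.2 i
      have : (c * x)⁻¹ * (a ^ i * (c * x) * (a ^ i)⁻¹) = x⁻¹ * (a ^ i * x * (a ^ i)⁻¹) := by
        rw [← mul_assoc (a ^ i) c x, hci]; group
      rw [this]
      exact L₂.mul_mem (L₂.inv_mem hx) (h44_pow_conj_mem a L₂ hL₂inv x hx i)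

end Cfsg.Agent.Helper44.FC
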