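import Mathlib
import Cfsg.Agent.Lib.Helper72.TCClosure
import Cfsg.Agent.Lib.Helper72.SuzPresLog0
import Cfsg.Agent.Lib.Helper72.SuzPresLog1
import Cfsg.Agent.Lib.Helper72.SuzPresLog2
import Cfsg.Agent.Lib.Helper72.SuzPresLog3
import Cfsg.Agent.Lib.Helper72.SuzPresLog4

/-!
# G24 (TOW) (helper92's server for S1679): helper72's Todd-Coxeter tower for the Suzuki generators
`a .. f`, for an ARBITRARY group generated by six involutions satisfying `base4`: the order is at
most `2 * 5 * 216 * 280 * 416 = 251596800`.  Copy of `fin0 .. fin6` of `Helper72/SuzPres.lean`.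
-/

set_option autoImplicit false

namespace Cfsg.Agent.Helper44.G24

open Cfsg.Agent.Helper72.TCC Cfsg.Agent.Helper72.SuzPres

set_option maxRecDepth 100000 in
theorem h44_base0_sub : ∀ r ∈ base0, r ∈ base4 := by decide

set_option maxRecDepth 100000 in
theorem h44_base1_sub : ∀ r ∈ base1, r ∈ base4 := by decide

set_option maxRecDepth 100000 in
theorem h44_base2_sub : ∀ r ∈ base2, r ∈ base4 := by decide

set_option maxRecDepth 100000 in
theorem h44_base3_sub : ∀ r ∈ base3, r ∈ base4 := by decide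

section tower

variable {G : Type*} [Group G] (x : ℕ → G)

/-- The subgroup generated by the first `k` of the `x g`. -/
def h44Hk (k : ℕ) : Subgroup G := Subgroup.closure (x '' {g | g < k})

theorem h44Hk_zero : h44Hk x 0 = ⊥ := by
  unfold h44Hk
  have : {g : ℕ | g < 0} = ∅ := by ext g; simp
  rw [this, Set.image_empty, Subgroup.closure_empty]

theorem h44_fin0 : Finite (h44Hk x 0) ∧ Nat.card (h44Hk x 0) ≤ 1 := by
  rw [h44Hk_zero]
  exact ⟨inferInstance, by simp⟩

variable (hx : ∀ g, x g * x g = 1) (hrel : ∀ r ∈ base4, (r.map x).prod = 1)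

include hx hrel

theorem h44_fin1 : Finite (h44Hk x 1) ∧ Nat.card (h44Hk x 1) ≤ 2 := by
  have := (h44_fin0 x).1
  obtain ⟨w, hw⟩ := lv0_cover (h44Hk x 0) x hx (fun r hr => hrel r (h44_base0_sub r hr))
    (fun g hg => Subgroup.subset_closure ⟨g, hg, rfl⟩)
  obtain ⟨h1, h2⟩ := card_le_of_cover (h44Hk x 0) (h44Hk x 1) 2 w hw
  exact ⟨h1, h2.trans (by have := (h44_fin0 x).2; omega)⟩

theorem h44_fin2 : Finite (h44Hk x 2) ∧ Nat.card (h44Hk x 2) ≤ 10 := by
  have := (h44_fin1 x hx hrel).1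
  obtain ⟨w, hw⟩ := lv1_cover (h44Hk x 1) x hx (fun r hr => hrel r (h44_base1_sub r hr))
    (fun g hg => Subgroup.subset_closure ⟨g, hg, rfl⟩)
  obtain ⟨h1, h2⟩ := card_le_of_cover (h44Hk x 1) (h44Hk x 2) 5 w hw
  exact ⟨h1, h2.trans (by have := (h44_fin1 x hx hrel).2; omega)⟩

theorem h44_fin4 : Finite (h44Hk x 4) ∧ Nat.card (h44Hk x 4) ≤ 2160 := by
  have := (h44_fin2 x hx hrel).1
  obtain ⟨w, hw⟩ := lv2_cover (h44Hk x 2) x hx (fun r hr => hrel r (h44_base2_sub r hr))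
    (fun g hg => Subgroup.subset_closure ⟨g, hg, rfl⟩)
  obtain ⟨h1, h2⟩ := card_le_of_cover (h44Hk x 2) (h44Hk x 4) 216 w hw
  exact ⟨h1, h2.trans (by have := (h44_fin2 x hx hrel).2; omega)⟩

theorem h44_fin5 : Finite (h44Hk x 5) ∧ Nat.card (h44Hk x 5) ≤ 604800 := by
  have := (h44_fin4 x hx hrel).1
  obtain ⟨w, hw⟩ := lv3_cover (h44Hk x 4) x hx (fun r hr => hrel r (h44_base3_sub r hr))
    (fun g hg => Subgroup.subset_closure ⟨g, hg, rfl⟩)
  obtain ⟨h1, h2⟩ := card_le_of_cover (h44Hk x 4) (h44Hk x 5) 280 w hw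
  exact ⟨h1, h2.trans (by have := (h44_fin4 x hx hrel).2; omega)⟩

theorem h44_fin6 : Finite (h44Hk x 6) ∧ Nat.card (h44Hk x 6) ≤ 251596800 := by
  have := (h44_fin5 x hx hrel).1
  obtain ⟨w, hw⟩ := lv4_cover (h44Hk x 5) x hx hrel
    (fun g hg => Subgroup.subset_closure ⟨g, hg, rfl⟩)
  obtain ⟨h1, h2⟩ := card_le_of_cover (h44Hk x 5) (h44Hk x 6) 416 w hw
  exact ⟨h1, h2.trans (by have := (h44_fin5 x hx hrel).2; omega)⟩

end tower

/-- (TOW) [M, generic] helper72's Todd-Coxeter tower for `a..f`, for an ARBITRARY group: copy `fin0 .. fin6` of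
Cfsg/Agent/Lib/Helper72/SuzPres.lean with `Hk k := closure (x '' {g | g < k})` in `G` (`lv0_cover .. lv4_cover` and `card_le_of_cover` are already
generic; `base0 .. base3` are sublists of `base4`: `decide`). -/
theorem tower_bound {G : Type*} [Group G] (x : ℕ → G) (hx : ∀ g, x g * x g = 1)
    (hrel : ∀ r ∈ Cfsg.Agent.Helper72.SuzPres.base4, (r.map x).prod = 1) :
    Finite ↥(Subgroup.closure (x '' {g | g < 6})) ∧
      Nat.card ↥(Subgroup.closure (x '' {g | g < 6})) ≤ 251596800 :=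
  h44_fin6 x hx hrel

end Cfsg.Agent.Helper44.G24
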