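import Mathlib

/-!
(GL-U1) for helper88's GLClass lemma server (S2478): every endomorphism of a finite-dimensional
vector space has a *maximal vector*, i.e. a vector whose annihilator in `F[X]` is the annihilator of
the whole space.  Proof: structure theorem for torsion modules over the PID `F[X]`.
-/

set_option autoImplicit false
set_option linter.unusedSectionVars false

open Polynomial

namespace Cfsg.Agent.Helper44.GLClass

open scoped DirectSum

theorem smul_eq_zero_of_sum_of {R : Type*} [CommRing R] {ι : Type*} [Fintype ι] [DecidableEq ι]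
    (M : ι → Type*) [∀ i, AddCommGroup (M i)] [∀ i, Module R (M i)] (x : ∀ i, M i) (g : R)
    (h : g • (∑ i, DirectSum.of M i (x i)) = 0) (i : ι) : g • x i = 0 := by
  have h' := congrArg (fun u => u i) h
  simp only [DirectSum.smul_apply, DirectSum.zero_apply] at h'
  rw [DirectSum.sum_apply, Finset.sum_eq_single i] at h'
  · simpa using h'
  · intro j _ hj
    exact DirectSum.of_eq_of_ne _ _ _ hj.symm
  · simp

theorem smul_eq_zero_of_forall {R : Type*} [CommRing R] {ι : Type*} [DecidableEq ι]
    (M : ι → Type*) [∀ i, AddCommGroup (M i)] [∀ i, Module R (M i)] (g : R)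
    (h : ∀ i, ∀ y : M i, g • y = 0) (u : ⨁ i, M i) : g • u = 0 := by
  ext i
  rw [DirectSum.smul_apply, h]; rfl

theorem exists_maximal_vector {F : Type*} [Field F] {V : Type*} [AddCommGroup V] [Module F V]
    [FiniteDimensional F V] (T : Module.End F V) :
    ∃ v : V, ∀ g : F[X], aeval T g v = 0 → aeval T g = 0 := by
  classical
  have hM : Module.IsTorsion F[X] (Module.AEval' T) :=
    Module.AEval.isTorsion_of_finiteDimensional F V T
  obtain ⟨ι, _, p, hp, e, ⟨φ⟩⟩ := Module.equiv_directSum_of_isTorsion hM
  let w : ⨁ i : ι, F[X] ⧸ Submodule.span F[X] {p i ^ e i} :=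
    ∑ i, DirectSum.of (fun i => F[X] ⧸ Submodule.span F[X] {p i ^ e i}) i
      (Submodule.Quotient.mk 1)
  refine ⟨(Module.AEval'.of T).symm (φ.symm w), ?_⟩
  intro g hg
  have h1 : g • φ.symm w = 0 := by
    apply (Module.AEval'.of T).symm.injective
    rw [Module.AEval.of_symm_smul]
    simpa using hg
  have h2 : g • w = 0 := by
    have := congrArg φ h1
    simpa using this
  have h3 : ∀ i, ∀ y : F[X] ⧸ Submodule.span F[X] {p i ^ e i}, g • y = 0 := by
    intro i y
    have h := smul_eq_zero_of_sum_of (fun i => F[X] ⧸ Submodule.span F[X] {p i ^ e i})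
      (fun _ => Submodule.Quotient.mk 1) g h2 i
    obtain ⟨y, rfl⟩ := Submodule.Quotient.mk_surjective _ y
    have hy : (Submodule.Quotient.mk y : F[X] ⧸ Submodule.span F[X] {p i ^ e i})
        = y • Submodule.Quotient.mk 1 := by
      rw [← Submodule.Quotient.mk_smul]; simp
    rw [hy, smul_comm, h, smul_zero]
  have h4 := smul_eq_zero_of_forall (fun i => F[X] ⧸ Submodule.span F[X] {p i ^ e i}) g h3
  ext x
  have h5 := h4 (φ (Module.AEval'.of T x))
  rw [← map_smul, LinearEquiv.map_eq_zero_iff] at h5
  have h6 := congrArg (Module.AEval'.of T).symm h5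
  rw [Module.AEval.of_symm_smul] at h6
  simpa using h6

end Cfsg.Agent.Helper44.GLClass
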