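import Mathlib
import Cfsg.Prelude.Def_LieClassical
import Cfsg.Agent.Lib.Helper43.UnitaryConj

/-!
# Centralisers in `GU_n(q)`: orbit–stabiliser on hermitian units

`|C_GL(u)| = |C_GU(u)| * #(nondegenerate hermitian forms invariant under u)`, and transport of
the set of invariant forms along conjugation and reindexing.
-/

set_option autoImplicit false

namespace Cfsg.Agent.Helper44.GUC

open Matrix Cfsg.Agent.Helper43.UnitaryConj

/-- counting a group through a surjection whose fibres are the left cosets of a subgroup -/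
theorem card_eq_of_fibers {C X : Type*} [Group C] (S : Subgroup C) (φ : C → X)
    (hsurj : Function.Surjective φ) (hker : ∀ g g', φ g = φ g' ↔ g⁻¹ * g' ∈ S) :
    Nat.card C = Nat.card X * Nat.card S := by
  rw [Subgroup.card_eq_card_quotient_mul_card_subgroup S]
  congr 1
  apply Nat.card_congr
  refine Equiv.ofBijective (Quotient.lift φ ?_) ⟨?_, ?_⟩
  · intro a b hab
    rw [hker]
    exact QuotientGroup.leftRel_apply.1 hab
  · intro a b
    induction a using Quotient.inductionOn with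
    | h a =>
      induction b using Quotient.inductionOn with
      | h b =>
        intro h
        apply Quotient.sound
        exact QuotientGroup.leftRel_apply.2 ((hker a b).1 h)
  · intro x
    obtain ⟨g, hg⟩ := hsurj x
    exact ⟨Quotient.mk _ g, hg⟩

section Forms

variable {K : Type*} [Field K] {ι ι' : Type*} [Fintype ι] [DecidableEq ι] [Fintype ι']
  [DecidableEq ι']

/-- nondegenerate `σ`-hermitian forms invariant under `U` -/
def InvHerm (σ : K →+* K) (U : Matrix ι ι K) : Set (Matrix ι ι K) :=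
  {Ψ | IsUnit Ψ ∧ starM σ Ψ = Ψ ∧ starM σ U * Ψ * U = Ψ}

theorem invHerm_conj_mem (σ : K →+* K) (hσ : ∀ x, σ (σ x) = x) {U U' R : Matrix ι ι K}
    (hR : IsUnit R) (h : R * U' = U * R) {Ψ : Matrix ι ι K} (hΨ : Ψ ∈ InvHerm σ U) :
    starM σ R * Ψ * R ∈ InvHerm σ U' := by
  obtain ⟨h1, h2, h3⟩ := hΨ
  refine ⟨((isUnit_starM σ hR).mul h1).mul hR, ?_, ?_⟩
  · rw [starM_mul, starM_mul, starM_starM σ hσ, h2, mul_assoc]
  · calc starM σ U' * (starM σ R * Ψ * R) * U'
        = (starM σ U' * starM σ R) * Ψ * (R * U') := by simp only [mul_assoc]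
      _ = starM σ (R * U') * Ψ * (R * U') := by rw [starM_mul]
      _ = starM σ (U * R) * Ψ * (U * R) := by rw [h]
      _ = starM σ R * (starM σ U * Ψ * U) * R := by rw [starM_mul]; simp only [mul_assoc]
      _ = starM σ R * Ψ * R := by rw [h3]

theorem card_invHerm_conj (σ : K →+* K) (hσ : ∀ x, σ (σ x) = x) {U U' R : Matrix ι ι K}
    (hR : IsUnit R) (h : R * U' = U * R) :
    Nat.card (InvHerm σ U) = Nat.card (InvHerm σ U') := by
  obtain ⟨r, rfl⟩ := hR
  have hri : ((r⁻¹ : (Matrix ι ι K)ˣ) : Matrix ι ι K) * U = U' * ((r⁻¹ : (Matrix ι ι K)ˣ) : Matrix ι ι K) := by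
    calc ((r⁻¹ : (Matrix ι ι K)ˣ) : Matrix ι ι K) * U
        = ((r⁻¹ : (Matrix ι ι K)ˣ) : Matrix ι ι K) * (U * (r : Matrix ι ι K)) *
          ((r⁻¹ : (Matrix ι ι K)ˣ) : Matrix ι ι K) := by
          rw [mul_assoc, mul_assoc, Units.mul_inv, mul_one]
      _ = ((r⁻¹ : (Matrix ι ι K)ˣ) : Matrix ι ι K) * ((r : Matrix ι ι K) * U') *
          ((r⁻¹ : (Matrix ι ι K)ˣ) : Matrix ι ι K) := by rw [h]
      _ = U' * ((r⁻¹ : (Matrix ι ι K)ˣ) : Matrix ι ι K) := by
          rw [← mul_assoc, Units.inv_mul, one_mul]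
  have hs1 : starM σ ((r⁻¹ : (Matrix ι ι K)ˣ) : Matrix ι ι K) * starM σ (r : Matrix ι ι K) = 1 := by
    rw [← starM_mul, Units.mul_inv, starM_one]
  have hs2 : starM σ (r : Matrix ι ι K) * starM σ ((r⁻¹ : (Matrix ι ι K)ˣ) : Matrix ι ι K) = 1 := by
    rw [← starM_mul, Units.inv_mul, starM_one]
  apply Nat.card_congr
  refine ⟨fun Ψ => ⟨_, invHerm_conj_mem σ hσ r.isUnit h Ψ.2⟩,
    fun Ψ => ⟨_, invHerm_conj_mem σ hσ (r⁻¹).isUnit hri Ψ.2⟩, ?_, ?_⟩
  · intro Ψ
    apply Subtype.ext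
    show starM σ _ * (starM σ _ * Ψ.1 * _) * _ = Ψ.1
    calc starM σ ((r⁻¹ : (Matrix ι ι K)ˣ) : Matrix ι ι K) * (starM σ (r : Matrix ι ι K) * Ψ.1 * (r : Matrix ι ι K)) *
          ((r⁻¹ : (Matrix ι ι K)ˣ) : Matrix ι ι K)
        = (starM σ ((r⁻¹ : (Matrix ι ι K)ˣ) : Matrix ι ι K) * starM σ (r : Matrix ι ι K)) * Ψ.1 *
          ((r : Matrix ι ι K) * ((r⁻¹ : (Matrix ι ι K)ˣ) : Matrix ι ι K)) := by simp only [mul_assoc]
      _ = Ψ.1 := by rw [hs1, Units.mul_inv, one_mul, mul_one]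
  · intro Ψ
    apply Subtype.ext
    show starM σ _ * (starM σ _ * Ψ.1 * _) * _ = Ψ.1
    calc starM σ (r : Matrix ι ι K) * (starM σ ((r⁻¹ : (Matrix ι ι K)ˣ) : Matrix ι ι K) * Ψ.1 *
          ((r⁻¹ : (Matrix ι ι K)ˣ) : Matrix ι ι K)) * (r : Matrix ι ι K)
        = (starM σ (r : Matrix ι ι K) * starM σ ((r⁻¹ : (Matrix ι ι K)ˣ) : Matrix ι ι K)) * Ψ.1 *
          (((r⁻¹ : (Matrix ι ι K)ˣ) : Matrix ι ι K) * (r : Matrix ι ι K)) := by simp only [mul_assoc]
      _ = Ψ.1 := by rw [hs2, Units.inv_mul, one_mul, mul_one]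

omit [Fintype ι'] [DecidableEq ι'] in
theorem starM_reindex (σ : K →+* K) (e : ι ≃ ι') (M : Matrix ι ι K) :
    starM σ (Matrix.reindex e e M) = Matrix.reindex e e (starM σ M) := by
  ext i j
  simp [starM, Matrix.reindex_apply]

theorem card_invHerm_reindex (σ : K →+* K) (e : ι ≃ ι') (U : Matrix ι ι K) :
    Nat.card (InvHerm σ (Matrix.reindex e e U)) = Nat.card (InvHerm σ U) := by
  symm
  apply Nat.card_congr
  have key : ∀ Ψ : Matrix ι ι K, Ψ ∈ InvHerm σ U ↔
      Matrix.reindex e e Ψ ∈ InvHerm σ (Matrix.reindex e e U) := by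
    intro Ψ
    unfold InvHerm
    simp only [Set.mem_setOf_eq]
    have h1 : IsUnit (Matrix.reindex e e Ψ) ↔ IsUnit Ψ := by
      rw [Matrix.isUnit_iff_isUnit_det, Matrix.isUnit_iff_isUnit_det, Matrix.det_reindex_self]
    have h2 : starM σ (Matrix.reindex e e Ψ) = Matrix.reindex e e Ψ ↔ starM σ Ψ = Ψ := by
      rw [starM_reindex]
      exact (Matrix.reindex e e).injective.eq_iff
    have h3 : starM σ (Matrix.reindex e e U) * Matrix.reindex e e Ψ * Matrix.reindex e e U =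
        Matrix.reindex e e Ψ ↔ starM σ U * Ψ * U = Ψ := by
      rw [starM_reindex]
      have : Matrix.reindex e e (starM σ U) * Matrix.reindex e e Ψ * Matrix.reindex e e U =
          Matrix.reindex e e (starM σ U * Ψ * U) := by
        simp only [Matrix.reindex_apply, Matrix.submatrix_mul_equiv]
      rw [this]
      exact (Matrix.reindex e e).injective.eq_iff
    rw [h1, h2, h3]
  exact Equiv.subtypeEquiv (Matrix.reindex e e) key

end Forms

end Cfsg.Agent.Helper44.GUC
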