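import Mathlib
import Cfsg.Prelude.Def_LieClassical
import Cfsg.Agent.Lib.Helper43.UnitaryConj
import Cfsg.Agent.Lib.Helper44.GUCa

/-!
# `|C_GL(u)| = #(invariant hermitian forms) * |C_GU(u)|`
-/

set_option autoImplicit false

namespace Cfsg.Agent.Helper44.GUC

open Matrix Cfsg.Agent.Helper43.UnitaryConj

variable {K : Type*} [Field K] [Fintype K] {q n : ℕ}

theorem card_commGL_eq (hK : Fintype.card K = q ^ 2) (u : ↥(Cfsg.GU n K q)) :
    Nat.card {g : GL (Fin n) K // (g : Matrix (Fin n) (Fin n) K) *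
        ((u : GL (Fin n) K) : Matrix (Fin n) (Fin n) K) =
        ((u : GL (Fin n) K) : Matrix (Fin n) (Fin n) K) * (g : Matrix (Fin n) (Fin n) K)} =
      Nat.card (InvHerm (frobK hK) ((u : GL (Fin n) K) : Matrix (Fin n) (Fin n) K)) *
        Nat.card ↥(Subgroup.centralizer ({u} : Set ↥(Cfsg.GU n K q))) := by
  classical
  set σ := frobK hK with hσdef
  have hσ : ∀ x, σ (σ x) = x := frobK_frobK hK
  set uM : Matrix (Fin n) (Fin n) K := ((u : GL (Fin n) K) : Matrix (Fin n) (Fin n) K) with huM
  have huu : starM σ uM * uM = 1 := (mem_GU_iff hK _).1 u.2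
  have huu' : uM * starM σ uM = 1 := mul_eq_one_comm.1 huu
  let C : Subgroup (GL (Fin n) K) := Subgroup.centralizer {(u : GL (Fin n) K)}
  have hCmem : ∀ g : GL (Fin n) K, g ∈ C ↔
      (g : Matrix (Fin n) (Fin n) K) * uM = uM * (g : Matrix (Fin n) (Fin n) K) := by
    intro g
    rw [Subgroup.mem_centralizer_iff]
    constructor
    · intro h
      have h1 := h _ (Set.mem_singleton _)
      have h2 := congrArg (fun x : GL (Fin n) K => (x : Matrix (Fin n) (Fin n) K)) h1
      simp only [Units.val_mul] at h2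
      exact h2.symm
    · intro h x hx
      rw [Set.mem_singleton_iff] at hx
      subst hx
      apply Units.ext
      rw [Units.val_mul, Units.val_mul]
      exact h.symm
  -- step 1: the subtype is `C`
  have e1 : Nat.card {g : GL (Fin n) K // (g : Matrix (Fin n) (Fin n) K) * uM =
      uM * (g : Matrix (Fin n) (Fin n) K)} = Nat.card C := by
    apply Nat.card_congr
    exact Equiv.subtypeEquivRight (fun g => (hCmem g).symm)
  rw [e1]
  -- the subgroup of unitary elements of `C`
  let S : Subgroup C := (Cfsg.GU n K q).subgroupOf C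
  have e2 : Nat.card S = Nat.card ↥(Subgroup.centralizer ({u} : Set ↥(Cfsg.GU n K q))) := by
    apply Nat.card_congr
    refine ⟨fun s => ⟨⟨s.1.1, Subgroup.mem_subgroupOf.1 s.2⟩, ?_⟩,
      fun v => ⟨⟨v.1.1, ?_⟩, ?_⟩, ?_, ?_⟩
    · rw [Subgroup.mem_centralizer_iff]
      intro x hx
      rw [Set.mem_singleton_iff] at hx
      subst hx
      apply Subtype.ext
      have := s.1.2
      rw [Subgroup.mem_centralizer_iff] at this
      exact this _ (Set.mem_singleton _)
    · rw [Subgroup.mem_centralizer_iff]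
      intro x hx
      rw [Set.mem_singleton_iff] at hx
      subst hx
      have := v.2
      rw [Subgroup.mem_centralizer_iff] at this
      exact congrArg Subtype.val (this _ (Set.mem_singleton _))
    · rw [Subgroup.mem_subgroupOf]
      exact v.1.2
    · intro s; rfl
    · intro v; rfl
  rw [← e2]
  -- the map
  have hinvC : ∀ g : C, ((g.1⁻¹ : GL (Fin n) K) : Matrix (Fin n) (Fin n) K) * uM =
      uM * ((g.1⁻¹ : GL (Fin n) K) : Matrix (Fin n) (Fin n) K) := by
    intro g
    exact (hCmem _).1 (C.inv_mem g.2)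
  have hφmem : ∀ g : C, starM σ ((g.1⁻¹ : GL (Fin n) K) : Matrix (Fin n) (Fin n) K) *
      ((g.1⁻¹ : GL (Fin n) K) : Matrix (Fin n) (Fin n) K) ∈ InvHerm σ uM := by
    intro g
    set x := ((g.1⁻¹ : GL (Fin n) K) : Matrix (Fin n) (Fin n) K) with hx
    have hxu : x * uM = uM * x := hinvC g
    have hxU : IsUnit x := ⟨g.1⁻¹, rfl⟩
    refine ⟨(isUnit_starM σ hxU).mul hxU, ?_, ?_⟩
    · rw [starM_mul, starM_starM σ hσ]
    · have h1 : starM σ uM * starM σ x = starM σ x * starM σ uM := by
        rw [← starM_mul, ← starM_mul, hxu]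
      calc starM σ uM * (starM σ x * x) * uM
          = (starM σ uM * starM σ x) * (x * uM) := by simp only [mul_assoc]
        _ = starM σ x * (starM σ uM * uM) * x := by rw [h1, hxu]; simp only [mul_assoc]
        _ = starM σ x * x := by rw [huu, mul_one]
  let φ : C → InvHerm σ uM := fun g => ⟨_, hφmem g⟩
  have hsurj : Function.Surjective φ := by
    rintro ⟨Ψ, hΨU, hΨs, hΨu⟩
    have hHA : uM * Ψ = Ψ * uM := by
      calc uM * Ψ = uM * (starM σ uM * Ψ * uM) := by rw [hΨu]
        _ = (uM * starM σ uM) * Ψ * uM := by simp only [mul_assoc]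
        _ = Ψ * uM := by rw [huu', one_mul]
    obtain ⟨c, hcmem, hcc⟩ := exists_norm_matrix hK Ψ hΨU hΨs
    have hcA : uM * c = c * uM := commute_of_mem_adjoin hHA hcmem
    have hcU : IsUnit c := by
      rw [Matrix.isUnit_iff_isUnit_det]
      have h1 : IsUnit (starM σ c * c).det := by
        rw [hcc]; exact (Matrix.isUnit_iff_isUnit_det _).1 hΨU
      rw [det_mul] at h1
      exact isUnit_of_mul_isUnit_right h1
    obtain ⟨cU, hcU'⟩ := hcU
    have hcC : cU ∈ C := by
      rw [hCmem, hcU']
      exact hcA.symm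
    refine ⟨⟨cU⁻¹, C.inv_mem hcC⟩, ?_⟩
    apply Subtype.ext
    show starM σ (((cU⁻¹)⁻¹ : GL (Fin n) K) : Matrix (Fin n) (Fin n) K) *
      (((cU⁻¹)⁻¹ : GL (Fin n) K) : Matrix (Fin n) (Fin n) K) = Ψ
    rw [inv_inv, hcU', hcc]
  have hker : ∀ g g' : C, φ g = φ g' ↔ g⁻¹ * g' ∈ S := by
    intro g g'
    set x := ((g.1⁻¹ : GL (Fin n) K) : Matrix (Fin n) (Fin n) K) with hx
    set x' := ((g'.1⁻¹ : GL (Fin n) K) : Matrix (Fin n) (Fin n) K) with hx'
    set y' := ((g'.1 : GL (Fin n) K) : Matrix (Fin n) (Fin n) K) with hy'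
    have hxy' : x' * y' = 1 := by
      rw [hx', hy', ← Units.val_mul, inv_mul_cancel]; rfl
    have hyx' : y' * x' = 1 := by
      rw [hx', hy', ← Units.val_mul, mul_inv_cancel]; rfl
    have hmem : g⁻¹ * g' ∈ S ↔ starM σ (x * y') * (x * y') = 1 := by
      rw [Subgroup.mem_subgroupOf, mem_GU_iff hK]
      rfl
    rw [hmem]
    have hφ : φ g = φ g' ↔ starM σ x * x = starM σ x' * x' := by
      constructor
      · intro h; exact congrArg Subtype.val h
      · intro h; exact Subtype.ext h
    rw [hφ, starM_mul]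
    constructor
    · intro h
      calc starM σ y' * starM σ x * (x * y') = starM σ y' * (starM σ x * x) * y' := by
            simp only [mul_assoc]
        _ = starM σ y' * (starM σ x' * x') * y' := by rw [h]
        _ = (starM σ y' * starM σ x') * (x' * y') := by simp only [mul_assoc]
        _ = 1 := by rw [← starM_mul, hxy', starM_one, one_mul]
    · intro h
      have h1 : starM σ x' * starM σ y' = 1 := by rw [← starM_mul, hyx', starM_one]
      calc starM σ x * x = (starM σ x' * starM σ y') * (starM σ x * x) * (y' * x') := by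
            rw [h1, hyx', one_mul, mul_one]
        _ = starM σ x' * (starM σ y' * starM σ x * (x * y')) * x' := by simp only [mul_assoc]
        _ = starM σ x' * x' := by rw [h, mul_one]
  exact card_eq_of_fibers S φ hsurj hker

end Cfsg.Agent.Helper44.GUC
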