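import Mathlib
import Cfsg.Prelude.Def_LieClassical
import Cfsg.Agent.Lib.Helper43.UnitaryConj
import Cfsg.Agent.Lib.Helper43.JordanCent
import Cfsg.Agent.Lib.Helper14.UnipConj
import Cfsg.Agent.Lib.Helper44.GUCa

/-!
# A Cayley-type representative of a unipotent class

For `λ + σ λ = 1` and the standard nilpotent Jordan matrix `N`, the matrix
`(1 + λ N)(1 - σ(λ) N)⁻¹` is conjugate to `1 + N`, and a sesquilinear form `Ψ` is invariant under it
iff `N† Ψ + Ψ N = 0`.
-/

set_option autoImplicit false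

namespace Cfsg.Agent.Helper44.GUC

open Matrix Cfsg.Agent.Helper43.UnitaryConj Cfsg.Agent.Helper43

section Transport

variable {K : Type*} [Field K] {ι ι' : Type*} [Fintype ι] [DecidableEq ι] [Fintype ι']
  [DecidableEq ι']

theorem card_commGL_conj {U U' : Matrix ι ι K} (r : (Matrix ι ι K)ˣ)
    (h : (r : Matrix ι ι K) * U' = U * (r : Matrix ι ι K)) :
    Nat.card {g : GL ι K // (g : Matrix ι ι K) * U = U * (g : Matrix ι ι K)} =
      Nat.card {g : GL ι K // (g : Matrix ι ι K) * U' = U' * (g : Matrix ι ι K)} := by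
  have hri : ((r⁻¹ : (Matrix ι ι K)ˣ) : Matrix ι ι K) * U = U' * ((r⁻¹ : (Matrix ι ι K)ˣ) : Matrix ι ι K) := by
    calc ((r⁻¹ : (Matrix ι ι K)ˣ) : Matrix ι ι K) * U
        = ((r⁻¹ : (Matrix ι ι K)ˣ) : Matrix ι ι K) * (U * (r : Matrix ι ι K)) *
          ((r⁻¹ : (Matrix ι ι K)ˣ) : Matrix ι ι K) := by
          rw [mul_assoc, mul_assoc, Units.mul_inv, mul_one]
      _ = ((r⁻¹ : (Matrix ι ι K)ˣ) : Matrix ι ι K) * ((r : Matrix ι ι K) * U') *
          ((r⁻¹ : (Matrix ι ι K)ˣ) : Matrix ι ι K) := by rw [h]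
      _ = U' * ((r⁻¹ : (Matrix ι ι K)ˣ) : Matrix ι ι K) := by
          rw [← mul_assoc, Units.inv_mul, one_mul]
  apply Nat.card_congr
  refine ⟨fun g => ⟨r⁻¹ * g.1 * r, ?_⟩, fun g => ⟨r * g.1 * r⁻¹, ?_⟩, ?_, ?_⟩
  · have hg := g.2
    simp only [Units.val_mul]
    calc ((r⁻¹ : (Matrix ι ι K)ˣ) : Matrix ι ι K) * (g.1 : Matrix ι ι K) * (r : Matrix ι ι K) * U'
        = ((r⁻¹ : (Matrix ι ι K)ˣ) : Matrix ι ι K) * (g.1 : Matrix ι ι K) * ((r : Matrix ι ι K) * U') := by
          simp only [mul_assoc]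
      _ = ((r⁻¹ : (Matrix ι ι K)ˣ) : Matrix ι ι K) * ((g.1 : Matrix ι ι K) * U) * (r : Matrix ι ι K) := by
          rw [h]; simp only [mul_assoc]
      _ = (((r⁻¹ : (Matrix ι ι K)ˣ) : Matrix ι ι K) * U) * (g.1 : Matrix ι ι K) * (r : Matrix ι ι K) := by
          rw [hg]; simp only [mul_assoc]
      _ = U' * (((r⁻¹ : (Matrix ι ι K)ˣ) : Matrix ι ι K) * (g.1 : Matrix ι ι K) * (r : Matrix ι ι K)) := by
          rw [hri]; simp only [mul_assoc]
  · have hg := g.2
    simp only [Units.val_mul]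
    calc (r : Matrix ι ι K) * (g.1 : Matrix ι ι K) * ((r⁻¹ : (Matrix ι ι K)ˣ) : Matrix ι ι K) * U
        = (r : Matrix ι ι K) * (g.1 : Matrix ι ι K) * (((r⁻¹ : (Matrix ι ι K)ˣ) : Matrix ι ι K) * U) := by
          simp only [mul_assoc]
      _ = (r : Matrix ι ι K) * ((g.1 : Matrix ι ι K) * U') * ((r⁻¹ : (Matrix ι ι K)ˣ) : Matrix ι ι K) := by
          rw [hri]; simp only [mul_assoc]
      _ = ((r : Matrix ι ι K) * U') * (g.1 : Matrix ι ι K) * ((r⁻¹ : (Matrix ι ι K)ˣ) : Matrix ι ι K) := by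
          rw [hg]; simp only [mul_assoc]
      _ = U * ((r : Matrix ι ι K) * (g.1 : Matrix ι ι K) * ((r⁻¹ : (Matrix ι ι K)ˣ) : Matrix ι ι K)) := by
          rw [h]; simp only [mul_assoc]
  · intro g
    apply Subtype.ext
    show r * (r⁻¹ * g.1 * r) * r⁻¹ = g.1
    group
  · intro g
    apply Subtype.ext
    show r⁻¹ * (r * g.1 * r⁻¹) * r = g.1
    group

theorem card_commGL_reindex (e : ι ≃ ι') (U : Matrix ι ι K) :
    Nat.card {g : GL ι' K // (g : Matrix ι' ι' K) * Matrix.reindex e e U =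
        Matrix.reindex e e U * (g : Matrix ι' ι' K)} =
      Nat.card {g : GL ι K // (g : Matrix ι ι K) * U = U * (g : Matrix ι ι K)} := by
  symm
  apply Nat.card_congr
  let E : GL ι K ≃ GL ι' K := (Units.mapEquiv (Matrix.reindexAlgEquiv K K e).toMulEquiv).toEquiv
  have hE : ∀ g : GL ι K, ((E g : GL ι' K) : Matrix ι' ι' K) = Matrix.reindex e e (g : Matrix ι ι K) := by
    intro g
    rfl
  refine Equiv.subtypeEquiv E ?_
  intro g
  rw [hE]
  have h1 : Matrix.reindex e e (g : Matrix ι ι K) * Matrix.reindex e e U =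
      Matrix.reindex e e ((g : Matrix ι ι K) * U) := by
    simp only [Matrix.reindex_apply, Matrix.submatrix_mul_equiv]
  have h2 : Matrix.reindex e e U * Matrix.reindex e e (g : Matrix ι ι K) =
      Matrix.reindex e e (U * (g : Matrix ι ι K)) := by
    simp only [Matrix.reindex_apply, Matrix.submatrix_mul_equiv]
  rw [h1, h2]
  exact (Matrix.reindex e e).injective.eq_iff.symm

end Transport

section Cayley

variable {K : Type*} [Field K] {t : ℕ} (d : Fin t → ℕ)

theorem Nm_pow_sup : JC.Nm d K ^ (Finset.univ.sup d) = 0 := by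
  ext x y
  have h := congrFun (JC.Nm_pow_sup_mulVec d (Pi.single y (1 : K))) x
  simpa using h

theorem isNilpotent_Nm : IsNilpotent (JC.Nm d K) := ⟨_, Nm_pow_sup d⟩

omit [Field K] in
theorem starM_smul' {K : Type*} [Field K] {ι : Type*} (σ : K →+* K) (c : K) (M : Matrix ι ι K) :
    starM σ (c • M) = σ c • starM σ M := by
  ext i j
  simp [starM]

omit [Field K] in
theorem starM_sub' {K : Type*} [Field K] {ι : Type*} (σ : K →+* K) (M M' : Matrix ι ι K) :
    starM σ (M - M') = starM σ M - starM σ M' := by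
  ext i j
  simp [starM]

/-- the unit `1 - μ N` -/
noncomputable def cayB (μ : K) : (Matrix (JC.Idx d) (JC.Idx d) K)ˣ :=
  ((isNilpotent_Nm d).smul μ).isUnit_one_sub.unit

theorem cayB_val (μ : K) : ((cayB d μ : (Matrix (JC.Idx d) (JC.Idx d) K)ˣ) :
    Matrix (JC.Idx d) (JC.Idx d) K) = 1 - μ • JC.Nm d K := rfl

/-- the representative `(1 + λ N)(1 - μ N)⁻¹` -/
noncomputable def cay (lam μ : K) : Matrix (JC.Idx d) (JC.Idx d) K :=
  (1 + lam • JC.Nm d K) * (((cayB d μ)⁻¹ : (Matrix (JC.Idx d) (JC.Idx d) K)ˣ) :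
    Matrix (JC.Idx d) (JC.Idx d) K)

theorem cay_sub_one (lam μ : K) (h : lam + μ = 1) :
    cay d lam μ - 1 = JC.Nm d K * (((cayB d μ)⁻¹ : (Matrix (JC.Idx d) (JC.Idx d) K)ˣ) :
      Matrix (JC.Idx d) (JC.Idx d) K) := by
  have h1 : (1 : Matrix (JC.Idx d) (JC.Idx d) K) =
      (1 - μ • JC.Nm d K) * (((cayB d μ)⁻¹ : (Matrix (JC.Idx d) (JC.Idx d) K)ˣ) :
      Matrix (JC.Idx d) (JC.Idx d) K) := by
    rw [← cayB_val, Units.mul_inv]
  unfold cay
  nth_rewrite 2 [h1]
  rw [← sub_mul]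
  congr 1
  have : (1 + lam • JC.Nm d K) - (1 - μ • JC.Nm d K) = (lam + μ) • JC.Nm d K := by
    rw [add_smul]; abel
  rw [this, h, one_smul]

theorem commute_Nm_cayB_inv (μ : K) :
    Commute (JC.Nm d K) (((cayB d μ)⁻¹ : (Matrix (JC.Idx d) (JC.Idx d) K)ˣ) :
      Matrix (JC.Idx d) (JC.Idx d) K) := by
  have h1 : Commute (JC.Nm d K) ((cayB d μ : (Matrix (JC.Idx d) (JC.Idx d) K)ˣ) :
      Matrix (JC.Idx d) (JC.Idx d) K) := by
    rw [cayB_val]
    apply Commute.sub_right (Commute.one_right _)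
    exact (Commute.refl _).smul_right μ
  exact h1.units_inv_right

end Cayley

section Conj

universe u

variable {K : Type u} [Field K] {t : ℕ} (d : Fin t → ℕ)

open Cfsg.Agent.Helper42.Jordan in
theorem isConj_jordan_cay (lam μ : K) (h : lam + μ = 1) :
    IsConj (Cfsg.jordanTypeMatrix d K) (cay d lam μ) := by
  apply Cfsg.Agent.Helper14.UnipConj.isConj_of_rk_eq
  · exact Cfsg.Agent.Helper14.JordanRk.isNilpotent_jordanType d
  · intro i
    have hJ : Cfsg.jordanTypeMatrix d K - 1 = JC.Nm d K := by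
      rw [JC.jordan_eq]; abel
    rw [hJ, cay_sub_one d lam μ h]
    unfold rk
    rw [← Matrix.toLin'_pow, ← Matrix.toLin'_pow, (commute_Nm_cayB_inv d μ).mul_pow,
      Matrix.toLin'_mul]
    rw [LinearMap.range_comp_of_range_eq_top]
    rw [LinearMap.range_eq_top]
    intro v
    refine ⟨Matrix.toLin' (((cayB d μ : (Matrix (JC.Idx d) (JC.Idx d) K)ˣ) :
      Matrix (JC.Idx d) (JC.Idx d) K) ^ i) v, ?_⟩
    rw [← Matrix.toLin'_mul_apply, ← Units.val_pow_eq_pow_val, ← Units.val_pow_eq_pow_val,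
      ← Units.val_mul, inv_pow, inv_mul_cancel, Units.val_one, Matrix.toLin'_one]
    rfl

end Conj

section Skew

variable {K : Type*} [Field K] {t : ℕ} (d : Fin t → ℕ)

theorem cay_invariant_iff (σ : K →+* K) (hσ : ∀ x, σ (σ x) = x) (lam : K) (h : lam + σ lam = 1)
    (Ψ : Matrix (JC.Idx d) (JC.Idx d) K) :
    starM σ (cay d lam (σ lam)) * Ψ * cay d lam (σ lam) = Ψ ↔
      starM σ (JC.Nm d K) * Ψ + Ψ * JC.Nm d K = 0 := by
  set N := JC.Nm d K with hN
  set B : Matrix (JC.Idx d) (JC.Idx d) K := ((cayB d (σ lam) : (Matrix (JC.Idx d) (JC.Idx d) K)ˣ) :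
    Matrix (JC.Idx d) (JC.Idx d) K) with hB
  set Bi : Matrix (JC.Idx d) (JC.Idx d) K := (((cayB d (σ lam))⁻¹ : (Matrix (JC.Idx d) (JC.Idx d) K)ˣ) :
    Matrix (JC.Idx d) (JC.Idx d) K) with hBi
  set A : Matrix (JC.Idx d) (JC.Idx d) K := 1 + lam • N with hA
  have hBBi : B * Bi = 1 := Units.mul_inv _
  have hBiB : Bi * B = 1 := Units.inv_mul _
  have hsBBi : starM σ Bi * starM σ B = 1 := by rw [← starM_mul, hBBi, starM_one]
  have hsBiB : starM σ B * starM σ Bi = 1 := by rw [← starM_mul, hBiB, starM_one]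
  have hcay : cay d lam (σ lam) = A * Bi := rfl
  have hBv : B = 1 - σ lam • N := cayB_val d (σ lam)
  have hsA : starM σ A = 1 + σ lam • starM σ N := by
    rw [hA, starM_add, starM_one, starM_smul']
  have hsB : starM σ B = 1 - lam • starM σ N := by
    rw [hBv, starM_sub', starM_one, starM_smul', hσ]
  have key : starM σ A * Ψ * A - starM σ B * Ψ * B = starM σ N * Ψ + Ψ * N := by
    rw [hsA, hsB, hA, hBv]
    have e1 : (1 + σ lam • starM σ N) * Ψ * (1 + lam • N) - (1 - lam • starM σ N) * Ψ * (1 - σ lam • N) =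
        (lam + σ lam) • (starM σ N * Ψ + Ψ * N) := by
      simp only [add_mul, mul_add, sub_mul, mul_sub, one_mul, mul_one, smul_mul_assoc,
        mul_smul_comm, smul_add, add_smul, smul_sub, smul_smul]
      have : σ lam * lam = lam * σ lam := mul_comm _ _
      rw [this]
      abel
    rw [e1, h, one_smul]
  rw [hcay, starM_mul]
  constructor
  · intro h1
    rw [← key, sub_eq_zero]
    calc starM σ A * Ψ * A = starM σ B * (starM σ Bi * starM σ A * Ψ * (A * Bi)) * B := by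
          calc starM σ A * Ψ * A = (starM σ B * starM σ Bi) * starM σ A * Ψ * A * (Bi * B) := by
                rw [hsBiB, hBiB, one_mul, mul_one]
            _ = starM σ B * (starM σ Bi * starM σ A * Ψ * (A * Bi)) * B := by
                simp only [mul_assoc]
      _ = starM σ B * Ψ * B := by rw [h1]
  · intro h1
    rw [← key, sub_eq_zero] at h1
    calc starM σ Bi * starM σ A * Ψ * (A * Bi) = starM σ Bi * (starM σ A * Ψ * A) * Bi := by
          simp only [mul_assoc]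
      _ = starM σ Bi * (starM σ B * Ψ * B) * Bi := by rw [h1]
      _ = (starM σ Bi * starM σ B) * Ψ * (B * Bi) := by simp only [mul_assoc]
      _ = Ψ := by rw [hsBBi, hBBi, one_mul, mul_one]

end Skew

end Cfsg.Agent.Helper44.GUC
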