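import Mathlib
import Cfsg.Prelude.Def_LieClassical
import Cfsg.Agent.Lib.Helper43.UnitaryConj
import Cfsg.Agent.Lib.Helper43.JordanCent
import Cfsg.Agent.Lib.Helper44.GUCa

/-!
# Explicit solution of `N† Ψ + Ψ N = 0`

`Ψ = G₀ * Mc c`, with `G₀` a signed flip; hermitian-ness in terms of the parameters `c`.
-/

set_option autoImplicit false

namespace Cfsg.Agent.Helper44.GUC

open Matrix Cfsg.Agent.Helper43.UnitaryConj Cfsg.Agent.Helper43

variable {K : Type*} [Field K] {t : ℕ} (d : Fin t → ℕ)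

theorem idx_ext_iff (x y : JC.Idx d) : x = y ↔ x.1 = y.1 ∧ (x.2 : ℕ) = (y.2 : ℕ) := by
  constructor
  · rintro rfl; exact ⟨rfl, rfl⟩
  · obtain ⟨k, a⟩ := x
    obtain ⟨l, b⟩ := y
    rintro ⟨h1, h2⟩
    simp only at h1 h2
    subst h1
    congr 1
    exact Fin.ext h2

/-- flip inside each block -/
def flip (x : JC.Idx d) : JC.Idx d := ⟨x.1, ⟨d x.1 - 1 - x.2, by have := x.2.2; omega⟩⟩

theorem flip_flip (x : JC.Idx d) : flip d (flip d x) = x := by
  rw [idx_ext_iff]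
  refine ⟨rfl, ?_⟩
  have := x.2.2
  simp only [flip]
  omega

/-- the standard skew form -/
def G0 (K : Type*) [Field K] : Matrix (JC.Idx d) (JC.Idx d) K :=
  Matrix.of fun x y => if y = flip d x then (-1) ^ (x.2 : ℕ) else 0

/-- its inverse -/
def G0' (K : Type*) [Field K] : Matrix (JC.Idx d) (JC.Idx d) K :=
  Matrix.of fun x y => if y = flip d x then (-1) ^ (y.2 : ℕ) else 0

theorem G0_mul_apply (M : Matrix (JC.Idx d) (JC.Idx d) K) (x z : JC.Idx d) :
    (G0 d K * M) x z = (-1) ^ (x.2 : ℕ) * M (flip d x) z := by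
  rw [Matrix.mul_apply, Finset.sum_eq_single (flip d x)]
  · simp [G0]
  · intro y _ hy
    simp [G0, hy]
  · simp

theorem G0'_mul_apply (M : Matrix (JC.Idx d) (JC.Idx d) K) (x z : JC.Idx d) :
    (G0' d K * M) x z = (-1) ^ ((flip d x).2 : ℕ) * M (flip d x) z := by
  rw [Matrix.mul_apply, Finset.sum_eq_single (flip d x)]
  · simp [G0']
  · intro y _ hy
    simp [G0', hy]
  · simp

theorem G0_mul_G0' : G0 d K * G0' d K = 1 := by
  ext x z
  rw [G0_mul_apply]
  simp only [G0', Matrix.of_apply, flip_flip, Matrix.one_apply]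
  by_cases h : z = x
  · subst h
    rw [if_pos rfl, if_pos rfl, ← pow_add, ← two_mul, pow_mul]
    simp
  · rw [if_neg h, if_neg (fun h' => h h'.symm), mul_zero]

theorem G0'_mul_G0 : G0' d K * G0 d K = 1 := by
  ext x z
  rw [G0'_mul_apply]
  simp only [G0, Matrix.of_apply, flip_flip, Matrix.one_apply]
  by_cases h : z = x
  · subst h
    rw [if_pos rfl, if_pos rfl, ← pow_add, ← two_mul, pow_mul]
    simp
  · rw [if_neg h, if_neg (fun h' => h h'.symm), mul_zero]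

theorem isUnit_G0 : IsUnit (G0 d K) :=
  ⟨⟨G0 d K, G0' d K, G0_mul_G0' d, G0'_mul_G0 d⟩, rfl⟩

theorem starM_Nm (σ : K →+* K) : starM σ (JC.Nm d K) = (JC.Nm d K)ᵀ := by
  ext x y
  simp only [starM, Matrix.transpose_apply, Matrix.map_apply, JC.Nm, Matrix.of_apply]
  split_ifs <;> simp

theorem transpose_Nm_mul_apply (g : Matrix (JC.Idx d) (JC.Idx d) K) (k : Fin t) (a : ℕ)
    (ha : a < d k) (z : JC.Idx d) :
    ((JC.Nm d K)ᵀ * g) ⟨k, ⟨a, ha⟩⟩ z = if h : a + 1 < d k then g ⟨k, ⟨a + 1, h⟩⟩ z else 0 := by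
  have h1 : ((JC.Nm d K)ᵀ * g) ⟨k, ⟨a, ha⟩⟩ z = (gᵀ * JC.Nm d K) z ⟨k, ⟨a, ha⟩⟩ := by
    rw [← Matrix.transpose_apply (gᵀ * JC.Nm d K), Matrix.transpose_mul, Matrix.transpose_transpose]
  rw [h1, JC.mul_Nm_apply]
  rfl

theorem G0_apply (x y : JC.Idx d) :
    G0 d K x y = if y = flip d x then (-1) ^ (x.2 : ℕ) else 0 := rfl

theorem Nm_apply' (x y : JC.Idx d) :
    JC.Nm d K x y = if x.1 = y.1 ∧ (x.2 : ℕ) = (y.2 : ℕ) + 1 then 1 else 0 := rfl

theorem skew_G0 (σ : K →+* K) : starM σ (JC.Nm d K) * G0 d K = -(G0 d K * JC.Nm d K) := by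
  rw [starM_Nm]
  ext ⟨k, ⟨a, ha⟩⟩ ⟨l, ⟨b, hb⟩⟩
  rw [transpose_Nm_mul_apply, Matrix.neg_apply, G0_mul_apply, Nm_apply']
  by_cases h1 : a + 1 < d k
  · rw [dif_pos h1, G0_apply]
    by_cases hz : (⟨l, ⟨b, hb⟩⟩ : JC.Idx d) = flip d ⟨k, ⟨a + 1, h1⟩⟩
    · rw [if_pos hz]
      rw [idx_ext_iff] at hz
      obtain ⟨hz1, hz2⟩ := hz
      have hz1' : l = k := hz1
      have hz2' : b = d k - 1 - (a + 1) := hz2
      rw [if_pos]
      · show (-1 : K) ^ (a + 1) = -((-1) ^ a * 1)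
        rw [pow_succ]; ring
      · refine ⟨hz1'.symm, ?_⟩
        show d k - 1 - a = b + 1
        omega
    · rw [if_neg hz, if_neg]
      · ring
      · rintro ⟨h3, h4⟩
        apply hz
        rw [idx_ext_iff]
        have h3' : k = l := h3
        have h4' : d k - 1 - a = b + 1 := h4
        refine ⟨h3'.symm, ?_⟩
        show b = d k - 1 - (a + 1)
        omega
  · rw [dif_neg h1, if_neg]
    · ring
    · rintro ⟨h3, h4⟩
      have h4' : d k - 1 - a = b + 1 := h4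
      omega

/-- skewness in terms of the commutant of `N` -/
theorem skew_iff (σ : K →+* K) (Ψ : Matrix (JC.Idx d) (JC.Idx d) K) :
    starM σ (JC.Nm d K) * Ψ + Ψ * JC.Nm d K = 0 ↔
      (G0' d K * Ψ) * JC.Nm d K = JC.Nm d K * (G0' d K * Ψ) := by
  have hΨ : Ψ = G0 d K * (G0' d K * Ψ) := by rw [← mul_assoc, G0_mul_G0', one_mul]
  set y := G0' d K * Ψ with hy
  have h1 : starM σ (JC.Nm d K) * Ψ + Ψ * JC.Nm d K =
      G0 d K * (y * JC.Nm d K - JC.Nm d K * y) := by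
    rw [hΨ, ← mul_assoc, skew_G0, mul_sub]
    simp only [mul_assoc, neg_mul]
    abel
  rw [h1]
  constructor
  · intro h
    have h2 : G0' d K * (G0 d K * (y * JC.Nm d K - JC.Nm d K * y)) = 0 := by rw [h, mul_zero]
    rw [← mul_assoc, G0'_mul_G0, one_mul] at h2
    exact sub_eq_zero.1 h2
  · intro h
    rw [h, sub_self, mul_zero]

/-- the form attached to parameters -/
def Psi (c : JC.Pos d → K) : Matrix (JC.Idx d) (JC.Idx d) K := G0 d K * JC.Mc d c

theorem Mc_apply' (c : JC.Pos d → K) (x y : JC.Idx d) :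
    JC.Mc d c x y = if (y.2 : ℕ) + (d x.1 - d y.1) ≤ x.2 then
      JC.cent d c y.1 x.1 ((x.2 : ℕ) - y.2 - (d x.1 - d y.1)) else 0 := rfl

theorem Psi_apply (c : JC.Pos d → K) (k : Fin t) (a : ℕ) (ha : a < d k) (l : Fin t) (b : ℕ)
    (hb : b < d l) :
    Psi d c ⟨k, ⟨a, ha⟩⟩ ⟨l, ⟨b, hb⟩⟩ =
      if a + b + 1 ≤ min (d k) (d l) then
        (-1) ^ a * JC.cent d c l k (min (d k) (d l) - 1 - (a + b)) else 0 := by
  unfold Psi
  rw [G0_mul_apply, Mc_apply']
  show (-1 : K) ^ a * (if b + (d k - d l) ≤ d k - 1 - a then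
      JC.cent d c l k (d k - 1 - a - b - (d k - d l)) else 0) = _
  by_cases h : a + b + 1 ≤ min (d k) (d l)
  · rw [if_pos h, if_pos (by omega)]
    congr 2
    omega
  · rw [if_neg h, if_neg (by omega), mul_zero]

/-- swapping the two block indices of a position -/
def swapP (p : JC.Pos d) : JC.Pos d :=
  ⟨p.2.1, p.1, ⟨p.2.2, by have := p.2.2.2; omega⟩⟩

theorem swapP_swapP (p : JC.Pos d) : swapP d (swapP d p) = p := rfl

/-- the sign of a position -/
def epsP (K : Type*) [Field K] (p : JC.Pos d) : K :=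
  (-1) ^ (min (d p.2.1) (d p.1) - 1 - (p.2.2 : ℕ))

theorem epsP_swapP (p : JC.Pos d) : epsP d K (swapP d p) = epsP d K p := by
  unfold epsP swapP
  simp only
  rw [min_comm]

theorem epsP_sq (p : JC.Pos d) : epsP d K p * epsP d K p = 1 := by
  unfold epsP
  rw [← pow_add, ← two_mul, pow_mul]
  simp

/-- the hermitian condition on parameters -/
def HermP (σ : K →+* K) (c : JC.Pos d → K) : Prop :=
  ∀ p, c p = epsP d K p * σ (c (swapP d p))

theorem starM_Psi_iff (σ : K →+* K) (c : JC.Pos d → K) :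
    starM σ (Psi d c) = Psi d c ↔ HermP d σ c := by
  have hsign : ∀ n : ℕ, σ ((-1 : K) ^ n) = (-1) ^ n := by
    intro n; rw [map_pow, map_neg, map_one]
  constructor
  · intro h
    rintro ⟨l, k, ⟨j, hj⟩⟩
    have hk : min (d k) (d l) - 1 - j < d k := by omega
    have hl : 0 < d l := by omega
    have h1 := congrFun (congrFun h ⟨k, ⟨min (d k) (d l) - 1 - j, hk⟩⟩) ⟨l, ⟨0, hl⟩⟩
    simp only [starM, Matrix.transpose_apply, Matrix.map_apply] at h1
    rw [Psi_apply, Psi_apply, if_pos (by omega), if_pos (by omega)] at h1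
    have e1 : min (d l) (d k) - 1 - (0 + (min (d k) (d l) - 1 - j)) = j := by omega
    have e2 : min (d k) (d l) - 1 - (min (d k) (d l) - 1 - j + 0) = j := by omega
    rw [e1, e2, pow_zero, one_mul, JC.cent, dif_pos (by omega), JC.cent, dif_pos hj] at h1
    have h2 : c ⟨l, k, ⟨j, hj⟩⟩ = (-1) ^ (min (d k) (d l) - 1 - j) *
        ((-1) ^ (min (d k) (d l) - 1 - j) * c ⟨l, k, ⟨j, hj⟩⟩) := by
      rw [← mul_assoc, ← pow_add, ← two_mul, pow_mul]
      simp
    rw [h2, ← h1]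
    rfl
  · intro h
    ext ⟨k, ⟨a, ha⟩⟩ ⟨l, ⟨b, hb⟩⟩
    simp only [starM, Matrix.transpose_apply, Matrix.map_apply]
    rw [Psi_apply, Psi_apply]
    by_cases h1 : a + b + 1 ≤ min (d k) (d l)
    · rw [if_pos (by omega), if_pos h1]
      have hj : min (d k) (d l) - 1 - (a + b) < min (d k) (d l) := by omega
      have e1 : min (d l) (d k) - 1 - (b + a) = min (d k) (d l) - 1 - (a + b) := by
        rw [min_comm, add_comm]
      rw [e1, map_mul, hsign, JC.cent, dif_pos (by omega), JC.cent, dif_pos hj]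
      have h2 := h ⟨l, k, ⟨min (d k) (d l) - 1 - (a + b), hj⟩⟩
      have h3 : epsP d K ⟨l, k, ⟨min (d k) (d l) - 1 - (a + b), hj⟩⟩ = (-1) ^ (a + b) := by
        unfold epsP
        simp only
        congr 1
        omega
      rw [h3] at h2
      rw [h2]
      have h4 : σ (c (swapP d ⟨l, k, ⟨min (d k) (d l) - 1 - (a + b), hj⟩⟩)) =
          σ (c ⟨k, l, ⟨min (d k) (d l) - 1 - (a + b), by omega⟩⟩) := rfl
      rw [h4, ← mul_assoc, pow_add, ← mul_assoc, ← pow_add, ← two_mul, pow_mul]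
      simp
    · rw [if_neg (by omega), if_neg h1, map_zero]

end Cfsg.Agent.Helper44.GUC
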