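import Mathlib
import Cfsg.Prelude.Def_LieClassical
import Cfsg.Agent.Lib.Helper43.UnitaryConj
import Cfsg.Agent.Lib.Helper43.JordanCent
import Cfsg.Agent.Lib.Helper44.GUCa
import Cfsg.Agent.Lib.Helper44.GUCc
import Cfsg.Agent.Lib.Helper44.GUCd

/-!
# Invariant hermitian forms of the Cayley representative, in parameters; twisted fixed points
-/

set_option autoImplicit false

namespace Cfsg.Agent.Helper44.GUC

open Matrix Cfsg.Agent.Helper43.UnitaryConj Cfsg.Agent.Helper43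

section Param

variable {K : Type*} [Field K] {t : ℕ} (d : Fin t → ℕ)

theorem card_invHerm_cay (σ : K →+* K) (hσ : ∀ x, σ (σ x) = x) (hd : ∀ k, 1 ≤ d k) (lam : K)
    (h : lam + σ lam = 1) :
    Nat.card (InvHerm σ (cay d lam (σ lam))) =
      Nat.card {c : JC.Pos d → K // HermP d σ c ∧ JC.cond d hd c} := by
  have hcomm : ∀ Ψ : Matrix (JC.Idx d) (JC.Idx d) K, Ψ ∈ InvHerm σ (cay d lam (σ lam)) →
      (G0' d K * Ψ) * JC.Nm d K = JC.Nm d K * (G0' d K * Ψ) := by
    intro Ψ hΨ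
    rw [← skew_iff d σ, ← cay_invariant_iff d σ hσ lam h]
    exact hΨ.2.2
  have hback : ∀ Ψ : Matrix (JC.Idx d) (JC.Idx d) K, Ψ ∈ InvHerm σ (cay d lam (σ lam)) →
      Psi d (JC.par d (G0' d K * Ψ)) = Ψ := by
    intro Ψ hΨ
    unfold Psi
    rw [JC.Mc_par d (hcomm Ψ hΨ), ← mul_assoc, G0_mul_G0', one_mul]
  apply Nat.card_congr
  refine ⟨fun Ψ => ⟨JC.par d (G0' d K * Ψ.1), ?_, ?_⟩, fun c => ⟨Psi d c.1, ?_, ?_, ?_⟩, ?_, ?_⟩
  · rw [← starM_Psi_iff, hback Ψ.1 Ψ.2]
    exact Ψ.2.2.1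
  · rw [← JC.isUnit_Mc_iff, JC.Mc_par d (hcomm Ψ.1 Ψ.2)]
    have hG : IsUnit (G0' d K) := ⟨⟨G0' d K, G0 d K, G0'_mul_G0 d, G0_mul_G0' d⟩, rfl⟩
    exact hG.mul Ψ.2.1
  · exact (isUnit_G0 d).mul ((JC.isUnit_Mc_iff d hd c.1).2 c.2.2)
  · exact (starM_Psi_iff d σ c.1).2 c.2.1
  · rw [cay_invariant_iff d σ hσ lam h, skew_iff]
    unfold Psi
    rw [← mul_assoc, G0'_mul_G0, one_mul]
    exact JC.Mc_comm d c.1
  · intro Ψ
    apply Subtype.ext
    exact hback Ψ.1 Ψ.2
  · intro c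
    apply Subtype.ext
    show JC.par d (G0' d K * Psi d c.1) = c.1
    unfold Psi
    rw [← mul_assoc, G0'_mul_G0, one_mul, JC.par_Mc]

end Param

section Fixed

variable {K : Type*} [Field K] [Fintype K]

/-- fixed points of a twisted semilinear involution on a function space -/
theorem card_twisted_fixed_sq {ι : Type*} [Fintype ι] (σ : K →+* K) (hσ : ∀ x, σ (σ x) = x)
    (θ : K) (hθ : σ θ ≠ θ) (s : ι → ι) (hs : ∀ p, s (s p) = p) (ε : ι → K)
    (hε : ∀ p, ε p * ε p = 1) (hεσ : ∀ p, σ (ε p) = ε p) (hεs : ∀ p, ε (s p) = ε p) :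
    Nat.card {c : ι → K // ∀ p, c p = ε p * σ (c (s p))} ^ 2 =
      Fintype.card K ^ Fintype.card ι := by
  classical
  let τ : (ι → K) → (ι → K) := fun c p => ε p * σ (c (s p))
  have hττ : ∀ c, τ (τ c) = c := by
    intro c
    funext p
    show ε p * σ (ε (s p) * σ (c (s (s p)))) = c p
    rw [map_mul, hσ, hs, hεσ, hεs, ← mul_assoc, hε, one_mul]
  have hτadd : ∀ c c', τ (c + c') = τ c + τ c' := by
    intro c c'
    funext p
    show ε p * σ (c (s p) + c' (s p)) = ε p * σ (c (s p)) + ε p * σ (c' (s p))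
    rw [map_add, mul_add]
  have hτsub : ∀ c c', τ (c - c') = τ c - τ c' := by
    intro c c'
    funext p
    show ε p * σ (c (s p) - c' (s p)) = ε p * σ (c (s p)) - ε p * σ (c' (s p))
    rw [map_sub, mul_sub]
  have hτsmul : ∀ (a : K) c, τ (a • c) = σ a • τ c := by
    intro a c
    funext p
    show ε p * σ (a * c (s p)) = σ a * (ε p * σ (c (s p)))
    rw [map_mul]; ring
  have hfix : ∀ c : ι → K, (∀ p, c p = ε p * σ (c (s p))) ↔ τ c = c := by
    intro c
    constructor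
    · intro h; funext p; exact (h p).symm
    · intro h p; exact (congrFun h p).symm
  have hne : θ - σ θ ≠ 0 := sub_ne_zero.2 (Ne.symm hθ)
  have hne' : σ θ - θ ≠ 0 := sub_ne_zero.2 hθ
  have hσne : σ (θ - σ θ) = -(θ - σ θ) := by rw [map_sub, hσ]; ring
  let F := {c : ι → K // ∀ p, c p = ε p * σ (c (s p))}
  have e : (F × F) ≃ (ι → K) :=
    { toFun := fun xy => xy.1.1 + θ • xy.2.1
      invFun := fun w =>
        (⟨w - θ • ((θ - σ θ)⁻¹ • (w - τ w)), by
          rw [hfix, hτsub, hτsmul, hτsmul, hτsub, hττ, map_inv₀, hσne]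
          funext p
          simp only [Pi.sub_apply, Pi.smul_apply, smul_eq_mul]
          field_simp
          ring⟩,
         ⟨(θ - σ θ)⁻¹ • (w - τ w), by
          rw [hfix, hτsmul, hτsub, hττ, map_inv₀, hσne]
          funext p
          simp only [Pi.sub_apply, Pi.smul_apply, smul_eq_mul]
          field_simp
          ring⟩)
      left_inv := by
        rintro ⟨⟨x, hx⟩, ⟨y, hy⟩⟩
        have hx' : τ x = x := (hfix x).1 hx
        have hy' : τ y = y := (hfix y).1 hy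
        have h1 : (θ - σ θ)⁻¹ • ((x + θ • y) - τ (x + θ • y)) = y := by
          rw [hτadd, hτsmul, hx', hy']
          funext p
          simp only [Pi.sub_apply, Pi.add_apply, Pi.smul_apply, smul_eq_mul]
          field_simp
          ring
        apply Prod.ext
        · apply Subtype.ext
          show (x + θ • y) - θ • ((θ - σ θ)⁻¹ • ((x + θ • y) - τ (x + θ • y))) = x
          rw [h1]
          abel
        · apply Subtype.ext
          exact h1
      right_inv := by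
        intro w
        show (w - θ • ((θ - σ θ)⁻¹ • (w - τ w))) + θ • ((θ - σ θ)⁻¹ • (w - τ w)) = w
        abel }
  have h1 := Nat.card_congr e
  rw [Nat.card_prod, Nat.card_fun, Nat.card_eq_fintype_card (α := K),
    Nat.card_eq_fintype_card (α := ι)] at h1
  rw [sq]
  exact h1

theorem card_twisted_fixed {ι : Type*} [Fintype ι] {q : ℕ} (hK : Fintype.card K = q ^ 2)
    (σ : K →+* K) (hσ : ∀ x, σ (σ x) = x)
    (θ : K) (hθ : σ θ ≠ θ) (s : ι → ι) (hs : ∀ p, s (s p) = p) (ε : ι → K)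
    (hε : ∀ p, ε p * ε p = 1) (hεσ : ∀ p, σ (ε p) = ε p) (hεs : ∀ p, ε (s p) = ε p) :
    Nat.card {c : ι → K // ∀ p, c p = ε p * σ (c (s p))} = q ^ Fintype.card ι := by
  have h := card_twisted_fixed_sq σ hσ θ hθ s hs ε hε hεσ hεs
  rw [hK, ← pow_mul, mul_comm, pow_mul] at h
  exact Nat.pow_left_injective (by norm_num : (2 : ℕ) ≠ 0) h

end Fixed

end Cfsg.Agent.Helper44.GUC
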