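import Mathlib
import Cfsg.Prelude.Def_LieClassical
import Cfsg.Agent.Lib.Helper43.UnitaryConj
import Cfsg.Agent.Lib.Helper43.JordanCent
import Cfsg.Agent.Lib.Helper44.GUCa
import Cfsg.Agent.Lib.Helper44.GUCe

/-!
# Counting hermitian parameter families with invertible diagonal blocks
-/

set_option autoImplicit false

namespace Cfsg.Agent.Helper44.GUC

open Matrix Cfsg.Agent.Helper43.UnitaryConj Cfsg.Agent.Helper43

theorem card_herm_cond_generic {K : Type*} [Field K] [Fintype K] {q : ℕ}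
    (hK : Fintype.card K = q ^ 2)
    (σ : K →+* K) (hσ : ∀ x, σ (σ x) = x) (θ : K) (hθ : σ θ ≠ θ)
    {P : Type*} [Fintype P] [DecidableEq P] (s : P → P) (hs : ∀ p, s (s p) = p) (ε : P → K)
    (hε : ∀ p, ε p * ε p = 1) (hεσ : ∀ p, σ (ε p) = ε p) (hεs : ∀ p, ε (s p) = ε p)
    {n' : ℕ} (κ : Fin n' → Type*) [∀ i, Fintype (κ i)] [∀ i, DecidableEq (κ i)]
    (em : (Σ i, κ i × κ i) → P) (hem : Function.Injective em)
    (hems : ∀ i k l, s (em ⟨i, (k, l)⟩) = em ⟨i, (l, k)⟩)
    (η : Fin n' → K) (hη : ∀ i k l, ε (em ⟨i, (k, l)⟩) = η i) :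
    Nat.card {c : P → K // (∀ p, c p = ε p * σ (c (s p))) ∧
        ∀ i, IsUnit (Matrix.det (Matrix.of fun k l => c (em ⟨i, (k, l)⟩)))} =
      (∏ i, Nat.card {B : Matrix (κ i) (κ i) K // IsUnit B ∧ starM σ B = η i • B}) *
        q ^ (Fintype.card P - ∑ i, Fintype.card (κ i) ^ 2) := by
  classical
  let D := Σ i, κ i × κ i
  let R := {p : P // p ∉ Set.range em}
  have hsR : ∀ r : R, s r.1 ∉ Set.range em := by
    rintro ⟨p, hp⟩ ⟨⟨i, k, l⟩, hx⟩
    apply hp
    refine ⟨⟨i, (l, k)⟩, ?_⟩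
    rw [← hems, hx, hs]
  let sR : R → R := fun r => ⟨s r.1, hsR r⟩
  let QD : (D → K) → Prop := fun c₁ =>
    (∀ i k l, c₁ ⟨i, (k, l)⟩ = η i * σ (c₁ ⟨i, (l, k)⟩)) ∧
      ∀ i, IsUnit (Matrix.det (Matrix.of fun k l => c₁ ⟨i, (k, l)⟩))
  let QR : (R → K) → Prop := fun c₂ => ∀ r, c₂ r = ε r.1 * σ (c₂ (sR r))
  let e₁ : (P → K) ≃ (D → K) × (R → K) :=
    (Equiv.piEquivPiSubtypeProd (· ∈ Set.range em) (fun _ => K)).trans
      (Equiv.prodCongr (Equiv.arrowCongr (Equiv.ofInjective em hem).symm (Equiv.refl K))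
        (Equiv.refl _))
  have he₁a : ∀ c, (e₁ c).1 = fun x => c (em x) := by
    intro c
    funext x
    rfl
  have he₁b : ∀ c, (e₁ c).2 = fun r => c r.1 := by
    intro c
    funext x
    rfl
  have key : ∀ c : P → K, ((∀ p, c p = ε p * σ (c (s p))) ∧
        ∀ i, IsUnit (Matrix.det (Matrix.of fun k l => c (em ⟨i, (k, l)⟩)))) ↔
      QD (e₁ c).1 ∧ QR (e₁ c).2 := by
    intro c
    rw [he₁a, he₁b]
    constructor
    · rintro ⟨h1, h2⟩
      refine ⟨⟨?_, h2⟩, ?_⟩
      · intro i k l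
        have := h1 (em ⟨i, (k, l)⟩)
        rw [hems, hη] at this
        exact this
      · intro r
        exact h1 r.1
    · rintro ⟨⟨h1, h2⟩, h3⟩
      refine ⟨?_, h2⟩
      intro p
      by_cases hp : p ∈ Set.range em
      · obtain ⟨⟨i, k, l⟩, rfl⟩ := hp
        rw [hems, hη]
        exact h1 i k l
      · exact h3 ⟨p, hp⟩
  have e₂ : {c : P → K // (∀ p, c p = ε p * σ (c (s p))) ∧
        ∀ i, IsUnit (Matrix.det (Matrix.of fun k l => c (em ⟨i, (k, l)⟩)))} ≃
      {a : D → K // QD a} × {b : R → K // QR b} :=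
    (Equiv.subtypeEquiv e₁ key).trans Equiv.subtypeProdEquivProd
  have hcardR : Nat.card {b : R → K // QR b} = q ^ Fintype.card R :=
    card_twisted_fixed hK σ hσ θ hθ sR (fun r => Subtype.ext (hs r.1)) (fun r => ε r.1)
      (fun r => hε r.1) (fun r => hεσ r.1) (fun r => hεs r.1)
  have e₄ : {a : D → K // QD a} ≃
      (∀ i, {B : Matrix (κ i) (κ i) K // IsUnit B ∧ starM σ B = η i • B}) :=
    { toFun := fun c₁ i => ⟨Matrix.of fun k l => c₁.1 ⟨i, (k, l)⟩,
        (Matrix.isUnit_iff_isUnit_det _).2 (c₁.2.2 i), by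
          ext k l
          have h1 := c₁.2.1 i k l
          have hηη : η i * η i = 1 := by rw [← hη i k l]; exact hε _
          show σ (c₁.1 ⟨i, (l, k)⟩) = η i * c₁.1 ⟨i, (k, l)⟩
          rw [h1, ← mul_assoc, hηη, one_mul]⟩
      invFun := fun u => ⟨fun x => (u x.1).1 x.2.1 x.2.2, by
        constructor
        · intro i k l
          have h1 := congrFun (congrFun (u i).2.2 k) l
          have hηη : η i * η i = 1 := by rw [← hη i k l]; exact hε _
          have h2 : σ ((u i).1 l k) = η i * (u i).1 k l := h1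
          show (u i).1 k l = η i * σ ((u i).1 l k)
          rw [h2, ← mul_assoc, hηη, one_mul]
        · intro i
          exact (Matrix.isUnit_iff_isUnit_det _).1 (u i).2.1⟩
      left_inv := fun c₁ => by
        apply Subtype.ext
        funext ⟨i, k, l⟩
        rfl
      right_inv := fun u => by
        funext i
        apply Subtype.ext
        ext k l
        rfl }
  have hR : Fintype.card R = Fintype.card P - ∑ i, Fintype.card (κ i) ^ 2 := by
    rw [Fintype.card_subtype_compl]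
    congr 1
    rw [← Nat.card_eq_fintype_card, ← Nat.card_congr (Equiv.ofInjective em hem),
      Nat.card_eq_fintype_card, Fintype.card_sigma]
    apply Finset.sum_congr rfl
    intro i _
    rw [Fintype.card_prod, sq]
  rw [Nat.card_congr e₂, Nat.card_prod, hcardR, Nat.card_congr e₄, Nat.card_pi, hR]

/-- twisting by a skew scalar: `-1`-hermitian units correspond to hermitian units -/
theorem card_skew_herm {K : Type*} [Field K] {ι : Type*} [Fintype ι] [DecidableEq ι]
    (σ : K →+* K) (hσ : ∀ x, σ (σ x) = x) (θ : K) (hθ : σ θ ≠ θ) :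
    Nat.card {B : Matrix ι ι K // IsUnit B ∧ starM σ B = (-1 : K) • B} =
      Nat.card {B : Matrix ι ι K // IsUnit B ∧ starM σ B = B} := by
  set ω := θ - σ θ with hω
  have hne : ω ≠ 0 := sub_ne_zero.2 (Ne.symm hθ)
  have hσω : σ ω = -ω := by rw [hω, map_sub, hσ]; ring
  have hsm : ∀ (c : K) (B : Matrix ι ι K), starM σ (c • B) = σ c • starM σ B := by
    intro c B
    ext i j
    simp [starM]
  apply Nat.card_congr
  refine ⟨fun B => ⟨ω • B.1, ?_, ?_⟩, fun B => ⟨ω⁻¹ • B.1, ?_, ?_⟩, ?_, ?_⟩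
  · have := B.2.1
    rw [Matrix.isUnit_iff_isUnit_det] at this ⊢
    rw [Matrix.det_smul]
    exact (IsUnit.mk0 _ (pow_ne_zero _ hne)).mul this
  · rw [hsm, B.2.2, hσω, smul_smul]
    congr 1
    ring
  · have := B.2.1
    rw [Matrix.isUnit_iff_isUnit_det] at this ⊢
    rw [Matrix.det_smul]
    exact (IsUnit.mk0 _ (pow_ne_zero _ (inv_ne_zero hne))).mul this
  · rw [hsm, B.2.2, map_inv₀, hσω, smul_smul]
    congr 1
    field_simp
  · intro B
    apply Subtype.ext
    show ω⁻¹ • (ω • B.1) = B.1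
    rw [smul_smul, inv_mul_cancel₀ hne, one_smul]
  · intro B
    apply Subtype.ext
    show ω • (ω⁻¹ • B.1) = B.1
    rw [smul_smul, mul_inv_cancel₀ hne, one_smul]

end Cfsg.Agent.Helper44.GUC
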