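import Mathlib
import Cfsg.Prelude.Def_LieClassical
import Cfsg.Agent.Lib.Helper43.UnitaryConj
import Cfsg.Agent.Lib.Helper43.JordanCent
import Cfsg.Agent.Lib.Helper44.GUCa
import Cfsg.Agent.Lib.Helper44.GUCb
import Cfsg.Agent.Lib.Helper44.GUCc
import Cfsg.Agent.Lib.Helper44.GUCd
import Cfsg.Agent.Lib.Helper44.GUCe
import Cfsg.Agent.Lib.Helper44.GUCf

/-!
# The order of the centraliser of a unipotent element of `GU_n(q)`
-/

set_option autoImplicit false

namespace Cfsg.Agent.Helper44.GUC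

open Matrix Cfsg.Agent.Helper43.UnitaryConj Cfsg.Agent.Helper43

universe u

variable {K : Type u} [Field K] [Fintype K] {q n : ℕ}

/-- hermitian units times the unitary group give the general linear group -/
theorem card_herm_units (hK : Fintype.card K = q ^ 2) (κ : Type*) [Fintype κ] [DecidableEq κ]
    (η : K) (hη : η = 1 ∨ η = -1) :
    Nat.card {B : Matrix κ κ K // IsUnit B ∧ starM (frobK hK) B = η • B} *
      Nat.card (Cfsg.GU (Fintype.card κ) K q) = Nat.card (GL (Fin (Fintype.card κ)) K) := by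
  classical
  set σ := frobK hK with hσdef
  have hσ : ∀ x, σ (σ x) = x := frobK_frobK hK
  obtain ⟨θ, hθ⟩ := exists_frobK_ne hK
  have h1 : Nat.card {B : Matrix κ κ K // IsUnit B ∧ starM σ B = η • B} =
      Nat.card {B : Matrix κ κ K // IsUnit B ∧ starM σ B = B} := by
    rcases hη with rfl | rfl
    · simp only [one_smul]
    · exact card_skew_herm σ hσ θ hθ
  have h2 : Nat.card {B : Matrix κ κ K // IsUnit B ∧ starM σ B = B} =
      Nat.card (InvHerm σ (1 : Matrix κ κ K)) := by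
    apply Nat.card_congr
    apply Equiv.subtypeEquivRight
    intro B
    show _ ↔ IsUnit B ∧ starM σ B = B ∧ starM σ 1 * B * 1 = B
    rw [starM_one, one_mul, mul_one]
    tauto
  have h3 : Nat.card (InvHerm σ (1 : Matrix κ κ K)) =
      Nat.card (InvHerm σ (1 : Matrix (Fin (Fintype.card κ)) (Fin (Fintype.card κ)) K)) := by
    rw [← card_invHerm_reindex σ (Fintype.equivFin κ) (1 : Matrix κ κ K)]
    have : Matrix.reindex (Fintype.equivFin κ) (Fintype.equivFin κ) (1 : Matrix κ κ K) = 1 := by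
      rw [Matrix.reindex_apply, Matrix.submatrix_one_equiv]
    rw [this]
  rw [h1, h2, h3]
  have h4 := card_commGL_eq hK (1 : ↥(Cfsg.GU (Fintype.card κ) K q))
  have h5 : (((1 : ↥(Cfsg.GU (Fintype.card κ) K q)) : GL (Fin (Fintype.card κ)) K) :
      Matrix (Fin (Fintype.card κ)) (Fin (Fintype.card κ)) K) = 1 := rfl
  rw [h5] at h4
  have h6 : Nat.card {g : GL (Fin (Fintype.card κ)) K //
      (g : Matrix (Fin (Fintype.card κ)) (Fin (Fintype.card κ)) K) * 1 =
        1 * (g : Matrix (Fin (Fintype.card κ)) (Fin (Fintype.card κ)) K)} =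
      Nat.card (GL (Fin (Fintype.card κ)) K) := by
    apply Nat.card_congr
    exact Equiv.subtypeUnivEquiv (fun g => by rw [mul_one, one_mul])
  have h7 : Nat.card ↥(Subgroup.centralizer ({1} : Set ↥(Cfsg.GU (Fintype.card κ) K q))) =
      Nat.card ↥(Cfsg.GU (Fintype.card κ) K q) := by
    apply Nat.card_congr
    exact Equiv.subtypeUnivEquiv (fun g => by
      rw [Subgroup.mem_centralizer_iff]
      intro x hx
      rw [Set.mem_singleton_iff] at hx
      subst hx
      rw [one_mul, mul_one])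
  rw [h6, h7] at h4
  exact h4.symm

theorem exists_trace_one (hK : Fintype.card K = q ^ 2) :
    ∃ lam : K, lam + frobK hK lam = 1 := by
  obtain ⟨θ, hθ⟩ := exists_frobK_ne hK
  have hne : θ - frobK hK θ ≠ 0 := sub_ne_zero.2 (Ne.symm hθ)
  refine ⟨θ * (θ - frobK hK θ)⁻¹, ?_⟩
  rw [map_mul, map_inv₀, map_sub, frobK_frobK]
  have hne' : frobK hK θ - θ ≠ 0 := sub_ne_zero.2 hθ
  field_simp
  ring

theorem card_centralizer_GU (hK : Fintype.card K = q ^ 2) {t : ℕ} (d : Fin t → ℕ)
    (hd : ∀ k, 1 ≤ d k) (e : ((k : Fin t) × Fin (d k)) ≃ Fin n) (u : ↥(Cfsg.GU n K q))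
    (hu : IsConj (Matrix.reindex e e (Cfsg.jordanTypeMatrix d K))
      ((u : GL (Fin n) K) : Matrix (Fin n) (Fin n) K)) :
    Nat.card ↥(Subgroup.centralizer ({u} : Set ↥(Cfsg.GU n K q))) =
      q ^ (Fintype.card (JC.Pos d) -
          ∑ i : Fin (Finset.univ.sup d + 1), Fintype.card {k // JC.dF d k = i} ^ 2) *
        ∏ i : Fin (Finset.univ.sup d + 1),
          Nat.card ↥(Cfsg.GU (Fintype.card {k // JC.dF d k = i}) K q) := by
  classical
  set σ := frobK hK with hσdef
  have hσ : ∀ x, σ (σ x) = x := frobK_frobK hK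
  obtain ⟨θ, hθ⟩ := exists_frobK_ne hK
  obtain ⟨lam, hlam⟩ := exists_trace_one hK
  have hq : q ≠ 0 := q_ne_zero hK
  set uM : Matrix (Fin n) (Fin n) K := ((u : GL (Fin n) K) : Matrix (Fin n) (Fin n) K) with huM
  set r := Fintype.card (JC.Pos d) -
    ∑ i : Fin (Finset.univ.sup d + 1), Fintype.card {k // JC.dF d k = i} ^ 2 with hr
  -- step 1
  have hA := card_commGL_eq hK u
  -- step 2: the forms
  obtain ⟨c, hc⟩ := hu
  have hc' : (c : Matrix (Fin n) (Fin n) K) * Matrix.reindex e e (Cfsg.jordanTypeMatrix d K) =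
      uM * (c : Matrix (Fin n) (Fin n) K) := hc
  obtain ⟨c₂, hc₂⟩ := isConj_jordan_cay d lam (σ lam) hlam
  have hc₂' : (c₂ : Matrix (JC.Idx d) (JC.Idx d) K) * Cfsg.jordanTypeMatrix d K =
      cay d lam (σ lam) * (c₂ : Matrix (JC.Idx d) (JC.Idx d) K) := hc₂
  have hF1 : Nat.card (InvHerm σ uM) = Nat.card (InvHerm σ (cay d lam (σ lam))) := by
    rw [card_invHerm_conj σ hσ c.isUnit hc', card_invHerm_reindex,
      ← card_invHerm_conj σ hσ c₂.isUnit hc₂']
  have hsign : ∀ m : ℕ, σ ((-1 : K) ^ m) = (-1) ^ m := by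
    intro m; rw [map_pow, map_neg, map_one]
  have hF2 : Nat.card {c : JC.Pos d → K // HermP d σ c ∧ JC.cond d hd c} =
      (∏ i : Fin (Finset.univ.sup d + 1),
        Nat.card {B : Matrix {k // JC.dF d k = i} {k // JC.dF d k = i} K //
          IsUnit B ∧ starM σ B = ((-1 : K) ^ ((i : ℕ) - 1)) • B}) * q ^ r := by
    have := card_herm_cond_generic hK σ hσ θ hθ (swapP d) (swapP_swapP d) (epsP d K)
      (epsP_sq d) (fun p => hsign _) (epsP_swapP d)
      (fun i : Fin (Finset.univ.sup d + 1) => {k // JC.dF d k = i})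
      (JC.emb d hd) (JC.emb_injective d hd) (fun i k l => rfl)
      (fun i => (-1 : K) ^ ((i : ℕ) - 1)) (by
        rintro i ⟨k, hk⟩ ⟨l, hl⟩
        show (-1 : K) ^ (min (d k) (d l) - 1 - 0) = (-1) ^ ((i : ℕ) - 1)
        have h1 : d k = i := by rw [← hk]; rfl
        have h2 : d l = i := by rw [← hl]; rfl
        rw [h1, h2, min_self, Nat.sub_zero])
    exact this
  have hF : Nat.card (InvHerm σ uM) =
      (∏ i : Fin (Finset.univ.sup d + 1),
        Nat.card {B : Matrix {k // JC.dF d k = i} {k // JC.dF d k = i} K //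
          IsUnit B ∧ starM σ B = ((-1 : K) ^ ((i : ℕ) - 1)) • B}) * q ^ r := by
    rw [hF1, card_invHerm_cay d σ hσ hd lam hlam, hF2]
  -- step 3: the general linear side
  have hG : Nat.card {g : GL (Fin n) K // (g : Matrix (Fin n) (Fin n) K) * uM =
      uM * (g : Matrix (Fin n) (Fin n) K)} =
      (∏ i : Fin (Finset.univ.sup d + 1),
        Nat.card (GL (Fin (Fintype.card {k // JC.dF d k = i})) K)) * (q ^ 2) ^ r := by
    rw [card_commGL_conj c hc', card_commGL_reindex, JC.card_centralizer d hd, hK]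
    congr 1
    apply Finset.prod_congr rfl
    intro i _
    rw [Matrix.card_GL_field, hK]
  -- combine
  set Hh : Fin (Finset.univ.sup d + 1) → ℕ := fun i =>
    Nat.card {B : Matrix {k // JC.dF d k = i} {k // JC.dF d k = i} K //
      IsUnit B ∧ starM σ B = ((-1 : K) ^ ((i : ℕ) - 1)) • B} with hHh
  set GLc : Fin (Finset.univ.sup d + 1) → ℕ := fun i =>
    Nat.card (GL (Fin (Fintype.card {k // JC.dF d k = i})) K) with hGLc
  set GUc : Fin (Finset.univ.sup d + 1) → ℕ := fun i =>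
    Nat.card ↥(Cfsg.GU (Fintype.card {k // JC.dF d k = i}) K q) with hGUc
  set Cu := Nat.card ↥(Subgroup.centralizer ({u} : Set ↥(Cfsg.GU n K q))) with hCu
  have hHG : ∀ i, Hh i * GUc i = GLc i := by
    intro i
    exact card_herm_units hK {k // JC.dF d k = i} _ (neg_one_pow_eq_or K _)
  have hGLpos : 0 < ∏ i, GLc i := by
    apply Finset.prod_pos
    intro i _
    exact Nat.card_pos
  have hmain : (∏ i, GLc i) * (q ^ 2) ^ r = ((∏ i, Hh i) * q ^ r) * Cu := by
    rw [← hG, ← hF]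
    exact hA
  have h2 : (∏ i, GLc i) = (∏ i, Hh i) * ∏ i, GUc i := by
    rw [← Finset.prod_mul_distrib]
    apply Finset.prod_congr rfl
    intro i _
    exact (hHG i).symm
  have hHpos : 0 < ∏ i, Hh i := by
    rcases Nat.eq_zero_or_pos (∏ i, Hh i) with h | h
    · rw [h2, h, zero_mul] at hGLpos
      exact absurd hGLpos (lt_irrefl _)
    · exact h
  have hqr : 0 < q ^ r := pow_pos (Nat.pos_of_ne_zero hq) r
  have h3 : ((∏ i, Hh i) * q ^ r) * Cu = ((∏ i, Hh i) * q ^ r) * (q ^ r * ∏ i, GUc i) := by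
    rw [← hmain, h2, ← pow_mul, mul_comm 2 r, pow_mul, sq]
    ring
  exact Nat.eq_of_mul_eq_mul_left (Nat.mul_pos hHpos hqr) h3

end Cfsg.Agent.Helper44.GUC
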