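import Cfsg.Agent.Lib.Helper53.IPDefs
import Cfsg.Agent.Lib.Helper76.IPClass

/-!
# IP project (S4463), piece (N1) (helper44): a nontrivial class of size at most `b²`
(wrapper around helper76's `Cfsg.Agent.Helper76.IP.exists_small_class`).
-/

set_option autoImplicit false

namespace Cfsg.Agent.Helper44.IP

open Cfsg Cfsg.Agent.Helper53.IP
open scoped ComplexConjugate commutatorElement

universe u

/-- (N1) -/
theorem exists_small_class {Q : Type u} [Group Q] [Finite Q] [Nontrivial Q] (b : ℕ)
    (h : DegLe Q b) :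
    ∃ x : Q, x ≠ 1 ∧ (Subgroup.centralizer ({x} : Set Q)).index ≤ b ^ 2 :=
  Cfsg.Agent.Helper76.IP.exists_small_class b h

end Cfsg.Agent.Helper44.IP
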