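import Cfsg.Agent.Lib.Helper53.IPDefs

/-!
# IP project (S4463), piece (N2) (helper44): in a nonsolvable group whose proper quotients are all
abelian, centralizers of nontrivial elements are core-free.
-/

set_option autoImplicit false

namespace Cfsg.Agent.Helper44.IP

open Cfsg Cfsg.Agent.Helper53.IP
open scoped ComplexConjugate commutatorElement

universe u

/-- (N2) -/
theorem core_centralizer_eq_bot {Q : Type u} [Group Q] [Finite Q]
    (hq : ∀ L : Subgroup Q, L.Normal → L ≠ ⊥ → commutator Q ≤ L) (hns : ¬ Group.IsSolvable Q)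
    (x : Q) (hx : x ≠ 1) : (Subgroup.centralizer ({x} : Set Q)).normalCore = ⊥ := by
  by_contra hN
  apply hns
  have h1 : commutator Q ≤ (Subgroup.centralizer ({x} : Set Q)).normalCore :=
    hq _ (Subgroup.normalCore_normal _) hN
  have h2 : commutator Q ≤ Subgroup.centralizer ({x} : Set Q) :=
    h1.trans (Subgroup.normalCore_le _)
  have hxC : x ∈ Subgroup.centralizer (commutator Q : Set Q) := by
    rw [Subgroup.mem_centralizer_iff]
    intro g hg
    have h3 := h2 hg
    rw [Subgroup.mem_centralizer_iff] at h3
    exact (h3 x rfl).symm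
  have hCn : (Subgroup.centralizer (commutator Q : Set Q)).Normal := inferInstance
  have hCne : Subgroup.centralizer (commutator Q : Set Q) ≠ ⊥ := by
    intro h0
    rw [h0] at hxC
    exact hx (Subgroup.mem_bot.1 hxC)
  have h3 : commutator Q ≤ Subgroup.centralizer (commutator Q : Set Q) := hq _ hCn hCne
  rw [isSolvable_def]
  refine ⟨2, ?_⟩
  rw [derivedSeries_succ, derivedSeries_one, Subgroup.commutator_eq_bot_iff_le_centralizer]
  exact h3

end Cfsg.Agent.Helper44.IP
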