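import Mathlib

set_option autoImplicit false

namespace Cfsg.Agent.Helper44.LU

open Matrix

variable {K : Type*} [Field K]

/-- (B1) If `φ ⬝ᵥ f = 1` there is an invertible `P` with first column `f` and such that the first row of `P⁻¹`
is `φ`. Sketch: `ker φ` has dimension `n`; take a basis `b₁ … bₙ` of it (e.g. `Module.finBasisOfFinrankEq`) and let
the columns of `P` be `f, b₁, …, bₙ` (independent since `f ∉ ker φ`). Then `φ ᵥ* P = e₀`, hence row `0` of `P⁻¹` is `φ`. -/
theorem exists_GL_col_row {n : ℕ} (f φ : Fin (n + 1) → K) (h : φ ⬝ᵥ f = 1) :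
    ∃ P : GL (Fin (n + 1)) K,
      (∀ i, (↑P : Matrix (Fin (n + 1)) (Fin (n + 1)) K) i 0 = f i) ∧
      (∀ j, (↑(P⁻¹) : Matrix (Fin (n + 1)) (Fin (n + 1)) K) 0 j = φ j) := by
  classical
  -- the functional `φ`
  let φL : (Fin (n + 1) → K) →ₗ[K] K :=
    { toFun := fun v => φ ⬝ᵥ v
      map_add' := fun v w => dotProduct_add φ v w
      map_smul' := fun c v => by simp [dotProduct_smul] }
  have hφL : ∀ v, φL v = φ ⬝ᵥ v := fun v => rfl
  have hsurj : LinearMap.range φL = ⊤ := by
    rw [LinearMap.range_eq_top]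
    intro c
    refine ⟨c • f, ?_⟩
    rw [hφL, dotProduct_smul, h, smul_eq_mul, mul_one]
  have hfin : Module.finrank K (LinearMap.ker φL) = n := by
    have h1 := LinearMap.finrank_range_add_finrank_ker φL
    rw [hsurj, finrank_top, Module.finrank_self, Module.finrank_fin_fun] at h1
    omega
  let b : Module.Basis (Fin n) K (LinearMap.ker φL) := Module.finBasisOfFinrankEq K _ hfin
  -- the columns
  let cols : Fin (n + 1) → (Fin (n + 1) → K) :=
    Fin.cons f (fun k => ((b k : LinearMap.ker φL) : Fin (n + 1) → K))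
  have hli : LinearIndependent K cols := by
    rw [linearIndependent_finCons]
    constructor
    · have := b.linearIndependent.map' (LinearMap.ker φL).subtype (Submodule.ker_subtype _)
      exact this
    · intro hmem
      have hle : Submodule.span K (Set.range fun k => ((b k : LinearMap.ker φL) : Fin (n + 1) → K))
          ≤ LinearMap.ker φL := by
        rw [Submodule.span_le]
        rintro _ ⟨k, rfl⟩
        exact (b k).2
      have := hle hmem
      rw [LinearMap.mem_ker, hφL, h] at this
      exact one_ne_zero this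
  let P : Matrix (Fin (n + 1)) (Fin (n + 1)) K := Matrix.of fun i j => cols j i
  have hPcol : P.col = cols := by
    ext j i; rfl
  have hPu : IsUnit P := by
    rw [← Matrix.linearIndependent_cols_iff_isUnit, hPcol]; exact hli
  have hφP : φ ᵥ* P = Pi.single 0 1 := by
    ext j
    have e : (φ ᵥ* P) j = φ ⬝ᵥ cols j := rfl
    rw [e]
    refine Fin.cases ?_ (fun k => ?_) j
    · simp [cols, h]
    · have hk : φL ((b k : LinearMap.ker φL) : Fin (n + 1) → K) = 0 := (b k).2
      have e2 : cols k.succ = ((b k : LinearMap.ker φL) : Fin (n + 1) → K) := by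
        simp [cols]
      rw [e2, ← hφL, hk]
      simp [Fin.succ_ne_zero]
  refine ⟨hPu.unit, fun i => ?_, fun j => ?_⟩
  · have : (hPu.unit : Matrix (Fin (n + 1)) (Fin (n + 1)) K) = P := hPu.unit_spec
    rw [this]
    simp [P, cols]
  · have hmul : P * (↑(hPu.unit⁻¹) : Matrix (Fin (n + 1)) (Fin (n + 1)) K) = 1 := by
      have := Units.mul_inv hPu.unit
      rwa [hPu.unit_spec] at this
    have e1 : φ = Pi.single 0 1 ᵥ* (↑(hPu.unit⁻¹) : Matrix (Fin (n + 1)) (Fin (n + 1)) K) := by
      rw [← hφP, Matrix.vecMul_vecMul, hmul, Matrix.vecMul_one]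
    rw [Matrix.single_one_vecMul] at e1
    rw [e1]
    rfl
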