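import Mathlib

/-!
# Definitions for S2522 (LU induction a la Sourour)

`LowReg L` / `UpReg U`: lower / upper unitriangular with nonzero sub / superdiagonal.
`Good A`: `A` is not scalar and `A - 1` is not of rank `≤ 1`.
`PLU A x y`: pointed LU-structure: `P⁻¹ A P = L U` with `(P⁻¹ x)₀ ≠ 0`, `(y P)₀ ≠ 0`.
`schur A`: Schur complement of the `(0,0)` entry (used when `A 0 0 = 1`).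
`St A f φ`: the Schur map in vector form, `h ↦ A h - φ(A h) • A f`.
`KLc A x y f φ`: conclusion of the key lemma in vector form.
-/

set_option autoImplicit false

namespace Cfsg.Agent.Helper44.LU

open Matrix

variable {K : Type*} [Field K]

def LowReg {n : ℕ} (L : Matrix (Fin n) (Fin n) K) : Prop :=
  (∀ i j : Fin n, i < j → L i j = 0) ∧ (∀ i, L i i = 1) ∧
  (∀ i j : Fin n, i.val = j.val + 1 → L i j ≠ 0)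

def UpReg {n : ℕ} (U : Matrix (Fin n) (Fin n) K) : Prop :=
  (∀ i j : Fin n, j < i → U i j = 0) ∧ (∀ i, U i i = 1) ∧
  (∀ i j : Fin n, j.val = i.val + 1 → U i j ≠ 0)

def Good {n : ℕ} (A : Matrix (Fin n) (Fin n) K) : Prop :=
  (∀ c : K, A ≠ c • (1 : Matrix (Fin n) (Fin n) K)) ∧
  (∀ w ψ : Fin n → K, A - 1 ≠ Matrix.vecMulVec w ψ)

/-- `P⁻¹ A P` as a matrix -/
def conjm {n : ℕ} (P : GL (Fin n) K) (A : Matrix (Fin n) (Fin n) K) : Matrix (Fin n) (Fin n) K :=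
  (↑(P⁻¹) : Matrix (Fin n) (Fin n) K) * A * (↑P : Matrix (Fin n) (Fin n) K)

def PLU {n : ℕ} (A : Matrix (Fin (n + 1)) (Fin (n + 1)) K) (x y : Fin (n + 1) → K) : Prop :=
  ∃ (P : GL (Fin (n + 1)) K) (L U : Matrix (Fin (n + 1)) (Fin (n + 1)) K),
    LowReg L ∧ UpReg U ∧ conjm P A = L * U ∧
    ((↑(P⁻¹) : Matrix (Fin (n + 1)) (Fin (n + 1)) K) *ᵥ x) 0 ≠ 0 ∧
    (y ᵥ* (↑P : Matrix (Fin (n + 1)) (Fin (n + 1)) K)) 0 ≠ 0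

def schur {n : ℕ} (A : Matrix (Fin (n + 1)) (Fin (n + 1)) K) : Matrix (Fin n) (Fin n) K :=
  fun i j => A i.succ j.succ - A i.succ 0 * A 0 j.succ

def St {n : ℕ} (A : Matrix (Fin n) (Fin n) K) (f φ h : Fin n → K) : Fin n → K :=
  A *ᵥ h - (φ ⬝ᵥ (A *ᵥ h)) • (A *ᵥ f)

def KLc {n : ℕ} (A : Matrix (Fin n) (Fin n) K) (x y f φ : Fin n → K) : Prop :=
  φ ⬝ᵥ f = 1 ∧ φ ⬝ᵥ (A *ᵥ f) = 1 ∧ A *ᵥ f ≠ f ∧ φ ᵥ* A ≠ φ ∧ φ ⬝ᵥ x ≠ 0 ∧ y ⬝ᵥ f ≠ 0 ∧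
  (∀ c : K, c ≠ 1 → c ^ (n - 1) = 1 → ∃ h, φ ⬝ᵥ h = 0 ∧ St A f φ h ≠ c • h) ∧
  (∃ h₁ h₂, φ ⬝ᵥ h₁ = 0 ∧ φ ⬝ᵥ h₂ = 0 ∧
     LinearIndependent K ![St A f φ h₁ - h₁, St A f φ h₂ - h₂])

/-! ### Conditions on `f` and `φ` used in the three regimes of the key lemma -/

/-- regime `n ≥ 4`, conditions on `f` -/
def Pf4 {n : ℕ} (A : Matrix (Fin n) (Fin n) K) (x y f : Fin n → K) : Prop :=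
  y ⬝ᵥ f ≠ 0 ∧ (¬ ∃ c : K, (A - 1) *ᵥ f = c • f) ∧ (¬ ∃ c : K, x = c • ((A - 1) *ᵥ f)) ∧
  ((A - 1).det = 0 → ∀ v, (A - 1) *ᵥ v ≠ f) ∧
  (∀ μ : K, μ ≠ 1 → (A - μ • (1 : Matrix (Fin n) (Fin n) K)).rank ≤ 2 →
    ∀ v, (A - μ • (1 : Matrix (Fin n) (Fin n) K)) *ᵥ v ≠ f)

/-- regime `n ≥ 4`, conditions on `φ` (not yet normalised) -/
def Pphi4 {n : ℕ} (A : Matrix (Fin n) (Fin n) K) (x f φ : Fin n → K) : Prop :=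
  φ ⬝ᵥ ((A - 1) *ᵥ f) = 0 ∧ φ ⬝ᵥ f ≠ 0 ∧ φ ⬝ᵥ x ≠ 0 ∧ φ ᵥ* (A - 1) ≠ 0 ∧
  ((A - 1).rank = 2 → ∃ k, (A - 1) *ᵥ k = 0 ∧ φ ⬝ᵥ k ≠ 0) ∧
  (∀ μ : K, μ ≠ 1 → (A - μ • (1 : Matrix (Fin n) (Fin n) K)).rank = 1 →
    ∃ k, (A - μ • (1 : Matrix (Fin n) (Fin n) K)) *ᵥ k = 0 ∧ φ ⬝ᵥ k ≠ 0)

/-- regime `n = 3`, `A - 1` invertible, conditions on `f` -/
def Pf3i (A : Matrix (Fin 3) (Fin 3) K) (x y f : Fin 3 → K) : Prop :=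
  y ⬝ᵥ f ≠ 0 ∧ (¬ ∃ c : K, A *ᵥ f = c • (((A - 1) * (A - 1)) *ᵥ f)) ∧
  (¬ ∃ c : K, x = c • ((A - 1) *ᵥ f)) ∧
  ((A + 1).det = 0 → ∀ v, (A + 1) *ᵥ v ≠ f)

/-- regime `n = 3`, `A - 1` invertible, conditions on `φ` -/
def Pphi3i (A : Matrix (Fin 3) (Fin 3) K) (x f φ : Fin 3 → K) : Prop :=
  φ ⬝ᵥ ((A - 1) *ᵥ f) = 0 ∧ φ ⬝ᵥ f ≠ 0 ∧ φ ⬝ᵥ x ≠ 0 ∧
  φ ⬝ᵥ ((A - 1)⁻¹ *ᵥ (A *ᵥ f)) ≠ 0 ∧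
  ((A + 1).rank = 1 → ∃ k, (A + 1) *ᵥ k = 0 ∧ φ ⬝ᵥ k ≠ 0)

/-- regime `n = 3`, `A - 1` singular, conditions on `f` -/
def Pf3s (A : Matrix (Fin 3) (Fin 3) K) (x y f : Fin 3 → K) : Prop :=
  y ⬝ᵥ f ≠ 0 ∧ (∀ v, (A - 1) *ᵥ v ≠ f) ∧ ((A - 1) * (A - 1)) *ᵥ f ≠ 0 ∧
  (¬ ∃ c : K, x = c • ((A - 1) *ᵥ f)) ∧
  ((A + 1).det = 0 → ∀ v, (A + 1) *ᵥ v ≠ f)

/-- regime `n = 3`, `A - 1` singular, conditions on `φ` -/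
def Pphi3s (A : Matrix (Fin 3) (Fin 3) K) (x f φ : Fin 3 → K) : Prop :=
  φ ⬝ᵥ ((A - 1) *ᵥ f) = 0 ∧ φ ⬝ᵥ f ≠ 0 ∧ φ ⬝ᵥ x ≠ 0 ∧ φ ᵥ* (A - 1) ≠ 0 ∧
  (∃ k, (A - 1) *ᵥ k = 0 ∧ φ ⬝ᵥ k ≠ 0) ∧
  ((A + 1).rank = 1 → ∃ k, (A + 1) *ᵥ k = 0 ∧ φ ⬝ᵥ k ≠ 0)

end Cfsg.Agent.Helper44.LU
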