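import Mathlib
import Cfsg.Agent.Lib.Helper44.LUDefs

set_option autoImplicit false

namespace Cfsg.Agent.Helper44.LU

open Matrix

variable {K : Type*} [Field K]

/-- (B2) Schur determinant formula for the `(0,0)` entry `1`: eliminate the first column below the pivot
(row operations do not change the determinant), or reindex `Fin (n+1) ≃ Unit ⊕ Fin n` and use
`Matrix.det_fromBlocks₁₁`. -/
theorem det_schur {n : ℕ} (A : Matrix (Fin (n + 1)) (Fin (n + 1)) K) (h : A 0 0 = 1) :
    (schur A).det = A.det := by
  set c : Fin (n + 1) → K := Fin.cons 0 (fun i => - A i.succ 0) with hc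
  set A' : Matrix (Fin (n + 1)) (Fin (n + 1)) K := fun i j => A i j + c i * A 0 j with hA'
  have h1 : A'.det = A.det :=
    Matrix.det_eq_of_forall_row_eq_smul_add_const c 0 (by simp [hc]) (fun i j => rfl)
  have h2 : ∀ i : Fin n, A' i.succ 0 = 0 := by
    intro i; simp [hA', hc, h]
  have h3 : A' 0 0 = 1 := by simp [hA', hc, h]
  rw [← h1, Matrix.det_succ_column_zero, Fin.sum_univ_succ]
  simp only [h2, h3, mul_zero, zero_mul, Finset.sum_const_zero, add_zero, Fin.val_zero, pow_zero,
    one_mul, Fin.succAbove_zero]
  congr 1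
  ext i j
  have e : A'.submatrix Fin.succ Fin.succ i j = A i.succ j.succ + c i.succ * A 0 j.succ := rfl
  have e2 : c i.succ = - A i.succ 0 := by rw [hc, Fin.cons_succ]
  rw [e, e2]
  simp only [schur]
  ring
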