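import Mathlib
import Cfsg.Agent.Lib.Helper44.LUDefs
import Cfsg.Agent.Lib.Helper44.LUB1
import Cfsg.Agent.Lib.Helper44.LUB2

set_option autoImplicit false

namespace Cfsg.Agent.Helper44.LU

open Matrix

variable {K : Type*} [Field K]

theorem b3_cons_sub {n : ℕ} (a b : Fin n → K) :
    (Fin.cons 0 (a - b) : Fin (n + 1) → K) = Fin.cons 0 a - Fin.cons 0 b := by
  ext k
  cases k using Fin.cases with
  | zero => simp
  | succ i => simp

theorem b3_cons_smul {n : ℕ} (c : K) (a : Fin n → K) :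
    (Fin.cons 0 (c • a) : Fin (n + 1) → K) = c • Fin.cons 0 a := by
  ext k
  cases k using Fin.cases with
  | zero => simp
  | succ i => simp

theorem b3_vecMulVec_mulVec {n : ℕ} (w ψ v : Fin n → K) :
    vecMulVec w ψ *ᵥ v = (ψ ⬝ᵥ v) • w := by
  ext i
  simp only [mulVec, dotProduct, vecMulVec_apply, Pi.smul_apply, smul_eq_mul, Finset.sum_mul]
  refine Finset.sum_congr rfl (fun j _ => ?_)
  ring

theorem b3_not_li {ι : Type*} (a b : K) (U : ι → K)
    (h : LinearIndependent K ![a • U, b • U]) : False := by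
  have h0 := Fintype.linearIndependent_iff.1 h
  have hsum : ∀ g : Fin 2 → K, ∑ i, g i • (![a • U, b • U] : Fin 2 → ι → K) i =
      (g 0 * a + g 1 * b) • U := by
    intro g
    rw [Fin.sum_univ_two]
    simp only [Matrix.cons_val_zero, Matrix.cons_val_one, smul_smul, ← add_smul]
  have h1 := h0 ![b, -a] (by rw [hsum]; simp [mul_comm])
  have hb : b = 0 := by simpa using h1 0
  have ha : a = 0 := by simpa using h1 1
  have h2 := h0 ![1, 1] (by rw [hsum]; simp [ha, hb])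
  have := h2 0
  simp at this

/-- (B3) Bridge from the vector form to the matrix form. Take `P` from `exists_GL_col_row f φ`, `A' := conjm P A = P⁻¹ A P`.
`A' 0 0 = φ ⬝ᵥ (A f) = 1`. Column `0` of `A'` is `P⁻¹ (A f)`; if its tail vanishes then `A f = f` (`P e₀ = f`).
Row `0` of `A'` is `(φ ᵥ* A) ᵥ* P`; if its tail vanishes then `φ ᵥ* A = e₀ ᵥ* P⁻¹ = φ`.
`(P⁻¹ x) 0 = φ ⬝ᵥ x`, `(y ᵥ* P) 0 = y ⬝ᵥ f`. `det (schur A') = det A' = det A = 1` by `det_schur`.
Key identity: for `v : Fin n → K` put `h := P *ᵥ (Fin.cons 0 v)`; then `φ ⬝ᵥ h = 0`, every `h` with `φ ⬝ᵥ h = 0` is of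
this form (`v := tail of P⁻¹ h`), and `St A f φ h = P *ᵥ (Fin.cons 0 (schur A' *ᵥ v))`.
Hence: `schur A' = c • 1` with `c ≠ 1` gives `c ^ n = det = 1` and `St A f φ h = c • h` on `ker φ`, against `KLc`
(here the exponent `n + 1 - 1 = n`); `c = 1`, or more generally `schur A' - 1 = vecMulVec w ψ`, makes all
`St A f φ h - h` (`h ∈ ker φ`) multiples of `P *ᵥ (Fin.cons 0 w)`, against the independent pair in `KLc`. -/
theorem kl_bridge {n : ℕ} (A : Matrix (Fin (n + 1)) (Fin (n + 1)) K) (hdet : A.det = 1)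
    (x y f φ : Fin (n + 1) → K) (h : KLc A x y f φ) :
    ∃ P : GL (Fin (n + 1)) K,
      conjm P A 0 0 = 1 ∧
      (fun i : Fin n => conjm P A i.succ 0) ≠ 0 ∧
      (fun j : Fin n => conjm P A 0 j.succ) ≠ 0 ∧
      Good (schur (conjm P A)) ∧ (schur (conjm P A)).det = 1 ∧
      ((↑(P⁻¹) : Matrix (Fin (n + 1)) (Fin (n + 1)) K) *ᵥ x) 0 ≠ 0 ∧
      (y ᵥ* (↑P : Matrix (Fin (n + 1)) (Fin (n + 1)) K)) 0 ≠ 0 := by
  obtain ⟨h1, h2, h3, h4, h5, h6, h7, h8⟩ := h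
  obtain ⟨P, hPcol, hProw⟩ := exists_GL_col_row f φ h1
  set Pm : Matrix (Fin (n + 1)) (Fin (n + 1)) K := ↑P with hPm
  set Pv : Matrix (Fin (n + 1)) (Fin (n + 1)) K := ↑(P⁻¹) with hPv
  have hPP : Pm * Pv = 1 := P.mul_inv
  have hPP' : Pv * Pm = 1 := P.inv_mul
  set A' := conjm P A with hA'
  have hA'eq : A' = Pv * A * Pm := rfl
  have L1 : ∀ h : Fin (n + 1) → K, (Pv *ᵥ h) 0 = φ ⬝ᵥ h := by
    intro h
    simp only [mulVec, dotProduct]
    exact Finset.sum_congr rfl (fun j _ => by rw [hProw])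
  have L1' : ∀ h : Fin (n + 1) → K, (h ᵥ* Pm) 0 = h ⬝ᵥ f := by
    intro h
    simp only [vecMul, dotProduct]
    exact Finset.sum_congr rfl (fun j _ => by rw [hPcol])
  set e₀ : Fin (n + 1) → K := Fin.cons 1 0 with he₀
  have L2 : Pm *ᵥ e₀ = f := by
    ext i
    simp [mulVec, dotProduct, Fin.sum_univ_succ, he₀, hPcol]
  have L2' : e₀ ᵥ* Pv = φ := by
    ext j
    simp [vecMul, dotProduct, Fin.sum_univ_succ, he₀, hProw]
  have hPiPm : ∀ u, Pv *ᵥ (Pm *ᵥ u) = u := fun u => by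
    rw [Matrix.mulVec_mulVec, hPP', Matrix.one_mulVec]
  have hPmPi : ∀ u, Pm *ᵥ (Pv *ᵥ u) = u := fun u => by
    rw [Matrix.mulVec_mulVec, hPP, Matrix.one_mulVec]
  have hA'mul : ∀ u, A' *ᵥ u = Pv *ᵥ (A *ᵥ (Pm *ᵥ u)) := by
    intro u
    rw [hA'eq, Matrix.mulVec_mulVec, Matrix.mulVec_mulVec, Matrix.mul_assoc]
  have hA'e₀ : ∀ k, (A' *ᵥ e₀) k = A' k 0 := by
    intro k
    simp [mulVec, dotProduct, Fin.sum_univ_succ, he₀]
  have he₀A' : ∀ k, (e₀ ᵥ* A') k = A' 0 k := by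
    intro k
    simp [vecMul, dotProduct, Fin.sum_univ_succ, he₀]
  have hAf : Pv *ᵥ (A *ᵥ f) = A' *ᵥ e₀ := by rw [hA'mul, L2]
  have h00 : A' 0 0 = 1 := by
    rw [← hA'e₀, ← hAf, L1]; exact h2
  set S := schur A' with hS
  -- the key identity
  have L4 : ∀ v : Fin n → K,
      St A f φ (Pm *ᵥ (Fin.cons 0 v)) = Pm *ᵥ (Fin.cons 0 (S *ᵥ v)) := by
    intro v
    set u : Fin (n + 1) → K := Fin.cons 0 v with hu
    have e0 : φ ⬝ᵥ (A *ᵥ (Pm *ᵥ u)) = (A' *ᵥ u) 0 := by rw [hA'mul, L1]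
    have e1 : Pv *ᵥ (St A f φ (Pm *ᵥ u)) = A' *ᵥ u - ((A' *ᵥ u) 0) • (A' *ᵥ e₀) := by
      unfold St
      rw [Matrix.mulVec_sub, Matrix.mulVec_smul, hAf, e0, ← hA'mul]
    have e2 : A' *ᵥ u - ((A' *ᵥ u) 0) • (A' *ᵥ e₀) = Fin.cons 0 (S *ᵥ v) := by
      ext k
      cases k using Fin.cases with
      | zero => simp [hA'e₀, h00]
      | succ i =>
        simp only [Pi.sub_apply, Pi.smul_apply, smul_eq_mul, hA'e₀, Fin.cons_succ]
        simp only [mulVec, dotProduct, Fin.sum_univ_succ, hu, Fin.cons_zero, Fin.cons_succ,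
          mul_zero, zero_add, hS, schur]
        rw [Finset.sum_mul, ← Finset.sum_sub_distrib]
        refine Finset.sum_congr rfl (fun j _ => ?_)
        ring
    rw [← hPmPi (St A f φ (Pm *ᵥ u)), e1, e2]
  -- every `h ∈ ker φ` is `Pm *ᵥ cons 0 v`
  have L3 : ∀ h : Fin (n + 1) → K, φ ⬝ᵥ h = 0 → ∃ v : Fin n → K, h = Pm *ᵥ (Fin.cons 0 v) := by
    intro h hh
    refine ⟨Fin.tail (Pv *ᵥ h), ?_⟩
    have : (Fin.cons 0 (Fin.tail (Pv *ᵥ h)) : Fin (n + 1) → K) = Pv *ᵥ h := by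
      rw [← L1 h] at hh
      rw [← hh]
      exact Fin.cons_self_tail _
    rw [this, hPmPi]
  have hdetS : S.det = 1 := by
    rw [hS, det_schur A' h00, hA'eq, hPv, hPm, Matrix.det_units_conj', hdet]
  -- second half of `Good`
  have g2 : ∀ w ψ : Fin n → K, S - 1 ≠ Matrix.vecMulVec w ψ := by
    intro w ψ hSw
    obtain ⟨k₁, k₂, hk₁, hk₂, hli⟩ := h8
    obtain ⟨v₁, rfl⟩ := L3 k₁ hk₁
    obtain ⟨v₂, rfl⟩ := L3 k₂ hk₂
    have key : ∀ v : Fin n → K, St A f φ (Pm *ᵥ (Fin.cons 0 v)) - Pm *ᵥ (Fin.cons 0 v) =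
        (ψ ⬝ᵥ v) • (Pm *ᵥ (Fin.cons 0 w)) := by
      intro v
      rw [L4, ← Matrix.mulVec_sub, ← b3_cons_sub, ← Matrix.mulVec_smul, ← b3_cons_smul]
      congr 2
      have : S *ᵥ v - v = (S - 1) *ᵥ v := by rw [Matrix.sub_mulVec, Matrix.one_mulVec]
      rw [this, hSw, b3_vecMulVec_mulVec]
    rw [key v₁, key v₂] at hli
    exact b3_not_li _ _ _ hli
  refine ⟨P, h00, ?_, ?_, ⟨?_, g2⟩, hdetS, ?_, ?_⟩
  · -- column
    intro hcol
    apply h3
    have hc : A' *ᵥ e₀ = e₀ := by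
      ext k
      rw [hA'e₀]
      cases k using Fin.cases with
      | zero => rw [h00]; simp [he₀]
      | succ i =>
        have : A' i.succ 0 = 0 := congrFun hcol i
        rw [this]; simp [he₀]
    rw [← hPmPi (A *ᵥ f), hAf, hc, L2]
  · -- row
    intro hrow
    apply h4
    have hr : e₀ ᵥ* A' = e₀ := by
      ext k
      rw [he₀A']
      cases k using Fin.cases with
      | zero => rw [h00]; simp [he₀]
      | succ j =>
        have : A' 0 j.succ = 0 := congrFun hrow j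
        rw [this]; simp [he₀]
    have e1 : e₀ ᵥ* A' = (φ ᵥ* A) ᵥ* Pm := by
      rw [hA'eq, ← L2', Matrix.vecMul_vecMul, Matrix.vecMul_vecMul, Matrix.mul_assoc]
    have e2 : ((φ ᵥ* A) ᵥ* Pm) ᵥ* Pv = φ ᵥ* A := by
      rw [Matrix.vecMul_vecMul, hPP, Matrix.vecMul_one]
    rw [← e2, ← e1, hr, L2']
  · -- first half of `Good`
    intro c hc
    have hc' : S = c • 1 := hc
    by_cases hc1 : c = 1
    · apply g2 0 0
      rw [hc', hc1, one_smul, sub_self]
      ext i j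
      simp [vecMulVec_apply]
    · have hcn : c ^ (n + 1 - 1) = 1 := by
        have := hdetS
        rw [hc', Matrix.det_smul, Matrix.det_one, mul_one, Fintype.card_fin] at this
        simpa using this
      obtain ⟨k, hk, hne⟩ := h7 c hc1 hcn
      obtain ⟨v, rfl⟩ := L3 k hk
      apply hne
      rw [L4, hc', Matrix.smul_mulVec, Matrix.one_mulVec, b3_cons_smul, Matrix.mulVec_smul]
  · rw [L1]; exact h5
  · rw [L1']; exact h6

end Cfsg.Agent.Helper44.LU
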