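import Mathlib
import Cfsg.Agent.Lib.Helper44.LUDefs

set_option autoImplicit false

namespace Cfsg.Agent.Helper44.LU

open Matrix

variable {K : Type*} [Field K]

/-- if every `N *ᵥ v` lies in the span of `k` vectors then `rank N ≤ k` -/
theorem c1_rank_le {n k : ℕ} (N : Matrix (Fin n) (Fin n) K) (b : Fin k → (Fin n → K))
    (h : ∀ v, N *ᵥ v ∈ Submodule.span K (Set.range b)) : N.rank ≤ k := by
  have h1 : LinearMap.range N.mulVecLin ≤ Submodule.span K (Set.range b) := by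
    rintro _ ⟨v, rfl⟩
    exact h v
  calc N.rank = Module.finrank K (LinearMap.range N.mulVecLin) := rfl
    _ ≤ Module.finrank K (Submodule.span K (Set.range b)) := Submodule.finrank_mono h1
    _ ≤ Fintype.card (Fin k) := finrank_range_le_card b
    _ = k := Fintype.card_fin k

/-- (C1) If `St A f φ h = c • h` for all `h ∈ ker φ` then `(A - c) h ∈ K • A f` for those `h`; as every `v` is
`(φ v) • f + (v - (φ v) • f)` with the second summand in `ker φ` (`φ f = 1`), the range of `A - c` lies in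
`span {A f, (A - c) f}`, so `rank (A - c) ≤ 2`. -/
theorem st_ne_smul_of_rank {n : ℕ} (A : Matrix (Fin n) (Fin n) K) (f φ : Fin n → K) (c : K)
    (h1 : φ ⬝ᵥ f = 1) (hr : 3 ≤ (A - c • (1 : Matrix (Fin n) (Fin n) K)).rank) :
    ∃ h, φ ⬝ᵥ h = 0 ∧ St A f φ h ≠ c • h := by
  by_contra hcon0
  have hcon : ∀ h, φ ⬝ᵥ h = 0 → St A f φ h = c • h := by
    intro h hh
    by_contra hne
    exact hcon0 ⟨h, hh, hne⟩
  have hle : (A - c • (1 : Matrix (Fin n) (Fin n) K)).rank ≤ 2 := by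
    apply c1_rank_le _ ![A *ᵥ f, (A - c • (1 : Matrix (Fin n) (Fin n) K)) *ᵥ f]
    intro v
    have hh : φ ⬝ᵥ (v - (φ ⬝ᵥ v) • f) = 0 := by
      rw [dotProduct_sub, dotProduct_smul, h1, smul_eq_mul, mul_one, sub_self]
    have h2 := hcon _ hh
    unfold St at h2
    have h3 : (A - c • (1 : Matrix (Fin n) (Fin n) K)) *ᵥ (v - (φ ⬝ᵥ v) • f)
        = (φ ⬝ᵥ (A *ᵥ (v - (φ ⬝ᵥ v) • f))) • (A *ᵥ f) := by
      rw [sub_mulVec, smul_mulVec, one_mulVec, ← h2]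
      abel
    have h4 : (A - c • (1 : Matrix (Fin n) (Fin n) K)) *ᵥ v
        = (φ ⬝ᵥ (A *ᵥ (v - (φ ⬝ᵥ v) • f))) • (A *ᵥ f)
          + (φ ⬝ᵥ v) • ((A - c • (1 : Matrix (Fin n) (Fin n) K)) *ᵥ f) := by
      rw [← h3, ← mulVec_smul, ← mulVec_add]
      congr 1
      abel
    rw [h4]
    refine Submodule.add_mem _ (Submodule.smul_mem _ _ (Submodule.subset_span ⟨0, rfl⟩))
      (Submodule.smul_mem _ _ (Submodule.subset_span ⟨1, rfl⟩))
  omega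

/-- (C2) Take `h` from `hh`. If `St A f φ h = c • h` then `(A - c) h = φ(A h) • A f`. If `φ(A h) = 0` this
contradicts `hh`. Otherwise `A f ∈ range (A - c)`; as `A f = c • f + (A - c) f` and `c ≠ 0`, `f ∈ range (A - c)`,
contradicting `hf`. -/
theorem st_ne_smul_of_not_mem_range {n : ℕ} (A : Matrix (Fin n) (Fin n) K) (f φ : Fin n → K) (c : K)
    (hc : c ≠ 0) (hf : ∀ v, (A - c • (1 : Matrix (Fin n) (Fin n) K)) *ᵥ v ≠ f)
    (hh : ∃ h, φ ⬝ᵥ h = 0 ∧ (A - c • (1 : Matrix (Fin n) (Fin n) K)) *ᵥ h ≠ 0) :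
    ∃ h, φ ⬝ᵥ h = 0 ∧ St A f φ h ≠ c • h := by
  obtain ⟨h, hφ, hne⟩ := hh
  refine ⟨h, hφ, ?_⟩
  intro hSt
  unfold St at hSt
  have h3 : (A - c • (1 : Matrix (Fin n) (Fin n) K)) *ᵥ h = (φ ⬝ᵥ (A *ᵥ h)) • (A *ᵥ f) := by
    rw [sub_mulVec, smul_mulVec, one_mulVec, ← hSt]
    abel
  by_cases hl : φ ⬝ᵥ (A *ᵥ h) = 0
  · rw [hl, zero_smul] at h3
    exact hne h3
  · -- `A f = (A - c) ((φ(Ah))⁻¹ h)`
    have h4 : A *ᵥ f = (A - c • (1 : Matrix (Fin n) (Fin n) K)) *ᵥ ((φ ⬝ᵥ (A *ᵥ h))⁻¹ • h) := by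
      rw [mulVec_smul, h3, smul_smul, inv_mul_cancel₀ hl, one_smul]
    have h5 : (A - c • (1 : Matrix (Fin n) (Fin n) K)) *ᵥ f = A *ᵥ f - c • f := by
      rw [sub_mulVec, smul_mulVec, one_mulVec]
    apply hf (c⁻¹ • ((φ ⬝ᵥ (A *ᵥ h))⁻¹ • h - f))
    rw [mulVec_smul, mulVec_sub, ← h4, h5]
    have : A *ᵥ f - (A *ᵥ f - c • f) = c • f := by abel
    rw [this, smul_smul, inv_mul_cancel₀ hc, one_smul]

end Cfsg.Agent.Helper44.LU
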