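import Mathlib
import Cfsg.Agent.Lib.Helper44.LUDefs

set_option autoImplicit false

namespace Cfsg.Agent.Helper44.LU

open Matrix

variable {K : Type*} [Field K]

/- Common computation: write `N := A - 1`. For `h` with `φ ⬝ᵥ h = 0`:
`St A f φ h - h = N h - (φ ⬝ᵥ (N h)) • A f =: π (N h)` where `π v := v - (φ ⬝ᵥ v) • A f`.
`π v = 0` forces `v ∈ K • A f`. Let `H := ker φ`; `K^n = H + K f` (as `φ f = 1`), so `dim N(H) ≥ rank N - 1`. -/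

/-- if every `N *ᵥ v` lies in the span of `k` vectors then `rank N ≤ k` -/
theorem c2_rank_le {n k : ℕ} (N : Matrix (Fin n) (Fin n) K) (b : Fin k → (Fin n → K))
    (h : ∀ v, N *ᵥ v ∈ Submodule.span K (Set.range b)) : N.rank ≤ k := by
  have h1 : LinearMap.range N.mulVecLin ≤ Submodule.span K (Set.range b) := by
    rintro _ ⟨v, rfl⟩
    exact h v
  calc N.rank = Module.finrank K (LinearMap.range N.mulVecLin) := rfl
    _ ≤ Module.finrank K (Submodule.span K (Set.range b)) := Submodule.finrank_mono h1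
    _ ≤ Fintype.card (Fin k) := finrank_range_le_card b
    _ = k := Fintype.card_fin k

/-- the map `h ↦ St A f φ h - h` -/
def c2g {n : ℕ} (A : Matrix (Fin n) (Fin n) K) (f φ h : Fin n → K) : Fin n → K :=
  St A f φ h - h

theorem c2g_zero {n : ℕ} (A : Matrix (Fin n) (Fin n) K) (f φ : Fin n → K) :
    c2g A f φ 0 = 0 := by
  unfold c2g St
  simp

theorem c2g_sub_smul {n : ℕ} (A : Matrix (Fin n) (Fin n) K) (f φ h h₀ : Fin n → K) (a : K) :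
    c2g A f φ (h - a • h₀) = c2g A f φ h - a • c2g A f φ h₀ := by
  unfold c2g St
  simp only [mulVec_sub, mulVec_smul, dotProduct_sub, dotProduct_smul, sub_smul, smul_sub, smul_smul,
    smul_eq_mul]
  abel

/-- `N h = g h + φ(A h) • A f` -/
theorem c2_N_eq {n : ℕ} (A : Matrix (Fin n) (Fin n) K) (f φ h : Fin n → K) :
    (A - 1) *ᵥ h = c2g A f φ h + (φ ⬝ᵥ (A *ᵥ h)) • (A *ᵥ f) := by
  unfold c2g St
  rw [sub_mulVec, one_mulVec]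
  abel

/-- `N v = N (v - φ(v) f) + φ(v) • N f` -/
theorem c2_N_split {n : ℕ} (N : Matrix (Fin n) (Fin n) K) (f φ v : Fin n → K) :
    N *ᵥ v = N *ᵥ (v - (φ ⬝ᵥ v) • f) + (φ ⬝ᵥ v) • (N *ᵥ f) := by
  rw [← mulVec_smul, ← mulVec_add]
  congr 1
  abel

theorem c2_proj_mem {n : ℕ} (f φ v : Fin n → K) (h1 : φ ⬝ᵥ f = 1) :
    φ ⬝ᵥ (v - (φ ⬝ᵥ v) • f) = 0 := by
  rw [dotProduct_sub, dotProduct_smul, h1, smul_eq_mul, mul_one, sub_self]

/-- if no two values `g h₁, g h₂` (`h_i ∈ ker φ`) are independent, all values are multiples of one of them -/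
theorem c2_exists_dir {n : ℕ} (A : Matrix (Fin n) (Fin n) K) (f φ : Fin n → K)
    (hcon : ¬ ∃ h₁ h₂, φ ⬝ᵥ h₁ = 0 ∧ φ ⬝ᵥ h₂ = 0 ∧
      LinearIndependent K ![St A f φ h₁ - h₁, St A f φ h₂ - h₂]) :
    ∃ h₀, φ ⬝ᵥ h₀ = 0 ∧ ∀ h, φ ⬝ᵥ h = 0 → ∃ a : K, c2g A f φ h = a • c2g A f φ h₀ := by
  by_cases hz : ∀ h, φ ⬝ᵥ h = 0 → c2g A f φ h = 0
  · refine ⟨0, dotProduct_zero φ, fun h hh => ⟨0, ?_⟩⟩
    rw [hz h hh, zero_smul]
  · obtain ⟨h₀, hz⟩ := not_forall.1 hz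
    obtain ⟨hh₀, hne⟩ := Classical.not_imp.1 hz
    refine ⟨h₀, hh₀, fun h hh => ?_⟩
    by_contra hno
    apply hcon
    refine ⟨h₀, h, hh₀, hh, ?_⟩
    rw [LinearIndependent.pair_iff' (show St A f φ h₀ - h₀ ≠ 0 from hne)]
    intro a ha
    exact hno ⟨a, ha.symm⟩

/-- (C3) `rank N ≥ 4`: `dim N(H) ≥ 3`, `ker π` is at most one-dimensional, so `dim π(N(H)) ≥ 2`. -/
theorem rk_of_four_le {n : ℕ} (A : Matrix (Fin n) (Fin n) K) (f φ : Fin n → K)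
    (h1 : φ ⬝ᵥ f = 1) (h2 : φ ⬝ᵥ (A *ᵥ f) = 1) (hr : 4 ≤ (A - 1).rank) :
    ∃ h₁ h₂, φ ⬝ᵥ h₁ = 0 ∧ φ ⬝ᵥ h₂ = 0 ∧
      LinearIndependent K ![St A f φ h₁ - h₁, St A f φ h₂ - h₂] := by
  by_contra hcon
  obtain ⟨h₀, -, hdir⟩ := c2_exists_dir A f φ hcon
  have hle : (A - 1 : Matrix (Fin n) (Fin n) K).rank ≤ 3 := by
    apply c2_rank_le _ ![c2g A f φ h₀, A *ᵥ f, (A - 1 : Matrix (Fin n) (Fin n) K) *ᵥ f]
    intro v
    obtain ⟨a, ha⟩ := hdir _ (c2_proj_mem f φ v h1)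
    rw [c2_N_split (A - 1) f φ v, c2_N_eq A f φ (v - (φ ⬝ᵥ v) • f), ha]
    refine Submodule.add_mem _ (Submodule.add_mem _
      (Submodule.smul_mem _ _ (Submodule.subset_span ⟨0, rfl⟩))
      (Submodule.smul_mem _ _ (Submodule.subset_span ⟨1, rfl⟩)))
      (Submodule.smul_mem _ _ (Submodule.subset_span ⟨2, rfl⟩))
  omega

/-- for `h ∈ ker φ` with `g h = 0` and `f ∉ range N`: `N h = 0` -/
theorem c2_N_eq_zero {n : ℕ} (A : Matrix (Fin n) (Fin n) K) (f φ h : Fin n → K)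
    (hf : ∀ v, (A - 1) *ᵥ v ≠ f) (hg : c2g A f φ h = 0) : (A - 1) *ᵥ h = 0 := by
  have h3 := c2_N_eq A f φ h
  rw [hg, zero_add] at h3
  by_cases hl : φ ⬝ᵥ (A *ᵥ h) = 0
  · rw [hl, zero_smul] at h3
    exact h3
  · exfalso
    have h4 : A *ᵥ f = (A - 1 : Matrix (Fin n) (Fin n) K) *ᵥ ((φ ⬝ᵥ (A *ᵥ h))⁻¹ • h) := by
      rw [mulVec_smul, h3, smul_smul, inv_mul_cancel₀ hl, one_smul]
    have h5 : (A - 1 : Matrix (Fin n) (Fin n) K) *ᵥ f = A *ᵥ f - f := by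
      rw [sub_mulVec, one_mulVec]
    apply hf ((φ ⬝ᵥ (A *ᵥ h))⁻¹ • h - f)
    rw [mulVec_sub, ← h4, h5]
    abel

/-- (C4) `rank N ≥ 3` and `f ∉ range N`: then `A f = f + N f ∉ range N`, so `π` is injective on `range N`
(`π v = 0`, `v ∈ range N` gives `v = (φ v) • A f`, hence `φ v = 0` and `v = 0`); `dim N(H) ≥ 2`. -/
theorem rk_of_three_le {n : ℕ} (A : Matrix (Fin n) (Fin n) K) (f φ : Fin n → K)
    (h1 : φ ⬝ᵥ f = 1) (h2 : φ ⬝ᵥ (A *ᵥ f) = 1) (hr : 3 ≤ (A - 1).rank)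
    (hf : ∀ v, (A - 1) *ᵥ v ≠ f) :
    ∃ h₁ h₂, φ ⬝ᵥ h₁ = 0 ∧ φ ⬝ᵥ h₂ = 0 ∧
      LinearIndependent K ![St A f φ h₁ - h₁, St A f φ h₂ - h₂] := by
  by_contra hcon
  obtain ⟨h₀, hh₀, hdir⟩ := c2_exists_dir A f φ hcon
  have hle : (A - 1 : Matrix (Fin n) (Fin n) K).rank ≤ 2 := by
    apply c2_rank_le _ ![(A - 1 : Matrix (Fin n) (Fin n) K) *ᵥ h₀,
      (A - 1 : Matrix (Fin n) (Fin n) K) *ᵥ f]
    intro v
    obtain ⟨a, ha⟩ := hdir _ (c2_proj_mem f φ v h1)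
    have hg : c2g A f φ ((v - (φ ⬝ᵥ v) • f) - a • h₀) = 0 := by
      rw [c2g_sub_smul, ha, sub_self]
    have h0 := c2_N_eq_zero A f φ _ hf hg
    rw [mulVec_sub, mulVec_smul, sub_eq_zero] at h0
    rw [c2_N_split (A - 1) f φ v, h0]
    refine Submodule.add_mem _
      (Submodule.smul_mem _ _ (Submodule.subset_span ⟨0, rfl⟩))
      (Submodule.smul_mem _ _ (Submodule.subset_span ⟨1, rfl⟩))
  omega

end Cfsg.Agent.Helper44.LU
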