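import Mathlib
import Cfsg.Agent.Lib.Helper44.LUDefs

set_option autoImplicit false

namespace Cfsg.Agent.Helper44.LU

open Matrix

variable {K : Type*} [Field K]

/- Common computation: write `N := A - 1`. For `h` with `φ ⬝ᵥ h = 0`:
`St A f φ h - h = N h - (φ ⬝ᵥ (N h)) • A f =: π (N h)` where `π v := v - (φ ⬝ᵥ v) • A f`.
`π v = 0` forces `v ∈ K • A f`. -/

theorem c3_st_sub {n : ℕ} (A : Matrix (Fin n) (Fin n) K) (f φ h : Fin n → K) (hh : φ ⬝ᵥ h = 0) :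
    St A f φ h - h = (A - 1) *ᵥ h - (φ ⬝ᵥ ((A - 1) *ᵥ h)) • (A *ᵥ f) := by
  unfold St
  rw [Matrix.sub_mulVec, Matrix.one_mulVec, dotProduct_sub, hh, sub_zero]
  abel

theorem c3_main {n : ℕ} (A : Matrix (Fin n) (Fin n) K) (f φ h₁ h₂ : Fin n → K)
    (hh₁ : φ ⬝ᵥ h₁ = 0) (hh₂ : φ ⬝ᵥ h₂ = 0)
    (hli : LinearIndependent K ![(A - 1) *ᵥ h₁, (A - 1) *ᵥ h₂])
    (hker : ∀ h, φ ⬝ᵥ h = 0 → (A - 1) *ᵥ h = (φ ⬝ᵥ ((A - 1) *ᵥ h)) • (A *ᵥ f) →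
      (A - 1) *ᵥ h = 0) :
    LinearIndependent K ![St A f φ h₁ - h₁, St A f φ h₂ - h₂] := by
  rw [LinearIndependent.pair_iff] at hli ⊢
  intro s t hst
  rw [c3_st_sub A f φ h₁ hh₁, c3_st_sub A f φ h₂ hh₂] at hst
  have hφ : φ ⬝ᵥ (s • h₁ + t • h₂) = 0 := by
    rw [dotProduct_add, dotProduct_smul, dotProduct_smul, hh₁, hh₂]; simp
  have hN : (A - 1) *ᵥ (s • h₁ + t • h₂) = s • (A - 1) *ᵥ h₁ + t • (A - 1) *ᵥ h₂ := by
    rw [Matrix.mulVec_add, Matrix.mulVec_smul, Matrix.mulVec_smul]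
  have h0 := hker (s • h₁ + t • h₂) hφ (by
    rw [hN, dotProduct_add, dotProduct_smul, dotProduct_smul]
    rw [← sub_eq_zero, ← hst]
    simp only [smul_eq_mul]
    module)
  rw [hN] at h0
  exact hli s t h0

/-- (C5) `rank N ≥ 2`, `f ∉ range N`, and `φ k ≠ 0` for some `k ∈ ker N`: then `K^n = ker φ + K k`, so
`N(ker φ) = range N` has dimension `≥ 2`, and `π` is injective on `range N` (as `A f = f + N f ∉ range N`). -/
theorem rk_of_two_le {n : ℕ} (A : Matrix (Fin n) (Fin n) K) (f φ : Fin n → K)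
    (h1 : φ ⬝ᵥ f = 1) (h2 : φ ⬝ᵥ (A *ᵥ f) = 1) (hr : 2 ≤ (A - 1).rank)
    (hf : ∀ v, (A - 1) *ᵥ v ≠ f) (hk : ∃ k, (A - 1) *ᵥ k = 0 ∧ φ ⬝ᵥ k ≠ 0) :
    ∃ h₁ h₂, φ ⬝ᵥ h₁ = 0 ∧ φ ⬝ᵥ h₂ = 0 ∧
      LinearIndependent K ![St A f φ h₁ - h₁, St A f φ h₂ - h₂] := by
  obtain ⟨k, hNk, hφk⟩ := hk
  -- two independent vectors in the range of `N`
  rw [Matrix.rank] at hr
  obtain ⟨g, hg⟩ := exists_linearIndependent_of_le_finrank hr
  have hg' : LinearIndependent K (fun i => ((g i : LinearMap.range (A - 1).mulVecLin) : Fin n → K)) :=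
    hg.map' (LinearMap.range (A - 1).mulVecLin).subtype (Submodule.ker_subtype _)
  obtain ⟨v₁, hv₁⟩ := (g 0).2
  obtain ⟨v₂, hv₂⟩ := (g 1).2
  rw [Matrix.mulVecLin_apply] at hv₁ hv₂
  -- correct by multiples of `k`
  have hcorr : ∀ v : Fin n → K, φ ⬝ᵥ (v - ((φ ⬝ᵥ v) / (φ ⬝ᵥ k)) • k) = 0 ∧
      (A - 1) *ᵥ (v - ((φ ⬝ᵥ v) / (φ ⬝ᵥ k)) • k) = (A - 1) *ᵥ v := by
    intro v
    constructor
    · rw [dotProduct_sub, dotProduct_smul, smul_eq_mul, div_mul_cancel₀ _ hφk, sub_self]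
    · rw [Matrix.mulVec_sub, Matrix.mulVec_smul, hNk, smul_zero, sub_zero]
  refine ⟨v₁ - ((φ ⬝ᵥ v₁) / (φ ⬝ᵥ k)) • k, v₂ - ((φ ⬝ᵥ v₂) / (φ ⬝ᵥ k)) • k,
    (hcorr v₁).1, (hcorr v₂).1, ?_⟩
  apply c3_main A f φ _ _ (hcorr v₁).1 (hcorr v₂).1
  · rw [(hcorr v₁).2, (hcorr v₂).2, hv₁, hv₂]
    convert hg' using 1
    ext i j
    fin_cases i <;> rfl
  · intro h hh hN
    by_cases ht : φ ⬝ᵥ ((A - 1) *ᵥ h) = 0
    · rw [hN, ht, zero_smul]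
    · exfalso
      obtain ⟨t, ht'⟩ : ∃ t, t = φ ⬝ᵥ ((A - 1) *ᵥ h) := ⟨_, rfl⟩
      rw [← ht'] at hN ht
      apply hf (t⁻¹ • h - f)
      rw [Matrix.mulVec_sub, Matrix.mulVec_smul, hN, smul_smul, inv_mul_cancel₀ ht, one_smul,
        Matrix.sub_mulVec, Matrix.one_mulVec]
      abel

/-- (C6) `n = 3`, `N` invertible, `N g = A f`, `φ g ≠ 0`: `N(ker φ)` is 2-dimensional and `π` is injective on it:
`π (N h) = 0` with `φ(N h) ≠ 0` gives `A f = N h'` with `h' ∈ ker φ`, so `h' = g`, contradicting `φ g ≠ 0`. -/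
theorem rk_of_inv_three (A : Matrix (Fin 3) (Fin 3) K) (f φ g : Fin 3 → K)
    (h1 : φ ⬝ᵥ f = 1) (h2 : φ ⬝ᵥ (A *ᵥ f) = 1) (hdet : (A - 1).det ≠ 0)
    (hg : (A - 1) *ᵥ g = A *ᵥ f) (hφg : φ ⬝ᵥ g ≠ 0) :
    ∃ h₁ h₂, φ ⬝ᵥ h₁ = 0 ∧ φ ⬝ᵥ h₂ = 0 ∧
      LinearIndependent K ![St A f φ h₁ - h₁, St A f φ h₂ - h₂] := by
  have hinj : Function.Injective (A - 1).mulVec :=
    Matrix.mulVec_injective_iff_isUnit.mpr ((Matrix.isUnit_iff_isUnit_det _).mpr hdet.isUnit)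
  -- the functional `φ` as a linear map
  let Φ : (Fin 3 → K) →ₗ[K] K :=
    { toFun := fun v => φ ⬝ᵥ v
      map_add' := fun v w => dotProduct_add φ v w
      map_smul' := fun c v => by simp [dotProduct_smul] }
  have hker2 : 2 ≤ Module.finrank K (LinearMap.ker Φ) := by
    have h3 := LinearMap.finrank_range_add_finrank_ker Φ
    have hr : Module.finrank K (LinearMap.range Φ) ≤ 1 := by
      have := Submodule.finrank_le (LinearMap.range Φ)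
      simpa using this
    have : Module.finrank K (Fin 3 → K) = 3 := by simp
    omega
  obtain ⟨b, hb⟩ := exists_linearIndependent_of_le_finrank hker2
  have hb' : LinearIndependent K (fun i => ((b i : LinearMap.ker Φ) : Fin 3 → K)) :=
    hb.map' (LinearMap.ker Φ).subtype (Submodule.ker_subtype _)
  have hb0 : φ ⬝ᵥ (b 0 : Fin 3 → K) = 0 := (b 0).2
  have hb1 : φ ⬝ᵥ (b 1 : Fin 3 → K) = 0 := (b 1).2
  refine ⟨(b 0 : Fin 3 → K), (b 1 : Fin 3 → K), hb0, hb1, ?_⟩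
  apply c3_main A f φ _ _ hb0 hb1
  · have hli2 : LinearIndependent K (fun i => (A - 1).mulVecLin ((b i : LinearMap.ker Φ) : Fin 3 → K)) := by
      apply hb'.map' (A - 1).mulVecLin
      rw [LinearMap.ker_eq_bot]
      exact hinj
    convert hli2 using 1
    ext i j
    fin_cases i <;> rfl
  · intro h hh hN
    rw [← hg, ← Matrix.mulVec_smul] at hN
    have hh' : h = (φ ⬝ᵥ ((A - 1) *ᵥ h)) • g := hinj hN
    have ht : φ ⬝ᵥ ((A - 1) *ᵥ h) = 0 := by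
      have : φ ⬝ᵥ h = (φ ⬝ᵥ ((A - 1) *ᵥ h)) * (φ ⬝ᵥ g) := by
        conv_lhs => rw [hh']
        rw [dotProduct_smul, smul_eq_mul]
      rw [hh] at this
      rcases mul_eq_zero.mp this.symm with h0 | h0
      · exact h0
      · exact absurd h0 hφg
    rw [hN, ht, zero_smul, Matrix.mulVec_zero]

end Cfsg.Agent.Helper44.LU
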