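import Mathlib

set_option autoImplicit false

namespace Cfsg.Agent.Helper44.LU

open Matrix

variable {K : Type*} [Field K]

/-- explicit Cayley-Hamilton for `3 × 3` matrices -/
theorem c4_cayley (A : Matrix (Fin 3) (Fin 3) K) :
    A * A * A = (A 0 0 + A 1 1 + A 2 2) • (A * A)
      - ((A 0 0 * A 1 1 - A 0 1 * A 1 0) + (A 0 0 * A 2 2 - A 0 2 * A 2 0)
          + (A 1 1 * A 2 2 - A 1 2 * A 2 1)) • A
      + A.det • (1 : Matrix (Fin 3) (Fin 3) K) := by
  ext i j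
  fin_cases i <;> fin_cases j <;>
    simp [Matrix.mul_apply, Fin.sum_univ_three, Matrix.det_fin_three] <;> ring

theorem c4_det_sub_one (A : Matrix (Fin 3) (Fin 3) K) :
    (A - 1).det = A.det
      - ((A 0 0 * A 1 1 - A 0 1 * A 1 0) + (A 0 0 * A 2 2 - A 0 2 * A 2 0)
          + (A 1 1 * A 2 2 - A 1 2 * A 2 1))
      + (A 0 0 + A 1 1 + A 2 2) - 1 := by
  simp [Matrix.det_fin_three]
  ring

/-- (C7) Sketch: suppose `A = c N²`, `N = A - 1`. Then `c ≠ 0` and `A² - τ A + 1 = 0` with `τ = 2 + 1/c`.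
Cayley-Hamilton for 3×3 with `det A = 1`: `A³ - e₁ A² + e₂ A - 1 = 0` (`e₁ = trace`, `e₂ = trace (adjugate A)`).
Substituting `A² = τ A - 1`, `A³ = (τ² - 1) A - τ` gives `(τ² - 1 - e₁ τ + e₂) A = (τ - e₁ + 1) • 1`; `A` non-scalar
forces both coefficients to vanish, so `e₁ = e₂ = τ + 1`, hence `det (1 - A) = charpoly(1) = 1 - e₁ + e₂ - 1 = 0`,
contradicting `hN`. -/
theorem nonscalar_aux_three (A : Matrix (Fin 3) (Fin 3) K) (hdet : A.det = 1)
    (hN : (A - 1).det ≠ 0) (hA : ∀ c : K, A ≠ c • (1 : Matrix (Fin 3) (Fin 3) K)) (c : K) :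
    A ≠ c • ((A - 1) * (A - 1)) := by
  intro h
  have hc : c ≠ 0 := by
    rintro rfl
    rw [zero_smul] at h
    rw [h] at hdet
    simp at hdet
  have CH := c4_cayley A
  have hD := c4_det_sub_one A
  rw [hdet] at CH hD
  generalize (A 0 0 + A 1 1 + A 2 2) = e₁ at CH hD
  generalize ((A 0 0 * A 1 1 - A 0 1 * A 1 0) + (A 0 0 * A 2 2 - A 0 2 * A 2 0)
          + (A 1 1 * A 2 2 - A 1 2 * A 2 1)) = e₂ at CH hD
  have hsq : (A - 1) * (A - 1) = A * A - (2 : K) • A + 1 := by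
    rw [sub_mul, mul_sub, mul_one, one_mul, two_smul]
    abel
  have hAA : A * A = (2 + c⁻¹) • A - 1 := by
    have h' : c⁻¹ • A = (A - 1) * (A - 1) := by
      conv_lhs => rw [h]
      rw [smul_smul, inv_mul_cancel₀ hc, one_smul]
    rw [hsq] at h'
    rw [add_smul, h']
    abel
  have hAAA : A * A * A = ((2 + c⁻¹) ^ 2 - 1) • A - (2 + c⁻¹) • (1 : Matrix (Fin 3) (Fin 3) K) := by
    rw [hAA, sub_mul, one_mul, smul_mul_assoc, hAA, smul_sub, smul_smul, sub_smul, one_smul, pow_two]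
    abel
  rw [hAAA, hAA] at CH
  set τ : K := 2 + c⁻¹ with hτ
  have key : (τ ^ 2 - 1 - e₁ * τ + e₂) • A = (τ - e₁ + 1) • (1 : Matrix (Fin 3) (Fin 3) K) := by
    have : (τ ^ 2 - 1 - e₁ * τ + e₂) • A - (τ - e₁ + 1) • (1 : Matrix (Fin 3) (Fin 3) K)
        = ((τ ^ 2 - 1) • A - τ • (1 : Matrix (Fin 3) (Fin 3) K))
          - (e₁ • (τ • A - 1) - e₂ • A + (1 : K) • (1 : Matrix (Fin 3) (Fin 3) K)) := by
      module
    rw [← sub_eq_zero, this, sub_eq_zero]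
    exact CH
  by_cases hα : τ ^ 2 - 1 - e₁ * τ + e₂ = 0
  · rw [hα, zero_smul] at key
    have hβ : τ - e₁ + 1 = 0 := by
      have := congrFun (congrFun key 0) 0
      simpa using this.symm
    apply hN
    rw [hD]
    have he₁ : e₁ = τ + 1 := by linear_combination -hβ
    have he₂ : e₂ = τ + 1 := by
      rw [he₁] at hα
      linear_combination hα
    rw [he₁, he₂]; ring
  · apply hA ((τ ^ 2 - 1 - e₁ * τ + e₂)⁻¹ * (τ - e₁ + 1))
    rw [mul_smul, ← key, smul_smul, inv_mul_cancel₀ hα, one_smul]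

end Cfsg.Agent.Helper44.LU
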