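import Mathlib
import Cfsg.Agent.Lib.Helper44.LUDefs

set_option autoImplicit false

namespace Cfsg.Agent.Helper44.LU

open Matrix

variable {K : Type*} [Field K]

/-- the vectors `X ^ t e_{n-1}`, `X = U - 1` -/
def f1_w {n : ℕ} (U : Matrix (Fin n) (Fin n) K) (hn : 0 < n) : ℕ → (Fin n → K)
  | 0 => Pi.single (⟨n - 1, by omega⟩ : Fin n) 1
  | t + 1 => (U - 1) *ᵥ (f1_w U hn t)

theorem f1_w_succ {n : ℕ} (U : Matrix (Fin n) (Fin n) K) (hn : 0 < n) (t : ℕ) :
    f1_w U hn (t + 1) = (U - 1) *ᵥ (f1_w U hn t) := rfl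

theorem f1_X_zero {n : ℕ} {U : Matrix (Fin n) (Fin n) K} (hU : UpReg U) (k m : Fin n)
    (h : m ≤ k) : (U - 1) k m = 0 := by
  rcases lt_or_eq_of_le h with h1 | h1
  · rw [Matrix.sub_apply, hU.1 k m h1, Matrix.one_apply_ne (ne_of_gt h1), sub_zero]
  · subst h1
    rw [Matrix.sub_apply, hU.2.1 m, Matrix.one_apply_eq, sub_self]

theorem f1_w_zero {n : ℕ} {U : Matrix (Fin n) (Fin n) K} (hU : UpReg U) (hn : 0 < n) :
    ∀ (t : ℕ) (k : Fin n), n ≤ k.val + t → f1_w U hn t k = 0
  | 0, k, h => by
    have := k.isLt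
    omega
  | t + 1, k, h => by
    rw [f1_w_succ, Matrix.mulVec, dotProduct]
    apply Finset.sum_eq_zero
    intro m _
    by_cases hmk : m ≤ k
    · rw [f1_X_zero hU k m hmk, zero_mul]
    · have h1 : k < m := not_le.1 hmk
      have h2 : k.val < m.val := Fin.lt_def.1 h1
      rw [f1_w_zero hU hn t m (by omega), mul_zero]

theorem f1_w_ne_zero {n : ℕ} {U : Matrix (Fin n) (Fin n) K} (hU : UpReg U) (hn : 0 < n) :
    ∀ (t : ℕ) (k : Fin n), k.val + t + 1 = n → f1_w U hn t k ≠ 0
  | 0, k, h => by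
    have hk : k = (⟨n - 1, by omega⟩ : Fin n) := Fin.ext (by simp; omega)
    have h1 : f1_w U hn 0 k = 1 := by
      show (Pi.single (⟨n - 1, by omega⟩ : Fin n) (1 : K) : Fin n → K) k = 1
      rw [Pi.single_apply, if_pos hk]
    rw [h1]
    exact one_ne_zero
  | t + 1, k, h => by
    rw [f1_w_succ, Matrix.mulVec, dotProduct]
    have hk1 : k.val + 1 < n := by omega
    rw [Finset.sum_eq_single (⟨k.val + 1, hk1⟩ : Fin n)]
    · apply mul_ne_zero
      · rw [Matrix.sub_apply, Matrix.one_apply_ne (by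
          intro he
          have := congrArg Fin.val he
          simp at this)]
        rw [sub_zero]
        exact hU.2.2 k ⟨k.val + 1, hk1⟩ rfl
      · exact f1_w_ne_zero hU hn t ⟨k.val + 1, hk1⟩ (by simp; omega)
    · intro m _ hm
      by_cases hmk : m ≤ k
      · rw [f1_X_zero hU k m hmk, zero_mul]
      · have h1 : k < m := not_le.1 hmk
        have h2 : k.val < m.val := Fin.lt_def.1 h1
        have h3 : m.val ≠ k.val + 1 := fun he => hm (Fin.ext he)
        rw [f1_w_zero hU hn t m (by omega), mul_zero]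
    · intro hnot
      exact absurd (Finset.mem_univ _) hnot

/-- the conjugating matrix: column `i` is `X ^ (n - 1 - i) e_{n-1}` -/
def f1_x {n : ℕ} (U : Matrix (Fin n) (Fin n) K) (hn : 0 < n) : Matrix (Fin n) (Fin n) K :=
  Matrix.of (fun k i => f1_w U hn (n - 1 - i.val) k)

theorem f1_x_apply {n : ℕ} (U : Matrix (Fin n) (Fin n) K) (hn : 0 < n) (k i : Fin n) :
    f1_x U hn k i = f1_w U hn (n - 1 - i.val) k := rfl

theorem f1_x_det {n : ℕ} {U : Matrix (Fin n) (Fin n) K} (hU : UpReg U) (hn : 0 < n) :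
    (f1_x U hn).det ≠ 0 := by
  have htri : (f1_x U hn).BlockTriangular id := by
    intro k i hik
    have h1 : i.val < k.val := Fin.lt_def.1 hik
    rw [f1_x_apply]
    exact f1_w_zero hU hn _ k (by have := k.isLt; omega)
  rw [Matrix.det_of_isUpperTriangular htri]
  apply Finset.prod_ne_zero_iff.2
  intro i _
  rw [f1_x_apply]
  exact f1_w_ne_zero hU hn _ i (by have := i.isLt; omega)

/-- matrix form of (F1) -/
theorem f1_matrix {n : ℕ} (J U : Matrix (Fin n) (Fin n) K)
    (hJ : ∀ i j : Fin n, J i j = if i = j then 1 else if j.val = i.val + 1 then 1 else 0)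
    (hU : UpReg U) (hn : 0 < n) : U * f1_x U hn = f1_x U hn * J := by
  ext k i
  -- left side
  have hL : (U * f1_x U hn) k i =
      f1_w U hn (n - 1 - i.val + 1) k + f1_w U hn (n - 1 - i.val) k := by
    rw [f1_w_succ]
    have h0 : U * f1_x U hn = (U - 1) * f1_x U hn + f1_x U hn := by
      rw [Matrix.sub_mul, Matrix.one_mul]
      abel
    rw [h0, Matrix.add_apply, f1_x_apply]
    congr 1
  -- right side
  have hJ' : ∀ m : Fin n, J m i = (if m = i then (1 : K) else 0) +
      (if i.val = m.val + 1 then (1 : K) else 0) := by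
    intro m
    rw [hJ m i]
    by_cases h1 : m = i
    · subst h1
      simp
    · simp [h1]
  have hR : (f1_x U hn * J) k i = f1_w U hn (n - 1 - i.val) k +
      ∑ m : Fin n, f1_x U hn k m * (if i.val = m.val + 1 then (1 : K) else 0) := by
    rw [Matrix.mul_apply]
    simp_rw [hJ', mul_add]
    rw [Finset.sum_add_distrib]
    congr 1
    simp [f1_x_apply]
  rw [hL, hR, add_comm]
  congr 1
  -- the remaining sum
  rcases Nat.eq_zero_or_pos i.val with hi | hi
  · rw [Finset.sum_eq_zero]
    · have : n - 1 - i.val + 1 = n := by omega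
      rw [this]
      exact f1_w_zero hU hn n k (by omega)
    · intro m _
      rw [if_neg (by omega), mul_zero]
  · have hi1 : i.val - 1 < n := by have := i.isLt; omega
    rw [Finset.sum_eq_single (⟨i.val - 1, hi1⟩ : Fin n)]
    · rw [if_pos (by simp; omega), mul_one, f1_x_apply]
      congr 1
      have := i.isLt
      simp
      omega
    · intro m _ hm
      have : i.val ≠ m.val + 1 := by
        intro he
        apply hm
        apply Fin.ext
        simp
        omega
      rw [if_neg this, mul_zero]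
    · intro hnot
      exact absurd (Finset.mem_univ _) hnot

/-- (F1) An upper unitriangular matrix with nonzero superdiagonal is conjugate to the Jordan block `J`.
Sketch: let `X := U - 1` (strictly upper triangular, `X e_j ∈ span (e_0..e_{j-1})` with `e_{j-1}`-coefficient `U (j-1) j ≠ 0`).
Let `x` be the matrix with columns `x e_i := X^(n-1-i) e_{n-1}`; it is upper triangular with nonzero diagonal
(products of superdiagonal entries), hence invertible. `U (x e_i) = x e_i + x e_{i-1}` for `i ≥ 1`, `U (x e_0) = x e_0`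
(`X^n = 0`), and `J e_i = e_i + e_{i-1}`, `J e_0 = e_0`; so `U x = x J`. -/
theorem conj_of_upReg {n : ℕ} (J U : GL (Fin n) K)
    (hJ : ∀ i j : Fin n, (J : Matrix (Fin n) (Fin n) K) i j =
      if i = j then 1 else if j.val = i.val + 1 then 1 else 0)
    (hU : UpReg (U : Matrix (Fin n) (Fin n) K)) :
    ∃ x : GL (Fin n) K, U = x * J * x⁻¹ := by
  rcases Nat.eq_zero_or_pos n with hn | hn
  · subst hn
    refine ⟨1, ?_⟩
    apply Units.ext
    ext i
    exact i.elim0
  · refine ⟨Matrix.GeneralLinearGroup.mkOfDetNeZero (f1_x (U : Matrix (Fin n) (Fin n) K) hn)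
      (f1_x_det hU hn), ?_⟩
    rw [eq_mul_inv_iff_mul_eq]
    apply Units.ext
    rw [Units.val_mul, Units.val_mul]
    exact f1_matrix _ _ hJ hU hn

end Cfsg.Agent.Helper44.LU
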