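import Mathlib
import Cfsg.Agent.Lib.Helper44.LUDefs
import Cfsg.Agent.Lib.Helper44.LUF1

set_option autoImplicit false

namespace Cfsg.Agent.Helper44.LU

open Matrix

variable {K : Type*} [Field K]

theorem f2_upReg_rev {n : ℕ} {L : Matrix (Fin n) (Fin n) K} (hL : LowReg L) :
    UpReg (L.submatrix Fin.rev Fin.rev) := by
  refine ⟨?_, ?_, ?_⟩
  · intro i j hji
    rw [Matrix.submatrix_apply]
    exact hL.1 _ _ (Fin.rev_lt_rev.2 hji)
  · intro i
    rw [Matrix.submatrix_apply]
    exact hL.2.1 _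
  · intro i j hij
    rw [Matrix.submatrix_apply]
    apply hL.2.2
    rw [Fin.val_rev, Fin.val_rev]
    have := j.isLt
    omega

/-- matrix form of (F2) -/
theorem f2_matrix {n : ℕ} (J L : Matrix (Fin n) (Fin n) K)
    (hJ : ∀ i j : Fin n, J i j = if i = j then 1 else if j.val = i.val + 1 then 1 else 0)
    (hL : LowReg L) (hn : 0 < n) :
    L * (f1_x (L.submatrix Fin.rev Fin.rev) hn).submatrix Fin.revPerm id =
      (f1_x (L.submatrix Fin.rev Fin.rev) hn).submatrix Fin.revPerm id * J := by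
  have h1 := f1_matrix J (L.submatrix Fin.rev Fin.rev) hJ (f2_upReg_rev hL) hn
  have hLL : L = (L.submatrix Fin.rev Fin.rev).submatrix Fin.rev Fin.revPerm := by
    ext i j
    simp [Matrix.submatrix_apply]
  have hJJ : J = J.submatrix (Equiv.refl (Fin n)) id := by
    ext i j
    simp
  have e1 : L * (f1_x (L.submatrix Fin.rev Fin.rev) hn).submatrix Fin.revPerm id =
      (L.submatrix Fin.rev Fin.rev * f1_x (L.submatrix Fin.rev Fin.rev) hn).submatrix
        Fin.rev id := by
    have h2 := Matrix.submatrix_mul_equiv (L.submatrix Fin.rev Fin.rev)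
      (f1_x (L.submatrix Fin.rev Fin.rev) hn) Fin.rev Fin.revPerm id
    rw [← hLL] at h2
    exact h2
  have e2 : (f1_x (L.submatrix Fin.rev Fin.rev) hn).submatrix Fin.revPerm id * J =
      (f1_x (L.submatrix Fin.rev Fin.rev) hn * J).submatrix Fin.rev id := by
    have h2 := Matrix.submatrix_mul_equiv (f1_x (L.submatrix Fin.rev Fin.rev) hn) J Fin.rev
      (Equiv.refl (Fin n)) id
    rw [← hJJ] at h2
    exact h2
  rw [e1, e2, h1]

theorem f2_det {n : ℕ} {L : Matrix (Fin n) (Fin n) K} (hL : LowReg L) (hn : 0 < n) :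
    ((f1_x (L.submatrix Fin.rev Fin.rev) hn).submatrix Fin.revPerm id).det ≠ 0 := by
  rw [Matrix.det_permute]
  apply mul_ne_zero
  · rcases Int.units_eq_one_or (Equiv.Perm.sign (Fin.revPerm : Equiv.Perm (Fin n))) with h | h <;>
      rw [h] <;> simp
  · exact f1_x_det (f2_upReg_rev hL) hn

/-- (F2) Lower version: conjugating by the reversal permutation `i ↦ n - 1 - i` (`Fin.rev`) turns a `LowReg` matrix
into an `UpReg` one; then use `conj_of_upReg`. -/
theorem conj_of_lowReg {n : ℕ} (J L : GL (Fin n) K)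
    (hJ : ∀ i j : Fin n, (J : Matrix (Fin n) (Fin n) K) i j =
      if i = j then 1 else if j.val = i.val + 1 then 1 else 0)
    (hL : LowReg (L : Matrix (Fin n) (Fin n) K)) :
    ∃ x : GL (Fin n) K, L = x * J * x⁻¹ := by
  rcases Nat.eq_zero_or_pos n with hn | hn
  · subst hn
    refine ⟨1, ?_⟩
    apply Units.ext
    ext i
    exact i.elim0
  · refine ⟨Matrix.GeneralLinearGroup.mkOfDetNeZero _ (f2_det hL hn), ?_⟩
    rw [eq_mul_inv_iff_mul_eq]
    apply Units.ext
    rw [Units.val_mul, Units.val_mul]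
    exact f2_matrix _ _ hJ hL hn

end Cfsg.Agent.Helper44.LU
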