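import Mathlib
import Cfsg.Agent.Lib.Helper44.LUDefs
import Cfsg.Agent.Lib.Helper44.LUF1
import Cfsg.Agent.Lib.Helper44.LUF2
import Cfsg.Agent.Lib.Helper44.LUB1

set_option autoImplicit false

namespace Cfsg.Agent.Helper44.LU

open Matrix

variable {K : Type*} [Field K]

/-- conjugating a rank one perturbation of the identity -/
theorem f3_conj_rank_one {n : ℕ} (Q : Matrix (Fin n) (Fin n) K) (w ψ a b : Fin n → K)
    (h1 : ψ ᵥ* Q = b) (h2 : Q *ᵥ a = w) :
    (1 + vecMulVec w ψ) * Q = Q * (1 + vecMulVec a b) := by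
  rw [add_mul, mul_add, one_mul, mul_one, vecMulVec_mul, mul_vecMulVec, h1, h2]

/-- `1 - S`, `S` the subdiagonal shift -/
def f3_N (n : ℕ) : Matrix (Fin n) (Fin n) K :=
  Matrix.of fun i j => if i = j then 1 else if i.val = j.val + 1 then -1 else 0

/-- the lower triangular matrix of ones, inverse of `f3_N` -/
def f3_Lam (n : ℕ) : Matrix (Fin n) (Fin n) K :=
  Matrix.of fun i j => if j ≤ i then 1 else 0

theorem f3_N_mul_Lam (n : ℕ) : (f3_N n : Matrix (Fin n) (Fin n) K) * f3_Lam n = 1 := by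
  ext i j
  rw [Matrix.mul_apply]
  have hterm : ∀ k : Fin n, (f3_N n : Matrix (Fin n) (Fin n) K) i k * f3_Lam n k j =
      (if k = i then (f3_Lam n : Matrix (Fin n) (Fin n) K) k j else 0) -
        (if i.val = k.val + 1 then (f3_Lam n : Matrix (Fin n) (Fin n) K) k j else 0) := by
    intro k
    by_cases h1 : i = k
    · subst h1
      simp [f3_N]
    · have h1' : k ≠ i := fun h => h1 h.symm
      by_cases h2 : i.val = k.val + 1
      · simp [f3_N, h1, h1', h2]
      · simp [f3_N, h1, h1', h2]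
  simp_rw [hterm]
  rw [Finset.sum_sub_distrib, Finset.sum_ite_eq' Finset.univ i, if_pos (Finset.mem_univ i)]
  have hsec : (∑ k : Fin n, if i.val = k.val + 1 then
      (f3_Lam n : Matrix (Fin n) (Fin n) K) k j else 0) = if j < i then 1 else 0 := by
    rcases Nat.eq_zero_or_pos i.val with hi | hi
    · rw [Finset.sum_eq_zero]
      · rw [if_neg]
        intro hji
        have := Fin.lt_def.1 hji
        omega
      · intro k _
        rw [if_neg (by omega)]
    · have hi1 : i.val - 1 < n := by have := i.isLt; omega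
      rw [Finset.sum_eq_single (⟨i.val - 1, hi1⟩ : Fin n)]
      · rw [if_pos (by simp; omega)]
        simp only [f3_Lam, Matrix.of_apply]
        by_cases hji : j < i
        · have h3 := Fin.lt_def.1 hji
          rw [if_pos hji, if_pos (Fin.le_def.2 (by simp; omega))]
        · have h3 : ¬ j.val < i.val := fun h => hji (Fin.lt_def.2 h)
          rw [if_neg hji, if_neg (fun h => by
            have := Fin.le_def.1 h
            simp at this
            omega)]
      · intro k _ hk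
        rw [if_neg]
        intro he
        apply hk
        apply Fin.ext
        simp
        omega
      · intro hnot
        exact absurd (Finset.mem_univ _) hnot
  rw [hsec]
  simp only [f3_Lam, Matrix.of_apply, Matrix.one_apply]
  by_cases hij : i = j
  · subst hij
    simp
  · by_cases hji : j < i
    · rw [if_pos (le_of_lt hji), if_pos hji, if_neg hij, sub_self]
    · have : ¬ j ≤ i := fun h => hji (lt_of_le_of_ne h (fun h' => hij h'.symm))
      rw [if_neg this, if_neg hji, if_neg hij, sub_zero]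

theorem f3_lowReg_N (n : ℕ) : LowReg (f3_N n : Matrix (Fin n) (Fin n) K) := by
  refine ⟨?_, ?_, ?_⟩
  · intro i j hij
    have h1 : i.val < j.val := Fin.lt_def.1 hij
    simp only [f3_N, Matrix.of_apply]
    rw [if_neg (ne_of_lt hij), if_neg (by omega)]
  · intro i
    simp [f3_N]
  · intro i j hij
    simp only [f3_N, Matrix.of_apply]
    rw [if_neg (fun h => by rw [h] at hij; omega), if_pos hij]
    exact neg_ne_zero.2 one_ne_zero

/-- `Lam * (1 + E_{2,0})` is `LowReg` -/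
theorem f3_lowReg_Lam_T {n : ℕ} (i2 : Fin n) (i0 : Fin n) (h0 : i0.val = 0) (h2 : i2.val = 2) :
    LowReg ((f3_Lam n : Matrix (Fin n) (Fin n) K) *
      (1 + vecMulVec (Pi.single i2 1) (Pi.single i0 1))) := by
  have hent : ∀ i j : Fin n, ((f3_Lam n : Matrix (Fin n) (Fin n) K) *
      (1 + vecMulVec (Pi.single i2 1) (Pi.single i0 1)) : Matrix (Fin n) (Fin n) K) i j =
      (if j ≤ i then 1 else 0) + (if i2 ≤ i then 1 else 0) * (if j = i0 then 1 else 0) := by
    intro i j
    rw [mul_add, mul_one, mul_vecMulVec, Matrix.add_apply, vecMulVec_apply,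
      Matrix.mulVec_single_one]
    simp only [f3_Lam, Matrix.of_apply, Matrix.col_apply, Pi.single_apply]
  refine ⟨?_, ?_, ?_⟩
  · intro i j hij
    have h1 : i.val < j.val := Fin.lt_def.1 hij
    have hj0 : j ≠ i0 := fun h => by rw [h] at h1; omega
    rw [hent, if_neg (not_le.2 hij), if_neg hj0]
    simp
  · intro i
    rw [hent, if_pos le_rfl]
    by_cases h : i = i0
    · have : ¬ i2 ≤ i := fun hle => by
        have := Fin.le_def.1 hle
        rw [h] at this
        omega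
      rw [if_neg this]
      simp
    · rw [if_neg h]
      simp
  · intro i j hij
    rw [hent, if_pos (Fin.le_def.2 (by omega))]
    by_cases h : j = i0
    · have : ¬ i2 ≤ i := fun hle => by
        have := Fin.le_def.1 hle
        rw [h] at hij
        omega
      rw [if_neg this]
      simp
    · rw [if_neg h]
      simp

/-- the normal form of a transvection: `Q` with `g Q = Q (1 + E_{2,0})` -/
theorem f3_normal_form {m : ℕ} (hm : 3 ≤ m + 1) (w ψ : Fin (m + 1) → K) (hψw : ψ ⬝ᵥ w = 0)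
    (hw : w ≠ 0) (hψ : ψ ≠ 0) :
    ∃ Q : GL (Fin (m + 1)) K,
      (1 + vecMulVec w ψ) * (Q : Matrix (Fin (m + 1)) (Fin (m + 1)) K) =
        (Q : Matrix (Fin (m + 1)) (Fin (m + 1)) K) *
          (1 + vecMulVec (Pi.single (⟨2, by omega⟩ : Fin (m + 1)) 1) (Pi.single 0 1)) := by
  classical
  -- a vector `u` with `ψ ⬝ᵥ u = 1`
  obtain ⟨j, hj⟩ : ∃ j, ψ j ≠ 0 := by
    by_contra hcon
    push Not at hcon
    exact hψ (funext hcon)
  have hu : ψ ⬝ᵥ (Pi.single j (ψ j)⁻¹ : Fin (m + 1) → K) = 1 := by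
    rw [dotProduct_single, mul_inv_cancel₀ hj]
  obtain ⟨P, -, hProw⟩ := exists_GL_col_row (Pi.single j (ψ j)⁻¹ : Fin (m + 1) → K) ψ hu
  have hPinv : (↑(P⁻¹) : Matrix (Fin (m + 1)) (Fin (m + 1)) K) *
      (P : Matrix (Fin (m + 1)) (Fin (m + 1)) K) = 1 := by
    rw [← Units.val_mul, inv_mul_cancel, Units.val_one]
  have hPinv' : (P : Matrix (Fin (m + 1)) (Fin (m + 1)) K) *
      (↑(P⁻¹) : Matrix (Fin (m + 1)) (Fin (m + 1)) K) = 1 := by
    rw [← Units.val_mul, mul_inv_cancel, Units.val_one]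
  have hψrow : ψ = Pi.single 0 1 ᵥ* (↑(P⁻¹) : Matrix (Fin (m + 1)) (Fin (m + 1)) K) := by
    rw [Matrix.single_one_vecMul]
    funext j
    exact (hProw j).symm
  have hψP : ψ ᵥ* (P : Matrix (Fin (m + 1)) (Fin (m + 1)) K) = Pi.single 0 1 := by
    rw [hψrow, Matrix.vecMul_vecMul, hPinv, Matrix.vecMul_one]
  -- `c = P⁻¹ w`
  set c : Fin (m + 1) → K := (↑(P⁻¹) : Matrix (Fin (m + 1)) (Fin (m + 1)) K) *ᵥ w with hc
  have hPc : (P : Matrix (Fin (m + 1)) (Fin (m + 1)) K) *ᵥ c = w := by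
    rw [hc, Matrix.mulVec_mulVec, hPinv', Matrix.one_mulVec]
  have hc0 : c 0 = 0 := by
    have : c 0 = ψ ⬝ᵥ w := by
      rw [hc]
      show (fun j => (↑(P⁻¹) : Matrix (Fin (m + 1)) (Fin (m + 1)) K) 0 j) ⬝ᵥ w = ψ ⬝ᵥ w
      congr 1
      funext j
      exact hProw j
    rw [this, hψw]
  have hcne : c ≠ 0 := by
    intro h
    apply hw
    rw [← hPc, h, Matrix.mulVec_zero]
  obtain ⟨k, hk⟩ : ∃ k, c k ≠ 0 := by
    by_contra hcon
    push Not at hcon
    exact hcne (funext hcon)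
  have hk0 : k ≠ 0 := fun h => hk (h ▸ hc0)
  -- `C₀`: column `k` replaced by `c`
  set C₀ : Matrix (Fin (m + 1)) (Fin (m + 1)) K :=
    1 + vecMulVec (c - Pi.single k 1) (Pi.single k 1) with hC₀
  have hC₀det : C₀.det ≠ 0 := by
    rw [hC₀, Matrix.vecMulVec_eq (Fin 1), Matrix.det_one_add_replicateCol_mul_replicateRow,
      dotProduct_sub, single_dotProduct, single_dotProduct, one_mul, one_mul, Pi.single_eq_same]
    rw [show (1 : K) + (c k - 1) = c k by ring]
    exact hk
  have hC₀col : C₀ *ᵥ (Pi.single k 1) = c := by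
    rw [hC₀, Matrix.add_mulVec, Matrix.one_mulVec, vecMulVec_mulVec, single_dotProduct, one_mul,
      Pi.single_eq_same]
    simp
  have hC₀row : (Pi.single 0 1 : Fin (m + 1) → K) ᵥ* C₀ = Pi.single 0 1 := by
    rw [hC₀, Matrix.vecMul_add, Matrix.vecMul_one, vecMul_vecMulVec, single_dotProduct, one_mul,
      Pi.sub_apply, hc0, Pi.single_eq_of_ne' hk0]
    simp
  -- the permutation matrix
  set i2 : Fin (m + 1) := ⟨2, by omega⟩ with hi2
  have hi20 : i2 ≠ 0 := by
    intro h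
    have := congrArg Fin.val h
    simp [hi2] at this
  set σ : Equiv.Perm (Fin (m + 1)) := Equiv.swap k i2 with hσ
  have hσdet : (σ.permMatrix K).det ≠ 0 := by
    rw [Matrix.det_permutation]
    rcases Int.units_eq_one_or (Equiv.Perm.sign σ) with h | h <;> rw [h] <;> simp
  have hPicol : σ.permMatrix K *ᵥ (Pi.single i2 1) = Pi.single k 1 := by
    rw [Matrix.permMatrix_mulVec]
    funext a
    simp only [Function.comp_apply, Pi.single_apply]
    by_cases hak : a = k
    · subst hak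
      simp [hσ]
    · rw [if_neg hak, if_neg]
      intro h
      apply hak
      have : σ a = σ k := by rw [h, hσ, Equiv.swap_apply_left]
      exact σ.injective this
  have hPirow : (Pi.single 0 1 : Fin (m + 1) → K) ᵥ* σ.permMatrix K = Pi.single 0 1 := by
    rw [Matrix.vecMul_permMatrix]
    funext a
    simp only [Function.comp_apply, Pi.single_apply]
    have hσ0 : σ 0 = 0 := by
      rw [hσ]
      exact Equiv.swap_apply_of_ne_of_ne (Ne.symm hk0) (Ne.symm hi20)
    by_cases ha : a = 0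
    · subst ha
      rw [if_pos rfl, if_pos]
      rw [Equiv.symm_apply_eq, hσ0]
    · rw [if_neg ha, if_neg]
      intro h
      apply ha
      rw [Equiv.symm_apply_eq, hσ0] at h
      exact h
  refine ⟨P * Matrix.GeneralLinearGroup.mkOfDetNeZero C₀ hC₀det *
    Matrix.GeneralLinearGroup.mkOfDetNeZero (σ.permMatrix K) hσdet, ?_⟩
  have hval : ((P * Matrix.GeneralLinearGroup.mkOfDetNeZero C₀ hC₀det *
      Matrix.GeneralLinearGroup.mkOfDetNeZero (σ.permMatrix K) hσdet : GL (Fin (m + 1)) K) :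
      Matrix (Fin (m + 1)) (Fin (m + 1)) K) =
      (P : Matrix (Fin (m + 1)) (Fin (m + 1)) K) * C₀ * σ.permMatrix K := rfl
  rw [hval]
  apply f3_conj_rank_one
  · rw [← Matrix.vecMul_vecMul, ← Matrix.vecMul_vecMul, hψP, hC₀row, hPirow]
  · rw [← Matrix.mulVec_mulVec, ← Matrix.mulVec_mulVec, hPicol, hC₀col, hPc]

/-- (F3) Transvections. `g = 1 + w ψᵀ`, `det g = 1 + ψ ⬝ᵥ w` (`Matrix.det_one_add_replicateCol_mul_replicateRow` or similar),
so `ψ ⬝ᵥ w = 0`; `g ≠ 1` gives `w ≠ 0`, `ψ ≠ 0`. Choose a basis `b₀ = w`, `b₁, …, b_{n-2} ∈ ker ψ`, `b_{n-1} = u` with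
`ψ ⬝ᵥ u = 1` (possible since `w ∈ ker ψ`, `dim ker ψ = n - 1 ≥ 2`); with `Q := [b₀ | … | b_{n-1}]`,
`Q⁻¹ g Q = T := 1 + E_{0,n-1}`. Now `T = J⁻¹ * (J * T)`, `J * T = J + E_{0,n-1}` is `UpReg` (`n ≥ 3`, so `(0, n-1)` is
not on the superdiagonal), and `J⁻¹` is `UpReg` (inverse of upper unitriangular is upper unitriangular,
`Matrix.blockTriangular_inv_of_blockTriangular`; its superdiagonal is `-1`, from `(J * J⁻¹) i (i+1) = 0`).
Apply `conj_of_upReg` to both and conjugate by `Q`. -/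
theorem prod_of_rank_one {n : ℕ} (hn : 3 ≤ n) (J g : GL (Fin n) K)
    (hJ : ∀ i j : Fin n, (J : Matrix (Fin n) (Fin n) K) i j =
      if i = j then 1 else if j.val = i.val + 1 then 1 else 0)
    (hdet : (g : Matrix (Fin n) (Fin n) K).det = 1) (hg1 : g ≠ 1)
    (w ψ : Fin n → K) (hg : (g : Matrix (Fin n) (Fin n) K) - 1 = Matrix.vecMulVec w ψ) :
    ∃ x y : GL (Fin n) K, g = x * J * x⁻¹ * (y * J * y⁻¹) := by
  obtain ⟨m, rfl⟩ : ∃ m, n = m + 1 := ⟨n - 1, by omega⟩
  have hgval : (g : Matrix (Fin (m + 1)) (Fin (m + 1)) K) = 1 + vecMulVec w ψ := by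
    rw [← hg]
    abel
  -- `ψ ⬝ᵥ w = 0`
  have hψw : ψ ⬝ᵥ w = 0 := by
    have h1 := hdet
    rw [hgval, Matrix.vecMulVec_eq (Fin 1), Matrix.det_one_add_replicateCol_mul_replicateRow] at h1
    linear_combination h1
  have hw : w ≠ 0 := by
    intro h
    apply hg1
    apply Units.ext
    rw [hgval, h]
    simp
  have hψ : ψ ≠ 0 := by
    intro h
    apply hg1
    apply Units.ext
    rw [hgval, h]
    simp
  obtain ⟨Q, hQ⟩ := f3_normal_form hn w ψ hψw hw hψ
  rw [← hgval] at hQ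
  -- the conjugate `Tg` of `g`
  set Tg : GL (Fin (m + 1)) K := Q⁻¹ * g * Q with hTg
  have hTgval : (Tg : Matrix (Fin (m + 1)) (Fin (m + 1)) K) =
      1 + vecMulVec (Pi.single (⟨2, by omega⟩ : Fin (m + 1)) 1) (Pi.single 0 1) := by
    rw [hTg, Units.val_mul, Units.val_mul, Matrix.mul_assoc, hQ, ← Matrix.mul_assoc,
      ← Units.val_mul, inv_mul_cancel, Units.val_one, Matrix.one_mul]
  -- the unit `Nu = 1 - S`
  let Nu : GL (Fin (m + 1)) K :=
    ⟨f3_N (m + 1), f3_Lam (m + 1), f3_N_mul_Lam (m + 1),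
      mul_eq_one_comm.1 (f3_N_mul_Lam (m + 1))⟩
  have hNuval : (Nu : Matrix (Fin (m + 1)) (Fin (m + 1)) K) = f3_N (m + 1) := rfl
  have hNuinv : ((Nu⁻¹ : GL (Fin (m + 1)) K) : Matrix (Fin (m + 1)) (Fin (m + 1)) K) =
      f3_Lam (m + 1) := rfl
  obtain ⟨x₁, hx₁⟩ := conj_of_lowReg J Nu hJ (by rw [hNuval]; exact f3_lowReg_N (m + 1))
  obtain ⟨y₁, hy₁⟩ := conj_of_lowReg J (Nu⁻¹ * Tg) hJ (by
    rw [Units.val_mul, hNuinv, hTgval]
    exact f3_lowReg_Lam_T _ _ rfl rfl)
  refine ⟨Q * x₁, Q * y₁, ?_⟩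
  have h1 : g = Q * (Nu * (Nu⁻¹ * Tg)) * Q⁻¹ := by
    rw [hTg]
    group
  rw [h1, hy₁, hx₁]
  group

end Cfsg.Agent.Helper44.LU
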