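import Mathlib

set_option autoImplicit false

namespace Cfsg.Agent.Helper44.LU

variable {K : Type*} [Field K]

/-- (T1) Basic covering lemma: a module over a field with at least `k` elements is not the union
of `k` proper submodules.
Sketch: induction on `k`. `k = 0`: `v = 0`. Step `k+1`: by IH pick `u` avoiding `W 1 .. W k`
(the `Fin.succ` ones). If `u ∉ W 0` done. Else pick `v ∉ W 0`; the points `v + t • u` (`t : K`) are never in
`W 0` (else `v ∈ W 0`), and each `W i.succ` contains `v + t • u` for at most one `t` (two values give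
`u ∈ W i.succ`). So at most `k` values of `t` are bad and `#K ≥ k+1`. -/
theorem bc_cover {V : Type*} [AddCommGroup V] [Module K V] (k : ℕ)
    (hK : (k : Cardinal) ≤ Cardinal.mk K) (W : Fin k → Submodule K V) (hW : ∀ i, W i ≠ ⊤) :
    ∃ v : V, ∀ i, v ∉ W i := by
  induction k with
  | zero => exact ⟨0, fun i => i.elim0⟩
  | succ k ih =>
    have hK' : (k : Cardinal) ≤ Cardinal.mk K :=
      le_trans (by exact_mod_cast Nat.le_succ k) hK
    obtain ⟨u, hu⟩ := ih hK' (fun i => W i.succ) (fun i => hW i.succ)
    by_cases hu0 : u ∉ W 0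
    · exact ⟨u, fun i => Fin.cases hu0 (fun j => hu j) i⟩
    · rw [not_not] at hu0
      obtain ⟨v, hv⟩ : ∃ v, v ∉ W 0 := by
        by_contra h
        push Not at h
        exact hW 0 (eq_top_iff.mpr fun x _ => h x)
      by_contra hcon
      push Not at hcon
      have hex : ∀ t : K, ∃ j : Fin k, v + t • u ∈ W j.succ := by
        intro t
        obtain ⟨i, hi⟩ := hcon (v + t • u)
        revert hi
        refine Fin.cases ?_ (fun j hj => ⟨j, hj⟩) i
        intro h0
        exfalso
        apply hv
        have := (W 0).sub_mem h0 ((W 0).smul_mem t hu0)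
        simpa using this
      choose f hf using hex
      have hinj : Function.Injective f := by
        intro t₁ t₂ h12
        by_contra hne
        have h1 := hf t₁
        have h2 := hf t₂
        rw [h12] at h1
        have hsub : (t₁ - t₂) • u ∈ W (f t₂).succ := by
          have := (W (f t₂).succ).sub_mem h1 h2
          have e : v + t₁ • u - (v + t₂ • u) = (t₁ - t₂) • u := by
            rw [sub_smul]; abel
          rwa [e] at this
        have hmem : u ∈ W (f t₂).succ :=
          ((W (f t₂).succ).smul_mem_iff (sub_ne_zero.mpr hne)).mp hsub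
        exact hu _ hmem
      have hcard := Cardinal.lift_mk_le_lift_mk_of_injective hinj
      rw [Cardinal.mk_fin, Cardinal.lift_natCast, Cardinal.lift_id'] at hcard
      have h3 := le_trans hK hcard
      have h4 : k + 1 ≤ k := by exact_mod_cast h3
      omega

/-- (T1') In characteristic `≠ 2`, a field with at least 4 elements has at least 5
(`0, 1, -1, a, -a` are distinct for any `a ∉ {0, 1, -1}`). -/
theorem five_le_card (hK : (4 : Cardinal) ≤ Cardinal.mk K) (h2 : (2 : K) ≠ 0) :
    (5 : Cardinal) ≤ Cardinal.mk K := by
  by_contra hlt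
  rw [not_le] at hlt
  have hfin : Finite K := by
    rw [← Cardinal.lt_aleph0_iff_finite]
    exact lt_trans hlt (Cardinal.natCast_lt_aleph0 (n := 5))
  haveI : Fintype K := Fintype.ofFinite K
  rw [Cardinal.mk_fintype] at hK hlt
  have h4 : 4 ≤ Fintype.card K := by exact_mod_cast hK
  have h5 : Fintype.card K < 5 := by exact_mod_cast hlt
  have hc : Fintype.card K = 4 := by omega
  have h0 : ((Fintype.card K : ℕ) : K) = 0 := Nat.cast_card_eq_zero K
  rw [hc] at h0
  have h22 : (2 : K) * 2 = 0 := by
    have : ((4 : ℕ) : K) = 2 * 2 := by norm_num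
    rw [← this]; exact h0
  rcases mul_eq_zero.mp h22 with h | h <;> exact h2 h

end Cfsg.Agent.Helper44.LU
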