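import Mathlib
import Cfsg.Agent.Lib.Helper44.LUT1

set_option autoImplicit false

namespace Cfsg.Agent.Helper44.LU

variable {K : Type*} [Field K]

omit [Field K] in
theorem t2_exists_not_mem (hK : (4 : Cardinal) ≤ Cardinal.mk K) (S : Finset K) (hS : S.card ≤ 3) :
    ∃ t : K, t ∉ S := by
  by_contra h
  push Not at h
  have h1 : Cardinal.mk K ≤ Cardinal.mk S :=
    Cardinal.mk_le_of_injective (f := fun t => (⟨t, h t⟩ : S))
      (fun a b hab => by simpa using congrArg Subtype.val hab)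
  rw [Cardinal.mk_coe_finset] at h1
  have h2 : (4 : Cardinal) ≤ (S.card : Cardinal) := hK.trans h1
  have h3 : 4 ≤ S.card := by exact_mod_cast h2
  omega

omit [Field K] in
theorem t2_finset_of_subsingleton (P : K → Prop) (hP : ∀ t t', P t → P t' → t = t') :
    ∃ s : Finset K, s.card ≤ 1 ∧ ∀ t, P t → t ∈ s := by
  classical
  by_cases h : ∃ t, P t
  · obtain ⟨t₀, ht₀⟩ := h
    exact ⟨{t₀}, by simp, fun t ht => by rw [Finset.mem_singleton]; exact hP t t₀ ht ht₀⟩
  · exact ⟨∅, by simp, fun t ht => absurd ⟨t, ht⟩ h⟩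

/-- (T2) Plane lemma. -/
theorem plane_lemma {V : Type*} [AddCommGroup V] [Module K V]
    (hK : (4 : Cardinal) ≤ Cardinal.mk K)
    (B : V →ₗ[K] V) (hB : ¬ ∃ c : K, ∀ v, B v = c • v)
    (W₁ W₂ Z₁ Z₂ : Submodule K V) (hW₁ : W₁ ≠ ⊤) (hW₂ : W₂ ≠ ⊤)
    (hZ₁ : ∀ v : V, Z₁ ⊔ Submodule.span K {v} ≠ ⊤)
    (hZ₂ : ∀ v : V, Z₂ ⊔ Submodule.span K {v} ≠ ⊤) :
    ∃ f : V, f ∉ W₁ ∧ f ∉ W₂ ∧ f ∉ Z₁ ∧ f ∉ Z₂ ∧ ¬ ∃ c : K, B f = c • f := by
  classical
  have hZ₁' : Z₁ ≠ ⊤ := by
    have := hZ₁ 0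
    simpa using this
  have hZ₂' : Z₂ ≠ ⊤ := by
    have := hZ₂ 0
    simpa using this
  have h4 : ((4 : ℕ) : Cardinal) ≤ Cardinal.mk K := by exact_mod_cast hK
  obtain ⟨v, hv⟩ := bc_cover 4 h4 ![W₁, W₂, Z₁, Z₂]
    (by intro i; fin_cases i <;> simp [hW₁, hW₂, hZ₁', hZ₂'])
  have hv1 : v ∉ W₁ := by simpa using hv 0
  have hv2 : v ∉ W₂ := by simpa using hv 1
  have hv3 : v ∉ Z₁ := by simpa using hv 2
  have hv4 : v ∉ Z₂ := by simpa using hv 3
  by_cases hev : ∃ c : K, B v = c • v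
  swap
  · exact ⟨v, hv1, hv2, hv3, hv4, hev⟩
  obtain ⟨lam, hlam⟩ := hev
  have hv0 : v ≠ 0 := fun h => hv1 (h ▸ W₁.zero_mem)
  let E : Submodule K V := LinearMap.ker (B - lam • LinearMap.id)
  have hE : E ≠ ⊤ := by
    intro h
    apply hB
    refine ⟨lam, fun u => ?_⟩
    have hu : u ∈ E := by rw [h]; trivial
    have h1 := LinearMap.mem_ker.1 hu
    simpa [sub_eq_zero] using h1
  have h3 : ((3 : ℕ) : Cardinal) ≤ Cardinal.mk K :=
    le_trans (by exact_mod_cast (by norm_num : (3 : ℕ) ≤ 4)) h4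
  obtain ⟨w, hw⟩ := bc_cover 3 h3 ![Z₁ ⊔ Submodule.span K {v}, Z₂ ⊔ Submodule.span K {v}, E]
    (by intro i; fin_cases i <;> simp [hZ₁ v, hZ₂ v, hE])
  have hw1 : w ∉ Z₁ ⊔ Submodule.span K {v} := by simpa using hw 0
  have hw2 : w ∉ Z₂ ⊔ Submodule.span K {v} := by simpa using hw 1
  have hw3 : w ∉ E := by simpa using hw 2
  have hw3' : B w ≠ lam • w := by
    intro h
    apply hw3
    rw [LinearMap.mem_ker]
    simp [h]
  have hwv : ∀ a : K, w ≠ a • v := by
    intro a h
    apply hw1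
    rw [h]
    exact Submodule.mem_sup_right (Submodule.smul_mem _ _ (Submodule.mem_span_singleton_self v))
  -- at most one bad `t` for each `W`
  have hline : ∀ W : Submodule K V, v ∉ W →
      ∀ t t' : K, w + t • v ∈ W → w + t' • v ∈ W → t = t' := by
    intro W hvW t t' h h'
    by_contra hne
    have h1 : (t - t') • v ∈ W := by
      have := W.sub_mem h h'
      have e : w + t • v - (w + t' • v) = (t - t') • v := by module
      rwa [e] at this
    have h2 := W.smul_mem (t - t')⁻¹ h1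
    rw [smul_smul, inv_mul_cancel₀ (sub_ne_zero.2 hne), one_smul] at h2
    exact hvW h2
  -- at most one bad `t` for the eigenvector condition
  have heig : ∀ t t' : K, (∃ c : K, B (w + t • v) = c • (w + t • v)) →
      (∃ c : K, B (w + t' • v) = c • (w + t' • v)) → t = t' := by
    rintro t t' ⟨c, hc⟩ ⟨c', hc'⟩
    have e1 : B w = c • w + (t * (c - lam)) • v := by
      rw [map_add, map_smul, hlam] at hc
      have : B w = c • (w + t • v) - t • lam • v := eq_sub_of_add_eq hc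
      rw [this]; module
    have e2 : B w = c' • w + (t' * (c' - lam)) • v := by
      rw [map_add, map_smul, hlam] at hc'
      have : B w = c' • (w + t' • v) - t' • lam • v := eq_sub_of_add_eq hc'
      rw [this]; module
    have e3 : (c - c') • w = (t' * (c' - lam) - t * (c - lam)) • v := by
      have h := e1.symm.trans e2
      have h' : c • w - c' • w = (t' * (c' - lam)) • v - (t * (c - lam)) • v := by
        rw [sub_eq_sub_iff_add_eq_add]
        rw [add_comm (c' • w)] at h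
        exact h
      rw [sub_smul, sub_smul]
      exact h'
    by_contra hne
    by_cases hcc : c = c'
    · subst hcc
      have h0 : (t' * (c - lam) - t * (c - lam)) • v = 0 := by rw [← e3]; simp
      have h1 := (smul_eq_zero.1 h0).resolve_right hv0
      have h2 : (t' - t) * (c - lam) = 0 := by linear_combination h1
      rcases mul_eq_zero.1 h2 with h | h
      · exact hne (sub_eq_zero.1 h).symm
      · have hcl : c = lam := sub_eq_zero.1 h
        apply hw3'
        rw [e1, hcl]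
        simp
    · apply hwv ((c - c')⁻¹ * (t' * (c' - lam) - t * (c - lam)))
      rw [mul_smul, ← e3, smul_smul, inv_mul_cancel₀ (sub_ne_zero.2 hcc), one_smul]
  obtain ⟨s1, hs1, hs1'⟩ := t2_finset_of_subsingleton (fun t : K => w + t • v ∈ W₁) (hline W₁ hv1)
  obtain ⟨s2, hs2, hs2'⟩ := t2_finset_of_subsingleton (fun t : K => w + t • v ∈ W₂) (hline W₂ hv2)
  obtain ⟨s3, hs3, hs3'⟩ := t2_finset_of_subsingleton
    (fun t : K => ∃ c : K, B (w + t • v) = c • (w + t • v)) heig
  obtain ⟨t, ht⟩ := t2_exists_not_mem hK (s1 ∪ s2 ∪ s3) (by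
    have a1 := Finset.card_union_le (s1 ∪ s2) s3
    have a2 := Finset.card_union_le s1 s2
    omega)
  simp only [Finset.mem_union, not_or] at ht
  have hZ : ∀ Z : Submodule K V, w ∉ Z ⊔ Submodule.span K {v} → w + t • v ∉ Z := by
    intro Z hwZ h
    apply hwZ
    have h1 : t • v ∈ Z ⊔ Submodule.span K {v} :=
      Submodule.mem_sup_right (Submodule.smul_mem _ _ (Submodule.mem_span_singleton_self v))
    have h2 := Submodule.sub_mem _ (Submodule.mem_sup_left h) h1
    simpa using h2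
  exact ⟨w + t • v, fun h => ht.1.1 (hs1' t h), fun h => ht.1.2 (hs2' t h), hZ Z₁ hw1, hZ Z₂ hw2,
    fun h => ht.2 (hs3' t h)⟩

end Cfsg.Agent.Helper44.LU
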