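import Mathlib
import Cfsg.Agent.Lib.Helper44.LUDefs

set_option autoImplicit false

namespace Cfsg.Agent.Helper44.LU

open Matrix

variable {K : Type*} [Field K]

/-- (T3) A matrix of rank `≤ 1` is `vecMulVec w ψ` (`= w ψᵀ`).
Sketch: the range of `mulVecLin` has dimension `≤ 1`, so it lies in `span {w}`; column `j` is `ψ j • w`. -/
theorem exists_vecMulVec_of_rank_le_one {n : ℕ} (M : Matrix (Fin n) (Fin n) K) (h : M.rank ≤ 1) :
    ∃ w ψ : Fin n → K, M = Matrix.vecMulVec w ψ := by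
  have h1 : Module.finrank K (LinearMap.range M.mulVecLin) ≤ 1 := h
  obtain ⟨w, hw⟩ := finrank_le_one_iff.mp h1
  have hex : ∀ j, ∃ c : K, c • (w : Fin n → K) = M *ᵥ (Pi.single j 1) := by
    intro j
    obtain ⟨c, hc⟩ := hw ⟨M *ᵥ Pi.single j 1, ⟨Pi.single j 1, rfl⟩⟩
    exact ⟨c, by simpa using congrArg Subtype.val hc⟩
  choose ψ hψ using hex
  refine ⟨w.1, ψ, ?_⟩
  ext i j
  have := congrFun (hψ j) i
  rw [Matrix.mulVec_single_one] at this
  rw [Matrix.vecMulVec_apply, mul_comm]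
  simpa using this.symm

/-- (T3') -/
theorem two_le_rank_of_good {n : ℕ} (A : Matrix (Fin n) (Fin n) K) (hA : Good A) :
    2 ≤ (A - 1).rank := by
  by_contra h
  have h1 : (A - 1).rank ≤ 1 := by omega
  obtain ⟨w, ψ, hwψ⟩ := exists_vecMulVec_of_rank_le_one (A - 1) h1
  exact hA.2 w ψ hwψ

end Cfsg.Agent.Helper44.LU
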