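import Mathlib

set_option autoImplicit false

namespace Cfsg.Agent.Helper44.LU

open Matrix

variable {K : Type*} [Field K]

/-- membership in the kernel of `A - μ`. -/
theorem t4_mem_ker {n : ℕ} (A : Matrix (Fin n) (Fin n) K) (μ : K) (v : Fin n → K) :
    v ∈ LinearMap.ker (A - μ • (1 : Matrix (Fin n) (Fin n) K)).mulVecLin ↔ A *ᵥ v = μ • v := by
  rw [LinearMap.mem_ker, Matrix.mulVecLin_apply, Matrix.sub_mulVec, Matrix.smul_mulVec,
    Matrix.one_mulVec, sub_eq_zero]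

/-- rank-nullity for `A - μ`. -/
theorem t4_finrank_ker {n : ℕ} (A : Matrix (Fin n) (Fin n) K) (μ : K) :
    (A - μ • (1 : Matrix (Fin n) (Fin n) K)).rank +
      Module.finrank K (LinearMap.ker (A - μ • (1 : Matrix (Fin n) (Fin n) K)).mulVecLin) = n := by
  have h := LinearMap.finrank_range_add_finrank_ker
    (A - μ • (1 : Matrix (Fin n) (Fin n) K)).mulVecLin
  rw [Module.finrank_fin_fun] at h
  exact h

/-- kernels for distinct eigenvalues meet trivially. -/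
theorem t4_inf_eq_bot {n : ℕ} (A : Matrix (Fin n) (Fin n) K) (μ₁ μ₂ : K) (h : μ₁ ≠ μ₂) :
    LinearMap.ker (A - μ₁ • (1 : Matrix (Fin n) (Fin n) K)).mulVecLin ⊓
      LinearMap.ker (A - μ₂ • (1 : Matrix (Fin n) (Fin n) K)).mulVecLin = ⊥ := by
  rw [eq_bot_iff]
  intro v hv
  rw [Submodule.mem_inf, t4_mem_ker, t4_mem_ker] at hv
  rw [Submodule.mem_bot]
  have h1 : (μ₁ - μ₂) • v = 0 := by
    rw [sub_smul, ← hv.1, ← hv.2, sub_self]
  rcases smul_eq_zero.mp h1 with h2 | h2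
  · exact absurd (sub_eq_zero.mp h2) h
  · exact h2

/-- (T4) Kernels of `A - μ₁`, `A - μ₂` (`μ₁ ≠ μ₂`) intersect trivially, so
`(n - rank (A - μ₁)) + (n - rank (A - μ₂)) ≤ n`. -/
theorem rank_add_rank_ge {n : ℕ} (A : Matrix (Fin n) (Fin n) K) (μ₁ μ₂ : K) (h : μ₁ ≠ μ₂) :
    n ≤ (A - μ₁ • (1 : Matrix (Fin n) (Fin n) K)).rank +
      (A - μ₂ • (1 : Matrix (Fin n) (Fin n) K)).rank := by
  have e1 := t4_finrank_ker A μ₁
  have e2 := t4_finrank_ker A μ₂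
  have hs := Submodule.finrank_sup_add_finrank_inf_eq
    (LinearMap.ker (A - μ₁ • (1 : Matrix (Fin n) (Fin n) K)).mulVecLin)
    (LinearMap.ker (A - μ₂ • (1 : Matrix (Fin n) (Fin n) K)).mulVecLin)
  rw [t4_inf_eq_bot A μ₁ μ₂ h, finrank_bot, add_zero] at hs
  have hle := Submodule.finrank_le
    (LinearMap.ker (A - μ₁ • (1 : Matrix (Fin n) (Fin n) K)).mulVecLin ⊔
      LinearMap.ker (A - μ₂ • (1 : Matrix (Fin n) (Fin n) K)).mulVecLin)
  rw [Module.finrank_fin_fun] at hle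
  omega

/-- (T4') Eigenspaces for three distinct eigenvalues are independent
(`Module.End.eigenspaces_iSupIndep`), so the three kernel dimensions add up to at most `n`. -/
theorem rank_add_rank_add_rank_ge {n : ℕ} (A : Matrix (Fin n) (Fin n) K) (μ₁ μ₂ μ₃ : K)
    (h12 : μ₁ ≠ μ₂) (h13 : μ₁ ≠ μ₃) (h23 : μ₂ ≠ μ₃) :
    2 * n ≤ (A - μ₁ • (1 : Matrix (Fin n) (Fin n) K)).rank +
      (A - μ₂ • (1 : Matrix (Fin n) (Fin n) K)).rank +
      (A - μ₃ • (1 : Matrix (Fin n) (Fin n) K)).rank := by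
  have e1 := t4_finrank_ker A μ₁
  have e2 := t4_finrank_ker A μ₂
  have e3 := t4_finrank_ker A μ₃
  set K₁ := LinearMap.ker (A - μ₁ • (1 : Matrix (Fin n) (Fin n) K)).mulVecLin with hK₁
  set K₂ := LinearMap.ker (A - μ₂ • (1 : Matrix (Fin n) (Fin n) K)).mulVecLin with hK₂
  set K₃ := LinearMap.ker (A - μ₃ • (1 : Matrix (Fin n) (Fin n) K)).mulVecLin with hK₃
  have hs := Submodule.finrank_sup_add_finrank_inf_eq K₁ K₂
  rw [hK₁, hK₂, t4_inf_eq_bot A μ₁ μ₂ h12, finrank_bot, add_zero, ← hK₁, ← hK₂] at hs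
  -- (K₁ ⊔ K₂) ⊓ K₃ = ⊥
  have h3 : (K₁ ⊔ K₂) ⊓ K₃ = ⊥ := by
    rw [eq_bot_iff]
    intro v hv
    rw [Submodule.mem_inf] at hv
    obtain ⟨hv12, hv3⟩ := hv
    obtain ⟨v₁, hv₁, v₂, hv₂, rfl⟩ := Submodule.mem_sup.mp hv12
    rw [hK₁, t4_mem_ker] at hv₁
    rw [hK₂, t4_mem_ker] at hv₂
    rw [hK₃, t4_mem_ker, Matrix.mulVec_add, hv₁, hv₂, smul_add] at hv3
    -- (μ₁ - μ₃) v₁ = (μ₃ - μ₂) v₂
    have hrel : (μ₁ - μ₃) • v₁ = (μ₃ - μ₂) • v₂ := by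
      rw [sub_smul, sub_smul]
      have := hv3
      calc μ₁ • v₁ - μ₃ • v₁ = (μ₁ • v₁ + μ₂ • v₂) - μ₂ • v₂ - μ₃ • v₁ := by abel
        _ = (μ₃ • v₁ + μ₃ • v₂) - μ₂ • v₂ - μ₃ • v₁ := by rw [this]
        _ = μ₃ • v₂ - μ₂ • v₂ := by abel
    -- w := (μ₁ - μ₃) v₁ lies in K₁ ⊓ K₂
    have hw1 : (μ₁ - μ₃) • v₁ ∈ K₁ := by
      rw [hK₁, t4_mem_ker, Matrix.mulVec_smul, hv₁, smul_comm]
    have hw2 : (μ₁ - μ₃) • v₁ ∈ K₂ := by
      rw [hrel, hK₂, t4_mem_ker, Matrix.mulVec_smul, hv₂, smul_comm]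
    have hw : (μ₁ - μ₃) • v₁ ∈ K₁ ⊓ K₂ := Submodule.mem_inf.mpr ⟨hw1, hw2⟩
    rw [hK₁, hK₂, t4_inf_eq_bot A μ₁ μ₂ h12, Submodule.mem_bot] at hw
    have hv1z : v₁ = 0 := by
      rcases smul_eq_zero.mp hw with h | h
      · exact absurd (sub_eq_zero.mp h) h13
      · exact h
    have hv2z : v₂ = 0 := by
      rw [hw] at hrel
      rcases smul_eq_zero.mp hrel.symm with h | h
      · exact absurd (sub_eq_zero.mp h).symm h23
      · exact h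
    rw [Submodule.mem_bot, hv1z, hv2z, add_zero]
  have hs3 := Submodule.finrank_sup_add_finrank_inf_eq (K₁ ⊔ K₂) K₃
  rw [h3, finrank_bot, add_zero] at hs3
  have hle := Submodule.finrank_le ((K₁ ⊔ K₂) ⊔ K₃)
  rw [Module.finrank_fin_fun] at hle
  omega

end Cfsg.Agent.Helper44.LU
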