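import Mathlib
import Cfsg.Agent.Lib.Helper44.LUDefs
import Cfsg.Agent.Lib.Helper44.LUT1
import Cfsg.Agent.Lib.Helper44.LUT2
import Cfsg.Agent.Lib.Helper44.LUT3
import Cfsg.Agent.Lib.Helper44.LUT4

set_option autoImplicit false

namespace Cfsg.Agent.Helper44.LU

open Matrix

variable {K : Type*} [Field K]

/-- a subspace of dimension `≤ n - 2` plus a line is proper -/
theorem k1_sup_span_ne_top {n : ℕ} (Z : Submodule K (Fin n → K))
    (hZ : Module.finrank K Z + 2 ≤ n) (v : Fin n → K) : Z ⊔ Submodule.span K {v} ≠ ⊤ := by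
  intro h
  have h1 : Module.finrank K (↥(Z ⊔ Submodule.span K {v})) ≤
      Module.finrank K Z + Module.finrank K (Submodule.span K {v}) :=
    Submodule.finrank_add_le_finrank_add_finrank Z _
  have h2 : Module.finrank K (Submodule.span K {v}) ≤ 1 := by
    have := finrank_span_le_card (R := K) ({v} : Set (Fin n → K))
    simpa using this
  rw [h, finrank_top, Module.finrank_fin_fun] at h1
  omega

/-- the kernel of `y ⬝ᵥ ·` -/
def k1_kerDot {n : ℕ} (y : Fin n → K) : Submodule K (Fin n → K) where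
  carrier := {v | y ⬝ᵥ v = 0}
  add_mem' := by
    intro a b ha hb
    show y ⬝ᵥ (a + b) = 0
    have ha' : y ⬝ᵥ a = 0 := ha
    have hb' : y ⬝ᵥ b = 0 := hb
    rw [dotProduct_add, ha', hb', add_zero]
  zero_mem' := by simp
  smul_mem' := by
    intro c a ha
    show y ⬝ᵥ (c • a) = 0
    have ha' : y ⬝ᵥ a = 0 := ha
    rw [dotProduct_smul, ha', smul_zero]

theorem k1_mem_kerDot {n : ℕ} (y v : Fin n → K) : v ∈ k1_kerDot y ↔ y ⬝ᵥ v = 0 := Iff.rfl

theorem k1_kerDot_ne_top {n : ℕ} (y : Fin n → K) (hy : y ≠ 0) : k1_kerDot y ≠ ⊤ := by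
  intro h
  apply hy
  funext i
  have : (Pi.single i (1 : K) : Fin n → K) ∈ k1_kerDot y := by rw [h]; trivial
  rw [k1_mem_kerDot, dotProduct_single_one] at this
  exact this

/-- range of a matrix as a submodule, with `finrank = rank` -/
theorem k1_finrank_range {n : ℕ} (M : Matrix (Fin n) (Fin n) K) :
    Module.finrank K (LinearMap.range M.mulVecLin) = M.rank := rfl

theorem k1_range_ne_top_of_det {n : ℕ} (M : Matrix (Fin n) (Fin n) K) (h : M.det = 0) :
    LinearMap.range M.mulVecLin ≠ ⊤ := by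
  intro htop
  have hs : Function.Surjective M.mulVec := by
    intro v
    have : v ∈ LinearMap.range M.mulVecLin := by rw [htop]; trivial
    obtain ⟨w, hw⟩ := this
    exact ⟨w, hw⟩
  have hu : IsUnit M := Matrix.mulVec_surjective_iff_isUnit.mp hs
  have := (Matrix.isUnit_iff_isUnit_det M).mp hu
  rw [h] at this
  exact not_isUnit_zero this

theorem k1_not_scalar {n : ℕ} (A : Matrix (Fin n) (Fin n) K) (hA : Good A) :
    ¬ ∃ c : K, ∀ v, (A - 1).mulVecLin v = c • v := by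
  rintro ⟨c, hc⟩
  apply hA.1 (c + 1)
  have h1 : A - 1 = c • (1 : Matrix (Fin n) (Fin n) K) := by
    apply Matrix.toLin'.injective
    apply LinearMap.ext
    intro v
    rw [Matrix.toLin'_apply, Matrix.toLin'_apply, Matrix.smul_mulVec, Matrix.one_mulVec]
    exact hc v
  rw [add_smul, one_smul, ← h1, sub_add_cancel]

/-- at most two "bad" eigenvalues when `n ≥ 4` -/
theorem k1_bad_two {n : ℕ} (hn : 4 ≤ n) (A : Matrix (Fin n) (Fin n) K) :
    ∃ μ₁ μ₂ : K, ∀ μ : K, μ ≠ 1 → (A - μ • (1 : Matrix (Fin n) (Fin n) K)).rank ≤ 2 →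
      μ = μ₁ ∨ μ = μ₂ := by
  classical
  by_cases h1 : ∃ μ : K, (A - μ • (1 : Matrix (Fin n) (Fin n) K)).rank ≤ 2
  · obtain ⟨μ₁, hμ₁⟩ := h1
    by_cases h2 : ∃ μ : K, μ ≠ μ₁ ∧ (A - μ • (1 : Matrix (Fin n) (Fin n) K)).rank ≤ 2
    · obtain ⟨μ₂, hne, hμ₂⟩ := h2
      refine ⟨μ₁, μ₂, fun μ _ hμ => ?_⟩
      by_contra hcon
      rw [not_or] at hcon
      have := rank_add_rank_add_rank_ge A μ μ₁ μ₂ hcon.1 hcon.2 hne.symm
      omega
    · refine ⟨μ₁, μ₁, fun μ _ hμ => ?_⟩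
      by_contra hcon
      rw [not_or] at hcon
      exact h2 ⟨μ, hcon.1, hμ⟩
  · refine ⟨0, 0, fun μ _ hμ => ?_⟩
    exact absurd ⟨μ, hμ⟩ h1

/-- at most one "bad" eigenvalue when `n ≥ 4` and `A - 1` is singular -/
theorem k1_bad_one {n : ℕ} (hn : 4 ≤ n) (A : Matrix (Fin n) (Fin n) K) (hr : (A - 1).rank < n) :
    ∃ μ₁ : K, ∀ μ : K, μ ≠ 1 → (A - μ • (1 : Matrix (Fin n) (Fin n) K)).rank ≤ 2 → μ = μ₁ := by
  classical
  by_cases h1 : ∃ μ : K, μ ≠ 1 ∧ (A - μ • (1 : Matrix (Fin n) (Fin n) K)).rank ≤ 2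
  · obtain ⟨μ₁, hne1, hμ₁⟩ := h1
    refine ⟨μ₁, fun μ hμ1 hμ => ?_⟩
    by_contra hcon
    have h3 := rank_add_rank_add_rank_ge A μ μ₁ 1 hcon hμ1 hne1
    rw [one_smul] at h3
    omega
  · refine ⟨0, fun μ hμ1 hμ => ?_⟩
    exact absurd ⟨μ, hμ1, hμ⟩ h1

/-- the "bad range" slot: range of `A - μ` if its rank is `≤ 2`, else `⊥` -/
noncomputable def k1_Zr {n : ℕ} (A : Matrix (Fin n) (Fin n) K) (μ : K) : Submodule K (Fin n → K) :=
  by
    classical
    exact if (A - μ • (1 : Matrix (Fin n) (Fin n) K)).rank ≤ 2 then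
      LinearMap.range (A - μ • (1 : Matrix (Fin n) (Fin n) K)).mulVecLin else ⊥

theorem k1_Zr_finrank {n : ℕ} (A : Matrix (Fin n) (Fin n) K) (μ : K) :
    Module.finrank K (k1_Zr A μ) ≤ 2 := by
  classical
  by_cases h : (A - μ • (1 : Matrix (Fin n) (Fin n) K)).rank ≤ 2
  · rw [k1_Zr, if_pos h]
    exact h
  · rw [k1_Zr, if_neg h]
    simp

theorem k1_not_mem_Zr {n : ℕ} (A : Matrix (Fin n) (Fin n) K) (μ : K) (f : Fin n → K)
    (hf : f ∉ k1_Zr A μ) (hμ : (A - μ • (1 : Matrix (Fin n) (Fin n) K)).rank ≤ 2) :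
    ∀ v, (A - μ • (1 : Matrix (Fin n) (Fin n) K)) *ᵥ v ≠ f := by
  classical
  intro v hv
  apply hf
  unfold k1_Zr
  rw [if_pos hμ]
  exact ⟨v, hv⟩

/-- the preimage of the line `K x` under `N` -/
def k1_Wx {n : ℕ} (N : Matrix (Fin n) (Fin n) K) (x : Fin n → K) : Submodule K (Fin n → K) :=
  (Submodule.span K {x}).comap N.mulVecLin

theorem k1_not_Wx {n : ℕ} (N : Matrix (Fin n) (Fin n) K) (x f : Fin n → K) (hx : x ≠ 0)
    (hf : f ∉ k1_Wx N x) : ¬ ∃ c : K, x = c • (N *ᵥ f) := by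
  rintro ⟨c, hc⟩
  apply hf
  have hc0 : c ≠ 0 := by
    rintro rfl
    rw [zero_smul] at hc
    exact hx hc
  show N.mulVecLin f ∈ Submodule.span K {x}
  rw [Submodule.mem_span_singleton]
  refine ⟨c⁻¹, ?_⟩
  rw [Matrix.mulVecLin_apply, hc, smul_smul, inv_mul_cancel₀ hc0, one_smul]

theorem k1_Wx_ne_top {n : ℕ} (N : Matrix (Fin n) (Fin n) K) (x : Fin n → K) (hr : 2 ≤ N.rank) :
    k1_Wx N x ≠ ⊤ := by
  intro h
  have hle : LinearMap.range N.mulVecLin ≤ Submodule.span K {x} := by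
    rintro _ ⟨v, rfl⟩
    have : v ∈ k1_Wx N x := by rw [h]; trivial
    exact this
  have h1 : N.rank ≤ Module.finrank K (Submodule.span K {x}) := Submodule.finrank_mono hle
  have h2 : Module.finrank K (Submodule.span K {x}) ≤ 1 := by
    have := finrank_span_le_card (R := K) ({x} : Set (Fin n → K))
    simpa using this
  omega

theorem k1_Wx_sup_ne_top {n : ℕ} (N : Matrix (Fin n) (Fin n) K) (x : Fin n → K) (hr : 3 ≤ N.rank)
    (v : Fin n → K) : k1_Wx N x ⊔ Submodule.span K {v} ≠ ⊤ := by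
  intro h
  have hle : LinearMap.range N.mulVecLin ≤ Submodule.span K {x} ⊔ Submodule.span K {N *ᵥ v} := by
    rw [← Submodule.map_top, ← h, Submodule.map_sup]
    apply sup_le_sup
    · exact Submodule.map_comap_le _ _
    · rw [Submodule.map_span, Set.image_singleton]
      rfl
  have h1 : N.rank ≤ Module.finrank K ↥(Submodule.span K {x} ⊔ Submodule.span K {N *ᵥ v}) :=
    Submodule.finrank_mono hle
  have h2 : Module.finrank K ↥(Submodule.span K {x} ⊔ Submodule.span K {N *ᵥ v}) ≤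
      Module.finrank K (Submodule.span K {x}) + Module.finrank K (Submodule.span K {N *ᵥ v}) :=
    Submodule.finrank_add_le_finrank_add_finrank _ _
  have h3 : Module.finrank K (Submodule.span K {x}) ≤ 1 := by
    have := finrank_span_le_card (R := K) ({x} : Set (Fin n → K))
    simpa using this
  have h4 : Module.finrank K (Submodule.span K {N *ᵥ v}) ≤ 1 := by
    have := finrank_span_le_card (R := K) ({N *ᵥ v} : Set (Fin n → K))
    simpa using this
  omega

/-- (K1) Existence of `f`, regime `n ≥ 4`. -/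
theorem ge4_exists_f {n : ℕ} (hn : 4 ≤ n) (hK : (4 : Cardinal) ≤ Cardinal.mk K)
    (A : Matrix (Fin n) (Fin n) K) (hA : Good A) (x y : Fin n → K) (hx : x ≠ 0) (hy : y ≠ 0) :
    ∃ f, Pf4 A x y f := by
  classical
  have hr2 : 2 ≤ (A - 1).rank := two_le_rank_of_good A hA
  have hB := k1_not_scalar A hA
  have hW1 := k1_kerDot_ne_top y hy
  have hWx := k1_Wx_ne_top (A - 1) x hr2
  by_cases hdet : (A - 1).det = 0
  · -- singular case
    have hrlt : (A - 1).rank < n := by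
      have hne := k1_range_ne_top_of_det (A - 1) hdet
      have hle : (A - 1).rank ≤ n := by
        have := Matrix.rank_le_card_width (A - 1)
        simpa using this
      rcases Nat.lt_or_ge (A - 1).rank n with h | h
      · exact h
      · exfalso
        apply hne
        apply Submodule.eq_top_of_finrank_eq
        rw [k1_finrank_range, Module.finrank_fin_fun]
        omega
    obtain ⟨μ₁, hμ₁⟩ := k1_bad_one hn A hrlt
    have hZ2 : ∀ v : Fin n → K, k1_Zr A μ₁ ⊔ Submodule.span K {v} ≠ ⊤ :=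
      k1_sup_span_ne_top _ (by have := k1_Zr_finrank A μ₁; omega)
    by_cases hr3 : 3 ≤ (A - 1).rank
    · -- rank ≥ 3
      obtain ⟨f, hf1, hf2, hf3, hf4, hf5⟩ := plane_lemma hK (A - 1).mulVecLin hB
        (k1_kerDot y) (LinearMap.range (A - 1).mulVecLin) (k1_Wx (A - 1) x) (k1_Zr A μ₁)
        hW1 (k1_range_ne_top_of_det _ hdet) (k1_Wx_sup_ne_top _ x hr3) hZ2
      refine ⟨f, hf1, ?_, k1_not_Wx _ x f hx hf3, ?_, ?_⟩
      · rintro ⟨c, hc⟩
        exact hf5 ⟨c, hc⟩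
      · intro _ v hv
        exact hf2 ⟨v, hv⟩
      · intro μ hμ1 hμ
        have := hμ₁ μ hμ1 hμ
        subst this
        exact k1_not_mem_Zr A μ f hf4 hμ
    · -- rank = 2
      have hr : (A - 1).rank = 2 := by omega
      have hZ1 : ∀ v : Fin n → K,
          LinearMap.range (A - 1).mulVecLin ⊔ Submodule.span K {v} ≠ ⊤ :=
        k1_sup_span_ne_top _ (by rw [k1_finrank_range, hr]; omega)
      obtain ⟨f, hf1, hf2, hf3, hf4, hf5⟩ := plane_lemma hK (A - 1).mulVecLin hB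
        (k1_kerDot y) (k1_Wx (A - 1) x) (LinearMap.range (A - 1).mulVecLin) (k1_Zr A μ₁)
        hW1 hWx hZ1 hZ2
      refine ⟨f, hf1, ?_, k1_not_Wx _ x f hx hf2, ?_, ?_⟩
      · rintro ⟨c, hc⟩
        exact hf5 ⟨c, hc⟩
      · intro _ v hv
        exact hf3 ⟨v, hv⟩
      · intro μ hμ1 hμ
        have := hμ₁ μ hμ1 hμ
        subst this
        exact k1_not_mem_Zr A μ f hf4 hμ
  · -- invertible case
    obtain ⟨μ₁, μ₂, hμ⟩ := k1_bad_two hn A
    have hZ1 : ∀ v : Fin n → K, k1_Zr A μ₁ ⊔ Submodule.span K {v} ≠ ⊤ :=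
      k1_sup_span_ne_top _ (by have := k1_Zr_finrank A μ₁; omega)
    have hZ2 : ∀ v : Fin n → K, k1_Zr A μ₂ ⊔ Submodule.span K {v} ≠ ⊤ :=
      k1_sup_span_ne_top _ (by have := k1_Zr_finrank A μ₂; omega)
    obtain ⟨f, hf1, hf2, hf3, hf4, hf5⟩ := plane_lemma hK (A - 1).mulVecLin hB
      (k1_kerDot y) (k1_Wx (A - 1) x) (k1_Zr A μ₁) (k1_Zr A μ₂) hW1 hWx hZ1 hZ2
    refine ⟨f, hf1, ?_, k1_not_Wx _ x f hx hf2, ?_, ?_⟩
    · rintro ⟨c, hc⟩
      exact hf5 ⟨c, hc⟩
    · intro h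
      exact absurd h hdet
    · intro μ hμ1 hμr
      rcases hμ μ hμ1 hμr with h | h
      · subst h
        exact k1_not_mem_Zr A μ f hf3 hμr
      · subst h
        exact k1_not_mem_Zr A μ f hf4 hμr

end Cfsg.Agent.Helper44.LU
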