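import Mathlib
import Cfsg.Agent.Lib.Helper44.LUDefs
import Cfsg.Agent.Lib.Helper44.LUT1
import Cfsg.Agent.Lib.Helper44.LUT3
import Cfsg.Agent.Lib.Helper44.LUT4

set_option autoImplicit false

namespace Cfsg.Agent.Helper44.LU

open Matrix

variable {K : Type*} [Field K]

/-- separating functional in coordinates -/
theorem k2_exists_dot {n : ℕ} (P : Submodule K (Fin n → K)) (v : Fin n → K) (hv : v ∉ P) :
    ∃ φ : Fin n → K, (∀ p ∈ P, φ ⬝ᵥ p = 0) ∧ φ ⬝ᵥ v ≠ 0 := by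
  obtain ⟨g, hg1, hg2⟩ := Submodule.exists_dual_map_eq_bot_of_notMem hv inferInstance
  refine ⟨(dotProductEquiv K (Fin n)).symm g, ?_, ?_⟩
  · intro p hp
    have h1 : g p = 0 := by
      have : g p ∈ P.map g := Submodule.mem_map_of_mem hp
      rw [hg2] at this
      exact (Submodule.mem_bot K).1 this
    have h2 : (dotProductEquiv K (Fin n)) ((dotProductEquiv K (Fin n)).symm g) p
        = g p := by rw [LinearEquiv.apply_symm_apply]
    rw [← h1, ← h2]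
    rfl
  · have h2 : (dotProductEquiv K (Fin n)) ((dotProductEquiv K (Fin n)).symm g) v
        = g v := by rw [LinearEquiv.apply_symm_apply]
    intro h
    apply hg1
    rw [← h2]
    exact h

/-- a kernel of dimension `≥ 2` has an element outside a given line -/
theorem k2_exists_ker_not_mem {n : ℕ} (M : Matrix (Fin n) (Fin n) K) (w : Fin n → K)
    (h : M.rank + 2 ≤ n) : ∃ k, M *ᵥ k = 0 ∧ k ∉ Submodule.span K {w} := by
  by_contra hcon
  push Not at hcon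
  have hle : LinearMap.ker M.mulVecLin ≤ Submodule.span K {w} := by
    intro k hk
    exact hcon k (by simpa using hk)
  have h1 := Submodule.finrank_mono hle
  have h2 : Module.finrank K (Submodule.span K {w}) ≤ 1 := by
    have := finrank_span_le_card (R := K) ({w} : Set (Fin n → K))
    simpa using this
  have h3 := LinearMap.finrank_range_add_finrank_ker M.mulVecLin
  rw [Module.finrank_fin_fun] at h3
  have h4 : M.rank = Module.finrank K (LinearMap.range M.mulVecLin) := rfl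
  omega

/-- the functionals vanishing on a set of vectors -/
def k2_perp {n : ℕ} (T : Set (Fin n → K)) : Submodule K (Fin n → K) where
  carrier := {φ | ∀ v ∈ T, φ ⬝ᵥ v = 0}
  add_mem' := by
    intro a b ha hb v hv
    rw [add_dotProduct, ha v hv, hb v hv, add_zero]
  zero_mem' := by
    intro v _
    exact zero_dotProduct v
  smul_mem' := by
    intro c a ha v hv
    rw [smul_dotProduct, ha v hv, smul_zero]

theorem k2_mem_perp {n : ℕ} (T : Set (Fin n → K)) (φ : Fin n → K) :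
    φ ∈ k2_perp T ↔ ∀ v ∈ T, φ ⬝ᵥ v = 0 := Iff.rfl

theorem k2_not_mem_perp {n : ℕ} (T : Set (Fin n → K)) (φ : Fin n → K) :
    φ ∉ k2_perp T ↔ ∃ v ∈ T, φ ⬝ᵥ v ≠ 0 := by
  rw [k2_mem_perp]
  push Not
  rfl

/-- four proper "perp" subspaces of `𝒲` do not cover it -/
theorem k2_cover {n : ℕ} (hK : (4 : Cardinal) ≤ Cardinal.mk K) (𝒲 : Submodule K (Fin n → K))
    (T : Fin 4 → Set (Fin n → K)) (hT : ∀ i, ∃ φ ∈ 𝒲, φ ∉ k2_perp (T i)) :
    ∃ φ ∈ 𝒲, ∀ i, φ ∉ k2_perp (T i) := by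
  have hK' : ((4 : ℕ) : Cardinal) ≤ Cardinal.mk K := by exact_mod_cast hK
  have hprop : ∀ i, (k2_perp (T i)).comap 𝒲.subtype ≠ ⊤ := by
    intro i h
    obtain ⟨φ, hφ, hφ'⟩ := hT i
    have h1 : (⟨φ, hφ⟩ : ↥𝒲) ∈ (k2_perp (T i)).comap 𝒲.subtype := by
      rw [h]
      trivial
    exact hφ' h1
  obtain ⟨v, hv⟩ := bc_cover (K := K) (V := ↥𝒲) 4 hK'
    (fun i => (k2_perp (T i)).comap 𝒲.subtype) hprop
  exact ⟨v.1, v.2, fun i h => hv i h⟩

/-- (K2) Existence of `φ`, regime `n ≥ 4`. `N := A - 1`, `r := rank N ≥ 2`. Work in the space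
`𝒲 := {φ | φ ⬝ᵥ (N f) = 0}` (dimension `n - 1`, as `N f ≠ 0` by `hf` with `c = 0`) and apply `bc_cover 4` to
`U₁ = {φ ⬝ᵥ f = 0}` (proper in `𝒲` since `f ∉ K • N f`, by `hf`), `U₂ = {φ ⬝ᵥ x = 0}` (proper by `hxf`, `hx`),
`U₃ = {φ ᵥ* N = 0}` (dimension `n - r ≤ n - 2`), and `U₄`:
* if `r = 2`: `U₄ = {φ | ∀ k ∈ ker N, φ ⬝ᵥ k = 0}`; proper in `𝒲` since `dim ker N = n - 2 ≥ 2` gives
  `k ∈ ker N \ K • N f`; in this case no `μ ≠ 1` has `rank (A - μ) = 1` (a hyperplane eigenspace would meet `ker N`);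
* else if some `μ ≠ 1` has `rank (A - μ) = 1` (then it is unique: two hyperplane eigenspaces intersect):
  `U₄ = {φ | ∀ k ∈ ker (A - μ), φ ⬝ᵥ k = 0}`, of dimension `1 < n - 1`; else `U₄ = ⊥`. -/
theorem ge4_exists_phi {n : ℕ} (hn : 4 ≤ n) (hK : (4 : Cardinal) ≤ Cardinal.mk K)
    (A : Matrix (Fin n) (Fin n) K) (hA : Good A) (x f : Fin n → K) (hx : x ≠ 0)
    (hf : ¬ ∃ c : K, (A - 1) *ᵥ f = c • f) (hxf : ¬ ∃ c : K, x = c • ((A - 1) *ᵥ f)) :
    ∃ φ, Pphi4 A x f φ := by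
  classical
  -- the line spanned by `N f`
  have hfP : f ∉ Submodule.span K {(A - 1) *ᵥ f} := by
    intro h
    obtain ⟨c, hc⟩ := Submodule.mem_span_singleton.1 h
    apply hf
    by_cases hc0 : c = 0
    · refine ⟨0, ?_⟩
      rw [hc0, zero_smul] at hc
      rw [← hc, Matrix.mulVec_zero, smul_zero]
    · refine ⟨c⁻¹, ?_⟩
      have h1 : c⁻¹ • (c • ((A - 1) *ᵥ f)) = (A - 1) *ᵥ f := by
        rw [smul_smul, inv_mul_cancel₀ hc0, one_smul]
      rw [hc] at h1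
      exact h1.symm
  have hxP : x ∉ Submodule.span K {(A - 1) *ᵥ f} := by
    intro h
    obtain ⟨c, hc⟩ := Submodule.mem_span_singleton.1 h
    exact hxf ⟨c, hc.symm⟩
  have hgP : (A - 1) *ᵥ f ∈ Submodule.span K {(A - 1) *ᵥ f} :=
    Submodule.mem_span_singleton_self _
  -- witnesses from a vector outside the line
  have hwit : ∀ v : Fin n → K, v ∉ Submodule.span K {(A - 1) *ᵥ f} →
      ∃ φ ∈ k2_perp {(A - 1) *ᵥ f}, φ ⬝ᵥ v ≠ 0 := by
    intro v hv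
    obtain ⟨φ, h1, h2⟩ := k2_exists_dot _ v hv
    refine ⟨φ, ?_, h2⟩
    intro w hw
    rw [Set.mem_singleton_iff] at hw
    rw [hw]
    exact h1 _ hgP
  -- some `N v` lies outside the line
  have hNv : ∃ v : Fin n → K, (A - 1) *ᵥ v ∉ Submodule.span K {(A - 1) *ᵥ f} := by
    by_contra hcon
    push Not at hcon
    have hex : ∀ j : Fin n, ∃ c : K, c • ((A - 1) *ᵥ f) = (A - 1) *ᵥ (Pi.single j 1) := fun j =>
      Submodule.mem_span_singleton.1 (hcon (Pi.single j 1))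
    choose ψ hψ using hex
    apply hA.2 ((A - 1) *ᵥ f) ψ
    ext i j
    have h1 := congrFun (hψ j) i
    rw [Matrix.mulVec_single_one] at h1
    rw [Matrix.vecMulVec_apply]
    rw [Pi.smul_apply, smul_eq_mul] at h1
    rw [mul_comm]
    exact h1.symm
  -- the fourth set
  have h4 : ∃ T₄ : Set (Fin n → K), (∃ φ ∈ k2_perp {(A - 1) *ᵥ f}, φ ∉ k2_perp T₄) ∧
      ∀ φ, φ ∉ k2_perp T₄ →
        ((A - 1).rank = 2 → ∃ k, (A - 1) *ᵥ k = 0 ∧ φ ⬝ᵥ k ≠ 0) ∧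
        (∀ μ : K, μ ≠ 1 → (A - μ • (1 : Matrix (Fin n) (Fin n) K)).rank = 1 →
          ∃ k, (A - μ • (1 : Matrix (Fin n) (Fin n) K)) *ᵥ k = 0 ∧ φ ⬝ᵥ k ≠ 0) := by
    by_cases h2 : (A - 1).rank = 2
    · refine ⟨{k | (A - 1) *ᵥ k = 0}, ?_, ?_⟩
      · obtain ⟨k, hk1, hk2⟩ := k2_exists_ker_not_mem (A - 1) ((A - 1) *ᵥ f) (by omega)
        obtain ⟨φ, hφ1, hφ2⟩ := hwit k hk2
        exact ⟨φ, hφ1, (k2_not_mem_perp _ _).2 ⟨k, hk1, hφ2⟩⟩
      · intro φ hφ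
        obtain ⟨k, hk1, hk2⟩ := (k2_not_mem_perp _ _).1 hφ
        refine ⟨fun _ => ⟨k, hk1, hk2⟩, ?_⟩
        intro μ hμ hr
        exfalso
        have h3 := rank_add_rank_ge A μ 1 hμ
        rw [one_smul, hr, h2] at h3
        omega
    · by_cases h1 : ∃ μ : K, μ ≠ 1 ∧ (A - μ • (1 : Matrix (Fin n) (Fin n) K)).rank = 1
      · obtain ⟨μ₀, hμ₀, hr₀⟩ := h1
        refine ⟨{k | (A - μ₀ • (1 : Matrix (Fin n) (Fin n) K)) *ᵥ k = 0}, ?_, ?_⟩
        · obtain ⟨k, hk1, hk2⟩ := k2_exists_ker_not_mem (A - μ₀ • (1 : Matrix (Fin n) (Fin n) K))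
            ((A - 1) *ᵥ f) (by omega)
          obtain ⟨φ, hφ1, hφ2⟩ := hwit k hk2
          exact ⟨φ, hφ1, (k2_not_mem_perp _ _).2 ⟨k, hk1, hφ2⟩⟩
        · intro φ hφ
          obtain ⟨k, hk1, hk2⟩ := (k2_not_mem_perp _ _).1 hφ
          refine ⟨fun h => absurd h h2, ?_⟩
          intro μ hμ hr
          have hμμ : μ = μ₀ := by
            by_contra hne
            have h3 := rank_add_rank_ge A μ μ₀ hne
            rw [hr, hr₀] at h3
            omega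
          rw [hμμ]
          exact ⟨k, hk1, hk2⟩
      · refine ⟨{f}, ?_, ?_⟩
        · obtain ⟨φ, hφ1, hφ2⟩ := hwit f hfP
          exact ⟨φ, hφ1, (k2_not_mem_perp _ _).2 ⟨f, rfl, hφ2⟩⟩
        · intro φ _
          refine ⟨fun h => absurd h h2, ?_⟩
          intro μ hμ hr
          exact absurd ⟨μ, hμ, hr⟩ h1
  obtain ⟨T₄, h4a, h4b⟩ := h4
  -- the cover
  have hT : ∀ i : Fin 4, ∃ φ ∈ k2_perp {(A - 1) *ᵥ f},
      φ ∉ k2_perp ((![{f}, {x}, Set.range (fun v => (A - 1) *ᵥ v), T₄] :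
        Fin 4 → Set (Fin n → K)) i) := by
    intro i
    fin_cases i
    · obtain ⟨φ, hφ1, hφ2⟩ := hwit f hfP
      exact ⟨φ, hφ1, (k2_not_mem_perp _ _).2 ⟨f, rfl, hφ2⟩⟩
    · obtain ⟨φ, hφ1, hφ2⟩ := hwit x hxP
      exact ⟨φ, hφ1, (k2_not_mem_perp _ _).2 ⟨x, rfl, hφ2⟩⟩
    · obtain ⟨v, hv⟩ := hNv
      obtain ⟨φ, hφ1, hφ2⟩ := hwit _ hv
      exact ⟨φ, hφ1, (k2_not_mem_perp _ _).2 ⟨_, ⟨v, rfl⟩, hφ2⟩⟩
    · exact h4a
  obtain ⟨φ, hφW, hφ⟩ := k2_cover hK (k2_perp {(A - 1) *ᵥ f}) _ hT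
  have e0 := (k2_not_mem_perp _ _).1 (hφ 0)
  have e1 := (k2_not_mem_perp _ _).1 (hφ 1)
  have e2 := (k2_not_mem_perp _ _).1 (hφ 2)
  have e3 := hφ 3
  refine ⟨φ, ?_, ?_, ?_, ?_, ?_⟩
  · exact hφW _ rfl
  · obtain ⟨v, hv, h⟩ := e0
    have hv' : v = f := hv
    rwa [hv'] at h
  · obtain ⟨v, hv, h⟩ := e1
    have hv' : v = x := hv
    rwa [hv'] at h
  · obtain ⟨w, ⟨v, rfl⟩, h⟩ := e2
    intro h0
    apply h
    show φ ⬝ᵥ ((A - 1) *ᵥ v) = 0
    rw [Matrix.dotProduct_mulVec, h0, zero_dotProduct]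
  · exact h4b φ e3

end Cfsg.Agent.Helper44.LU
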