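import Mathlib
import Cfsg.Agent.Lib.Helper44.LUDefs
import Cfsg.Agent.Lib.Helper44.LUT3
import Cfsg.Agent.Lib.Helper44.LUC1
import Cfsg.Agent.Lib.Helper44.LUC2
import Cfsg.Agent.Lib.Helper44.LUC3

set_option autoImplicit false

namespace Cfsg.Agent.Helper44.LU

open Matrix

variable {K : Type*} [Field K]

/-- if `B` kills `ker φ'` (`φ' f = 1`) then `B v = (φ' v) • B f`. -/
theorem k3_mulVec_eq {n : ℕ} (B : Matrix (Fin n) (Fin n) K) (f φ' : Fin n → K)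
    (h1 : φ' ⬝ᵥ f = 1) (hcon : ∀ h, φ' ⬝ᵥ h = 0 → B *ᵥ h = 0) (v : Fin n → K) :
    B *ᵥ v = (φ' ⬝ᵥ v) • (B *ᵥ f) := by
  have hh : φ' ⬝ᵥ (v - (φ' ⬝ᵥ v) • f) = 0 := by
    rw [dotProduct_sub, dotProduct_smul, h1, smul_eq_mul, mul_one, sub_self]
  have := hcon _ hh
  rw [Matrix.mulVec_sub, Matrix.mulVec_smul, sub_eq_zero] at this
  exact this

theorem k3_eq_vecMulVec {n : ℕ} (B : Matrix (Fin n) (Fin n) K) (f φ' : Fin n → K)
    (h1 : φ' ⬝ᵥ f = 1) (hcon : ∀ h, φ' ⬝ᵥ h = 0 → B *ᵥ h = 0) :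
    B = Matrix.vecMulVec (B *ᵥ f) φ' := by
  ext i j
  have := congrFun (k3_mulVec_eq B f φ' h1 hcon (Pi.single j 1)) i
  rw [Matrix.mulVec_single_one] at this
  simp only [Matrix.col_apply, dotProduct_single, mul_one, Pi.smul_apply, smul_eq_mul] at this
  rw [Matrix.vecMulVec_apply, this, mul_comm]

theorem k3_mulVec_eq_zero_of_rank_eq_zero {n : ℕ} (B : Matrix (Fin n) (Fin n) K)
    (h : B.rank = 0) (v : Fin n → K) : B *ᵥ v = 0 := by
  have hr : LinearMap.range B.mulVecLin = ⊥ := by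
    apply Submodule.finrank_eq_zero.1
    exact h
  have : B.mulVecLin v ∈ LinearMap.range B.mulVecLin := ⟨v, rfl⟩
  rw [hr, Submodule.mem_bot, Matrix.mulVecLin_apply] at this
  exact this

theorem ge4_verify {n : ℕ} (hn : 4 ≤ n) (A : Matrix (Fin n) (Fin n) K) (hdet : A.det = 1)
    (hA : Good A) (x y f φ : Fin n → K) (hf : Pf4 A x y f) (hφ : Pphi4 A x f φ) :
    KLc A x y f ((φ ⬝ᵥ f)⁻¹ • φ) := by
  obtain ⟨f1, f2, f3, f4, f5⟩ := hf
  obtain ⟨p1, p2, p3, p4, p5, p6⟩ := hφ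
  obtain ⟨hA1, hA2⟩ := hA
  have hs0 : (φ ⬝ᵥ f)⁻¹ ≠ 0 := inv_ne_zero p2
  have hAf : A *ᵥ f = f + (A - 1) *ᵥ f := by
    rw [Matrix.sub_mulVec, Matrix.one_mulVec]; abel
  have h1 : ((φ ⬝ᵥ f)⁻¹ • φ) ⬝ᵥ f = 1 := by
    rw [smul_dotProduct, smul_eq_mul]; exact inv_mul_cancel₀ p2
  have h2 : ((φ ⬝ᵥ f)⁻¹ • φ) ⬝ᵥ (A *ᵥ f) = 1 := by
    rw [hAf, dotProduct_add, h1, smul_dotProduct, p1, smul_zero, add_zero]
  have hφ'k : ∀ k, φ ⬝ᵥ k ≠ 0 → ((φ ⬝ᵥ f)⁻¹ • φ) ⬝ᵥ k ≠ 0 := by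
    intro k hk
    rw [smul_dotProduct, smul_eq_mul]
    exact mul_ne_zero hs0 hk
  -- `det (A - 1) = 0` when the rank is small
  have hdet0 : (A - 1).rank < n → (A - 1).det = 0 := by
    intro hlt
    by_contra hne
    have hu : IsUnit (A - 1) := (Matrix.isUnit_iff_isUnit_det _).2 (Ne.isUnit hne)
    have := Matrix.rank_of_isUnit _ hu
    rw [Fintype.card_fin] at this
    omega
  refine ⟨h1, h2, ?_, ?_, ?_, f1, ?_, ?_⟩
  · -- `A f ≠ f`
    intro h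
    apply f2
    refine ⟨0, ?_⟩
    rw [zero_smul]
    have : f + (A - 1) *ᵥ f = f := by rw [← hAf]; exact h
    simpa using this
  · -- `φ' A ≠ φ'`
    intro h
    apply p4
    have e : ((φ ⬝ᵥ f)⁻¹ • φ) ᵥ* (A - 1) = 0 := by
      rw [Matrix.vecMul_sub, Matrix.vecMul_one, h, sub_self]
    rw [Matrix.smul_vecMul] at e
    rcases smul_eq_zero.1 e with h0 | h0
    · exact absurd h0 hs0
    · exact h0
  · -- `φ' x ≠ 0`
    exact hφ'k x p3
  · -- non-scalar part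
    intro c hc1 hcn
    have hc0 : c ≠ 0 := by
      rintro rfl
      rw [zero_pow (by omega)] at hcn
      exact zero_ne_one hcn
    by_cases hr : 3 ≤ (A - c • (1 : Matrix (Fin n) (Fin n) K)).rank
    · exact st_ne_smul_of_rank A f _ c h1 hr
    · have hr2 : (A - c • (1 : Matrix (Fin n) (Fin n) K)).rank ≤ 2 := by omega
      apply st_ne_smul_of_not_mem_range A f _ c hc0 (f5 c hc1 hr2)
      by_contra hcon
      push Not at hcon
      have hv := k3_mulVec_eq _ f _ h1 hcon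
      have hB := k3_eq_vecMulVec _ f _ h1 hcon
      by_cases hBf : (A - c • (1 : Matrix (Fin n) (Fin n) K)) *ᵥ f = 0
      · rw [hBf, Matrix.zero_vecMulVec] at hB
        exact hA1 c (sub_eq_zero.1 hB)
      · have hle : (A - c • (1 : Matrix (Fin n) (Fin n) K)).rank ≤ 1 := by
          rw [hB]; exact Matrix.rank_vecMulVec_le _ _
        have hne : (A - c • (1 : Matrix (Fin n) (Fin n) K)).rank ≠ 0 := fun h0 =>
          hBf (k3_mulVec_eq_zero_of_rank_eq_zero _ h0 f)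
        have heq : (A - c • (1 : Matrix (Fin n) (Fin n) K)).rank = 1 := by omega
        obtain ⟨k, hk0, hk1⟩ := p6 c hc1 heq
        have := hv k
        rw [hk0] at this
        rcases smul_eq_zero.1 this.symm with h0 | h0
        · exact hφ'k k hk1 h0
        · exact hBf h0
  · -- rank part
    have hr2 : 2 ≤ (A - 1).rank := two_le_rank_of_good A ⟨hA1, hA2⟩
    by_cases hr4 : 4 ≤ (A - 1).rank
    · exact rk_of_four_le A f _ h1 h2 hr4
    · have hlt : (A - 1).rank < n := by omega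
      have hfr : ∀ v, (A - 1) *ᵥ v ≠ f := f4 (hdet0 hlt)
      by_cases hr3 : 3 ≤ (A - 1).rank
      · exact rk_of_three_le A f _ h1 h2 hr3 hfr
      · have heq : (A - 1).rank = 2 := by omega
        obtain ⟨k, hk0, hk1⟩ := p5 heq
        exact rk_of_two_le A f _ h1 h2 hr2 hfr ⟨k, hk0, hφ'k k hk1⟩

end Cfsg.Agent.Helper44.LU
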