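import Mathlib
import Cfsg.Agent.Lib.Helper44.LUDefs
import Cfsg.Agent.Lib.Helper44.LUT1
import Cfsg.Agent.Lib.Helper44.LUT2
import Cfsg.Agent.Lib.Helper44.LUC4

set_option autoImplicit false

namespace Cfsg.Agent.Helper44.LU

open Matrix

variable {K : Type*} [Field K]

/-- two vectors do not span `K³` -/
theorem k4_span_pair_ne_top (a v : Fin 3 → K) :
    Submodule.span K {a} ⊔ Submodule.span K {v} ≠ ⊤ := by
  classical
  intro h
  have h1 : Module.finrank K ↥(Submodule.span K {a} ⊔ Submodule.span K {v}) ≤ 2 := by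
    have h2 := finrank_span_finset_le_card (R := K) ({a, v} : Finset (Fin 3 → K))
    rw [Set.finrank, Finset.coe_insert, Finset.coe_singleton, Submodule.span_insert] at h2
    exact h2.trans Finset.card_le_two
  rw [h, finrank_top] at h1
  simp at h1

/-- (K4) Existence of `f`, `n = 3`, `N := A - 1` invertible. Apply `plane_lemma` to the linear map
`B := (N * N)⁻¹ * A` (non-scalar by `nonscalar_aux_three`: `B = c` means `A = c • N * N`), with
`W₁ = ker y`, `W₂ = range (A + 1)` if `det (A + 1) = 0` (else `⊥`), `Z₁ = K • N⁻¹ x` (a line in `K³`, so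
`Z₁ ⊔ span {v}` has dimension `≤ 2`), `Z₂ = ⊥`. `B f = c • f` is `A f = c • N N f`. -/
theorem three_inv_exists_f (hK : (4 : Cardinal) ≤ Cardinal.mk K)
    (A : Matrix (Fin 3) (Fin 3) K) (hdet : A.det = 1) (hA : Good A) (hN : (A - 1).det ≠ 0)
    (x y : Fin 3 → K) (hx : x ≠ 0) (hy : y ≠ 0) :
    ∃ f, Pf3i A x y f := by
  classical
  have hNu : IsUnit (A - 1).det := isUnit_iff_ne_zero.2 hN
  have hNNu : IsUnit ((A - 1) * (A - 1)).det := by
    rw [Matrix.det_mul]
    exact hNu.mul hNu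
  -- the map `B`
  let B : (Fin 3 → K) →ₗ[K] (Fin 3 → K) := (((A - 1) * (A - 1))⁻¹ * A).mulVecLin
  have hBapp : ∀ v, B v = ((A - 1) * (A - 1))⁻¹ *ᵥ (A *ᵥ v) := by
    intro v
    show (((A - 1) * (A - 1))⁻¹ * A) *ᵥ v = _
    rw [Matrix.mulVec_mulVec]
  have hB : ¬ ∃ c : K, ∀ v, B v = c • v := by
    rintro ⟨c, hc⟩
    apply nonscalar_aux_three A hdet hN hA.1 c
    apply Matrix.toLin'.injective
    apply LinearMap.ext
    intro v
    rw [Matrix.toLin'_apply, Matrix.toLin'_apply]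
    have h1 := hc v
    rw [hBapp] at h1
    have h2 : ((A - 1) * (A - 1)) *ᵥ (((A - 1) * (A - 1))⁻¹ *ᵥ (A *ᵥ v)) = A *ᵥ v := by
      rw [Matrix.mulVec_mulVec, Matrix.mul_nonsing_inv _ hNNu, Matrix.one_mulVec]
    rw [← h2, h1, Matrix.mulVec_smul, Matrix.smul_mulVec]
  -- the subspaces
  let dotL : (Fin 3 → K) →ₗ[K] K :=
    { toFun := fun f => y ⬝ᵥ f
      map_add' := fun a b => dotProduct_add y a b
      map_smul' := fun c a => by simp [dotProduct_smul] }
  let W₁ : Submodule K (Fin 3 → K) := LinearMap.ker dotL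
  have hW₁ : W₁ ≠ ⊤ := by
    intro h
    obtain ⟨i, hi⟩ := Function.ne_iff.1 hy
    have hmem : (Pi.single i 1 : Fin 3 → K) ∈ W₁ := by rw [h]; trivial
    have h1 : y ⬝ᵥ (Pi.single i 1 : Fin 3 → K) = 0 := LinearMap.mem_ker.1 hmem
    rw [dotProduct_single, mul_one] at h1
    exact hi h1
  let W₂ : Submodule K (Fin 3 → K) :=
    if (A + 1).det = 0 then LinearMap.range (A + 1).mulVecLin else ⊥
  have hW₂ : W₂ ≠ ⊤ := by
    by_cases hd : (A + 1).det = 0
    · show (if (A + 1).det = 0 then LinearMap.range (A + 1).mulVecLin else ⊥) ≠ ⊤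
      rw [if_pos hd]
      intro h
      have hsurj : Function.Surjective (A + 1).mulVec := by
        intro v
        have hv : v ∈ LinearMap.range (A + 1).mulVecLin := by rw [h]; trivial
        obtain ⟨u, hu⟩ := hv
        exact ⟨u, hu⟩
      have hu := Matrix.mulVec_surjective_iff_isUnit.1 hsurj
      have hdu := (Matrix.isUnit_iff_isUnit_det _).1 hu
      rw [hd] at hdu
      exact not_isUnit_zero hdu
    · show (if (A + 1).det = 0 then LinearMap.range (A + 1).mulVecLin else ⊥) ≠ ⊤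
      rw [if_neg hd]
      exact bot_ne_top
  obtain ⟨f, hf1, hf2, hf3, -, hf5⟩ := plane_lemma hK B hB W₁ W₂
    (Submodule.span K {(A - 1)⁻¹ *ᵥ x}) (Submodule.span K {0}) hW₁ hW₂
    (fun v => k4_span_pair_ne_top _ v) (fun v => k4_span_pair_ne_top _ v)
  refine ⟨f, ?_, ?_, ?_, ?_⟩
  · intro h
    exact hf1 (LinearMap.mem_ker.2 h)
  · rintro ⟨c, hc⟩
    apply hf5
    refine ⟨c, ?_⟩
    rw [hBapp, hc, Matrix.mulVec_smul, Matrix.mulVec_mulVec, Matrix.nonsing_inv_mul _ hNNu,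
      Matrix.one_mulVec]
  · rintro ⟨c, hc⟩
    have h1 : (A - 1)⁻¹ *ᵥ x = c • f := by
      rw [hc, Matrix.mulVec_smul, Matrix.mulVec_mulVec, Matrix.nonsing_inv_mul _ hNu,
        Matrix.one_mulVec]
    by_cases hc0 : c = 0
    · apply hx
      rw [hc, hc0, zero_smul]
    · apply hf3
      rw [Submodule.mem_span_singleton]
      refine ⟨c⁻¹, ?_⟩
      rw [h1, smul_smul, inv_mul_cancel₀ hc0, one_smul]
  · intro hd v hv
    apply hf2
    show f ∈ (if (A + 1).det = 0 then LinearMap.range (A + 1).mulVecLin else ⊥)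
    rw [if_pos hd]
    exact ⟨v, hv⟩

end Cfsg.Agent.Helper44.LU
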