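import Mathlib
import Cfsg.Agent.Lib.Helper44.LUDefs
import Cfsg.Agent.Lib.Helper44.LUT1

set_option autoImplicit false

namespace Cfsg.Agent.Helper44.LU

open Matrix

variable {K : Type*} [Field K]

/-- a linear functional on `Fin n → K` is a dot product -/
theorem k5_exists_dot {n : ℕ} (g : (Fin n → K) →ₗ[K] K) :
    ∃ φ : Fin n → K, ∀ v, g v = φ ⬝ᵥ v := by
  refine ⟨fun i => g (fun j => if i = j then 1 else 0), fun v => ?_⟩
  rw [LinearMap.pi_apply_eq_sum_univ g v]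
  simp [dotProduct, mul_comm]

/-- a functional vanishing on `w` and on none of four vectors outside `K w` -/
theorem k5_avoid {n : ℕ} (hK : (4 : Cardinal) ≤ Cardinal.mk K) (w : Fin n → K)
    (u : Fin 4 → (Fin n → K)) (hu : ∀ i, u i ∉ Submodule.span K {w}) :
    ∃ φ : Fin n → K, φ ⬝ᵥ w = 0 ∧ ∀ i, φ ⬝ᵥ u i ≠ 0 := by
  let dotL : (Fin n → K) → ((Fin n → K) →ₗ[K] K) := fun u =>
    { toFun := fun φ => φ ⬝ᵥ u
      map_add' := fun a b => add_dotProduct a b u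
      map_smul' := fun c a => by simp [smul_dotProduct] }
  have hdotL : ∀ u φ, dotL u φ = φ ⬝ᵥ u := fun _ _ => rfl
  let Wc : Submodule K (Fin n → K) := LinearMap.ker (dotL w)
  let U : Fin 4 → Submodule K ↥Wc := fun i => (LinearMap.ker (dotL (u i))).comap Wc.subtype
  have hU : ∀ i, U i ≠ ⊤ := by
    intro i hi
    obtain ⟨g, hg1, hg2⟩ := Submodule.exists_le_ker_of_notMem (hu i)
    obtain ⟨φ, hφ⟩ := k5_exists_dot g
    have hφw : φ ⬝ᵥ w = 0 := by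
      rw [← hφ]
      exact hg2 (Submodule.mem_span_singleton_self w)
    have hmem : (⟨φ, (LinearMap.mem_ker.2 (hdotL w φ ▸ hφw) : φ ∈ Wc)⟩ : ↥Wc) ∈ U i := by
      rw [hi]; trivial
    apply hg1
    rw [hφ]
    exact hmem
  obtain ⟨v, hv⟩ := bc_cover 4 (by exact_mod_cast hK) U hU
  exact ⟨v.1, v.2, fun i h => hv i h⟩

/-- (K5) Existence of `φ`, `n = 3`, `N := A - 1` invertible. `𝒲 := {φ | φ ⬝ᵥ (N f) = 0}` is a plane (`N f ≠ 0`).
`bc_cover 4` in `𝒲` with `U₁ = {φ f = 0}`, `U₂ = {φ x = 0}`, `U₃ = {φ (N⁻¹ (A f)) = 0}`,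
`U₄ = {φ | ∀ k ∈ ker (A + 1), φ k = 0}` if `rank (A + 1) = 1` (a line), else `⊥`.
Properness in `𝒲`: `U₁`: `f ∈ K • N f` would give `N f = c • f`, `c ≠ 0`, hence `A f = ((1 + c)/c²) • N N f`, against `hf`;
`U₂`: `hxf`, `hx`; `U₃`: `N⁻¹ (A f) ∈ K • N f` gives `A f ∈ K • N N f`, against `hf`. -/
theorem three_inv_exists_phi (hK : (4 : Cardinal) ≤ Cardinal.mk K)
    (A : Matrix (Fin 3) (Fin 3) K) (hN : (A - 1).det ≠ 0) (x f : Fin 3 → K) (hx : x ≠ 0) (hf0 : f ≠ 0)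
    (hf : ¬ ∃ c : K, A *ᵥ f = c • (((A - 1) * (A - 1)) *ᵥ f))
    (hxf : ¬ ∃ c : K, x = c • ((A - 1) *ᵥ f)) :
    ∃ φ, Pphi3i A x f φ := by
  have hNu : IsUnit (A - 1).det := isUnit_iff_ne_zero.2 hN
  have hAf : A *ᵥ f = f + (A - 1) *ᵥ f := by
    rw [Matrix.sub_mulVec, Matrix.one_mulVec]; abel
  have hNN : ((A - 1) * (A - 1)) *ᵥ f = (A - 1) *ᵥ ((A - 1) *ᵥ f) := by
    rw [Matrix.mulVec_mulVec]
  -- u₁ = f
  have h1 : f ∉ Submodule.span K {(A - 1) *ᵥ f} := by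
    rw [Submodule.mem_span_singleton]
    rintro ⟨c, hc⟩
    have hc0 : c ≠ 0 := by
      rintro rfl
      rw [zero_smul] at hc
      exact hf0 hc.symm
    have hw : (A - 1) *ᵥ f = c⁻¹ • f := by
      calc (A - 1) *ᵥ f = c⁻¹ • (c • (A - 1) *ᵥ f) := by
            rw [smul_smul, inv_mul_cancel₀ hc0, one_smul]
        _ = c⁻¹ • f := by rw [hc]
    apply hf
    refine ⟨(1 + c⁻¹) * c * c, ?_⟩
    rw [hNN, hAf, hw, Matrix.mulVec_smul, hw, smul_smul, smul_smul]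
    have e1 : (1 + c⁻¹) * c * c * c⁻¹ * c⁻¹ = 1 + c⁻¹ := by
      field_simp
    rw [e1, add_smul, one_smul]
  -- u₂ = x
  have h2 : x ∉ Submodule.span K {(A - 1) *ᵥ f} := by
    rw [Submodule.mem_span_singleton]
    rintro ⟨c, hc⟩
    exact hxf ⟨c, hc.symm⟩
  -- u₃ = N⁻¹ (A f)
  have hg : (A - 1) *ᵥ ((A - 1)⁻¹ *ᵥ (A *ᵥ f)) = A *ᵥ f := by
    rw [Matrix.mulVec_mulVec, Matrix.mul_nonsing_inv _ hNu, Matrix.one_mulVec]
  have h3 : (A - 1)⁻¹ *ᵥ (A *ᵥ f) ∉ Submodule.span K {(A - 1) *ᵥ f} := by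
    rw [Submodule.mem_span_singleton]
    rintro ⟨c, hc⟩
    apply hf
    refine ⟨c, ?_⟩
    rw [hNN, ← Matrix.mulVec_smul, hc, hg]
  -- u₄
  have h4 : ∃ u₄ : Fin 3 → K, u₄ ∉ Submodule.span K {(A - 1) *ᵥ f} ∧
      ((A + 1).rank = 1 → (A + 1) *ᵥ u₄ = 0) := by
    by_cases hr : (A + 1).rank = 1
    · have hker : Module.finrank K (LinearMap.ker (A + 1).mulVecLin) = 2 := by
        have h := LinearMap.finrank_range_add_finrank_ker (A + 1).mulVecLin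
        have hr' : Module.finrank K (LinearMap.range (A + 1).mulVecLin) = 1 := hr
        rw [hr'] at h
        simp at h
        omega
      have hnle : ¬ LinearMap.ker (A + 1).mulVecLin ≤ Submodule.span K {(A - 1) *ᵥ f} := by
        intro hle
        have h5 := Submodule.finrank_mono hle
        have h6 : Module.finrank K (Submodule.span K {(A - 1) *ᵥ f}) ≤ 1 :=
          (finrank_span_le_card ({(A - 1) *ᵥ f} : Set (Fin 3 → K))).trans (by simp)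
        omega
      obtain ⟨k, hk1, hk2⟩ := SetLike.not_le_iff_exists.1 hnle
      exact ⟨k, hk2, fun _ => LinearMap.mem_ker.1 hk1⟩
    · exact ⟨f, h1, fun h => absurd h hr⟩
  obtain ⟨u₄, hu4, hu4'⟩ := h4
  obtain ⟨φ, hφw, hφu⟩ := k5_avoid hK ((A - 1) *ᵥ f)
    ![f, x, (A - 1)⁻¹ *ᵥ (A *ᵥ f), u₄] (by
      intro i
      fin_cases i
      · exact h1
      · exact h2
      · exact h3
      · exact hu4)
  refine ⟨φ, hφw, hφu 0, hφu 1, hφu 2, fun hr => ⟨u₄, hu4' hr, hφu 3⟩⟩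

end Cfsg.Agent.Helper44.LU
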