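import Mathlib
import Cfsg.Agent.Lib.Helper44.LUDefs
import Cfsg.Agent.Lib.Helper44.LUC1
import Cfsg.Agent.Lib.Helper44.LUC3

set_option autoImplicit false

namespace Cfsg.Agent.Helper44.LU

open Matrix

variable {K : Type*} [Field K]

/-- (K6) Verification, `n = 3`, `N := A - 1` invertible. `φ' := (φ ⬝ᵥ f)⁻¹ • φ`.
`φ' f = 1`, `φ' (A f) = 1`; `A f ≠ f` (`N f ≠ 0` since `f ≠ 0`, `N` invertible); `φ' A ≠ φ'` (`φ' N ≠ 0`, `N` invertible).
Non-scalar part: `c ≠ 1`, `c ^ 2 = 1` forces `c = -1` and `A - c • 1 = A + 1`. If `det (A + 1) ≠ 0`, `rank = 3`: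
`st_ne_smul_of_rank`. Else `f ∉ range (A + 1)` (`Pf3i`) and some `h ∈ ker φ'` has `(A + 1) h ≠ 0`
(`rank (A + 1) = 0` contradicts `Good`; `rank = 2`: the kernel is a line; `rank = 1`: the `k` of `Pphi3i`):
`st_ne_smul_of_not_mem_range` with `c = -1 ≠ 0`.
Rank part: `rk_of_inv_three` with `g := N⁻¹ (A f)`. -/
theorem three_inv_verify (A : Matrix (Fin 3) (Fin 3) K) (hdet : A.det = 1) (hA : Good A)
    (hN : (A - 1).det ≠ 0) (x y f φ : Fin 3 → K) (hf : Pf3i A x y f) (hφ : Pphi3i A x f φ) :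
    KLc A x y f ((φ ⬝ᵥ f)⁻¹ • φ) := by
  classical
  obtain ⟨hyf, -, -, hfA1⟩ := hf
  obtain ⟨hφN, hφf, hφx, hφg, hφk⟩ := hφ
  have hNu : IsUnit (A - 1).det := isUnit_iff_ne_zero.2 hN
  have hAf : A *ᵥ f = f + (A - 1) *ᵥ f := by
    rw [Matrix.sub_mulVec, Matrix.one_mulVec]; abel
  set d := φ ⬝ᵥ f with hd
  have hdot : ∀ v, ((d⁻¹ • φ) ⬝ᵥ v) = d⁻¹ * (φ ⬝ᵥ v) := by
    intro v
    rw [smul_dotProduct, smul_eq_mul]
  have h1 : (d⁻¹ • φ) ⬝ᵥ f = 1 := by
    rw [hdot, ← hd, inv_mul_cancel₀ hφf]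
  have h2 : (d⁻¹ • φ) ⬝ᵥ (A *ᵥ f) = 1 := by
    rw [hdot, hAf, dotProduct_add, hφN, add_zero, ← hd, inv_mul_cancel₀ hφf]
  have hf0 : f ≠ 0 := by
    rintro rfl
    apply hφf
    rw [hd, dotProduct_zero]
  refine ⟨h1, h2, ?_, ?_, ?_, hyf, ?_, ?_⟩
  · -- A f ≠ f
    intro h
    apply hf0
    have h3 : (A - 1) *ᵥ f = 0 := by
      rw [Matrix.sub_mulVec, Matrix.one_mulVec, h, sub_self]
    calc f = ((A - 1)⁻¹ * (A - 1)) *ᵥ f := by
          rw [Matrix.nonsing_inv_mul _ hNu, Matrix.one_mulVec]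
      _ = 0 := by rw [← Matrix.mulVec_mulVec, h3, Matrix.mulVec_zero]
  · -- φ' A ≠ φ'
    intro h
    have h3 : (d⁻¹ • φ) ᵥ* (A - 1) = 0 := by
      rw [Matrix.vecMul_sub, Matrix.vecMul_one, h, sub_self]
    have h4 : (d⁻¹ • φ) = 0 := by
      calc (d⁻¹ • φ) = (d⁻¹ • φ) ᵥ* ((A - 1) * (A - 1)⁻¹) := by
            rw [Matrix.mul_nonsing_inv _ hNu, Matrix.vecMul_one]
        _ = 0 := by rw [← Matrix.vecMul_vecMul, h3, Matrix.zero_vecMul]
    rw [h4, zero_dotProduct] at h1
    exact zero_ne_one h1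
  · -- φ' x ≠ 0
    rw [hdot]
    exact mul_ne_zero (inv_ne_zero hφf) hφx
  · -- non-scalar part
    intro c hc1 hc2
    have hcm : c = -1 := by
      have h3 : (c - 1) * (c + 1) = 0 := by
        have : (3 - 1 : ℕ) = 2 := rfl
        rw [this] at hc2
        linear_combination hc2
      rcases mul_eq_zero.1 h3 with h4 | h4
      · exact absurd (sub_eq_zero.1 h4) hc1
      · exact eq_neg_of_add_eq_zero_left h4
    have hAc : A - c • (1 : Matrix (Fin 3) (Fin 3) K) = A + 1 := by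
      rw [hcm, neg_smul, one_smul, sub_neg_eq_add]
    by_cases hdA : (A + 1).det = 0
    · apply st_ne_smul_of_not_mem_range A f (d⁻¹ • φ) c
      · rw [hcm]
        exact neg_ne_zero.2 one_ne_zero
      · rw [hAc]
        exact hfA1 hdA
      · rw [hAc]
        by_contra hcon
        push Not at hcon
        -- `(A + 1) v = (φ' v) • (A + 1) f`
        have hv : ∀ v, (A + 1) *ᵥ v = ((d⁻¹ • φ) ⬝ᵥ v) • ((A + 1) *ᵥ f) := by
          intro v
          have h3 : (d⁻¹ • φ) ⬝ᵥ (v - ((d⁻¹ • φ) ⬝ᵥ v) • f) = 0 := by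
            rw [dotProduct_sub, dotProduct_smul, h1, smul_eq_mul, mul_one, sub_self]
          have h4 := hcon _ h3
          rw [Matrix.mulVec_sub, Matrix.mulVec_smul, sub_eq_zero] at h4
          exact h4
        by_cases hAf0 : (A + 1) *ᵥ f = 0
        · -- A + 1 = 0
          apply hA.1 (-1)
          have h3 : A + 1 = 0 := by
            apply Matrix.toLin'.injective
            apply LinearMap.ext
            intro v
            rw [Matrix.toLin'_apply, hv v, hAf0, smul_zero]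
            simp
          rw [neg_smul, one_smul]
          exact eq_neg_of_add_eq_zero_left h3
        · -- rank (A + 1) = 1
          have hvm : A + 1 = Matrix.vecMulVec ((A + 1) *ᵥ f) (d⁻¹ • φ) := by
            apply Matrix.toLin'.injective
            apply LinearMap.ext
            intro v
            rw [Matrix.toLin'_apply, Matrix.toLin'_apply, hv v, Matrix.vecMulVec_mulVec,
              op_smul_eq_smul]
          have hle : (A + 1).rank ≤ 1 := by
            rw [hvm]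
            exact Matrix.rank_vecMulVec_le _ _
          have hne0 : (A + 1).rank ≠ 0 := by
            intro h0
            have h3 : LinearMap.range (A + 1).mulVecLin = ⊥ := Submodule.finrank_eq_zero.1 h0
            apply hAf0
            have h4 : (A + 1) *ᵥ f ∈ LinearMap.range (A + 1).mulVecLin := ⟨f, rfl⟩
            rw [h3] at h4
            exact (Submodule.mem_bot K).1 h4
          have hr1 : (A + 1).rank = 1 := by omega
          obtain ⟨k, hk1, hk2⟩ := hφk hr1
          have h3 := hv k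
          rw [hk1] at h3
          have h4 : ((d⁻¹ • φ) ⬝ᵥ k) ≠ 0 := by
            rw [hdot]
            exact mul_ne_zero (inv_ne_zero hφf) hk2
          exact smul_ne_zero h4 hAf0 h3.symm
    · apply st_ne_smul_of_rank A f (d⁻¹ • φ) c h1
      rw [hAc, Matrix.rank_of_isUnit _ ((Matrix.isUnit_iff_isUnit_det _).2 (isUnit_iff_ne_zero.2 hdA))]
      simp
  · -- rank part
    apply rk_of_inv_three A f (d⁻¹ • φ) ((A - 1)⁻¹ *ᵥ (A *ᵥ f)) h1 h2 hN
    · rw [Matrix.mulVec_mulVec, Matrix.mul_nonsing_inv _ hNu, Matrix.one_mulVec]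
    · rw [hdot]
      exact mul_ne_zero (inv_ne_zero hφf) hφg

end Cfsg.Agent.Helper44.LU
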