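import Mathlib
import Cfsg.Agent.Lib.Helper44.LUDefs
import Cfsg.Agent.Lib.Helper44.LUT1
import Cfsg.Agent.Lib.Helper44.LUT3

set_option autoImplicit false

namespace Cfsg.Agent.Helper44.LU

open Matrix

variable {K : Type*} [Field K]

/-- the kernel of `y ⬝ᵥ ·` as a submodule -/
def k7_kerDot {n : ℕ} (y : Fin n → K) : Submodule K (Fin n → K) where
  carrier := {f | y ⬝ᵥ f = 0}
  add_mem' := by
    intro a b ha hb
    change y ⬝ᵥ a = 0 at ha
    change y ⬝ᵥ b = 0 at hb
    change y ⬝ᵥ (a + b) = 0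
    rw [dotProduct_add, ha, hb, add_zero]
  zero_mem' := dotProduct_zero y
  smul_mem' := by
    intro c a ha
    change y ⬝ᵥ a = 0 at ha
    change y ⬝ᵥ (c • a) = 0
    rw [dotProduct_smul, ha, smul_zero]

theorem k7_mem_kerDot {n : ℕ} (y f : Fin n → K) : f ∈ k7_kerDot y ↔ y ⬝ᵥ f = 0 := Iff.rfl

theorem k7_kerDot_ne_top {n : ℕ} (y : Fin n → K) (hy : y ≠ 0) : k7_kerDot y ≠ ⊤ := by
  intro h
  apply hy
  funext i
  have : Pi.single i (1 : K) ∈ k7_kerDot y := by rw [h]; trivial
  rw [k7_mem_kerDot, dotProduct_single_one] at this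
  exact this

/-- the range of a singular matrix is a proper subspace -/
theorem k7_range_ne_top {n : ℕ} (M : Matrix (Fin n) (Fin n) K) (hM : M.det = 0) :
    LinearMap.range M.mulVecLin ≠ ⊤ := by
  intro h
  obtain ⟨w, hw0, hw⟩ := (Matrix.exists_vecMul_eq_zero_iff).2 hM
  apply hw0
  funext i
  have hmem : Pi.single i (1 : K) ∈ LinearMap.range M.mulVecLin := by rw [h]; trivial
  obtain ⟨v, hv⟩ := hmem
  rw [Matrix.mulVecLin_apply] at hv
  have h1 : w ⬝ᵥ (M *ᵥ v) = 0 := by
    rw [Matrix.dotProduct_mulVec, hw, zero_dotProduct]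
  rw [hv, dotProduct_single_one] at h1
  exact h1

theorem k7_not_mem_range {n : ℕ} (M : Matrix (Fin n) (Fin n) K) (f : Fin n → K)
    (hf : f ∉ LinearMap.range M.mulVecLin) : ∀ v, M *ᵥ v ≠ f := by
  intro v hv
  exact hf ⟨v, by rw [Matrix.mulVecLin_apply, hv]⟩

/-- `N * N ≠ 0` when `rank N ≥ 2` in dimension 3 -/
theorem k7_sq_ne_zero (N : Matrix (Fin 3) (Fin 3) K) (hr : 2 ≤ N.rank) : N * N ≠ 0 := by
  intro h0
  have hle : LinearMap.range N.mulVecLin ≤ LinearMap.ker N.mulVecLin := by
    rintro u ⟨v, rfl⟩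
    rw [LinearMap.mem_ker, Matrix.mulVecLin_apply, Matrix.mulVecLin_apply, Matrix.mulVec_mulVec, h0,
      Matrix.zero_mulVec]
  have h1 := LinearMap.finrank_range_add_finrank_ker N.mulVecLin
  have h2 := Submodule.finrank_mono hle
  have h3 : Module.finrank K (Fin 3 → K) = 3 := Module.finrank_fin_fun K
  have h4 : N.rank = Module.finrank K (LinearMap.range N.mulVecLin) := rfl
  omega

theorem k7_ker_ne_top {n : ℕ} (M : Matrix (Fin n) (Fin n) K) (hM : M ≠ 0) :
    LinearMap.ker M.mulVecLin ≠ ⊤ := by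
  intro h
  apply hM
  ext i j
  have hmem : Pi.single j (1 : K) ∈ LinearMap.ker M.mulVecLin := by rw [h]; trivial
  rw [LinearMap.mem_ker, Matrix.mulVecLin_apply] at hmem
  have h3 := congrFun hmem i
  simpa [Matrix.mulVec_single_one] using h3

/-- `{v | N v ∈ K x}` is proper when `rank N ≥ 2` -/
theorem k7_comap_ne_top {n : ℕ} (N : Matrix (Fin n) (Fin n) K) (hr : 2 ≤ N.rank) (x : Fin n → K) :
    Submodule.comap N.mulVecLin (Submodule.span K {x}) ≠ ⊤ := by
  intro h
  have hle : LinearMap.range N.mulVecLin ≤ Submodule.span K {x} := by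
    rintro u ⟨v, rfl⟩
    have : v ∈ Submodule.comap N.mulVecLin (Submodule.span K {x}) := by rw [h]; trivial
    exact this
  have h2 := Submodule.finrank_mono hle
  have h3 : Module.finrank K (Submodule.span K {x}) ≤ 1 := by
    have := finrank_span_le_card (R := K) ({x} : Set (Fin n → K))
    simpa using this
  have h4 : N.rank = Module.finrank K (LinearMap.range N.mulVecLin) := rfl
  omega

theorem k7_not_smul {n : ℕ} (N : Matrix (Fin n) (Fin n) K) (x f : Fin n → K) (hx : x ≠ 0)
    (hf : f ∉ Submodule.comap N.mulVecLin (Submodule.span K {x})) :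
    ¬ ∃ c : K, x = c • (N *ᵥ f) := by
  rintro ⟨c, hc⟩
  apply hf
  rw [Submodule.mem_comap, Matrix.mulVecLin_apply, Submodule.mem_span_singleton]
  have hc0 : c ≠ 0 := by
    intro h
    apply hx
    rw [hc, h, zero_smul]
  refine ⟨c⁻¹, ?_⟩
  rw [hc, smul_smul, inv_mul_cancel₀ hc0, one_smul]

/-- (K7) Existence of `f`, `n = 3`, `N := A - 1` singular (so `rank N = 2` by `two_le_rank_of_good`).
`bc_cover` with the proper subspaces `ker y`, `range N`, `ker (N * N)` (`N * N ≠ 0`: else `range N ⊆ ker N`, `2 ≤ 1`),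
`{v | N v ∈ K x}` (proper, else `rank N ≤ 1`), and `range (A + 1)` when `det (A + 1) = 0`.
If `(2 : K) = 0` then `A + 1 = A - 1` and the last one is `range N` again: use `bc_cover 4`.
If `(2 : K) ≠ 0` use `five_le_card` and `bc_cover 5`. -/
theorem three_sing_exists_f (hK : (4 : Cardinal) ≤ Cardinal.mk K)
    (A : Matrix (Fin 3) (Fin 3) K) (hA : Good A) (hN : (A - 1).det = 0)
    (x y : Fin 3 → K) (hx : x ≠ 0) (hy : y ≠ 0) :
    ∃ f, Pf3s A x y f := by
  classical
  have hr := two_le_rank_of_good A hA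
  have hW1 := k7_kerDot_ne_top y hy
  have hW2 := k7_range_ne_top (A - 1) hN
  have hW3 := k7_ker_ne_top ((A - 1) * (A - 1)) (k7_sq_ne_zero (A - 1) hr)
  have hW4 := k7_comap_ne_top (A - 1) hr x
  by_cases h2 : (2 : K) = 0
  · -- characteristic 2 : `A + 1 = A - 1`
    have h11 : (1 : Matrix (Fin 3) (Fin 3) K) = -1 := by
      rw [eq_neg_iff_add_eq_zero, ← two_smul K (1 : Matrix (Fin 3) (Fin 3) K), h2, zero_smul]
    have hAA : A + 1 = A - 1 := by
      rw [sub_eq_add_neg, ← h11]
    obtain ⟨f, hf⟩ := bc_cover 4 (by exact_mod_cast hK)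
      ![k7_kerDot y, LinearMap.range (A - 1).mulVecLin,
        LinearMap.ker ((A - 1) * (A - 1)).mulVecLin,
        Submodule.comap (A - 1).mulVecLin (Submodule.span K {x})]
      (by
        intro i
        fin_cases i
        · exact hW1
        · exact hW2
        · exact hW3
        · exact hW4)
    have h1 : f ∉ k7_kerDot y := hf 0
    have h2' : f ∉ LinearMap.range (A - 1).mulVecLin := hf 1
    have h3 : f ∉ LinearMap.ker ((A - 1) * (A - 1)).mulVecLin := hf 2
    have h4 : f ∉ Submodule.comap (A - 1).mulVecLin (Submodule.span K {x}) := hf 3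
    refine ⟨f, h1, k7_not_mem_range _ f h2', ?_, k7_not_smul _ x f hx h4, ?_⟩
    · intro h
      apply h3
      rw [LinearMap.mem_ker, Matrix.mulVecLin_apply, h]
    · intro _
      rw [hAA]
      exact k7_not_mem_range _ f h2'
  · have h5 := five_le_card hK h2
    obtain ⟨f, hf⟩ := bc_cover 5 (by exact_mod_cast h5)
      ![k7_kerDot y, LinearMap.range (A - 1).mulVecLin,
        LinearMap.ker ((A - 1) * (A - 1)).mulVecLin,
        Submodule.comap (A - 1).mulVecLin (Submodule.span K {x}),
        if (A + 1).det = 0 then LinearMap.range (A + 1).mulVecLin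
          else LinearMap.range (A - 1).mulVecLin]
      (by
        intro i
        fin_cases i
        · exact hW1
        · exact hW2
        · exact hW3
        · exact hW4
        · change (if (A + 1).det = 0 then LinearMap.range (A + 1).mulVecLin
            else LinearMap.range (A - 1).mulVecLin) ≠ ⊤
          split_ifs with hd
          · exact k7_range_ne_top (A + 1) hd
          · exact hW2)
    have h1 : f ∉ k7_kerDot y := hf 0
    have h2' : f ∉ LinearMap.range (A - 1).mulVecLin := hf 1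
    have h3 : f ∉ LinearMap.ker ((A - 1) * (A - 1)).mulVecLin := hf 2
    have h4 : f ∉ Submodule.comap (A - 1).mulVecLin (Submodule.span K {x}) := hf 3
    have h5' : f ∉ (if (A + 1).det = 0 then LinearMap.range (A + 1).mulVecLin
          else LinearMap.range (A - 1).mulVecLin) := hf 4
    refine ⟨f, h1, k7_not_mem_range _ f h2', ?_, k7_not_smul _ x f hx h4, ?_⟩
    · intro h
      apply h3
      rw [LinearMap.mem_ker, Matrix.mulVecLin_apply, h]
    · intro hd
      rw [if_pos hd] at h5'
      exact k7_not_mem_range _ f h5'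

end Cfsg.Agent.Helper44.LU
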