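import Mathlib
import Cfsg.Agent.Lib.Helper44.LUDefs
import Cfsg.Agent.Lib.Helper44.LUT1
import Cfsg.Agent.Lib.Helper44.LUT3

set_option autoImplicit false

namespace Cfsg.Agent.Helper44.LU

open Matrix

variable {K : Type*} [Field K]

/-- the row vectors `φ` with `φ ⬝ᵥ k = 0`, as a submodule -/
def k8_ann {n : ℕ} (k : Fin n → K) : Submodule K (Fin n → K) where
  carrier := {φ | φ ⬝ᵥ k = 0}
  add_mem' := by
    intro a b ha hb
    change a ⬝ᵥ k = 0 at ha
    change b ⬝ᵥ k = 0 at hb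
    change (a + b) ⬝ᵥ k = 0
    rw [add_dotProduct, ha, hb, add_zero]
  zero_mem' := zero_dotProduct k
  smul_mem' := by
    intro c a ha
    change a ⬝ᵥ k = 0 at ha
    change (c • a) ⬝ᵥ k = 0
    rw [smul_dotProduct, ha, smul_zero]

theorem k8_mem_ann {n : ℕ} (k φ : Fin n → K) : φ ∈ k8_ann k ↔ φ ⬝ᵥ k = 0 := Iff.rfl

/-- a vector outside the line `K g` is separated from `g` by a row vector -/
theorem k8_separate {n : ℕ} (g k : Fin n → K) (hk : ¬ ∃ c : K, k = c • g) :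
    ∃ φ : Fin n → K, φ ⬝ᵥ g = 0 ∧ φ ⬝ᵥ k ≠ 0 := by
  by_cases hg : g = 0
  · have hk0 : k ≠ 0 := by
      intro h
      exact hk ⟨0, by rw [h, zero_smul]⟩
    obtain ⟨i, hi⟩ := Function.ne_iff.1 hk0
    refine ⟨Pi.single i 1, ?_, ?_⟩
    · rw [hg, dotProduct_zero]
    · rw [single_one_dotProduct]
      exact hi
  · obtain ⟨i, hi⟩ := Function.ne_iff.1 hg
    have hi' : g i ≠ 0 := hi
    have hk' : k - (k i / g i) • g ≠ 0 := by
      intro h
      exact hk ⟨k i / g i, sub_eq_zero.1 h⟩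
    obtain ⟨j, hj⟩ := Function.ne_iff.1 hk'
    have hj' : k j - k i / g i * g j ≠ 0 := by
      simpa using hj
    refine ⟨Pi.single j 1 - (g j / g i) • Pi.single i 1, ?_, ?_⟩
    · rw [sub_dotProduct, smul_dotProduct, single_one_dotProduct, single_one_dotProduct, smul_eq_mul,
        div_mul_cancel₀ _ hi', sub_self]
    · rw [sub_dotProduct, smul_dotProduct, single_one_dotProduct, single_one_dotProduct, smul_eq_mul]
      intro h
      apply hj'
      rw [← h]
      field_simp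

/-- simultaneous separation, over a field with at least `m` elements -/
theorem k8_cover {n m : ℕ} (hK : (m : Cardinal) ≤ Cardinal.mk K) (g : Fin n → K)
    (k : Fin m → (Fin n → K)) (hk : ∀ i, ¬ ∃ c : K, k i = c • g) :
    ∃ φ : Fin n → K, φ ⬝ᵥ g = 0 ∧ ∀ i, φ ⬝ᵥ k i ≠ 0 := by
  have hW : ∀ i, Submodule.comap (k8_ann g).subtype (k8_ann (k i)) ≠ ⊤ := by
    intro i h
    obtain ⟨φ, h1, h2⟩ := k8_separate g (k i) (hk i)
    have hmem : (⟨φ, h1⟩ : ↥(k8_ann g)) ∈ Submodule.comap (k8_ann g).subtype (k8_ann (k i)) := by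
      rw [h]; trivial
    exact h2 hmem
  obtain ⟨v, hv⟩ := bc_cover m hK
    (fun i => Submodule.comap (k8_ann g).subtype (k8_ann (k i))) hW
  refine ⟨v.1, v.2, ?_⟩
  intro i h
  exact hv i h

/-- (K8) Existence of `φ`, `n = 3`, `N := A - 1` singular of rank 2. `𝒲 := {φ | φ ⬝ᵥ (N f) = 0}` is a plane
(`N f ≠ 0` by `hf2`). `bc_cover` in `𝒲` with `U₁ = {φ f = 0}` (proper: `f ∈ K • N f` would put `f ∈ range N`, against `hf1`),
`U₂ = {φ x = 0}` (`hxf`, `hx`), `U₃ = {φ ᵥ* N = 0}` (a line, as `rank N = 2`),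
`U₄ = {φ | ∀ k ∈ ker N, φ k = 0}` (proper in `𝒲`: `ker N` is a line not containing `N f` by `hf2`, so some `φ ∈ 𝒲` is
nonzero on it), `U₅ = {φ | ∀ k ∈ ker (A + 1), φ k = 0}` if `rank (A + 1) = 1` (a line).
If `(2 : K) = 0` then `A + 1 = A - 1` has rank 2, `U₅` is not needed: `bc_cover 4`; else `five_le_card`, `bc_cover 5`. -/
theorem three_sing_exists_phi (hK : (4 : Cardinal) ≤ Cardinal.mk K)
    (A : Matrix (Fin 3) (Fin 3) K) (hA : Good A) (hN : (A - 1).det = 0) (x f : Fin 3 → K) (hx : x ≠ 0)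
    (hf1 : ∀ v, (A - 1) *ᵥ v ≠ f) (hf2 : ((A - 1) * (A - 1)) *ᵥ f ≠ 0)
    (hxf : ¬ ∃ c : K, x = c • ((A - 1) *ᵥ f)) :
    ∃ φ, Pphi3s A x f φ := by
  classical
  have hr := two_le_rank_of_good A hA
  set g := (A - 1) *ᵥ f with hg
  have hNg : (A - 1) *ᵥ g ≠ 0 := by
    rw [hg, Matrix.mulVec_mulVec]
    exact hf2
  -- `f ∉ K g`
  have hkf : ¬ ∃ c : K, f = c • g := by
    rintro ⟨c, hc⟩
    apply hf1 (c • f)
    rw [Matrix.mulVec_smul, ← hg, ← hc]
  -- some `N v₀ ∉ K g`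
  obtain ⟨v₀, hv₀⟩ : ∃ v₀, ¬ ∃ c : K, (A - 1) *ᵥ v₀ = c • g := by
    by_contra hcon
    push Not at hcon
    have hle : LinearMap.range (A - 1).mulVecLin ≤ Submodule.span K {g} := by
      rintro u ⟨v, rfl⟩
      obtain ⟨c, hc⟩ := hcon v
      rw [Matrix.mulVecLin_apply, hc]
      exact Submodule.smul_mem _ _ (Submodule.mem_span_singleton_self g)
    have h2 := Submodule.finrank_mono hle
    have h3 : Module.finrank K (Submodule.span K {g}) ≤ 1 := by
      have := finrank_span_le_card (R := K) ({g} : Set (Fin 3 → K))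
      simpa using this
    have h4 : (A - 1).rank = Module.finrank K (LinearMap.range (A - 1).mulVecLin) := rfl
    omega
  -- a kernel vector of `N`, not in `K g`
  obtain ⟨k₀, hk₀0, hk₀⟩ := (Matrix.exists_mulVec_eq_zero_iff).2 hN
  have hkk : ¬ ∃ c : K, k₀ = c • g := by
    rintro ⟨c, hc⟩
    have hc0 : c ≠ 0 := by
      intro h
      apply hk₀0
      rw [hc, h, zero_smul]
    apply hNg
    have : g = c⁻¹ • k₀ := by
      rw [hc, smul_smul, inv_mul_cancel₀ hc0, one_smul]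
    rw [this, Matrix.mulVec_smul, hk₀, smul_zero]
  by_cases h2 : (2 : K) = 0
  · have h11 : (1 : Matrix (Fin 3) (Fin 3) K) = -1 := by
      rw [eq_neg_iff_add_eq_zero, ← two_smul K (1 : Matrix (Fin 3) (Fin 3) K), h2, zero_smul]
    have hAA : A + 1 = A - 1 := by
      rw [sub_eq_add_neg, ← h11]
    obtain ⟨φ, hφg, hφ⟩ := k8_cover (m := 4) (by exact_mod_cast hK) g
      ![f, x, (A - 1) *ᵥ v₀, k₀]
      (by
        intro i
        fin_cases i
        · exact hkf
        · exact hxf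
        · exact hv₀
        · exact hkk)
    have h1 : φ ⬝ᵥ f ≠ 0 := hφ 0
    have h2' : φ ⬝ᵥ x ≠ 0 := hφ 1
    have h3 : φ ⬝ᵥ ((A - 1) *ᵥ v₀) ≠ 0 := hφ 2
    have h4 : φ ⬝ᵥ k₀ ≠ 0 := hφ 3
    refine ⟨φ, hφg, h1, h2', ?_, ⟨k₀, hk₀, h4⟩, ?_⟩
    · intro h
      apply h3
      rw [Matrix.dotProduct_mulVec, h, zero_dotProduct]
    · intro hr1
      rw [hAA] at hr1
      omega
  · have h5 := five_le_card hK h2
    -- the fifth vector
    have hk5 : ∃ k₅ : Fin 3 → K, (¬ ∃ c : K, k₅ = c • g) ∧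
        ((A + 1).rank = 1 → (A + 1) *ᵥ k₅ = 0) := by
      by_cases hr1 : (A + 1).rank = 1
      · have hex : ∃ k₅ : Fin 3 → K, (A + 1) *ᵥ k₅ = 0 ∧ ¬ ∃ c : K, k₅ = c • g := by
          by_contra hcon
          push Not at hcon
          have hle : LinearMap.ker (A + 1).mulVecLin ≤ Submodule.span K {g} := by
            intro u hu
            rw [LinearMap.mem_ker, Matrix.mulVecLin_apply] at hu
            obtain ⟨c, hc⟩ := hcon u hu
            rw [hc]
            exact Submodule.smul_mem _ _ (Submodule.mem_span_singleton_self g)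
          have h2' := Submodule.finrank_mono hle
          have h3 : Module.finrank K (Submodule.span K {g}) ≤ 1 := by
            have := finrank_span_le_card (R := K) ({g} : Set (Fin 3 → K))
            simpa using this
          have h4 : (A + 1).rank = Module.finrank K (LinearMap.range (A + 1).mulVecLin) := rfl
          have h6 := LinearMap.finrank_range_add_finrank_ker (A + 1).mulVecLin
          have h7 : Module.finrank K (Fin 3 → K) = 3 := Module.finrank_fin_fun K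
          omega
        obtain ⟨k₅, hk51, hk52⟩ := hex
        exact ⟨k₅, hk52, fun _ => hk51⟩
      · exact ⟨f, hkf, fun h => absurd h hr1⟩
    obtain ⟨k₅, hk5a, hk5b⟩ := hk5
    obtain ⟨φ, hφg, hφ⟩ := k8_cover (m := 5) (by exact_mod_cast h5) g
      ![f, x, (A - 1) *ᵥ v₀, k₀, k₅]
      (by
        intro i
        fin_cases i
        · exact hkf
        · exact hxf
        · exact hv₀
        · exact hkk
        · exact hk5a)
    have h1 : φ ⬝ᵥ f ≠ 0 := hφ 0
    have h2' : φ ⬝ᵥ x ≠ 0 := hφ 1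
    have h3 : φ ⬝ᵥ ((A - 1) *ᵥ v₀) ≠ 0 := hφ 2
    have h4 : φ ⬝ᵥ k₀ ≠ 0 := hφ 3
    have h5' : φ ⬝ᵥ k₅ ≠ 0 := hφ 4
    refine ⟨φ, hφg, h1, h2', ?_, ⟨k₀, hk₀, h4⟩, ?_⟩
    · intro h
      apply h3
      rw [Matrix.dotProduct_mulVec, h, zero_dotProduct]
    · intro hr1
      exact ⟨k₅, hk5b hr1, h5'⟩

end Cfsg.Agent.Helper44.LU
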