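import Mathlib
import Cfsg.Agent.Lib.Helper44.LUDefs
import Cfsg.Agent.Lib.Helper44.LUT3
import Cfsg.Agent.Lib.Helper44.LUC1
import Cfsg.Agent.Lib.Helper44.LUC3

set_option autoImplicit false

namespace Cfsg.Agent.Helper44.LU

open Matrix

variable {K : Type*} [Field K]

theorem k9_eq_zero_of_rank_eq_zero {n : ℕ} (M : Matrix (Fin n) (Fin n) K) (h : M.rank = 0) :
    M = 0 := by
  have h1 : Module.finrank K (LinearMap.range M.mulVecLin) = 0 := h
  rw [Submodule.finrank_eq_zero] at h1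
  rw [LinearMap.range_eq_bot] at h1
  ext i j
  have := congrArg (fun g : (Fin n → K) →ₗ[K] (Fin n → K) => g (Pi.single j 1) i) h1
  simpa using this

theorem k9_exists_h (A : Matrix (Fin 3) (Fin 3) K) (hA : Good A) (f φ : Fin 3 → K)
    (ha : φ ⬝ᵥ f ≠ 0)
    (hk : (A + 1).rank = 1 → ∃ k, (A + 1) *ᵥ k = 0 ∧ φ ⬝ᵥ k ≠ 0) :
    ∃ h, φ ⬝ᵥ h = 0 ∧ (A + 1) *ᵥ h ≠ 0 := by
  by_contra hcon
  push_neg at hcon
  have key : ∀ v, (A + 1) *ᵥ v = ((φ ⬝ᵥ f)⁻¹ * (φ ⬝ᵥ v)) • ((A + 1) *ᵥ f) := by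
    intro v
    have h0 : φ ⬝ᵥ (v - ((φ ⬝ᵥ f)⁻¹ * (φ ⬝ᵥ v)) • f) = 0 := by
      rw [dotProduct_sub, dotProduct_smul, smul_eq_mul]
      field_simp
      ring
    have := hcon _ h0
    rw [Matrix.mulVec_sub, Matrix.mulVec_smul, sub_eq_zero] at this
    exact this
  have hM : A + 1 = Matrix.vecMulVec ((φ ⬝ᵥ f)⁻¹ • ((A + 1) *ᵥ f)) φ := by
    ext i j
    have := congrFun (key (Pi.single j 1)) i
    simp only [Matrix.mulVec_single, MulOpposite.op_one, one_smul, dotProduct_single, mul_one,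
      Pi.smul_apply, smul_eq_mul] at this
    rw [Matrix.vecMulVec_apply, Pi.smul_apply, smul_eq_mul]
    have h2 : (A + 1) i j = (A + 1).col j i := rfl
    rw [h2, this]
    ring
  have hr : (A + 1).rank ≤ 1 := by
    rw [hM]
    exact Matrix.rank_vecMulVec_le _ _
  have hne : A + 1 ≠ 0 := by
    intro h0
    apply hA.1 (-1)
    rw [neg_smul, one_smul]
    exact eq_neg_of_add_eq_zero_left h0
  have hr0 : (A + 1).rank ≠ 0 := fun h => hne (k9_eq_zero_of_rank_eq_zero _ h)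
  obtain ⟨k, hk1, hk2⟩ := hk (by omega)
  have hkk := key k
  rw [hk1] at hkk
  have hf0 : (A + 1) *ᵥ f = 0 := by
    rcases smul_eq_zero.mp hkk.symm with h | h
    · exfalso
      exact (mul_ne_zero (inv_ne_zero ha) hk2) h
    · exact h
  apply hne
  rw [hM, hf0, smul_zero]
  ext i j
  simp [Matrix.vecMulVec_apply]

/-- (K9) Verification, `n = 3`, `N := A - 1` singular. `φ' := (φ ⬝ᵥ f)⁻¹ • φ`.
`φ' f = 1`, `φ' (A f) = 1`, `A f ≠ f` (`N f ≠ 0` since `N N f ≠ 0`), `φ' A ≠ φ'` (`φ' N ≠ 0`).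
Non-scalar part: as in (K6) (`c = -1`; `det (A + 1) ≠ 0` → `st_ne_smul_of_rank`; else `st_ne_smul_of_not_mem_range`).
Rank part: `rk_of_two_le` (`2 ≤ rank N` by `two_le_rank_of_good`). -/
theorem three_sing_verify (A : Matrix (Fin 3) (Fin 3) K) (hdet : A.det = 1) (hA : Good A)
    (hN : (A - 1).det = 0) (x y f φ : Fin 3 → K) (hf : Pf3s A x y f) (hφ : Pphi3s A x f φ) :
    KLc A x y f ((φ ⬝ᵥ f)⁻¹ • φ) := by
  obtain ⟨hyf, hfr, hNN, hxf, hfp⟩ := hf
  obtain ⟨hφN, ha, hφx, hφA, ⟨k, hk1, hk2⟩, hφp⟩ := hφ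
  have hAf : A *ᵥ f = (A - 1) *ᵥ f + f := by
    rw [Matrix.sub_mulVec, Matrix.one_mulVec]
    abel
  have h1 : ((φ ⬝ᵥ f)⁻¹ • φ) ⬝ᵥ f = 1 := by
    rw [smul_dotProduct, smul_eq_mul]
    exact inv_mul_cancel₀ ha
  have h2 : ((φ ⬝ᵥ f)⁻¹ • φ) ⬝ᵥ (A *ᵥ f) = 1 := by
    rw [smul_dotProduct, smul_eq_mul, hAf, dotProduct_add, hφN, zero_add]
    exact inv_mul_cancel₀ ha
  refine ⟨h1, h2, ?_, ?_, ?_, hyf, ?_, ?_⟩
  · intro h
    apply hNN
    have h0 : (A - 1) *ᵥ f = 0 := by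
      rw [Matrix.sub_mulVec, Matrix.one_mulVec, h, sub_self]
    rw [← Matrix.mulVec_mulVec, h0, Matrix.mulVec_zero]
  · intro h
    apply hφA
    have h0 : ((φ ⬝ᵥ f)⁻¹ • φ) ᵥ* (A - 1) = 0 := by
      rw [Matrix.vecMul_sub, Matrix.vecMul_one, h, sub_self]
    rw [Matrix.smul_vecMul] at h0
    rcases smul_eq_zero.mp h0 with h' | h'
    · exact absurd h' (inv_ne_zero ha)
    · exact h'
  · rw [smul_dotProduct, smul_eq_mul]
    exact mul_ne_zero (inv_ne_zero ha) hφx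
  · intro c hc1 hc2
    have hc : c = -1 := by
      have h3 : (c - 1) * (c + 1) = 0 := by
        have : c ^ 2 = 1 := hc2
        linear_combination this
      rcases mul_eq_zero.mp h3 with h | h
      · exact absurd (sub_eq_zero.mp h) hc1
      · exact eq_neg_of_add_eq_zero_left h
    subst hc
    have hAc : A - (-1 : K) • (1 : Matrix (Fin 3) (Fin 3) K) = A + 1 := by
      rw [neg_smul, one_smul, sub_neg_eq_add]
    by_cases hd : (A + 1).det = 0
    · apply st_ne_smul_of_not_mem_range A f _ (-1) (by simp)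
      · rw [hAc]
        exact hfp hd
      · rw [hAc]
        obtain ⟨h, hh1, hh2⟩ := k9_exists_h A hA f φ ha hφp
        refine ⟨h, ?_, hh2⟩
        rw [smul_dotProduct, hh1, smul_zero]
    · apply st_ne_smul_of_rank A f _ (-1) h1
      rw [hAc]
      have hu : IsUnit (A + 1) := (Matrix.isUnit_iff_isUnit_det _).mpr (Ne.isUnit hd)
      rw [Matrix.rank_of_isUnit _ hu]
      simp
  · apply rk_of_two_le A f _ h1 h2 (two_le_rank_of_good A hA) hfr
    refine ⟨k, hk1, ?_⟩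
    rw [smul_dotProduct, smul_eq_mul]
    exact mul_ne_zero (inv_ne_zero ha) hk2

end Cfsg.Agent.Helper44.LU
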