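import Mathlib
import Cfsg.Agent.Lib.Helper44.LUDefs
import Cfsg.Agent.Lib.Helper44.LUK1
import Cfsg.Agent.Lib.Helper44.LUK2
import Cfsg.Agent.Lib.Helper44.LUK3
import Cfsg.Agent.Lib.Helper44.LUK4
import Cfsg.Agent.Lib.Helper44.LUK5
import Cfsg.Agent.Lib.Helper44.LUK6
import Cfsg.Agent.Lib.Helper44.LUK7
import Cfsg.Agent.Lib.Helper44.LUK8
import Cfsg.Agent.Lib.Helper44.LUK9

set_option autoImplicit false

namespace Cfsg.Agent.Helper44.LU

open Matrix

variable {K : Type*} [Field K]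

/-- (K10) The key lemma in vector form, all `n ≥ 3`. -/
theorem kl_abs {n : ℕ} (hn : 3 ≤ n) (hK : (4 : Cardinal) ≤ Cardinal.mk K)
    (A : Matrix (Fin n) (Fin n) K) (hdet : A.det = 1) (hA : Good A) (x y : Fin n → K)
    (hx : x ≠ 0) (hy : y ≠ 0) : ∃ f φ, KLc A x y f φ := by
  rcases Nat.lt_or_ge n 4 with h | h
  · obtain rfl : n = 3 := by omega
    by_cases hN : (A - 1).det = 0
    · obtain ⟨f, hf⟩ := three_sing_exists_f hK A hA hN x y hx hy
      obtain ⟨φ, hφ⟩ := three_sing_exists_phi hK A hA hN x f hx hf.2.1 hf.2.2.1 hf.2.2.2.1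
      exact ⟨f, _, three_sing_verify A hdet hA hN x y f φ hf hφ⟩
    · obtain ⟨f, hf⟩ := three_inv_exists_f hK A hdet hA hN x y hx hy
      have hf0 : f ≠ 0 := by
        rintro rfl
        exact hf.1 (by simp)
      obtain ⟨φ, hφ⟩ := three_inv_exists_phi hK A hN x f hx hf0 hf.2.1 hf.2.2.1
      exact ⟨f, _, three_inv_verify A hdet hA hN x y f φ hf hφ⟩
  · obtain ⟨f, hf⟩ := ge4_exists_f h hK A hA x y hx hy
    obtain ⟨φ, hφ⟩ := ge4_exists_phi h hK A hA x f hx hf.2.1 hf.2.2.1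
    exact ⟨f, _, ge4_verify h A hdet hA x y f φ hf hφ⟩

end Cfsg.Agent.Helper44.LU
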