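import Mathlib
import Cfsg.Agent.Lib.Helper44.LUDefs
import Cfsg.Agent.Lib.Helper44.LUT1
import Cfsg.Agent.Lib.Helper44.LUT2
import Cfsg.Agent.Lib.Helper44.LUT3

set_option autoImplicit false

namespace Cfsg.Agent.Helper44.LU

open Matrix

variable {K : Type*} [Field K]

/-- two vectors of `K²` with vanishing determinant, the first nonzero: the second is a multiple -/
theorem p1_par (x v : Fin 2 → K) (hx : x ≠ 0) (h : x 0 * v 1 - x 1 * v 0 = 0) :
    ∃ c : K, v = c • x := by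
  by_cases h0 : x 0 = 0
  · have h1 : x 1 ≠ 0 := by
      intro h1
      apply hx
      ext i
      fin_cases i <;> simp [h0, h1]
    refine ⟨v 1 / x 1, ?_⟩
    have hv0 : v 0 = 0 := by
      rw [h0, zero_mul, zero_sub, neg_eq_zero] at h
      rcases mul_eq_zero.mp h with h | h
      · exact absurd h h1
      · exact h
    ext i
    fin_cases i
    · simp [h0, hv0]
    · simp; field_simp
  · refine ⟨v 0 / x 0, ?_⟩
    ext i
    fin_cases i
    · simp; field_simp
    · simp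
      field_simp
      linear_combination h

theorem p1_mulVec_two (M : Matrix (Fin 2) (Fin 2) K) (v : Fin 2 → K) (i : Fin 2) :
    (M *ᵥ v) i = M i 0 * v 0 + M i 1 * v 1 := by
  simp [Matrix.mulVec, dotProduct, Fin.sum_univ_two]

/-- a `2 × 2` matrix killing a nonzero vector has rank `≤ 1` -/
theorem p1_vecMulVec_of_ker (M : Matrix (Fin 2) (Fin 2) K) (v : Fin 2 → K) (hv : v ≠ 0)
    (h : M *ᵥ v = 0) : ∃ w ψ : Fin 2 → K, M = Matrix.vecMulVec w ψ := by
  have hψ : (![v 1, -v 0] : Fin 2 → K) ≠ 0 := by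
    intro h0
    apply hv
    have h1 := congrFun h0 0
    have h2 := congrFun h0 1
    simp at h1 h2
    ext i
    fin_cases i
    · exact h2
    · exact h1
  have hrow : ∀ i : Fin 2, ∃ c : K, (![M i 0, M i 1] : Fin 2 → K) = c • ![v 1, -v 0] := by
    intro i
    apply p1_par _ _ hψ
    have := congrFun h i
    rw [p1_mulVec_two] at this
    simp at this ⊢
    linear_combination this
  choose c hc using hrow
  refine ⟨c, ![v 1, -v 0], ?_⟩
  ext i j
  rw [Matrix.vecMulVec_apply]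
  have := congrFun (hc i) j
  fin_cases j
  · simpa using this
  · simpa using this


/-- the hyperplane `{f | y ⬝ᵥ f = 0}` -/
def p1_W1 (y : Fin 2 → K) : Submodule K (Fin 2 → K) where
  carrier := {f | y ⬝ᵥ f = 0}
  add_mem' := by
    intro a b ha hb
    simp only [Set.mem_ofPred_eq] at ha hb ⊢
    rw [dotProduct_add, ha, hb, add_zero]
  zero_mem' := by simp
  smul_mem' := by
    intro c a ha
    simp only [Set.mem_ofPred_eq] at ha ⊢
    rw [dotProduct_smul, ha, smul_zero]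

/-- the line `{f | det [x | N f] = 0}` -/
def p1_W2 (N : Matrix (Fin 2) (Fin 2) K) (x : Fin 2 → K) : Submodule K (Fin 2 → K) where
  carrier := {f | x 0 * (N *ᵥ f) 1 - x 1 * (N *ᵥ f) 0 = 0}
  add_mem' := by
    intro a b ha hb
    simp only [Set.mem_ofPred_eq] at ha hb ⊢
    rw [Matrix.mulVec_add]
    simp only [Pi.add_apply]
    linear_combination ha + hb
  zero_mem' := by simp
  smul_mem' := by
    intro c a ha
    simp only [Set.mem_ofPred_eq] at ha ⊢
    rw [Matrix.mulVec_smul]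
    simp only [Pi.smul_apply, smul_eq_mul]
    linear_combination c * ha

theorem p1_span_ne_top (v : Fin 2 → K) : (⊥ : Submodule K (Fin 2 → K)) ⊔ Submodule.span K {v} ≠ ⊤ := by
  intro h
  rw [bot_sup_eq] at h
  have h0 : (![1, 0] : Fin 2 → K) ∈ Submodule.span K {v} := h ▸ Submodule.mem_top
  have h1 : (![0, 1] : Fin 2 → K) ∈ Submodule.span K {v} := h ▸ Submodule.mem_top
  rw [Submodule.mem_span_singleton] at h0 h1
  obtain ⟨a, ha⟩ := h0
  obtain ⟨b, hb⟩ := h1
  have ha0 := congrFun ha 0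
  have ha1 := congrFun ha 1
  have hb0 := congrFun hb 0
  have hb1 := congrFun hb 1
  simp at ha0 ha1 hb0 hb1
  rcases ha1 with h | h
  · rw [h, zero_mul] at ha0
    exact zero_ne_one ha0
  · rw [h, mul_zero] at hb1
    exact zero_ne_one hb1

/-- (P1) Base case `2 × 2`. `N := A - 1` is invertible (`rank N = 2` by `two_le_rank_of_good`).
`plane_lemma` in `K²` with `B := A`, `W₁ = ker y`, `W₂ = K • N⁻¹ x`, `Z₁ = Z₂ = ⊥`: pick `f₁` outside `ker y`, outside the line
`K • N⁻¹ x`, and not an eigenvector of `A`. Put `f₂ := N f₁`, `P := [f₁ | f₂]` (invertible).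
Then `P⁻¹ A P = !![1, s; 1, 1 + s]` with `s = trace A - 2` (first column `(1,1)` since `A f₁ = f₁ + f₂`; then use
trace and determinant `1`), and `s ≠ 0` (else `N` has rank `≤ 1`). `L := !![1, 0; 1, 1]`, `U := !![1, s; 0, 1]`.
`(P⁻¹ x) 0 ≠ 0` iff `x ∉ K • f₂`; `(y ᵥ* P) 0 = y ⬝ᵥ f₁ ≠ 0`. -/
theorem plu_two (hK : (4 : Cardinal) ≤ Cardinal.mk K) (A : Matrix (Fin 2) (Fin 2) K)
    (hdet : A.det = 1) (hA : Good A) (x y : Fin 2 → K) (hx : x ≠ 0) (hy : y ≠ 0) :
    PLU A x y := by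
  have hdet' : A 0 0 * A 1 1 - A 0 1 * A 1 0 = 1 := by rw [← Matrix.det_fin_two]; exact hdet
  -- hypotheses of the plane lemma
  have hB : ¬ ∃ c : K, ∀ v, (Matrix.mulVecLin A) v = c • v := by
    rintro ⟨c, hc⟩
    apply hA.1 c
    ext i j
    have := congrFun (hc (Pi.single j 1)) i
    rw [Matrix.mulVecLin_apply, Matrix.mulVec_single_one] at this
    simp only [Matrix.col_apply, Pi.smul_apply, smul_eq_mul] at this
    rw [this, Matrix.smul_apply, Matrix.one_apply, Pi.single_apply]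
    simp
  have hW1 : p1_W1 y ≠ ⊤ := by
    intro h
    apply hy
    ext i
    have hm : (Pi.single i 1 : Fin 2 → K) ∈ p1_W1 y := h ▸ Submodule.mem_top
    have : y ⬝ᵥ (Pi.single i 1 : Fin 2 → K) = 0 := hm
    simpa using this
  have hW2 : p1_W2 (A - 1) x ≠ ⊤ := by
    intro h
    have hcol : ∀ j : Fin 2, ∃ c : K, (A - 1) *ᵥ (Pi.single j 1 : Fin 2 → K) = c • x := by
      intro j
      apply p1_par _ _ hx
      have hm : (Pi.single j 1 : Fin 2 → K) ∈ p1_W2 (A - 1) x := h ▸ Submodule.mem_top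
      exact hm
    choose c hc using hcol
    apply hA.2 x c
    ext i j
    have := congrFun (hc j) i
    rw [Matrix.mulVec_single_one] at this
    rw [Matrix.vecMulVec_apply, mul_comm]
    simpa using this
  obtain ⟨f, hf1, hf2, -, -, hfe⟩ := plane_lemma hK (Matrix.mulVecLin A) hB (p1_W1 y) (p1_W2 (A - 1) x)
    ⊥ ⊥ hW1 hW2 p1_span_ne_top p1_span_ne_top
  have hyf : y ⬝ᵥ f ≠ 0 := hf1
  have hxf : x 0 * ((A - 1) *ᵥ f) 1 - x 1 * ((A - 1) *ᵥ f) 0 ≠ 0 := hf2
  have hfe' : ¬ ∃ c : K, A *ᵥ f = c • f := hfe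
  have hf0 : f ≠ 0 := by
    intro h
    apply hfe'
    exact ⟨0, by rw [h]; simp⟩
  -- the second basis vector
  set f₂ : Fin 2 → K := (A - 1) *ᵥ f with hf₂
  have hf₂0 : f₂ 0 = (A 0 0 - 1) * f 0 + A 0 1 * f 1 := by
    rw [hf₂, p1_mulVec_two]; simp
  have hf₂1 : f₂ 1 = A 1 0 * f 0 + (A 1 1 - 1) * f 1 := by
    rw [hf₂, p1_mulVec_two]; simp
  have hPdet : (!![f 0, f₂ 0; f 1, f₂ 1] : Matrix (Fin 2) (Fin 2) K).det ≠ 0 := by
    rw [Matrix.det_fin_two]
    simp only [Matrix.of_apply, Matrix.cons_val', Matrix.cons_val_zero, Matrix.cons_val_one,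
      Matrix.empty_val', Matrix.cons_val_fin_one]
    intro h
    obtain ⟨c, hc⟩ := p1_par f f₂ hf0 (by linear_combination h)
    apply hfe'
    refine ⟨c + 1, ?_⟩
    have : A *ᵥ f = f₂ + f := by
      rw [hf₂, Matrix.sub_mulVec, Matrix.one_mulVec]; abel
    rw [this, hc, add_smul, one_smul]
  set s : K := A 0 0 + A 1 1 - 2 with hs
  -- `A f₂ = s f + (1 + s) f₂`
  have hAf₂0 : A 0 0 * f₂ 0 + A 0 1 * f₂ 1 = s * f 0 + (1 + s) * f₂ 0 := by
    rw [hf₂0, hf₂1, hs]
    linear_combination (-(f 0)) * hdet'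
  have hAf₂1 : A 1 0 * f₂ 0 + A 1 1 * f₂ 1 = s * f 1 + (1 + s) * f₂ 1 := by
    rw [hf₂0, hf₂1, hs]
    linear_combination (-(f 1)) * hdet'
  have hf₂ne : f₂ ≠ 0 := by
    intro h
    apply hfe'
    refine ⟨1, ?_⟩
    have : A *ᵥ f = f₂ + f := by
      rw [hf₂, Matrix.sub_mulVec, Matrix.one_mulVec]; abel
    rw [this, h, zero_add, one_smul]
  have hs0 : s ≠ 0 := by
    intro h0
    have hker : (A - 1) *ᵥ f₂ = 0 := by
      ext i
      rw [p1_mulVec_two]
      fin_cases i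
      · simp only [Fin.zero_eta, Matrix.sub_apply, Matrix.one_apply_eq, Pi.zero_apply]
        have : (1 : Matrix (Fin 2) (Fin 2) K) 0 1 = 0 := by simp
        rw [this, sub_zero]
        rw [h0] at hAf₂0
        linear_combination hAf₂0
      · simp only [Fin.mk_one, Matrix.sub_apply, Matrix.one_apply_eq, Pi.zero_apply]
        have : (1 : Matrix (Fin 2) (Fin 2) K) 1 0 = 0 := by simp
        rw [this, sub_zero]
        rw [h0] at hAf₂1
        linear_combination hAf₂1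
    obtain ⟨w, ψ, hwψ⟩ := p1_vecMulVec_of_ker (A - 1) f₂ hf₂ne hker
    exact hA.2 w ψ hwψ
  refine ⟨Matrix.GeneralLinearGroup.mkOfDetNeZero _ hPdet, !![1, 0; 1, 1], !![1, s; 0, 1], ?_, ?_, ?_,
    ?_, ?_⟩
  · refine ⟨?_, ?_, ?_⟩
    · intro i j hij
      fin_cases i <;> fin_cases j <;> simp at hij ⊢
    · intro i
      fin_cases i <;> simp
    · intro i j hij
      fin_cases i <;> fin_cases j <;> simp at hij ⊢
  · refine ⟨?_, ?_, ?_⟩
    · intro i j hij
      fin_cases i <;> fin_cases j <;> simp at hij ⊢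
    · intro i
      fin_cases i <;> simp
    · intro i j hij
      fin_cases i <;> fin_cases j <;> simp at hij ⊢
      exact hs0
  · -- `P⁻¹ A P = L U`
    have hAP : A * (!![f 0, f₂ 0; f 1, f₂ 1] : Matrix (Fin 2) (Fin 2) K) =
        (!![f 0, f₂ 0; f 1, f₂ 1] : Matrix (Fin 2) (Fin 2) K) *
          ((!![1, 0; 1, 1] : Matrix (Fin 2) (Fin 2) K) * !![1, s; 0, 1]) := by
      ext i j
      fin_cases i <;> fin_cases j <;>
        simp [Matrix.mul_apply, Fin.sum_univ_two]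
      · rw [hf₂0]; ring
      · linear_combination hAf₂0
      · rw [hf₂1]; ring
      · linear_combination hAf₂1
    unfold conjm
    rw [mul_assoc]
    show (↑(Matrix.GeneralLinearGroup.mkOfDetNeZero _ hPdet)⁻¹ : Matrix (Fin 2) (Fin 2) K) *
      (A * (!![f 0, f₂ 0; f 1, f₂ 1] : Matrix (Fin 2) (Fin 2) K)) = _
    rw [hAP, ← mul_assoc]
    have : (↑(Matrix.GeneralLinearGroup.mkOfDetNeZero _ hPdet)⁻¹ : Matrix (Fin 2) (Fin 2) K) *
        (!![f 0, f₂ 0; f 1, f₂ 1] : Matrix (Fin 2) (Fin 2) K) = 1 :=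
      Units.inv_mul (Matrix.GeneralLinearGroup.mkOfDetNeZero _ hPdet)
    rw [this, one_mul]
  · -- `(P⁻¹ x) 0 ≠ 0`
    intro h0
    set z : Fin 2 → K :=
      (↑(Matrix.GeneralLinearGroup.mkOfDetNeZero _ hPdet)⁻¹ : Matrix (Fin 2) (Fin 2) K) *ᵥ x with hz
    have hxz : x = (!![f 0, f₂ 0; f 1, f₂ 1] : Matrix (Fin 2) (Fin 2) K) *ᵥ z := by
      rw [hz, Matrix.mulVec_mulVec]
      have : (!![f 0, f₂ 0; f 1, f₂ 1] : Matrix (Fin 2) (Fin 2) K) *
          (↑(Matrix.GeneralLinearGroup.mkOfDetNeZero _ hPdet)⁻¹ : Matrix (Fin 2) (Fin 2) K) = 1 :=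
        Units.mul_inv (Matrix.GeneralLinearGroup.mkOfDetNeZero _ hPdet)
      rw [this, Matrix.one_mulVec]
    have hx0 : x 0 = z 1 * f₂ 0 := by
      have := congrFun hxz 0
      rw [p1_mulVec_two, h0] at this
      simp at this
      rw [this]; ring
    have hx1 : x 1 = z 1 * f₂ 1 := by
      have := congrFun hxz 1
      rw [p1_mulVec_two, h0] at this
      simp at this
      rw [this]; ring
    apply hxf
    rw [hx0, hx1]; ring
  · -- `(y P) 0 ≠ 0`
    have : (y ᵥ* (↑(Matrix.GeneralLinearGroup.mkOfDetNeZero _ hPdet) : Matrix (Fin 2) (Fin 2) K)) 0 =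
        y ⬝ᵥ f := by
      show (y ᵥ* (!![f 0, f₂ 0; f 1, f₂ 1] : Matrix (Fin 2) (Fin 2) K)) 0 = _
      simp [Matrix.vecMul, dotProduct, Fin.sum_univ_two]
    rw [this]
    exact hyf

end Cfsg.Agent.Helper44.LU
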