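import Mathlib
import Cfsg.Agent.Lib.Helper44.LUDefs

set_option autoImplicit false

namespace Cfsg.Agent.Helper44.LU

open Matrix

variable {K : Type*} [Field K]

/-- block matrix `[[a, r],[c, B]]` on `Fin (m + 1)` -/
def p2_blk {m : ℕ} (a : K) (r c : Fin m → K) (B : Matrix (Fin m) (Fin m) K) :
    Matrix (Fin (m + 1)) (Fin (m + 1)) K :=
  Matrix.of (fun i j => Fin.cases (Fin.cases a r j) (fun i' => Fin.cases (c i') (fun j' => B i' j') j) i)

@[simp] theorem p2_blk_zero_zero {m : ℕ} (a : K) (r c : Fin m → K) (B : Matrix (Fin m) (Fin m) K) :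
    p2_blk a r c B 0 0 = a := rfl

@[simp] theorem p2_blk_zero_succ {m : ℕ} (a : K) (r c : Fin m → K) (B : Matrix (Fin m) (Fin m) K)
    (j : Fin m) : p2_blk a r c B 0 j.succ = r j := by
  simp [p2_blk]

@[simp] theorem p2_blk_succ_zero {m : ℕ} (a : K) (r c : Fin m → K) (B : Matrix (Fin m) (Fin m) K)
    (i : Fin m) : p2_blk a r c B i.succ 0 = c i := by
  simp [p2_blk]

@[simp] theorem p2_blk_succ_succ {m : ℕ} (a : K) (r c : Fin m → K) (B : Matrix (Fin m) (Fin m) K)
    (i j : Fin m) : p2_blk a r c B i.succ j.succ = B i j := by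
  simp [p2_blk]

theorem p2_eq_blk {m : ℕ} (M : Matrix (Fin (m + 1)) (Fin (m + 1)) K) :
    M = p2_blk (M 0 0) (fun j => M 0 j.succ) (fun i => M i.succ 0) (fun i j => M i.succ j.succ) := by
  ext i j
  cases i using Fin.cases with
  | zero =>
    cases j using Fin.cases with
    | zero => rfl
    | succ j' => simp [p2_blk]
  | succ i' =>
    cases j using Fin.cases with
    | zero => simp [p2_blk]
    | succ j' => simp [p2_blk]

theorem p2_blk_mul {m : ℕ} (a a' : K) (r c r' c' : Fin m → K) (B B' : Matrix (Fin m) (Fin m) K) :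
    p2_blk a r c B * p2_blk a' r' c' B' =
      p2_blk (a * a' + r ⬝ᵥ c') (a • r' + r ᵥ* B') (a' • c + B *ᵥ c') (vecMulVec c r' + B * B') := by
  ext i j
  refine Fin.cases ?_ (fun i' => ?_) i <;> refine Fin.cases ?_ (fun j' => ?_) j
  · simp [Matrix.mul_apply, Fin.sum_univ_succ, dotProduct]
  · simp [Matrix.mul_apply, Fin.sum_univ_succ, vecMul, dotProduct]
  · simp [Matrix.mul_apply, Fin.sum_univ_succ, mulVec, dotProduct, mul_comm]
  · simp [Matrix.mul_apply, Fin.sum_univ_succ, vecMulVec_apply]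

theorem p2_blk_one {m : ℕ} :
    p2_blk (1 : K) (0 : Fin m → K) 0 (1 : Matrix (Fin m) (Fin m) K) = 1 := by
  ext i j
  refine Fin.cases ?_ (fun i' => ?_) i <;> refine Fin.cases ?_ (fun j' => ?_) j
  · simp
  · simp [Fin.succ_ne_zero, Ne.symm]
  · simp
  · simp [Matrix.one_apply, Fin.succ_inj]

/-- (P2) Induction step (pure block-matrix algebra). Let `A' := conjm P₀ A = P₀⁻¹ A P₀ = [[1, y'],[x', A₁]]`, `S := schur A' = A₁ - x' y'`,
and `P₁, L₁, U₁` from `hS` (so `P₁⁻¹ S P₁ = L₁ U₁`, `(P₁⁻¹ x') 0 ≠ 0`, `(y' P₁) 0 ≠ 0`).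
Put `Q := diag(1, P₁)`, `P := P₀ * Q`, `L := [[1, 0],[P₁⁻¹ x', L₁]]`, `U := [[1, y' P₁],[0, U₁]]`
(e.g. via `Fin.cons` / `Matrix.of` by cases on `Fin (n+2)`, or by reindexing `Unit ⊕ Fin (n+1)`).
Then `L U = Q⁻¹ A' Q`, `L` is `LowReg` (new subdiagonal entry `(P₁⁻¹ x') 0 ≠ 0`), `U` is `UpReg`
(new superdiagonal entry `(y' P₁) 0 ≠ 0`), `(P⁻¹ x) 0 = (P₀⁻¹ x) 0` and `(y P) 0 = (y P₀) 0`. -/
theorem plu_step {n : ℕ} (A : Matrix (Fin (n + 2)) (Fin (n + 2)) K) (x y : Fin (n + 2) → K)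
    (P₀ : GL (Fin (n + 2)) K)
    (h00 : conjm P₀ A 0 0 = 1)
    (hS : PLU (schur (conjm P₀ A))
      (fun i : Fin (n + 1) => conjm P₀ A i.succ 0)
      (fun j : Fin (n + 1) => conjm P₀ A 0 j.succ))
    (hx : ((↑(P₀⁻¹) : Matrix (Fin (n + 2)) (Fin (n + 2)) K) *ᵥ x) 0 ≠ 0)
    (hy : (y ᵥ* (↑P₀ : Matrix (Fin (n + 2)) (Fin (n + 2)) K)) 0 ≠ 0) :
    PLU A x y := by
  obtain ⟨P₁, L₁, U₁, hL₁, hU₁, hconj, hx₁, hy₁⟩ := hS
  set A' := conjm P₀ A with hA'
  set x' : Fin (n + 1) → K := fun i => A' i.succ 0 with hx'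
  set y' : Fin (n + 1) → K := fun j => A' 0 j.succ with hy'
  set A₁ : Matrix (Fin (n + 1)) (Fin (n + 1)) K := fun i j => A' i.succ j.succ with hA₁
  set P₁m : Matrix (Fin (n + 1)) (Fin (n + 1)) K := ↑P₁ with hP₁m
  set P₁i : Matrix (Fin (n + 1)) (Fin (n + 1)) K := ↑(P₁⁻¹) with hP₁i
  have hPP : P₁m * P₁i = 1 := P₁.mul_inv
  have hPP' : P₁i * P₁m = 1 := P₁.inv_mul
  have hA'blk : A' = p2_blk 1 y' x' A₁ := by
    have := p2_eq_blk A'
    rw [h00] at this
    exact this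
  have hschur : schur A' = A₁ - vecMulVec x' y' := by
    ext i j
    rfl
  -- the matrices
  set Qm : Matrix (Fin (n + 2)) (Fin (n + 2)) K := p2_blk 1 0 0 P₁m with hQm
  set Qi : Matrix (Fin (n + 2)) (Fin (n + 2)) K := p2_blk 1 0 0 P₁i with hQi
  have hQQ : Qm * Qi = 1 := by
    rw [hQm, hQi, p2_blk_mul]
    simp [hPP, p2_blk_one]
  have hQQ' : Qi * Qm = 1 := by
    rw [hQm, hQi, p2_blk_mul]
    simp [hPP', p2_blk_one]
  set Q : GL (Fin (n + 2)) K := ⟨Qm, Qi, hQQ, hQQ'⟩ with hQ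
  have hQv : (↑Q : Matrix (Fin (n + 2)) (Fin (n + 2)) K) = Qm := rfl
  have hQiv : (↑(Q⁻¹) : Matrix (Fin (n + 2)) (Fin (n + 2)) K) = Qi := rfl
  set c : Fin (n + 1) → K := P₁i *ᵥ x' with hc
  set r : Fin (n + 1) → K := y' ᵥ* P₁m with hr
  refine ⟨P₀ * Q, p2_blk 1 0 c L₁, p2_blk 1 r 0 U₁, ?_, ?_, ?_, ?_, ?_⟩
  · -- LowReg
    obtain ⟨h1, h2, h3⟩ := hL₁
    refine ⟨?_, ?_, ?_⟩
    · intro i j
      refine Fin.cases ?_ (fun i' => ?_) i <;> refine Fin.cases ?_ (fun j' => ?_) j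
      · intro h; exact absurd h (lt_irrefl _)
      · intro _; simp
      · intro h; exact absurd h (Fin.not_lt_zero _)
      · intro h; simp only [p2_blk_succ_succ]; exact h1 i' j' (Fin.succ_lt_succ_iff.1 h)
    · intro i
      refine Fin.cases ?_ (fun i' => ?_) i
      · simp
      · simp [h2 i']
    · intro i j
      refine Fin.cases ?_ (fun i' => ?_) i <;> refine Fin.cases ?_ (fun j' => ?_) j
      · intro h; simp at h
      · intro h; simp at h
      · intro h
        have hi0 : i' = 0 := by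
          apply Fin.ext
          simp only [Fin.val_succ, Fin.val_zero] at h
          simpa using h
        subst hi0
        simp only [p2_blk_succ_zero]
        exact hx₁
      · intro h
        simp only [p2_blk_succ_succ]
        apply h3
        simp only [Fin.val_succ] at h
        omega
  · -- UpReg
    obtain ⟨h1, h2, h3⟩ := hU₁
    refine ⟨?_, ?_, ?_⟩
    · intro i j
      refine Fin.cases ?_ (fun i' => ?_) i <;> refine Fin.cases ?_ (fun j' => ?_) j
      · intro h; exact absurd h (lt_irrefl _)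
      · intro h; exact absurd h (Fin.not_lt_zero _)
      · intro _; simp
      · intro h; simp only [p2_blk_succ_succ]; exact h1 i' j' (Fin.succ_lt_succ_iff.1 h)
    · intro i
      refine Fin.cases ?_ (fun i' => ?_) i
      · simp
      · simp [h2 i']
    · intro i j
      refine Fin.cases ?_ (fun i' => ?_) i <;> refine Fin.cases ?_ (fun j' => ?_) j
      · intro h; simp at h
      · intro h
        have hj0 : j' = 0 := by
          apply Fin.ext
          simp only [Fin.val_succ, Fin.val_zero] at h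
          simpa using h
        subst hj0
        simp only [p2_blk_zero_succ]
        exact hy₁
      · intro h; simp at h
      · intro h
        simp only [p2_blk_succ_succ]
        apply h3
        simp only [Fin.val_succ] at h
        omega
  · -- conjm (P₀ * Q) A = L * U
    have h1 : conjm (P₀ * Q) A = Qi * A' * Qm := by
      simp only [conjm, _root_.mul_inv_rev, Units.val_mul, hQv, hQiv, hA']
      simp only [Matrix.mul_assoc]
    have h2 : L₁ * U₁ = P₁i * A₁ * P₁m - vecMulVec c r := by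
      rw [← hconj, conjm, hschur, Matrix.mul_sub, Matrix.sub_mul, Matrix.mul_vecMulVec,
        Matrix.vecMulVec_mul]
    rw [h1, hA'blk, hQi, hQm, p2_blk_mul, p2_blk_mul, p2_blk_mul, h2]
    congr 1
    · simp
    · simp [hr]
    · simp [hc]
    · simp
  · -- pointed x
    have h1 : (↑((P₀ * Q)⁻¹) : Matrix (Fin (n + 2)) (Fin (n + 2)) K) *ᵥ x =
        Qi *ᵥ ((↑(P₀⁻¹) : Matrix (Fin (n + 2)) (Fin (n + 2)) K) *ᵥ x) := by
      rw [Matrix.mulVec_mulVec, _root_.mul_inv_rev, Units.val_mul, hQiv]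
    rw [h1]
    have h2 : ∀ w : Fin (n + 2) → K, (Qi *ᵥ w) 0 = w 0 := by
      intro w
      simp [hQi, mulVec, dotProduct, Fin.sum_univ_succ]
    rw [h2]; exact hx
  · -- pointed y
    have h1 : y ᵥ* (↑(P₀ * Q) : Matrix (Fin (n + 2)) (Fin (n + 2)) K) =
        (y ᵥ* (↑P₀ : Matrix (Fin (n + 2)) (Fin (n + 2)) K)) ᵥ* Qm := by
      rw [Matrix.vecMul_vecMul, Units.val_mul, hQv]
    rw [h1]
    have h2 : ∀ w : Fin (n + 2) → K, (w ᵥ* Qm) 0 = w 0 := by
      intro w
      simp [hQm, vecMul, dotProduct, Fin.sum_univ_succ]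
    rw [h2]; exact hy

end Cfsg.Agent.Helper44.LU
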