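import Mathlib
import Cfsg.Agent.Lib.Helper44.LUDefs
import Cfsg.Agent.Lib.Helper44.LUK10
import Cfsg.Agent.Lib.Helper44.LUB3
import Cfsg.Agent.Lib.Helper44.LUP1
import Cfsg.Agent.Lib.Helper44.LUP2

set_option autoImplicit false

namespace Cfsg.Agent.Helper44.LU

open Matrix

variable {K : Type*} [Field K]

/-- (P3) Every good unimodular matrix of size `≥ 2` has a pointed LU-structure, for all nonzero `x`, `y`. -/
theorem plu_of_good (hK : (4 : Cardinal) ≤ Cardinal.mk K) :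
    ∀ (n : ℕ) (A : Matrix (Fin (n + 2)) (Fin (n + 2)) K), A.det = 1 → Good A →
      ∀ x y : Fin (n + 2) → K, x ≠ 0 → y ≠ 0 → PLU A x y
  | 0, A, hdet, hA, x, y, hx, hy => plu_two hK A hdet hA x y hx hy
  | n + 1, A, hdet, hA, x, y, hx, hy => by
      obtain ⟨f, φ, h⟩ := kl_abs (n := n + 1 + 2) (by omega) hK A hdet hA x y hx hy
      obtain ⟨P, h00, hx', hy', hG, hdS, hpx, hpy⟩ := kl_bridge (n := n + 2) A hdet x y f φ h
      exact plu_step A x y P h00 (plu_of_good hK n _ hdS hG _ _ hx' hy') hpx hpy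

end Cfsg.Agent.Helper44.LU
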