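import Mathlib
import Cfsg.Agent.Lib.Helper73.N4800Base

/-!
# N4800 piece (F6) (helper44, for helper73's N4800 mini server, S0983)
A self-centralizing subgroup `P` of order `25` cannot normalize a subgroup `L` of order `6`.
-/

set_option autoImplicit false
set_option linter.style.haveILetI false

namespace Cfsg.Agent.Helper44.N4800

open Cfsg.Agent.Helper17 Cfsg.Agent.Helper73.N4800

universe u

variable {G : Type u} [Group G] [Finite G]

/-- A subgroup `K` of order `25` normalizing `L` (order `6`) centralizes every element of order `3`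
of `L`. -/
theorem h44_comm_of_order_three (K L : Subgroup G) (hK : Nat.card K = 25) (hL : Nat.card L = 6)
    (hKL : K ≤ Subgroup.normalizer (L : Set G)) (x : G) (hxL : x ∈ L) (hx : orderOf x = 3)
    (g : G) (hg : g ∈ K) : g * x = x * g := by
  classical
  -- the conjugation action of `K` on `G`
  letI : MulAction ↥K G := MulAction.compHom G ((MulAut.conj (G := G)).comp K.subtype)
  have hsmul : ∀ (k : ↥K) (y : G), k • y = (k : G) * y * (k : G)⁻¹ := fun k y => rfl
  -- an involution of `L`
  haveI : Fact (Nat.Prime 2) := ⟨Nat.prime_two⟩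
  obtain ⟨t, ht⟩ := exists_prime_orderOf_dvd_card' (G := ↥L) 2 (by rw [hL]; norm_num)
  have ht' : orderOf (t : G) = 2 := by rw [Subgroup.orderOf_coe]; exact ht
  -- the orbit of `x` lies in `L`, avoids `1` and `t`
  have horb : ∀ y ∈ MulAction.orbit ↥K x, y ∈ L ∧ orderOf y = 3 := by
    rintro y ⟨k, rfl⟩
    show (k • x) ∈ L ∧ orderOf (k • x) = 3
    rw [hsmul]
    constructor
    · have hk := hKL k.2
      rw [Subgroup.mem_normalizer_iff] at hk
      exact (hk x).1 hxL
    · have : (k : G) * x * (k : G)⁻¹ = MulAut.conj (k : G) x := rfl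
      rw [this, MulEquiv.orderOf_eq]
      exact hx
  have h1 : (1 : G) ∉ MulAction.orbit ↥K x := by
    intro h
    have := (horb 1 h).2
    rw [orderOf_one] at this
    omega
  have h2 : (t : G) ∉ MulAction.orbit ↥K x := by
    intro h
    have := (horb _ h).2
    rw [ht'] at this
    omega
  have h1t : (1 : G) ≠ (t : G) := by
    intro h
    rw [← h, orderOf_one] at ht'
    omega
  have hfin : (L : Set G).Finite := Set.toFinite _
  have hsub : insert (1 : G) (insert (t : G) (MulAction.orbit ↥K x)) ⊆ (L : Set G) := by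
    intro y hy
    rcases hy with rfl | rfl | hy
    · exact L.one_mem
    · exact t.2
    · exact (horb y hy).1
  have hcard := Set.ncard_le_ncard hsub hfin
  have horbfin : (MulAction.orbit ↥K x).Finite := Set.toFinite _
  rw [Set.ncard_insert_of_notMem (by
      intro h
      rcases h with h | h
      · exact h1t h
      · exact h1 h) (horbfin.insert _),
    Set.ncard_insert_of_notMem h2 horbfin] at hcard
  have hLc : (L : Set G).ncard = 6 := by
    rw [← hL]; exact (Nat.card_coe_set_eq _)
  rw [hLc] at hcard
  have hidx := MulAction.index_stabilizer ↥K x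
  have hdvd : (MulAction.stabilizer ↥K x).index ∣ 25 := by
    rw [← hK]; exact Subgroup.index_dvd_card _
  have hle : (MulAction.stabilizer ↥K x).index ≤ 4 := by omega
  have hone : (MulAction.stabilizer ↥K x).index = 1 := by
    have h25 : (25 : ℕ) = 5 ^ 2 := by norm_num
    rw [h25, Nat.dvd_prime_pow (by norm_num : Nat.Prime 5)] at hdvd
    obtain ⟨k, hk, hk'⟩ := hdvd
    interval_cases k
    · simpa using hk'
    · rw [hk'] at hle; omega
    · rw [hk'] at hle; omega
  rw [Subgroup.index_eq_one] at hone
  have hmem : (⟨g, hg⟩ : ↥K) ∈ MulAction.stabilizer ↥K x := by rw [hone]; exact Subgroup.mem_top _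
  rw [MulAction.mem_stabilizer_iff, hsmul] at hmem
  have h3 : g * x * g⁻¹ = x := hmem
  calc g * x = g * x * g⁻¹ * g := by group
    _ = x * g := by rw [h3]

/-- (F6) A self-centralizing group `P` of order `25` cannot normalize a subgroup `L` of order `6`. -/
theorem false_of_six (P : Sylow 5 G) (hP : Nat.card (P : Subgroup G) = 25)
    (hC : Subgroup.centralizer ((P : Subgroup G) : Set G) = (P : Subgroup G))
    (L : Subgroup G) (hL : Nat.card L = 6)
    (hPL : (P : Subgroup G) ≤ Subgroup.normalizer (L : Set G)) : False := by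
  haveI : Fact (Nat.Prime 3) := ⟨Nat.prime_three⟩
  obtain ⟨x, hx⟩ := exists_prime_orderOf_dvd_card' (G := ↥L) 3 (by rw [hL]; norm_num)
  have hx' : orderOf (x : G) = 3 := by rw [Subgroup.orderOf_coe]; exact hx
  have hcomm := h44_comm_of_order_three (P : Subgroup G) L hP hL hPL (x : G) x.2 hx'
  have hxC : (x : G) ∈ Subgroup.centralizer ((P : Subgroup G) : Set G) := by
    rw [Subgroup.mem_centralizer_iff]
    intro g hg
    exact hcomm g hg
  rw [hC] at hxC
  have hdvd : orderOf (⟨(x : G), hxC⟩ : ↥(P : Subgroup G)) ∣ Nat.card (P : Subgroup G) :=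
    orderOf_dvd_natCard _
  rw [hP] at hdvd
  have : orderOf (⟨(x : G), hxC⟩ : ↥(P : Subgroup G)) = 3 := by
    rw [← Subgroup.orderOf_coe]; exact hx'
  rw [this] at hdvd
  omega

end Cfsg.Agent.Helper44.N4800
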