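import Mathlib
import Cfsg.Agent.Lib.Helper54.O5760BDefs

/-!
# Lemma server N96 (helper54, S0980 case `n_5 = 96`): piece (P10) `exists_invol`
-/

set_option autoImplicit false
set_option linter.style.haveILetI false

namespace Cfsg.Agent.Helper44.N96

open Cfsg MulAction Cfsg.Agent.Helper54.O5760B

universe u

/-- the stabiliser `S = {h ∈ C(x) | g⁻¹ h g ∈ M}` as a subgroup -/
def h44S {G : Type u} [Group G] (x : G) (M : Subgroup G) (g : G) : Subgroup G where
  carrier := {h | h ∈ Subgroup.centralizer ({x} : Set G) ∧ g⁻¹ * h * g ∈ M}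
  mul_mem' := by
    rintro a b ⟨ha, ha'⟩ ⟨hb, hb'⟩
    refine ⟨mul_mem ha hb, ?_⟩
    have : g⁻¹ * (a * b) * g = (g⁻¹ * a * g) * (g⁻¹ * b * g) := by group
    rw [this]; exact mul_mem ha' hb'
  one_mem' := ⟨one_mem _, by simp⟩
  inv_mem' := by
    rintro a ⟨ha, ha'⟩
    refine ⟨inv_mem ha, ?_⟩
    have : g⁻¹ * a⁻¹ * g = (g⁻¹ * a * g)⁻¹ := by group
    rw [this]; exact inv_mem ha'

theorem h44_mem_zpowers_three {G : Type u} [Group G] (x : G) (hx : orderOf x = 3) (z : G)
    (hz : z ∈ Subgroup.zpowers x) : z = 1 ∨ z = x ∨ z = x⁻¹ := by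
  obtain ⟨k, rfl⟩ := Subgroup.mem_zpowers_iff.mp hz
  have h3 : x ^ 3 = 1 := by rw [← hx]; exact pow_orderOf_eq_one x
  have hmod := zpow_mod_orderOf x k
  rw [hx] at hmod
  have hk : k % (3 : ℕ) = 0 ∨ k % (3 : ℕ) = 1 ∨ k % (3 : ℕ) = 2 := by omega
  rcases hk with h | h | h
  · left; rw [← hmod, h, zpow_zero]
  · right; left; rw [← hmod, h, zpow_one]
  · right; right
    rw [← hmod, h]
    rw [eq_inv_iff_mul_eq_one]
    have : x ^ (2 : ℤ) * x = x ^ 3 := by
      rw [zpow_ofNat, ← pow_succ]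
    rw [this, h3]

theorem exists_invol {G : Type u} [Group G] (x : G) (hx : orderOf x = 3) (M : Subgroup G)
    (hnorm : ∀ m ∈ M, m * x * m⁻¹ ∈ Subgroup.zpowers x) (g : G)
    (h12 : Nat.card {h : G // h ∈ Subgroup.centralizer ({x} : Set G) ∧ g⁻¹ * h * g ∈ M} = 12) :
    ∃ v : G, orderOf v = 2 ∧ Commute v x ∧ Commute v (g * x * g⁻¹) := by
  classical
  set S : Subgroup G := h44S x M g with hS
  have hScard : Nat.card ↥S = 12 := h12
  haveI : Finite ↥S := Nat.finite_of_card_ne_zero (by rw [hScard]; norm_num)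
  set y : G := g * x * g⁻¹ with hy
  have h3 : x ^ 3 = 1 := by rw [← hx]; exact pow_orderOf_eq_one x
  have hx1 : x ≠ 1 := by
    intro h; rw [h, orderOf_one] at hx; norm_num at hx
  have hyne : y⁻¹ ≠ y := by
    intro h
    have h1 : y * y = 1 := by
      nth_rewrite 1 [← h]; exact inv_mul_cancel y
    have h2 : x * x = 1 := by
      have : y * y = g * (x * x) * g⁻¹ := by rw [hy]; group
      rw [this] at h1
      have h4 : x * x = g⁻¹ * (g * (x * x) * g⁻¹) * g := by group
      rw [h4, h1]; group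
    have h5 : x = 1 := by
      have : x ^ 3 = x * x * x := by rw [pow_succ, pow_two]
      rw [this, h2, one_mul] at h3
      exact h3
    exact hx1 h5
  -- every element of `S` centralises or inverts `y`
  have hact : ∀ h ∈ S, h * y * h⁻¹ = y ∨ h * y * h⁻¹ = y⁻¹ := by
    intro h hh
    have hm : g⁻¹ * h * g ∈ M := hh.2
    have hz := hnorm _ hm
    have hconj : h * y * h⁻¹ = g * ((g⁻¹ * h * g) * x * (g⁻¹ * h * g)⁻¹) * g⁻¹ := by
      rw [hy]; group
    rcases h44_mem_zpowers_three x hx _ hz with h1 | h1 | h1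
    · exfalso
      apply hx1
      have : x = (g⁻¹ * h * g)⁻¹ * ((g⁻¹ * h * g) * x * (g⁻¹ * h * g)⁻¹) * (g⁻¹ * h * g) := by
        group
      rw [this, h1]; group
    · left; rw [hconj, h1]
    · right; rw [hconj, h1, hy]; group
  have hcentx : ∀ h ∈ S, Commute h x := by
    intro h hh
    have := (Subgroup.mem_centralizer_iff.mp hh.1) x (Set.mem_singleton x)
    exact this.symm
  have hcomm_iff : ∀ h : G, Commute h y ↔ h * y * h⁻¹ = y := by
    intro h
    constructor
    · intro hc; rw [hc.eq, mul_inv_cancel_right]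
    · intro he
      have : h * y = y * h := by
        calc h * y = (h * y * h⁻¹) * h := by group
          _ = y * h := by rw [he]
      exact this
  by_cases hall : ∀ h ∈ S, Commute h y
  · -- Cauchy in `S`
    haveI : Fact (Nat.Prime 2) := ⟨Nat.prime_two⟩
    obtain ⟨v, hv⟩ := exists_prime_orderOf_dvd_card' (G := ↥S) 2 (by rw [hScard]; norm_num)
    refine ⟨(v : G), ?_, hcentx _ v.2, hall _ v.2⟩
    rw [Subgroup.orderOf_coe]; exact hv
  · push Not at hall
    obtain ⟨h₀, hh₀, hh₀y⟩ := hall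
    have hinv₀ : h₀ * y * h₀⁻¹ = y⁻¹ := by
      rcases hact h₀ hh₀ with h | h
      · exact absurd ((hcomm_iff h₀).mpr h) hh₀y
      · exact h
    set T : Subgroup ↥S := (Subgroup.centralizer ({y} : Set G)).subgroupOf S with hT
    have hTmem : ∀ b : ↥S, b ∈ T ↔ Commute (b : G) y := by
      intro b
      rw [hT, Subgroup.mem_subgroupOf, Subgroup.mem_centralizer_iff]
      constructor
      · intro h; exact (h y (Set.mem_singleton y)).symm
      · intro h z hz
        rw [Set.mem_singleton_iff] at hz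
        rw [hz]; exact h.eq.symm
    have hidx : T.index = 2 := by
      rw [Subgroup.index_eq_two_iff]
      refine ⟨⟨h₀, hh₀⟩, fun b => ?_⟩
      have hb := hact b.1 b.2
      have hprod : ((b * ⟨h₀, hh₀⟩ : ↥S) : G) * y * ((b * ⟨h₀, hh₀⟩ : ↥S) : G)⁻¹
          = (b : G) * (h₀ * y * h₀⁻¹) * (b : G)⁻¹ := by
        rw [Subgroup.coe_mul]; group
      rcases hb with hb | hb
      · -- `b` centralises `y`
        right
        refine ⟨(hTmem b).mpr ((hcomm_iff _).mpr hb), ?_⟩
        rw [hTmem, hcomm_iff, hprod, hinv₀]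
        have : (b : G) * y⁻¹ * (b : G)⁻¹ = ((b : G) * y * (b : G)⁻¹)⁻¹ := by group
        rw [this, hb]
        exact hyne
      · -- `b` inverts `y`
        left
        refine ⟨?_, ?_⟩
        · rw [hTmem, hcomm_iff, hprod, hinv₀]
          have : (b : G) * y⁻¹ * (b : G)⁻¹ = ((b : G) * y * (b : G)⁻¹)⁻¹ := by group
          rw [this, hb, inv_inv]
        · rw [hTmem, hcomm_iff, hb]
          exact hyne
    have hTcard : Nat.card ↥T = 6 := by
      have := Subgroup.card_mul_index T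
      rw [hidx, hScard] at this
      omega
    haveI : Fact (Nat.Prime 2) := ⟨Nat.prime_two⟩
    obtain ⟨v, hv⟩ := exists_prime_orderOf_dvd_card' (G := ↥T) 2 (by rw [hTcard]; norm_num)
    refine ⟨((v : ↥S) : G), ?_, hcentx _ (v : ↥S).2, (hTmem (v : ↥S)).mp v.2⟩
    rw [Subgroup.orderOf_coe, Subgroup.orderOf_coe]; exact hv

end Cfsg.Agent.Helper44.N96
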