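import Mathlib
import Cfsg.Agent.S1017
import Cfsg.Agent.Lib.Helper54.O5760BDefs

/-!
# Lemma server N96 (helper54, S0980 case `n_5 = 96`): piece (P2) `exists_x`
-/

set_option autoImplicit false
set_option linter.style.haveILetI false

namespace Cfsg.Agent.Helper44.N96

open Cfsg MulAction Cfsg.Agent.Helper54.O5760B

universe u

section NoSimple

variable {G : Type u} [Group G] [Finite G]

theorem exists_x (R : Sylow 5 G) (hR : Nat.card (R : Subgroup G) = 5)
    (hC : Nat.card (Subgroup.centralizer ((R : Subgroup G) : Set G)) = 15 ∨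
      Nat.card (Subgroup.centralizer ((R : Subgroup G) : Set G)) = 30) :
    ∃ x : G, orderOf x = 3 ∧ x ∈ Subgroup.centralizer ((R : Subgroup G) : Set G) ∧
      ∀ n ∈ Subgroup.normalizer ((R : Subgroup G) : Set G), n * x * n⁻¹ ∈ Subgroup.zpowers x := by
  classical
  haveI : Fact (Nat.Prime 3) := ⟨Nat.prime_three⟩
  haveI : Fact (Nat.Prime 5) := ⟨Nat.prime_five⟩
  set C : Subgroup G := Subgroup.centralizer ((R : Subgroup G) : Set G) with hCdef
  have h3C : 3 ∣ Nat.card ↥C := by
    rcases hC with h | h <;> rw [h] <;> norm_num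
  obtain ⟨x', hx'⟩ := exists_prime_orderOf_dvd_card' (G := ↥C) 3 h3C
  have hpg : IsPGroup 3 (Subgroup.zpowers x') :=
    IsPGroup.of_card (n := 1) (by rw [Nat.card_zpowers, hx', pow_one])
  obtain ⟨P, hP⟩ := hpg.exists_le_sylow
  have hPcard : Nat.card (P : Subgroup ↥C) = 3 := by
    rcases hC with h | h
    · have := Cfsg.Agent.S1017.sylow_card_eq P 1 5 (by rw [h]; norm_num) (by norm_num)
      simpa using this
    · have := Cfsg.Agent.S1017.sylow_card_eq P 1 10 (by rw [h]; norm_num) (by norm_num)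
      simpa using this
  have hPx : Subgroup.zpowers x' = (P : Subgroup ↥C) :=
    Subgroup.eq_of_le_of_card_ge hP (by rw [hPcard, Nat.card_zpowers, hx'])
  -- the normaliser of `P` in `C` has order divisible by 15
  have hmul := Cfsg.Agent.S1017.card_sylow_mul_card_normalizer P
  have h3N : 3 ∣ Nat.card (Subgroup.normalizer ((P : Subgroup ↥C) : Set ↥C)) := by
    have := Subgroup.card_dvd_of_le
      (Subgroup.le_normalizer : (P : Subgroup ↥C) ≤ Subgroup.normalizer ((P : Subgroup ↥C) : Set ↥C))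
    rwa [hPcard] at this
  have hRC : (R : Subgroup G) ≤ C := Cfsg.Agent.S1017.le_centralizer_self R hR
  have h5N : 5 ∣ Nat.card (Subgroup.normalizer ((P : Subgroup ↥C) : Set ↥C)) := by
    have hR'card : Nat.card ((R : Subgroup G).subgroupOf C) = 5 := by
      exact (Nat.card_congr (Subgroup.subgroupOfEquivOfLe hRC).toEquiv).trans hR
    have hR'N : (R : Subgroup G).subgroupOf C ≤
        Subgroup.normalizer ((P : Subgroup ↥C) : Set ↥C) := by
      refine le_trans ?_ (Subgroup.centralizer_le_normalizer _)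
      intro c hc
      rw [Subgroup.mem_centralizer_iff]
      intro z _
      apply Subtype.ext
      rw [Subgroup.coe_mul, Subgroup.coe_mul]
      have hz : (z : G) ∈ Subgroup.centralizer ((R : Subgroup G) : Set G) := z.2
      rw [Subgroup.mem_centralizer_iff] at hz
      exact (hz (c : G) (Subgroup.mem_subgroupOf.mp hc)).symm
    have := Subgroup.card_dvd_of_le hR'N
    rwa [hR'card] at this
  have h15N : 15 ∣ Nat.card (Subgroup.normalizer ((P : Subgroup ↥C) : Set ↥C)) :=
    Nat.Coprime.mul_dvd_of_dvd_of_dvd (by norm_num : Nat.Coprime 3 5) h3N h5N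
  have hmod : Nat.card (Sylow 3 ↥C) % 3 = 1 := Cfsg.Agent.S1017.card_sylow_mod
  have hone : Nat.card (Sylow 3 ↥C) = 1 := by
    obtain ⟨t, ht⟩ := h15N
    rw [ht] at hmul
    rcases hC with h | h
    · rw [h] at hmul
      have : Nat.card (Sylow 3 ↥C) * t = 1 := by nlinarith
      exact Nat.eq_one_of_mul_eq_one_right this
    · rw [h] at hmul
      have h2 : Nat.card (Sylow 3 ↥C) * t = 2 := by nlinarith
      have hdvd : Nat.card (Sylow 3 ↥C) ∣ 2 := Dvd.intro _ h2
      have hle : Nat.card (Sylow 3 ↥C) ≤ 2 := Nat.le_of_dvd (by norm_num) hdvd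
      interval_cases hn : Nat.card (Sylow 3 ↥C) <;> omega
  haveI : Subsingleton (Sylow 3 ↥C) := (Nat.card_eq_one_iff_unique.mp hone).1
  -- conclusion
  have hxord : orderOf (x' : G) = 3 := by rw [Subgroup.orderOf_coe]; exact hx'
  refine ⟨(x' : G), hxord, x'.2, ?_⟩
  intro n hn
  -- `n x n⁻¹ ∈ C`
  have hyC : n * (x' : G) * n⁻¹ ∈ C := by
    show n * (x' : G) * n⁻¹ ∈ Subgroup.centralizer ((R : Subgroup G) : Set G)
    rw [Subgroup.mem_centralizer_iff]
    intro r hr
    have hr' : n⁻¹ * r * n ∈ (R : Subgroup G) := by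
      have := (Subgroup.mem_normalizer_iff.mp (Subgroup.inv_mem _ hn) r).mp hr
      rwa [inv_inv] at this
    have hx2 : (x' : G) ∈ Subgroup.centralizer ((R : Subgroup G) : Set G) := x'.2
    rw [Subgroup.mem_centralizer_iff] at hx2
    have hcomm := hx2 _ hr'
    calc r * (n * (x' : G) * n⁻¹) = n * ((n⁻¹ * r * n) * (x' : G)) * n⁻¹ := by group
      _ = n * ((x' : G) * (n⁻¹ * r * n)) * n⁻¹ := by rw [hcomm]
      _ = n * (x' : G) * n⁻¹ * r := by group
  set y' : ↥C := ⟨n * (x' : G) * n⁻¹, hyC⟩ with hy'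
  have hyord : orderOf y' = 3 := by
    rw [← Subgroup.orderOf_coe]
    show orderOf (n * (x' : G) * n⁻¹) = 3
    have := (MulAut.conj n).orderOf_eq (x' : G)
    rw [MulAut.conj_apply] at this
    rw [this, hxord]
  have hpg' : IsPGroup 3 (Subgroup.zpowers y') :=
    IsPGroup.of_card (n := 1) (by rw [Nat.card_zpowers, hyord, pow_one])
  obtain ⟨Q, hQ⟩ := hpg'.exists_le_sylow
  have hQP : Q = P := Subsingleton.elim Q P
  have hymem : y' ∈ Subgroup.zpowers x' := by
    rw [hPx, ← hQP]; exact hQ (Subgroup.mem_zpowers y')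
  obtain ⟨k, hk⟩ := Subgroup.mem_zpowers_iff.mp hymem
  rw [Subgroup.mem_zpowers_iff]
  refine ⟨k, ?_⟩
  have := congrArg (Subtype.val : ↥C → G) hk
  rw [Subgroup.coe_zpow] at this
  exact this

end NoSimple

end Cfsg.Agent.Helper44.N96
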