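import Mathlib
import Cfsg.Agent.Lib.Helper54.O5760BDefs

/-!
# Lemma server N96 (helper54, S0980 case `n_5 = 96`): piece (P3b) `nine_dvd`
-/

set_option autoImplicit false
set_option linter.style.haveILetI false

namespace Cfsg.Agent.Helper44.N96

open Cfsg MulAction Cfsg.Agent.Helper54.O5760B

universe u

section NoSimple

variable {G : Type u} [Group G] [Finite G]

theorem nine_dvd (hG : Nat.card G = 5760) (x : G) (hx : orderOf x = 3) :
    9 ∣ Nat.card (Subgroup.centralizer ({x} : Set G)) := by
  haveI : Fact (Nat.Prime 3) := ⟨Nat.prime_three⟩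
  have hdvd : 3 ^ 2 ∣ Nat.card G := by rw [hG]; norm_num
  have hH : Nat.card (Subgroup.zpowers x) = 3 ^ 1 := by
    rw [Nat.card_zpowers, hx, pow_one]
  obtain ⟨K, hK, hxK⟩ := Sylow.exists_subgroup_card_pow_prime_le 3 hdvd (Subgroup.zpowers x) hH
    (by norm_num)
  have hcomm := (IsPGroup.isMulCommutative_of_card_eq_prime_sq (p := 3) hK).is_comm.comm
  have hxmem : x ∈ K := hxK (Subgroup.mem_zpowers x)
  have hle : K ≤ Subgroup.centralizer ({x} : Set G) := by
    intro k hk
    rw [Subgroup.mem_centralizer_iff]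
    intro z hz
    rw [Set.mem_singleton_iff] at hz
    rw [hz]
    have := hcomm ⟨x, hxmem⟩ ⟨k, hk⟩
    exact congrArg Subtype.val this
  have := Subgroup.card_dvd_of_le hle
  rw [hK] at this
  exact this

end NoSimple

end Cfsg.Agent.Helper44.N96
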