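import Mathlib
import Cfsg.Agent.Lib.Helper54.O5760BDefs

/-!
# Lemma server N96 (helper54, S0980 case `n_5 = 96`): piece (P3c) `A_ne`
-/

set_option autoImplicit false
set_option linter.style.haveILetI false

namespace Cfsg.Agent.Helper44.N96

open Cfsg MulAction Cfsg.Agent.Helper54.O5760B

universe u

section Sylow

variable {G : Type u} [Group G] [Finite G] [IsSimpleGroup G]

theorem A_ne (hG : Nat.card G = 5760) (h96 : Nat.card (Sylow 5 G) = 96) (x : G) (hx1 : x ≠ 1) :
    Nat.card {Q : Sylow 5 G // (Q : Subgroup G) ≤ Subgroup.centralizer ({x} : Set G)} ≠ 96 := by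
  classical
  intro hcard
  haveI : Fact (Nat.Prime 5) := ⟨Nat.prime_five⟩
  -- every Sylow 5-subgroup lies in `C(x)`
  have hall : ∀ Q : Sylow 5 G, (Q : Subgroup G) ≤ Subgroup.centralizer ({x} : Set G) := by
    have hinj : Function.Injective
        (Subtype.val : {Q : Sylow 5 G // (Q : Subgroup G) ≤ Subgroup.centralizer ({x} : Set G)} →
          Sylow 5 G) := Subtype.val_injective
    have hbij := hinj.bijective_of_nat_card_le (by rw [hcard, h96])
    intro Q
    obtain ⟨⟨Q', hQ'⟩, rfl⟩ := hbij.2 Q
    exact hQ'
  obtain ⟨R⟩ : Nonempty (Sylow 5 G) := inferInstance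
  have hRne : (R : Subgroup G) ≠ ⊥ := R.ne_bot_of_dvd_card (by rw [hG]; norm_num)
  -- the normal closure of `R` is everything and lies in `C(x)`
  have hN : Subgroup.normalClosure ((R : Subgroup G) : Set G) = ⊤ := by
    rcases (Subgroup.normalClosure_normal (s := ((R : Subgroup G) : Set G))).eq_bot_or_eq_top with h | h
    · exfalso
      apply hRne
      rw [eq_bot_iff, ← h]
      exact Subgroup.le_normalClosure
    · exact h
  have hle : Subgroup.normalClosure ((R : Subgroup G) : Set G) ≤
      Subgroup.centralizer ({x} : Set G) := by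
    unfold Subgroup.normalClosure
    rw [Subgroup.closure_le]
    intro a ha
    rw [Group.mem_conjugatesOfSet_iff] at ha
    obtain ⟨b, hb, hconj⟩ := ha
    rw [isConj_iff] at hconj
    obtain ⟨c, rfl⟩ := hconj
    apply hall (c • R)
    rw [Sylow.coe_subgroup_smul]
    have : c * b * c⁻¹ = MulAut.conj c • b := by
      rw [MulAut.smul_def, MulAut.conj_apply]
    rw [this]
    exact Subgroup.smul_mem_pointwise_smul b (MulAut.conj c) (R : Subgroup G) hb
  have hCtop : Subgroup.centralizer ({x} : Set G) = ⊤ := by
    rw [eq_top_iff, ← hN]; exact hle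
  have hxc : x ∈ Subgroup.center G := by
    rw [Subgroup.mem_center_iff]
    intro g
    have hg : g ∈ Subgroup.centralizer ({x} : Set G) := by rw [hCtop]; exact Subgroup.mem_top g
    exact ((Subgroup.mem_centralizer_iff.mp hg) x (Set.mem_singleton x)).symm
  have hcen : Subgroup.center G = ⊤ := by
    rcases (inferInstance : (Subgroup.center G).Normal).eq_bot_or_eq_top with h | h
    · exfalso
      rw [h, Subgroup.mem_bot] at hxc
      exact hx1 hxc
    · exact h
  have hprime : (Nat.card G).Prime :=
    @IsSimpleGroup.prime_card G (Group.commGroupOfCenterEqTop hcen) _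
  rw [hG] at hprime
  norm_num at hprime

end Sylow

end Cfsg.Agent.Helper44.N96
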