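import Mathlib
import Cfsg.Agent.Lib.Helper55.O2520Defs

/-!
# O2520 (SUMN) (helper55's server for S0984): sums of a class function over `N = P ⋊ ⟨u⟩` (order 36)
and `D = P ⋊ ⟨u²⟩` (order 18) of the configuration `Config P u w`.

The indicator of `P ⊔ ⟨v⟩` is the sum over `k < o(v)` of the indicators of the cosets `P v ^ k`; each
coset sum is reindexed by right multiplication; every `y u ^ k` (`y ∈ P`, `k = 1, 2, 3`) is conjugate to
`u ^ k` by the explicit element `y² (u y u⁻¹)²` (`k = 1`, then `k = 3` by inversion) resp. `y²` (`k = 2`).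
The cardinalities are the sum formula for the constant function `1`.
-/

set_option autoImplicit false

namespace Cfsg.Agent.Helper44.O2520

open Cfsg.Agent.Helper55.O2520
open scoped Classical

universe u

/-- the sum of a constant over a subgroup -/
theorem h44_sum_ind_const {G : Type u} [Group G] [Fintype G] (P : Subgroup G) (c : ℂ) :
    ∑ h : G, (if h ∈ P then c else 0) = (Nat.card P : ℂ) * c := by
  rw [← Finset.sum_filter, Finset.sum_const, nsmul_eq_mul, Nat.card_eq_fintype_card,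
    Fintype.card_subtype]

/-- decomposition of the sum over `P ⊔ ⟨v⟩` into the cosets `P v ^ k` -/
theorem h44_coset_sum {G : Type u} [Group G] [Fintype G] (P : Subgroup G) (v : G) (n : ℕ)
    (hn : orderOf v = n)
    (hvP : ∀ x ∈ P, x ∈ Subgroup.zpowers v → x = 1)
    (hnorm : Subgroup.zpowers v ≤ Subgroup.normalizer (P : Set G)) (χ : G → ℂ) :
    ∑ g : G, (if g ∈ P ⊔ Subgroup.zpowers v then χ g else 0) =
      ∑ k ∈ Finset.range n, ∑ h : G, (if h ∈ P then χ (h * v ^ k) else 0) := by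
  have hpt : ∀ g : G, (if g ∈ P ⊔ Subgroup.zpowers v then χ g else 0) =
      ∑ k ∈ Finset.range n, (if g * (v ^ k)⁻¹ ∈ P then χ g else 0) := by
    intro g
    by_cases hg : g ∈ P ⊔ Subgroup.zpowers v
    · rw [if_pos hg]
      have hg' : g ∈ ((P ⊔ Subgroup.zpowers v : Subgroup G) : Set G) := hg
      rw [Subgroup.coe_mul_of_right_le_normalizer_left P _ hnorm] at hg'
      obtain ⟨y, hy, h, hh, rfl⟩ := Set.mem_mul.1 hg'
      have hh' := (mem_zpowers_iff_mem_range_orderOf).1 hh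
      rw [hn] at hh'
      obtain ⟨k0, hk0, rfl⟩ := Finset.mem_image.1 hh'
      rw [Finset.sum_eq_single k0]
      · rw [if_pos]
        rw [mul_inv_cancel_right]
        exact hy
      · intro k hk hkk
        rw [if_neg]
        intro hmem
        have hx : v ^ k0 * (v ^ k)⁻¹ ∈ P := by
          have h1 := P.mul_mem (P.inv_mem hy) hmem
          have h2 : y⁻¹ * (y * v ^ k0 * (v ^ k)⁻¹) = v ^ k0 * (v ^ k)⁻¹ := by group
          rwa [h2] at h1
        have hxz : v ^ k0 * (v ^ k)⁻¹ ∈ Subgroup.zpowers v :=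
          (Subgroup.zpowers v).mul_mem (Subgroup.npow_mem_zpowers v k0)
            ((Subgroup.zpowers v).inv_mem (Subgroup.npow_mem_zpowers v k))
        have h1 := hvP _ hx hxz
        have h2 : v ^ k0 = v ^ k := by rwa [mul_inv_eq_one] at h1
        have h3 := pow_injOn_Iio_orderOf (x := v)
          (Set.mem_Iio.2 (by rw [hn]; exact Finset.mem_range.1 hk0))
          (Set.mem_Iio.2 (by rw [hn]; exact Finset.mem_range.1 hk)) h2
        exact hkk h3.symm
      · intro hk0'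
        exact absurd hk0 hk0'
    · rw [if_neg hg]
      symm
      apply Finset.sum_eq_zero
      intro k _
      rw [if_neg]
      intro hmem
      apply hg
      have h1 : g = g * (v ^ k)⁻¹ * v ^ k := by rw [inv_mul_cancel_right]
      rw [h1]
      exact Subgroup.mul_mem_sup hmem (Subgroup.npow_mem_zpowers v k)
  simp_rw [hpt]
  rw [Finset.sum_comm]
  apply Finset.sum_congr rfl
  intro k _
  exact Fintype.sum_equiv (Equiv.mulRight (v ^ k)⁻¹) _ _ (fun g => by
    simp only [Equiv.coe_mulRight, inv_mul_cancel_right])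

section sums
variable {G : Type u} [Group G] [Fintype G] (P : Subgroup G) (u w : G) (hc : Config P u w)
  (χ : G → ℂ) (hcl : ∀ g x : G, χ (g * x * g⁻¹) = χ x)

include hc in
theorem h44_u4 : u ^ 4 = 1 := by
  rw [← hc.ordu]; exact pow_orderOf_eq_one u

include hc in
theorem h44_comm : ∀ a ∈ P, ∀ b ∈ P, a * b = b * a := by
  intro a ha b hb
  have h1 := hc.inv (a * b) (P.mul_mem ha hb)
  have h2 := hc.inv a ha
  have h3 := hc.inv b hb
  have h4 : u ^ 2 * (a * b) * (u ^ 2)⁻¹ = (u ^ 2 * a * (u ^ 2)⁻¹) * (u ^ 2 * b * (u ^ 2)⁻¹) := by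
    group
  rw [h1, h2, h3] at h4
  have h5 : (a * b)⁻¹ = (b * a)⁻¹ := by rw [h4, _root_.mul_inv_rev]
  exact inv_injective h5

include hc in
theorem h44_norm_inv : ∀ x ∈ P, u⁻¹ * x * u ∈ P := by
  intro x hx
  have hu3 : u⁻¹ = u ^ 3 :=
    inv_eq_of_mul_eq_one_right (by rw [← pow_succ']; exact h44_u4 P u w hc)
  have hu3' : u⁻¹ = u * u * u := by rw [hu3, pow_three']
  have h1 := hc.norm _ (hc.norm _ (hc.norm x hx))
  have e : u * (u * (u * x * u⁻¹) * u⁻¹) * u⁻¹ = (u * u * u) * x * (u * u * u)⁻¹ := by group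
  rw [e, ← hu3', inv_inv] at h1
  exact h1

include hc in
theorem h44_zpowers_le : Subgroup.zpowers u ≤ Subgroup.normalizer (P : Set G) := by
  rw [Subgroup.zpowers_le]
  rw [Subgroup.mem_normalizer_iff]
  intro h
  constructor
  · intro hh
    exact hc.norm h hh
  · intro hh
    have h1 := h44_norm_inv P u w hc _ hh
    have e : u⁻¹ * (u * h * u⁻¹) * u = h := by group
    rw [e] at h1
    exact h1

include hc in
theorem h44_inter : ∀ x ∈ P, x ∈ Subgroup.zpowers u → x = 1 := by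
  intro x hx hx'
  have h3x := hc.expP x hx
  obtain ⟨j, rfl⟩ := Subgroup.mem_zpowers_iff.1 hx'
  have h4x : (u ^ j) ^ 4 = 1 := by
    rw [← zpow_natCast, ← zpow_mul, mul_comm, zpow_mul, zpow_natCast, h44_u4 P u w hc, one_zpow]
  rw [pow_succ, h3x, one_mul] at h4x
  exact h4x

include hc in
theorem h44_ord_sq : orderOf (u ^ 2) = 2 := by
  rw [orderOf_pow' u two_ne_zero, hc.ordu]
  norm_num

include hc in
/-- every `y u` (`y ∈ P`) is conjugate to `u` -/
theorem h44_conj1 : ∀ y ∈ P, ∃ z : G, z * u * z⁻¹ = y * u := by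
  intro y hy
  set s := u * y * u⁻¹ with hs
  have hsP : s ∈ P := hc.norm y hy
  have hsy : s * y = y * s := h44_comm P u w hc s hsP y hy
  have hi : u * y = s * u := by rw [hs]; group
  have hii : u * s = y⁻¹ * u := by
    have h1 := hc.inv y hy
    rw [pow_two] at h1
    have e : u * s = (u * u * y * (u * u)⁻¹) * u := by rw [hs]; group
    rw [e, h1]
  have hi' : ∀ t : G, u * (y * t) = s * (u * t) := fun t => by
    rw [← mul_assoc, hi, mul_assoc]
  have hii' : ∀ t : G, u * (s * t) = y⁻¹ * (u * t) := fun t => by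
    rw [← mul_assoc, hii, mul_assoc]
  have h3 : y * y * y = 1 := by rw [← pow_three']; exact hc.expP y hy
  have hy2 : y⁻¹ * y⁻¹ = y := by
    calc y⁻¹ * y⁻¹ = y⁻¹ * y⁻¹ * (y * y * y) := by rw [h3, mul_one]
      _ = y := by group
  have hP1 : y * (s * s) = s * (s * y) := by
    rw [← mul_assoc, ← hsy, mul_assoc, ← hsy]
  refine ⟨y * y * s * s, ?_⟩
  rw [mul_inv_eq_iff_eq_mul]
  simp only [mul_assoc]
  rw [hi', hi', hii', hii]
  -- y * (y * (s * (s * u))) = y * (s * (s * (y⁻¹ * (y⁻¹ * u))))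
  congr 1
  calc y * (s * (s * u)) = (y * (s * s)) * u := by simp only [mul_assoc]
    _ = (s * (s * y)) * u := by rw [hP1]
    _ = s * (s * ((y⁻¹ * y⁻¹) * u)) := by rw [hy2]; simp only [mul_assoc]
    _ = s * (s * (y⁻¹ * (y⁻¹ * u))) := by simp only [mul_assoc]

include hc in
/-- every `y u²` (`y ∈ P`) is conjugate to `u²` -/
theorem h44_conj2 : ∀ y ∈ P, ∃ z : G, z * u ^ 2 * z⁻¹ = y * u ^ 2 := by
  intro y hy
  have hz : y * y ∈ P := P.mul_mem hy hy
  have h1 := hc.inv (y * y)⁻¹ (P.inv_mem hz)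
  rw [inv_inv] at h1
  have h3 : y * y * y = 1 := by rw [← pow_three']; exact hc.expP y hy
  refine ⟨y * y, ?_⟩
  have e : y * y * u ^ 2 * (y * y)⁻¹ = y * y * (u ^ 2 * (y * y)⁻¹ * (u ^ 2)⁻¹) * u ^ 2 := by group
  rw [e, h1]
  have e2 : y * y * (y * y) = y := by
    calc y * y * (y * y) = (y * y * y) * y := by simp only [mul_assoc]
      _ = y := by rw [h3, one_mul]
  rw [e2]

include hc in
/-- every `y u³` (`y ∈ P`) is conjugate to `u³` -/
theorem h44_conj3 : ∀ y ∈ P, ∃ z : G, z * u ^ 3 * z⁻¹ = y * u ^ 3 := by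
  intro y hy
  have hu3 : u ^ 3 = u⁻¹ :=
    (inv_eq_of_mul_eq_one_right (by rw [← pow_succ']; exact h44_u4 P u w hc)).symm
  have hy'' : u * y⁻¹ * u⁻¹ ∈ P := hc.norm _ (P.inv_mem hy)
  obtain ⟨z, hz⟩ := h44_conj1 P u w hc _ hy''
  refine ⟨z, ?_⟩
  rw [hu3]
  have e : z * u⁻¹ * z⁻¹ = (z * u * z⁻¹)⁻¹ := by group
  rw [e, hz]
  group

include hc hcl

/-- (SUMN) [M-L] `N = P ⊔ ⟨u⟩ = P ⋊ ⟨u⟩` has order 36; every element of `N ∖ P` is `y * u ^ k`
(`y ∈ P`, `k = 1,2,3`), and is conjugate BY AN ELEMENT OF `P` to `u ^ k` (the map `z ↦ z⁻¹ * (u^k z u^-k)` is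
injective on `P` because `u ^ k` has no fixed point on `P ∖ 1`: a fixed point of `u` or `u³` is fixed by
`u²`, which inverts, and `x = x⁻¹`, `x ^ 3 = 1` give `x = 1`). Same for `D = P ⊔ ⟨u²⟩` of order 18. -/
theorem sum_N :
    Nat.card (P ⊔ Subgroup.zpowers u : Subgroup G) = 36 ∧
    Nat.card (P ⊔ Subgroup.zpowers (u ^ 2) : Subgroup G) = 18 ∧
    ∑ g : G, (if g ∈ P ⊔ Subgroup.zpowers u then χ g else 0) =
      ∑ g : G, (if g ∈ P then χ g else 0) + 9 * (χ u + χ (u ^ 2) + χ (u ^ 3)) ∧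
    ∑ g : G, (if g ∈ P ⊔ Subgroup.zpowers (u ^ 2) then χ g else 0) =
      ∑ g : G, (if g ∈ P then χ g else 0) + 9 * χ (u ^ 2) := by
  have hnorm := h44_zpowers_le P u w hc
  have hint := h44_inter P u w hc
  have hsq_le : Subgroup.zpowers (u ^ 2) ≤ Subgroup.zpowers u :=
    Subgroup.zpowers_le.2 (Subgroup.npow_mem_zpowers u 2)
  have hnorm2 : Subgroup.zpowers (u ^ 2) ≤ Subgroup.normalizer (P : Set G) := hsq_le.trans hnorm
  have hint2 : ∀ x ∈ P, x ∈ Subgroup.zpowers (u ^ 2) → x = 1 :=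
    fun x hx hx' => hint x hx (hsq_le hx')
  have hP9 : (Nat.card P : ℂ) = 9 := by rw [hc.cardP]; norm_num
  -- the general formulas
  have hN : ∀ χ' : G → ℂ, ∑ g : G, (if g ∈ P ⊔ Subgroup.zpowers u then χ' g else 0) =
      ∑ k ∈ Finset.range 4, ∑ h : G, (if h ∈ P then χ' (h * u ^ k) else 0) :=
    fun χ' => h44_coset_sum P u 4 hc.ordu hint hnorm χ'
  have hD : ∀ χ' : G → ℂ, ∑ g : G, (if g ∈ P ⊔ Subgroup.zpowers (u ^ 2) then χ' g else 0) =
      ∑ k ∈ Finset.range 2, ∑ h : G, (if h ∈ P then χ' (h * (u ^ 2) ^ k) else 0) :=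
    fun χ' => h44_coset_sum P (u ^ 2) 2 (h44_ord_sq P u w hc) hint2 hnorm2 χ'
  -- conjugacy
  have hχ1 : ∀ y ∈ P, χ (y * u) = χ u := by
    intro y hy
    obtain ⟨z, hz⟩ := h44_conj1 P u w hc y hy
    rw [← hz, hcl]
  have hχ2 : ∀ y ∈ P, χ (y * u ^ 2) = χ (u ^ 2) := by
    intro y hy
    obtain ⟨z, hz⟩ := h44_conj2 P u w hc y hy
    rw [← hz, hcl]
  have hχ3 : ∀ y ∈ P, χ (y * u ^ 3) = χ (u ^ 3) := by
    intro y hy
    obtain ⟨z, hz⟩ := h44_conj3 P u w hc y hy
    rw [← hz, hcl]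
  have hS : ∀ (t : G), (∀ y ∈ P, χ (y * t) = χ t) →
      ∑ h : G, (if h ∈ P then χ (h * t) else 0) = 9 * χ t := by
    intro t ht
    have h1 : ∀ h : G, (if h ∈ P then χ (h * t) else 0) = if h ∈ P then χ t else 0 := by
      intro h
      split_ifs with hh
      · exact ht h hh
      · rfl
    simp_rw [h1]
    rw [h44_sum_ind_const, hP9]
  refine ⟨?_, ?_, ?_, ?_⟩
  · have h1 := hN (fun _ => 1)
    rw [h44_sum_ind_const] at h1
    simp only [h44_sum_ind_const, hP9, Finset.sum_const, Finset.card_range, nsmul_eq_mul,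
      mul_one] at h1
    have h2 : (Nat.card (P ⊔ Subgroup.zpowers u : Subgroup G) : ℂ) = ((36 : ℕ) : ℂ) := by
      rw [h1]; norm_num
    exact Nat.cast_injective h2
  · have h1 := hD (fun _ => 1)
    rw [h44_sum_ind_const] at h1
    simp only [h44_sum_ind_const, hP9, Finset.sum_const, Finset.card_range, nsmul_eq_mul,
      mul_one] at h1
    have h2 : (Nat.card (P ⊔ Subgroup.zpowers (u ^ 2) : Subgroup G) : ℂ) = ((18 : ℕ) : ℂ) := by
      rw [h1]; norm_num
    exact Nat.cast_injective h2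
  · rw [hN χ, Finset.sum_range_succ, Finset.sum_range_succ, Finset.sum_range_succ,
      Finset.sum_range_succ, Finset.sum_range_zero, zero_add]
    have h1 : ∑ h : G, (if h ∈ P then χ (h * u ^ 1) else 0) = 9 * χ (u ^ 1) :=
      hS (u ^ 1) (by rw [pow_one]; exact hχ1)
    rw [h1, hS (u ^ 2) hχ2, hS (u ^ 3) hχ3]
    simp only [pow_zero, mul_one, pow_one]
    ring
  · rw [hD χ, Finset.sum_range_succ, Finset.sum_range_succ, Finset.sum_range_zero, zero_add]
    have h1 : ∑ h : G, (if h ∈ P then χ (h * (u ^ 2) ^ 1) else 0) = 9 * χ ((u ^ 2) ^ 1) :=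
      hS ((u ^ 2) ^ 1) (by rw [pow_one]; exact hχ2)
    rw [h1]
    simp only [pow_zero, mul_one, pow_one]

end sums

end Cfsg.Agent.Helper44.O2520
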