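import Mathlib
import Cfsg.Agent.Lib.Helper87.SVKit

/-!
# O459648 (D) (helper53's server for S1022): Sylow 19 data of a simple group of order
459648 = 2^7 * 3^3 * 7 * 19.  `h87_data` with `p = 19`, `m = 24192`; the divisors of 24192 that
are 1 mod 19 are 1, 96 and 1008.
-/

set_option autoImplicit false

namespace Cfsg.Agent.Helper44.O459648

open Cfsg.Agent.Helper17 Cfsg.Agent.Helper17.Sieve Cfsg.Agent.Helper75.FixKill
  Cfsg.Agent.Helper87.SV

/-- the divisors of `24192 = 2^7 * 3^3 * 7` that are 1 mod 19 -/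
theorem h44_div24192 (d : ℕ) (h1 : d ∣ 24192) (h2 : d % 19 = 1) :
    d = 1 ∨ d = 96 ∨ d = 1008 := by
  have hm : d ∈ Nat.divisors 24192 := Nat.mem_divisors.2 ⟨h1, by norm_num⟩
  simp only [Nat.divisors_ofNat, Finset.mem_insert, Finset.mem_singleton] at hm
  omega

/-- (D) `h87_data` with `p = 19`, `m = 24192`; the divisors of 24192 that are 1 mod 19 are 1, 96, 1008 -/
theorem data {G : Type*} [Group G] [Finite G] [IsSimpleGroup G] (hG : Nat.card G = 459648) :
    (∀ P : Sylow 19 G, Nat.card (P : Subgroup G) = 19) ∧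
    (Nat.card (Sylow 19 G) = 96 ∨ Nat.card (Sylow 19 G) = 1008) ∧
    ∀ P : Sylow 19 G, ∃ e : ℕ, e ∣ 18 ∧ e ≠ 1 ∧
      Nat.card (Subgroup.centralizer ((P : Subgroup G) : Set G)) * e * Nat.card (Sylow 19 G) =
        459648 := by
  have hna : ¬ IsMulCommutative G := not_comm_of_not_prime (by rw [hG]; norm_num)
  have h19 : Fact (Nat.Prime 19) := ⟨by norm_num⟩
  have hn19 : Nat.card G = 19 ^ 1 * 24192 := by rw [hG]; norm_num
  obtain ⟨hP19, -, hdvd, hmod, -, hone19, he19⟩ :=
    h87_data hna 19 24192 (by norm_num) hn19 (by norm_num)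
  refine ⟨hP19, ?_, ?_⟩
  · rcases h44_div24192 _ hdvd hmod with h | h | h
    · omega
    · exact Or.inl h
    · exact Or.inr h
  · intro P
    obtain ⟨e, he1, he2, he3⟩ := he19 P
    exact ⟨e, he1, he2, by rw [he3]⟩

end Cfsg.Agent.Helper44.O459648
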