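import Mathlib
import Cfsg.Agent.Lib.Helper44.SpBlocks
import Cfsg.Agent.Lib.Helper44.QFStd

set_option autoImplicit false
set_option linter.unusedSectionVars false

/-!
Realisation of primary-dimension vectors by isometries of nondefective quadratic spaces over a
finite field: closure under orthogonal sums, hyperbolic pair blocks, elliptic (trace-norm) blocks
and trivial blocks.
-/

namespace Cfsg.Agent.Helper44.OBlocks

open Polynomial Module QuadraticMap
open Cfsg.Agent.Helper42.SemiConj Cfsg.Agent.Helper44.StarInv Cfsg.Agent.Helper44.SpBlocks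
open Cfsg.Agent.Helper44.QF
open scoped Classical

universe u

section real

variable {F : Type u} [Field F] [Fintype F]

/-- `d` is the vector of primary dimensions of an isometry, killed by `X ^ r - 1`, of some
nondefective quadratic space -/
def OReal (S : Finset F[X]) (r : ℕ) (d : F[X] → ℕ) : Prop :=
  ∃ (W : Type u) (_ : AddCommGroup W) (_ : Module F W) (_ : Module.Finite F W)
    (Q : QuadraticForm F W) (G : W →ₗ[F] W),
    (∀ x, (∀ y, polar Q x y = 0) → x = 0) ∧ (∀ x, Q (G x) = Q x) ∧
    aeval G (X ^ r - 1 : F[X]) = 0 ∧ ∀ f ∈ S, finrank F (LinearMap.ker (aeval G f)) = d f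

lemma oReal_zero (S : Finset F[X]) (r : ℕ) : OReal S r (fun _ => 0) := by
  refine ⟨PUnit, inferInstance, inferInstance, inferInstance, 0, 0, ?_, ?_, ?_, ?_⟩
  · intro x _; exact Subsingleton.elim _ _
  · intro x; rfl
  · apply LinearMap.ext; intro v; exact Subsingleton.elim _ _
  · intro f _
    exact Module.finrank_zero_of_subsingleton

lemma oReal_congr (S : Finset F[X]) (r : ℕ) (d d' : F[X] → ℕ) (h : ∀ f ∈ S, d f = d' f)
    (hd : OReal S r d) : OReal S r d' := by
  obtain ⟨W, i1, i2, i3, Q, G, h1, h2, h3, h4⟩ := hd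
  exact ⟨W, i1, i2, i3, Q, G, h1, h2, h3, fun f hf => (h4 f hf).trans (h f hf)⟩

lemma nondeg_prod {W₁ W₂ : Type*} [AddCommGroup W₁] [Module F W₁] [AddCommGroup W₂] [Module F W₂]
    (Q₁ : QuadraticForm F W₁) (Q₂ : QuadraticForm F W₂)
    (a2 : ∀ x, (∀ y, polar Q₁ x y = 0) → x = 0) (b2 : ∀ x, (∀ y, polar Q₂ x y = 0) → x = 0) :
    ∀ x, (∀ y, polar (Q₁.prod Q₂) x y = 0) → x = 0 := by
  intro x hx
  apply Prod.ext
  · apply a2
    intro y
    have := hx (y, 0)
    rw [polar_prod] at this
    simpa using this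
  · apply b2
    intro y
    have := hx (0, y)
    rw [polar_prod] at this
    simpa using this

lemma oReal_add (S : Finset F[X]) (r : ℕ) (d₁ d₂ : F[X] → ℕ) (h₁ : OReal S r d₁)
    (h₂ : OReal S r d₂) : OReal S r (fun f => d₁ f + d₂ f) := by
  obtain ⟨W₁, i1, i2, i3, Q₁, G₁, a2, a3, a4, a5⟩ := h₁
  obtain ⟨W₂, j1, j2, j3, Q₂, G₂, b2, b3, b4, b5⟩ := h₂
  refine ⟨W₁ × W₂, inferInstance, inferInstance, inferInstance, Q₁.prod Q₂, G₁.prodMap G₂,
    nondeg_prod Q₁ Q₂ a2 b2, ?_, ?_, ?_⟩
  · intro x
    rw [prod_apply, prod_apply]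
    simp only [LinearMap.prodMap_apply]
    rw [a3, b3]
  · rw [aeval_prodMap, a4, b4]
    apply LinearMap.ext; intro x; rfl
  · intro f hf
    rw [finrank_ker_aeval_prodMap, a5 f hf, b5 f hf]

lemma oReal_nsmul (S : Finset F[X]) (r : ℕ) (d : F[X] → ℕ) (h : OReal S r d) (k : ℕ) :
    OReal S r (fun f => k * d f) := by
  induction k with
  | zero =>
    apply oReal_congr S r _ _ _ (oReal_zero S r)
    intro f _; simp
  | succ k ih =>
    apply oReal_congr S r _ _ _ (oReal_add S r _ _ ih h)
    intro f _; ring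

lemma oReal_sum (S : Finset F[X]) (r : ℕ) {α : Type*} (T : Finset α) (dd : α → F[X] → ℕ)
    (h : ∀ a ∈ T, OReal S r (dd a)) : OReal S r (fun f => ∑ a ∈ T, dd a f) := by
  classical
  induction T using Finset.induction_on with
  | empty =>
    apply oReal_congr S r _ _ _ (oReal_zero S r)
    intro f _; simp
  | insert a T' ha ih =>
    have h1 := ih (fun b hb => h b (Finset.mem_insert_of_mem hb))
    have h2 := h a (Finset.mem_insert_self a T')
    apply oReal_congr S r _ _ _ (oReal_add S r _ _ h2 h1)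
    intro f _
    rw [Finset.sum_insert ha]

end real

section blocks

variable {F : Type u} [Field F] [Fintype F] {p : ℕ} [Fact p.Prime] [CharP F p]

/-- the hyperbolic pair block attached to `f` -/
theorem oReal_pair (r : ℕ) (hr : r.Prime) (hrp : r ≠ p) (f : F[X]) (hf : f ∈ powFactors F r) :
    OReal (powFactors F r) r (fun h => (if h = f then f.natDegree else 0) +
      (if h = star r f then f.natDegree else 0)) := by
  have hirr := powFactors_irr r f hf
  have : Fact (Irreducible f) := ⟨hirr⟩
  have hfin : Module.Finite F (AdjoinRoot f) := (AdjoinRoot.powerBasis hirr.ne_zero).finite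
  have hroot := root_pow r f (powFactors_dvd r hr hrp f hf)
  set ρ := AdjoinRoot.root f with hρ
  let B : LinearMap.BilinForm F (AdjoinRoot f × AdjoinRoot f) :=
    LinearMap.mk₂ F (fun x y => Algebra.trace F (AdjoinRoot f) (x.1 * y.2))
      (by intro x x' y; simp only [Prod.fst_add, add_mul, map_add])
      (by intro c x y; simp only [Prod.smul_fst, smul_mul_assoc, map_smul])
      (by intro x y y'; simp only [Prod.snd_add, mul_add, map_add])
      (by intro c x y; simp only [Prod.smul_snd, mul_smul_comm, map_smul])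
  have hB : ∀ x y, B x y = Algebra.trace F (AdjoinRoot f) (x.1 * y.2) := fun x y => rfl
  let Q : QuadraticForm F (AdjoinRoot f × AdjoinRoot f) := LinearMap.BilinMap.toQuadraticMap B
  have hQ : ∀ x, Q x = Algebra.trace F (AdjoinRoot f) (x.1 * x.2) := fun x => rfl
  have hpol : ∀ x y, polar Q x y = Algebra.trace F (AdjoinRoot f) (x.1 * y.2) +
      Algebra.trace F (AdjoinRoot f) (y.1 * x.2) := by
    intro x y
    rw [LinearMap.BilinMap.polar_toQuadraticMap, hB, hB]
  let G : (AdjoinRoot f × AdjoinRoot f) →ₗ[F] (AdjoinRoot f × AdjoinRoot f) :=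
    (Algebra.lmul F (AdjoinRoot f) ρ).prodMap (Algebra.lmul F (AdjoinRoot f) (ρ ^ (r - 1)))
  have hG : ∀ x, G x = (ρ * x.1, ρ ^ (r - 1) * x.2) := fun x => rfl
  have hinv : ρ * ρ ^ (r - 1) = 1 := by
    rw [← pow_succ', Nat.sub_add_cancel hr.one_le, hroot]
  have hnd := (_root_.traceForm_nondegenerate F (AdjoinRoot f)).1
  refine ⟨AdjoinRoot f × AdjoinRoot f, inferInstance, inferInstance, inferInstance, Q, G,
    ?_, ?_, ?_, ?_⟩
  · intro x hx
    apply Prod.ext
    · apply hnd
      intro z
      have := hx (0, z)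
      rw [hpol] at this
      simpa [Algebra.traceForm_apply] using this
    · apply hnd
      intro z
      have := hx (z, 0)
      rw [hpol] at this
      simp only [mul_zero, map_zero, zero_add] at this
      rw [Algebra.traceForm_apply, mul_comm]
      exact this
  · intro x
    rw [hQ, hQ, hG]
    have e1 : ρ * x.1 * (ρ ^ (r - 1) * x.2) = (ρ * ρ ^ (r - 1)) * (x.1 * x.2) := by ring
    simp only [e1, hinv, one_mul]
  · rw [aeval_prodMap, aeval_lmul, aeval_lmul]
    have h1 : aeval ρ (X ^ r - 1 : F[X]) = 0 := by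
      rw [map_sub, map_pow, aeval_X, map_one, hroot, sub_self]
    have h2 : aeval (ρ ^ (r - 1)) (X ^ r - 1 : F[X]) = 0 := by
      rw [map_sub, map_pow, aeval_X, map_one, ← pow_mul, mul_comm, pow_mul, hroot, one_pow,
        sub_self]
    rw [h1, h2, map_zero]
    apply LinearMap.ext; intro x; rfl
  · intro h hh
    rw [finrank_ker_aeval_prodMap, finrank_ker_root r hr hrp f h hf hh,
      finrank_ker_root_inv r hr hrp f h hf hh]

/-- the elliptic block attached to a factor with `f* = f` -/
theorem oReal_self (r : ℕ) (hr : r.Prime) (hr2 : r ≠ 2) (hrp : r ≠ p) (f : F[X])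
    (hf : f ∈ cycFactors F r) (hst : star r f = f) :
    OReal (powFactors F r) r (fun h => if h = f then f.natDegree else 0) := by
  have hfp := mem_pow_of_mem_cyc r f hf
  have hirr := powFactors_irr r f hfp
  have : Fact (Irreducible f) := ⟨hirr⟩
  have hfin : Module.Finite F (AdjoinRoot f) := (AdjoinRoot.powerBasis hirr.ne_zero).finite
  have hdvd := powFactors_dvd r hr hrp f hfp
  have hroot := root_pow r f hdvd
  obtain ⟨e, he1, he2⟩ := exists_inv_aut r hr hrp f hfp hst
  set ρ := AdjoinRoot.root f with hρ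
  have hinv : ρ * ρ ^ (r - 1) = 1 := by
    rw [← pow_succ', Nat.sub_add_cancel hr.one_le, hroot]
  have he1' : e (ρ ^ (r - 1)) = ρ := by
    rw [map_pow, he1]
    exact root_pow_pred_pow r hr.two_le f hdvd
  -- the element `θ` with `θ + σ θ = 1`
  have hs0 : ρ + ρ ^ (r - 1) ≠ 0 := by
    intro h
    have h2 : ρ ^ 2 = -1 := by
      have : ρ * (ρ + ρ ^ (r - 1)) = 0 := by rw [h, mul_zero]
      rw [mul_add, hinv] at this
      linear_combination this
    have h4 : ρ ^ 4 = 1 := by
      have : ρ ^ 4 = (ρ ^ 2) ^ 2 := by ring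
      rw [this, h2]; ring
    have hord : orderOf ρ ∣ r := orderOf_dvd_of_pow_eq_one hroot
    have hord4 : orderOf ρ ∣ 4 := orderOf_dvd_of_pow_eq_one h4
    rcases (Nat.dvd_prime hr).mp hord with h1 | h1
    · exact root_ne_one r hr hrp f hf (orderOf_eq_one_iff.mp h1)
    · rw [h1] at hord4
      have hr4 : r ∣ 2 ^ 2 := by norm_num; exact hord4
      have := (Nat.prime_dvd_prime_iff_eq hr Nat.prime_two).mp (hr.dvd_of_dvd_pow hr4)
      exact hr2 this
  set θ := ρ * (ρ + ρ ^ (r - 1))⁻¹ with hθ
  have hθσ : θ + e θ = 1 := by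
    rw [hθ, map_mul e, map_inv₀ e, map_add e, he1, he1']
    rw [add_comm (ρ ^ (r - 1)) ρ, ← add_mul, mul_inv_cancel₀ hs0]
  let B : LinearMap.BilinForm F (AdjoinRoot f) :=
    LinearMap.mk₂ F (fun x y => Algebra.trace F (AdjoinRoot f) (θ * x * e y))
      (by intro x x' y; simp only [mul_add, add_mul, map_add])
      (by intro c x y; simp only [mul_smul_comm, smul_mul_assoc, map_smul])
      (by intro x y y'; simp only [map_add, mul_add])
      (by intro c x y; simp only [map_smul, mul_smul_comm])
  have hB : ∀ x y, B x y = Algebra.trace F (AdjoinRoot f) (θ * x * e y) := fun x y => rfl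
  let Q : QuadraticForm F (AdjoinRoot f) := LinearMap.BilinMap.toQuadraticMap B
  have hQ : ∀ x, Q x = Algebra.trace F (AdjoinRoot f) (θ * x * e x) := fun x => rfl
  have hpol : ∀ x y, polar Q x y = Algebra.trace F (AdjoinRoot f) (x * e y) := by
    intro x y
    rw [LinearMap.BilinMap.polar_toQuadraticMap, hB, hB,
      ← Algebra.trace_eq_of_algEquiv e (θ * y * e x), map_mul e, map_mul e, he2, ← map_add]
    congr 1
    have : θ * x * e y + e θ * e y * x = (θ + e θ) * (x * e y) := by ring
    rw [this, hθσ, one_mul]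
  have hnd := (_root_.traceForm_nondegenerate F (AdjoinRoot f)).1
  refine ⟨AdjoinRoot f, inferInstance, inferInstance, inferInstance, Q,
    Algebra.lmul F (AdjoinRoot f) ρ, ?_, ?_, ?_, ?_⟩
  · intro x hx
    apply hnd
    intro z
    have := hx (e z)
    rw [hpol, he2] at this
    rw [Algebra.traceForm_apply]
    exact this
  · intro x
    show Q (ρ * x) = Q x
    rw [hQ, hQ, map_mul e, he1]
    have e1 : θ * (ρ * x) * (ρ ^ (r - 1) * e x) = (ρ * ρ ^ (r - 1)) * (θ * x * e x) := by ring
    rw [e1, hinv, one_mul]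
  · rw [aeval_lmul]
    have h1 : aeval ρ (X ^ r - 1 : F[X]) = 0 := by
      rw [map_sub, map_pow, aeval_X, map_one, hroot, sub_self]
    rw [h1, map_zero]
  · intro h hh
    exact finrank_ker_root r hr hrp f h hfp hh

/-- the primary dimensions of the identity -/
lemma finrank_ker_aeval_id (r : ℕ) (hr : r.Prime) (hrp : r ≠ p) {W : Type*} [AddCommGroup W]
    [Module F W] [Module.Finite F W] (h : F[X]) (hh : h ∈ powFactors F r) :
    finrank F (LinearMap.ker (aeval (LinearMap.id : W →ₗ[F] W) h)) =
      if h = X - 1 then finrank F W else 0 := by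
  have h1 : aeval (LinearMap.id : W →ₗ[F] W) h = (h.eval 1) • (LinearMap.id : W →ₗ[F] W) := by
    have := Polynomial.aeval_algebraMap_apply_eq_algebraMap_eval (R := F)
      (A := Module.End F W) (1 : F) h
    rw [map_one] at this
    rw [show (LinearMap.id : W →ₗ[F] W) = (1 : Module.End F W) from rfl, this,
      Algebra.algebraMap_eq_smul_one]
  split_ifs with hx
  · rw [h1, hx]
    have e0 : (X - 1 : F[X]).eval 1 = 0 := by simp
    rw [e0, zero_smul, LinearMap.ker_zero, finrank_top]
  · have hne : h.eval 1 ≠ 0 := by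
      intro h0
      have hd : (X - C (1 : F)) ∣ h := dvd_iff_isRoot.mpr h0
      rw [map_one] at hd
      have hass : Associated (X - 1 : F[X]) h :=
        (powFactors_irr r _ (X_sub_one_mem_pow r)).associated_of_dvd (powFactors_irr r h hh) hd
      exact hx (Polynomial.eq_of_monic_of_associated (X_sub_one_monic)
        (powFactors_monic r h hh) hass).symm
    have : LinearMap.ker (aeval (LinearMap.id : W →ₗ[F] W) h) = ⊥ := by
      rw [h1, LinearMap.ker_eq_bot']
      intro m hm
      have hm' : (h.eval 1) • m = 0 := hm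
      exact (smul_eq_zero.mp hm').resolve_left hne
    rw [this, finrank_bot]

/-- trivial blocks -/
theorem oReal_triv (r : ℕ) (hr : r.Prime) (hrp : r ≠ p) {W : Type u} [AddCommGroup W]
    [Module F W] [Module.Finite F W] (Q : QuadraticForm F W)
    (hnd : ∀ x, (∀ y, polar Q x y = 0) → x = 0) :
    OReal (powFactors F r) r (fun h => if h = X - 1 then finrank F W else 0) := by
  refine ⟨W, inferInstance, inferInstance, inferInstance, Q, LinearMap.id, hnd, fun x => rfl,
    ?_, ?_⟩
  · rw [map_sub, map_pow, aeval_X, map_one]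
    show (1 : Module.End F W) ^ r - 1 = 0
    rw [one_pow, sub_self]
  · intro h hh
    exact finrank_ker_aeval_id r hr hrp h hh

end blocks

end Cfsg.Agent.Helper44.OBlocks
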