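import Mathlib
import Cfsg.Agent.Lib.Helper44.OBlocks
import Cfsg.Agent.Lib.Helper44.CountInv
import Cfsg.Agent.Lib.Helper43.OrthPlus
import Cfsg.Agent.Lib.Helper43.OrthMinus
import Cfsg.Agent.Lib.Helper43.OrthOdd

set_option autoImplicit false
set_option linter.unusedSectionVars false

/-!
Assembling isometries of prime order of the standard quadratic forms from blocks: the non-fixed
part is a sum of hyperbolic pair blocks or elliptic blocks, its type is forced by the free action,
and the fixed part is a trivial block of the complementary type.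
-/

namespace Cfsg.Agent.Helper44.OBlocks

open Polynomial Module QuadraticMap
open Cfsg.Agent.Helper42.SemiConj Cfsg.Agent.Helper44.StarInv Cfsg.Agent.Helper44.SpBlocks
open Cfsg.Agent.Helper44.QF Cfsg.Agent.Helper44.CountInv
open scoped Classical

universe u

section arith

/-- the sign attached to `K` blocks of degree `i` -/
def sgn (i K : ℕ) : ℤ := if Even i ∧ Odd K then -1 else 1

lemma sgn_cases (i K : ℕ) : sgn i K = 1 ∨ sgn i K = -1 := by
  unfold sgn
  split_ifs
  · right; rfl
  · left; rfl

lemma neg_one_ne_one_zmod (r : ℕ) (hr : r.Prime) (hr2 : r ≠ 2) : (-1 : ZMod r) ≠ 1 := by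
  haveI : Fact (2 < r) := ⟨lt_of_le_of_ne hr.two_le (Ne.symm hr2)⟩
  exact ZMod.neg_one_ne_one

lemma pow_half (r : ℕ) (hr : r.Prime) (hr2 : r ≠ 2) (q : ZMod r) (i k K : ℕ)
    (hi : i = orderOf q) (hipos : 0 < i) (hk : 2 * k = i * K) : q ^ k = ((sgn i K : ℤ) : ZMod r) := by
  haveI : Fact r.Prime := ⟨hr⟩
  have hqi : q ^ i = 1 := by rw [hi]; exact pow_orderOf_eq_one q
  have hne := neg_one_ne_one_zmod r hr hr2
  rcases Nat.even_or_odd i with hie | hio
  · obtain ⟨i', hi'⟩ := hie
    have hk' : k = i' * K := by
      have : 2 * k = 2 * (i' * K) := by rw [hk, hi']; ring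
      omega
    have h1 : q ^ i' * q ^ i' = 1 := by rw [← pow_add, ← hi', hqi]
    have h2 : q ^ i' ≠ 1 := by
      apply pow_ne_one_of_lt_orderOf (by omega)
      rw [← hi]; omega
    have h3 : q ^ i' = -1 := by
      rcases mul_self_eq_one_iff.mp h1 with h | h
      · exact absurd h h2
      · exact h
    rw [hk', pow_mul, h3]
    unfold sgn
    have hie' : Even i := ⟨i', hi'⟩
    rcases Nat.even_or_odd K with hK | hK
    · rw [hK.neg_one_pow, if_neg]
      · simp
      · rintro ⟨_, h⟩
        exact (Nat.not_odd_iff_even.mpr hK) h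
    · rw [hK.neg_one_pow, if_pos ⟨hie', hK⟩]
      simp
  · have h1 : q ^ k * q ^ k = 1 := by
      rw [← pow_add, ← two_mul, hk, pow_mul, hqi, one_pow]
    have h2 : q ^ k = 1 := by
      rcases mul_self_eq_one_iff.mp h1 with h | h
      · exact h
      · exfalso
        have h3 : (q ^ k) ^ i = 1 := by rw [← pow_mul, mul_comm, pow_mul, hqi, one_pow]
        rw [h, hio.neg_one_pow] at h3
        exact hne h3
    rw [h2]
    unfold sgn
    rw [if_neg]
    · simp
    · rintro ⟨h, _⟩
      exact (Nat.not_even_iff_odd.mpr hio) h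

lemma int_eq_of_zmod (r : ℕ) (hr : r.Prime) (hr2 : r ≠ 2) (a b : ℤ) (ha : a = 1 ∨ a = -1)
    (hb : b = 1 ∨ b = -1) (h : (a : ZMod r) = (b : ZMod r)) : a = b := by
  have hne := neg_one_ne_one_zmod r hr hr2
  rcases ha with rfl | rfl <;> rcases hb with rfl | rfl
  · rfl
  · exfalso
    apply hne
    push_cast at h
    exact h.symm
  · exfalso
    apply hne
    push_cast at h
    exact h
  · rfl

end arith

section cyc

variable {F : Type u} [Field F] [Fintype F] {p : ℕ} [Fact p.Prime] [CharP F p]

lemma x0deg' : (X - 1 : F[X]).natDegree = 1 := by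
  have h1 : (X - 1 : F[X]) = X - C 1 := by rw [map_one]
  rw [h1, natDegree_X_sub_C]

lemma powdef' (r : ℕ) : powFactors F r = insert (X - 1 : F[X]) (cycFactors F r) := by
  unfold powFactors
  congr

/-- the part without fixed vectors -/
theorem oReal_cyc (r : ℕ) (hr : r.Prime) (hr2 : r ≠ 2) (hrp : r ≠ p) (mm : F[X] → ℕ)
    (hsym : ∀ f ∈ cycFactors F r, mm (star r f) = mm f) :
    OReal (powFactors F r) r (fun f => if f = X - 1 then 0 else f.natDegree * mm f) := by
  classical
  set i := orderOf ((Fintype.card F : ℕ) : ZMod r) with hi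
  have hx0 := X_sub_one_notMem_cyc (F := F) r hr hrp
  rcases Nat.even_or_odd i with hie | hio
  · have hself : ∀ f ∈ cycFactors F r, star r f = f :=
      fun f hf => star_eq_self_of_even r hr hrp f hf hie
    have h2 := oReal_sum (powFactors F r) r (cycFactors F r)
      (fun f h => mm f * (if h = f then f.natDegree else 0))
      (fun f hf => oReal_nsmul _ r _ (oReal_self r hr hr2 hrp f hf (hself f hf)) (mm f))
    apply oReal_congr _ r _ _ _ h2
    intro h hh
    rw [powdef'] at hh
    rcases Finset.mem_insert.mp hh with hx | hcy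
    · rw [if_pos hx, hx]
      rw [Finset.sum_eq_zero]
      intro f hf
      have : (X - 1 : F[X]) ≠ f := fun h' => hx0 (h' ▸ hf)
      rw [if_neg this, mul_zero]
    · have hne : h ≠ (X - 1 : F[X]) := fun h' => hx0 (h' ▸ hcy)
      rw [if_neg hne]
      rw [Finset.sum_eq_single h]
      · rw [if_pos rfl, mul_comm]
      · intro f _ hfh
        rw [if_neg (Ne.symm hfh), mul_zero]
      · intro hn
        exact absurd hcy hn
  · obtain ⟨T, hTs, hT2⟩ := exists_transversal (cycFactors F r) (star r)
      (star_mem_cyc r hr hrp)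
      (fun f hf => star_star r hr hrp f (mem_pow_of_mem_cyc r f hf))
      (fun f hf => star_ne_self_of_odd r hr hr2 hrp f hf hio)
    have h2 := oReal_sum (powFactors F r) r T
      (fun f h => mm f * ((if h = f then f.natDegree else 0) +
        (if h = star r f then f.natDegree else 0)))
      (fun f hf => oReal_nsmul _ r _
        (oReal_pair r hr hrp f (mem_pow_of_mem_cyc r f (hTs hf))) (mm f))
    apply oReal_congr _ r _ _ _ h2
    intro h hh
    rw [powdef'] at hh
    rcases Finset.mem_insert.mp hh with hx | hcy
    · rw [if_pos hx, hx]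
      rw [Finset.sum_eq_zero]
      intro f hf
      have h1 : (X - 1 : F[X]) ≠ f := fun h' => hx0 (h' ▸ (hTs hf))
      have h2 : (X - 1 : F[X]) ≠ star r f :=
        fun h' => hx0 (h' ▸ (star_mem_cyc r hr hrp f (hTs hf)))
      rw [if_neg h1, if_neg h2, add_zero, mul_zero]
    · have hne : h ≠ (X - 1 : F[X]) := fun h' => hx0 (h' ▸ hcy)
      rw [if_neg hne]
      have hss := star_star r hr hrp h (mem_pow_of_mem_cyc r h hcy)
      by_cases hT : h ∈ T
      · have hsT : star r h ∉ T := (hT2 h hcy).mp hT
        rw [Finset.sum_eq_single h]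
        · have h3 : h ≠ star r h := fun h' => by rw [← h'] at hsT; exact hsT hT
          rw [if_pos rfl, if_neg h3, add_zero, mul_comm]
        · intro f hf hfh
          have h3 : h ≠ star r f := by
            intro h'
            apply hsT
            rw [h', star_star r hr hrp f (mem_pow_of_mem_cyc r f (hTs hf))]
            exact hf
          rw [if_neg (Ne.symm hfh), if_neg h3, add_zero, mul_zero]
        · intro hn
          exact absurd hT hn
      · have hsT : star r h ∈ T := by
          by_contra hcon
          exact hT ((hT2 h hcy).mpr hcon)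
        rw [Finset.sum_eq_single (star r h)]
        · have h3 : h ≠ star r h := fun h' => by rw [← h'] at hsT; exact hT hsT
          rw [if_neg h3, hss, if_pos rfl, zero_add, hsym h hcy,
            natDegree_star r hr hrp h (mem_pow_of_mem_cyc r h hcy), mul_comm]
        · intro f hf hfh
          have h3 : h ≠ f := fun h' => hT (h' ▸ hf)
          have h4 : h ≠ star r f := by
            intro h'
            apply hfh
            rw [h', star_star r hr hrp f (mem_pow_of_mem_cyc r f (hTs hf))]
          rw [if_neg h3, if_neg h4, add_zero, mul_zero]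
        · intro hn
          exact absurd hsT hn

/-- the total degree of the part without fixed vectors -/
lemma sum_cyc_deg (r : ℕ) (hr : r.Prime) (hr2 : r ≠ 2) (hrp : r ≠ p) (mm : F[X] → ℕ)
    (hsym : ∀ f ∈ cycFactors F r, mm (star r f) = mm f) :
    (∑ f ∈ powFactors F r, (if f = X - 1 then 0 else f.natDegree * mm f)) =
      orderOf ((Fintype.card F : ℕ) : ZMod r) * ∑ f ∈ cycFactors F r, mm f ∧
    Even (orderOf ((Fintype.card F : ℕ) : ZMod r) * ∑ f ∈ cycFactors F r, mm f) := by
  classical
  set i := orderOf ((Fintype.card F : ℕ) : ZMod r) with hi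
  have hx0 := X_sub_one_notMem_cyc (F := F) r hr hrp
  constructor
  · rw [powdef', Finset.sum_insert hx0, if_pos rfl, zero_add, Finset.mul_sum]
    apply Finset.sum_congr rfl
    intro f hf
    have hne : f ≠ (X - 1 : F[X]) := fun h' => hx0 (h' ▸ hf)
    rw [if_neg hne, cyc_natDegree r hr hrp f hf]
  · rcases Nat.even_or_odd i with hie | hio
    · exact hie.mul_right _
    · obtain ⟨T, hTs, hT2⟩ := exists_transversal (cycFactors F r) (star r)
        (star_mem_cyc r hr hrp)
        (fun f hf => star_star r hr hrp f (mem_pow_of_mem_cyc r f hf))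
        (fun f hf => star_ne_self_of_odd r hr hr2 hrp f hf hio)
      rw [sum_transversal (cycFactors F r) T (star r) (star_mem_cyc r hr hrp)
        (fun f hf => star_star r hr hrp f (mem_pow_of_mem_cyc r f hf)) hTs hT2 mm]
      have h1 : ∑ a ∈ T, (mm a + mm (star r a)) = 2 * ∑ a ∈ T, mm a := by
        rw [Finset.mul_sum]
        apply Finset.sum_congr rfl
        intro a ha
        rw [hsym a (hTs ha)]; ring
      rw [h1]
      exact (even_two_mul _).mul_left _

end cyc

end Cfsg.Agent.Helper44.OBlocks
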