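import Mathlib
import Cfsg.Agent.S2590
import Cfsg.Agent.Lib.Lead.IsoReindex

set_option autoImplicit false
set_option linter.unusedSectionVars false

/-!
Odd-order semisimple conjugacy in the isometry group of a nondegenerate quadratic form on
`ι → F` (any finite index type) is controlled by conjugacy of matrices.
-/

namespace Cfsg.Agent.Helper44.OBlocks

open QuadraticMap Cfsg.Agent.Lead.IsoReindex

section conj

variable {F : Type*} [Field F] [Fintype F] {p : ℕ} [Fact p.Prime] [CharP F p]
variable {ι : Type} [Fintype ι] [DecidableEq ι]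

theorem orth_conj_iff_gen (Q : QuadraticForm F (ι → F)) (hQ : (polarBilin Q).Nondegenerate)
    (A B : ↥(Cfsg.isometryGroup F ⇑Q)) (hodd : Odd (orderOf A)) (hA : (orderOf A).Coprime p) :
    IsConj A B ↔ IsConj ((A : Matrix.GeneralLinearGroup ι F) : Matrix ι ι F)
      ((B : Matrix.GeneralLinearGroup ι F) : Matrix ι ι F) := by
  constructor
  · intro h
    exact ((Units.coeHom (Matrix ι ι F)).comp (Subgroup.subtype _)).map_isConj h
  · intro h
    set e := Fintype.equivFin ι with he
    let φ : ↥(Cfsg.isometryGroup F ⇑Q) ≃* ↥(Cfsg.isometryGroup F ⇑(reQF e Q)) := isoReindex e ⇑Q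
    have hord : orderOf (φ A) = orderOf A := MulEquiv.orderOf_eq φ A
    have hcoe : ∀ X : ↥(Cfsg.isometryGroup F ⇑Q),
        (((φ X : ↥(Cfsg.isometryGroup F ⇑(reQF e Q))) :
          Matrix.GeneralLinearGroup (Fin (Fintype.card ι)) F) :
          Matrix (Fin (Fintype.card ι)) (Fin (Fintype.card ι)) F) =
        (Matrix.reindexRingEquiv F e) ((X : Matrix.GeneralLinearGroup ι F) : Matrix ι ι F) := by
      intro X
      rfl
    have h2 : IsConj (((φ A : ↥(Cfsg.isometryGroup F ⇑(reQF e Q))) :
          Matrix.GeneralLinearGroup (Fin (Fintype.card ι)) F) :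
          Matrix (Fin (Fintype.card ι)) (Fin (Fintype.card ι)) F)
        (((φ B : ↥(Cfsg.isometryGroup F ⇑(reQF e Q))) :
          Matrix.GeneralLinearGroup (Fin (Fintype.card ι)) F) :
          Matrix (Fin (Fintype.card ι)) (Fin (Fintype.card ι)) F) := by
      rw [hcoe, hcoe]
      exact (Matrix.reindexRingEquiv F e).toMulEquiv.toMonoidHom.map_isConj h
    have h3 := (Cfsg.Agent.S2590.result (reQF e Q) (reQF_nondegenerate e Q hQ) (φ A) (φ B)
      (by rw [hord]; exact hodd) (by rw [hord]; exact hA)).mpr h2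
    have h4 := φ.symm.toMonoidHom.map_isConj h3
    simpa using h4

end conj

end Cfsg.Agent.Helper44.OBlocks
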