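import Mathlib
import Cfsg.Agent.Lib.Helper44.OAssemble

set_option autoImplicit false
set_option linter.unusedSectionVars false

/-!
Typed realisations: the type of a quadratic space carrying a fixed-point-free isometry of prime
order is forced; adding a trivial block of the complementary type realises any prescribed type.
-/

namespace Cfsg.Agent.Helper44.OBlocks

open Polynomial Module QuadraticMap
open Cfsg.Agent.Helper42.SemiConj Cfsg.Agent.Helper44.StarInv Cfsg.Agent.Helper44.SpBlocks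
open Cfsg.Agent.Helper44.QF Cfsg.Agent.Helper44.CountInv Cfsg.Agent.Helper43
open scoped Classical

universe u

section typed

variable {F : Type u} [Field F] [Fintype F] {p : ℕ} [Fact p.Prime] [CharP F p]

/-- a realisation on a space of dimension `2k` and type `ε` -/
def ORealT (S : Finset F[X]) (r : ℕ) (d : F[X] → ℕ) (k : ℕ) (ε : ℤ) : Prop :=
  ∃ (W : Type u) (_ : AddCommGroup W) (_ : Module F W) (_ : Module.Finite F W)
    (Q : QuadraticForm F W) (G : W →ₗ[F] W),
    (∀ x, (∀ y, polar Q x y = 0) → x = 0) ∧ (∀ x, Q (G x) = Q x) ∧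
    aeval G (X ^ r - 1 : F[X]) = 0 ∧ (∀ f ∈ S, finrank F (LinearMap.ker (aeval G f)) = d f) ∧
    finrank F W = 2 * k ∧ HasType Q k ε

lemma orealT_congr (S : Finset F[X]) (r : ℕ) (d d' : F[X] → ℕ) (k : ℕ) (ε : ℤ)
    (h : ∀ f ∈ S, d f = d' f) (hd : ORealT S r d k ε) : ORealT S r d' k ε := by
  obtain ⟨W, i1, i2, i3, Q, G, h1, h2, h3, h4, h5, h6⟩ := hd
  exact ⟨W, i1, i2, i3, Q, G, h1, h2, h3, fun f hf => (h4 f hf).trans (h f hf), h5, h6⟩

lemma orealT_add (S : Finset F[X]) (r : ℕ) (d₁ d₂ : F[X] → ℕ) (k₁ k₂ : ℕ) (ε₁ ε₂ : ℤ)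
    (h₁ : ORealT S r d₁ k₁ ε₁) (h₂ : ORealT S r d₂ k₂ ε₂) :
    ORealT S r (fun f => d₁ f + d₂ f) (k₁ + k₂) (ε₁ * ε₂) := by
  obtain ⟨W₁, i1, i2, i3, Q₁, G₁, a2, a3, a4, a5, a6, a7⟩ := h₁
  obtain ⟨W₂, j1, j2, j3, Q₂, G₂, b2, b3, b4, b5, b6, b7⟩ := h₂
  haveI : Finite W₁ := Module.finite_of_finite F
  haveI : Finite W₂ := Module.finite_of_finite F
  refine ⟨W₁ × W₂, inferInstance, inferInstance, inferInstance, Q₁.prod Q₂, G₁.prodMap G₂,
    nondeg_prod Q₁ Q₂ a2 b2, ?_, ?_, ?_, ?_, ?_⟩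
  · intro x
    rw [prod_apply, prod_apply]
    simp only [LinearMap.prodMap_apply]
    rw [a3, b3]
  · rw [aeval_prodMap, a4, b4]
    apply LinearMap.ext; intro x; rfl
  · intro f hf
    rw [finrank_ker_aeval_prodMap, a5 f hf, b5 f hf]
  · rw [Module.finrank_prod, a6, b6]; ring
  · have := hasType_prod (fun v => Q₁ v) (fun v => Q₂ v) k₁ k₂ ε₁ ε₂ a7 b7
    exact this

lemma not_dvd_card (r : ℕ) (hr : r.Prime) (hrp : r ≠ p) : ¬ r ∣ Fintype.card F := by
  obtain ⟨n, hp, hn⟩ := FiniteField.card F p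
  rw [hn]
  intro h
  have := (Nat.prime_dvd_prime_iff_eq hr hp).mp (hr.dvd_of_dvd_pow h)
  exact hrp this

/-- the permutation attached to a linear map of finite order -/
noncomputable def permOf {W : Type*} [AddCommGroup W] [Module F W] (G : W →ₗ[F] W) (r : ℕ)
    (hr : 0 < r) (hG : G ^ r = 1) : Equiv.Perm W where
  toFun := G
  invFun := ⇑(G ^ (r - 1))
  left_inv v := by
    show (G ^ (r - 1) * G) v = v
    rw [← pow_succ, Nat.sub_add_cancel hr, hG]
    rfl
  right_inv v := by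
    show (G * G ^ (r - 1)) v = v
    rw [← pow_succ', Nat.sub_add_cancel hr, hG]
    rfl

lemma permOf_pow {W : Type*} [AddCommGroup W] [Module F W] (G : W →ₗ[F] W) (r : ℕ)
    (hr : 0 < r) (hG : G ^ r = 1) (n : ℕ) (v : W) : ((permOf G r hr hG) ^ n) v = (G ^ n) v := by
  induction n generalizing v with
  | zero => rfl
  | succ n ih =>
    rw [pow_succ, pow_succ, Equiv.Perm.mul_apply, ih]
    rfl

/-- the type of a space with a fixed-point-free isometry of prime order -/
theorem orealT_of_free (r : ℕ) (hr : r.Prime) (hrp : r ≠ p) (d : F[X] → ℕ)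
    (h : OReal (powFactors F r) r d) (hd0 : d (X - 1) = 0) (k : ℕ)
    (hsum : ∑ f ∈ powFactors F r, d f = 2 * k) :
    ∃ ε : ℤ, (ε = 1 ∨ ε = -1) ∧ ((Fintype.card F : ℕ) : ZMod r) ^ k = (ε : ZMod r) ∧
      ORealT (powFactors F r) r d k ε := by
  obtain ⟨W, i1, i2, i3, Q, G, h1, h2, h3, h4⟩ := h
  haveI : Finite W := Module.finite_of_finite F
  have hfin : finrank F W = 2 * k := by
    rw [finrank_eq_sum_ker (powFactors F r) W G (powFactors_coprime r hr hrp)
      (by rw [powFactors_prod r hr hrp]; exact h3), ← hsum]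
    exact Finset.sum_congr rfl h4
  have hGr : G ^ r = 1 := by
    rw [map_sub, map_pow, aeval_X, map_one, sub_eq_zero] at h3
    exact h3
  have hfix : ∀ v, G v = v → v = 0 := by
    intro v hv
    have hker : LinearMap.ker (aeval G (X - 1 : F[X])) = ⊥ := by
      apply Submodule.finrank_eq_zero.mp
      rw [h4 _ (X_sub_one_mem_pow r), hd0]
    have hmem : v ∈ LinearMap.ker (aeval G (X - 1 : F[X])) := by
      rw [LinearMap.mem_ker, map_sub, aeval_X, map_one, LinearMap.sub_apply, hv]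
      simp
    rw [hker] at hmem
    exact (Submodule.mem_bot F).mp hmem
  set σ := permOf G r hr.pos hGr with hσ
  have hσr : σ ^ r = 1 := by
    apply Equiv.ext
    intro v
    rw [permOf_pow, hGr]
    rfl
  have key : ∀ ε : ℤ, HasType Q k ε →
      ((Fintype.card F : ℕ) : ZMod r) ^ k = (ε : ZMod r) := by
    intro ε hT
    exact pow_eq_sign_of_free Q k ε hT σ (fun v => h2 v) r hr (not_dvd_card r hr hrp) hσr
      (fun v hv => by rw [hfix v hv, map_zero])
  rcases hasType_or Q h1 k hfin with hT | hT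
  · exact ⟨1, Or.inl rfl, key 1 hT, W, i1, i2, i3, Q, G, h1, h2, h3, h4, hfin, hT⟩
  · exact ⟨-1, Or.inr rfl, key (-1) hT, W, i1, i2, i3, Q, G, h1, h2, h3, h4, hfin, hT⟩

/-- trivial blocks of plus type -/
theorem orealT_triv_plus (r : ℕ) (hr : r.Prime) (hrp : r ≠ p) (j : ℕ) :
    ORealT (powFactors F r) r (fun h => if h = X - 1 then 2 * j else 0) j 1 := by
  have hnd : ∀ x, (∀ y, polar (stdPlus F j) x y = 0) → x = 0 :=
    fun x hx => (stdPlus_nondegenerate F j).1 x hx
  have hfr : finrank F (Fin j ⊕ Fin j → F) = 2 * j := by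
    rw [Module.finrank_fintype_fun_eq_card, Fintype.card_sum, Fintype.card_fin]; ring
  refine ⟨Fin j ⊕ Fin j → F, inferInstance, inferInstance, inferInstance, stdPlus F j,
    LinearMap.id, hnd, fun x => rfl, ?_, ?_, hfr, ?_⟩
  · rw [map_sub, map_pow, aeval_X, map_one]
    show (1 : Module.End F _) ^ r - 1 = 0
    rw [one_pow, sub_self]
  · intro h hh
    rw [finrank_ker_aeval_id r hr hrp h hh, hfr]
  · rw [coe_stdPlus]
    exact hasType_plus j

/-- trivial blocks of minus type -/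
theorem orealT_triv_minus (r : ℕ) (hr : r.Prime) (hrp : r ≠ p) (j : ℕ) :
    ORealT (powFactors F r) r (fun h => if h = X - 1 then 2 * (j + 1) else 0) (j + 1) (-1) := by
  obtain ⟨a, c, hac⟩ := exists_aniso F
  have hnd : ∀ x, (∀ y, polar (stdMinus F j a c) x y = 0) → x = 0 :=
    fun x hx => (stdMinus_nondegenerate j hac).1 x hx
  have hfr : finrank F ((Fin j ⊕ Fin j) ⊕ Fin 2 → F) = 2 * (j + 1) := by
    rw [Module.finrank_fintype_fun_eq_card, Fintype.card_sum, Fintype.card_sum, Fintype.card_fin,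
      Fintype.card_fin]
    ring
  refine ⟨(Fin j ⊕ Fin j) ⊕ Fin 2 → F, inferInstance, inferInstance, inferInstance,
    stdMinus F j a c, LinearMap.id, hnd, fun x => rfl, ?_, ?_, hfr, ?_⟩
  · rw [map_sub, map_pow, aeval_X, map_one]
    show (1 : Module.End F _) ^ r - 1 = 0
    rw [one_pow, sub_self]
  · intro h hh
    rw [finrank_ker_aeval_id r hr hrp h hh, hfr]
  · rw [coe_stdMinus]
    exact hasType_minus j a c hac

/-- trivial blocks of prescribed type -/
theorem orealT_triv (r : ℕ) (hr : r.Prime) (hrp : r ≠ p) (j : ℕ) (hj : 1 ≤ j) (ε : ℤ)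
    (hε : ε = 1 ∨ ε = -1) :
    ORealT (powFactors F r) r (fun h => if h = X - 1 then 2 * j else 0) j ε := by
  rcases hε with rfl | rfl
  · exact orealT_triv_plus r hr hrp j
  · obtain ⟨j', rfl⟩ : ∃ j', j = j' + 1 := ⟨j - 1, by omega⟩
    exact orealT_triv_minus r hr hrp j'

/-- realisations of prescribed even dimension and type -/
theorem orealT_even (r : ℕ) (hr : r.Prime) (hr2 : r ≠ 2) (hrp : r ≠ p) (mm : F[X] → ℕ)
    (hsym : ∀ f ∈ cycFactors F r, mm (star r f) = mm f) (m : ℕ)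
    (hsum : ∑ f ∈ powFactors F r, f.natDegree * mm f = 2 * m) (εt : ℤ)
    (hεt : εt = 1 ∨ εt = -1)
    (hcond : mm (X - 1) = 0 →
      sgn (orderOf ((Fintype.card F : ℕ) : ZMod r)) (∑ f ∈ cycFactors F r, mm f) = εt) :
    ORealT (powFactors F r) r (fun f => f.natDegree * mm f) m εt := by
  classical
  set i := orderOf ((Fintype.card F : ℕ) : ZMod r) with hi
  set K := ∑ f ∈ cycFactors F r, mm f with hK
  have hx0 := X_sub_one_notMem_cyc (F := F) r hr hrp
  obtain ⟨hD, hDev⟩ := sum_cyc_deg r hr hr2 hrp mm hsym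
  rw [← hi, ← hK] at hD hDev
  obtain ⟨kW, hkW⟩ := hDev
  have hkW' : i * K = 2 * kW := by rw [hkW]; ring
  have hW := oReal_cyc r hr hr2 hrp mm hsym
  obtain ⟨εW, hεW, hpow, hWT⟩ := orealT_of_free r hr hrp _ hW (by rw [if_pos rfl]) kW
    (by rw [hD, hkW'])
  have hipos : 0 < i := by
    rw [hi]
    apply orderOf_pos_iff.mpr
    have hq0 : ((Fintype.card F : ℕ) : ZMod r) ≠ 0 := by
      intro h
      exact not_dvd_card r hr hrp ((ZMod.natCast_eq_zero_iff _ _).mp h)
    haveI : Fact r.Prime := ⟨hr⟩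
    exact isOfFinOrder_iff_pow_eq_one.mpr ⟨r - 1, by have := hr.two_le; omega,
      ZMod.pow_card_sub_one_eq_one hq0⟩
  have hεWs : εW = sgn i K := by
    have h1 := pow_half r hr hr2 ((Fintype.card F : ℕ) : ZMod r) i kW K hi hipos hkW'.symm
    exact int_eq_of_zmod r hr hr2 εW (sgn i K) hεW (sgn_cases i K) (by rw [← hpow, h1])
  -- the fixed part
  have hsplit : mm (X - 1) + i * K = 2 * m := by
    rw [← hsum, powdef', Finset.sum_insert hx0, x0deg', one_mul, Finset.mul_sum]
    congr 1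
    apply Finset.sum_congr rfl
    intro f hf
    rw [cyc_natDegree r hr hrp f hf]
  by_cases hj : mm (X - 1) = 0
  · have hm : kW = m := by omega
    have hε : εW = εt := by rw [hεWs]; exact hcond hj
    rw [← hm, ← hε]
    apply orealT_congr _ r _ _ _ _ _ hWT
    intro f hf
    by_cases hf0 : f = X - 1
    · rw [if_pos hf0, hf0, hj, mul_zero]
    · rw [if_neg hf0]
  · obtain ⟨j, hjdef⟩ : ∃ j, mm (X - 1) = 2 * j := ⟨m - kW, by omega⟩
    have hj1 : 1 ≤ j := by omega
    have hm : kW + j = m := by omega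
    have hεprod : εt * εW = 1 ∨ εt * εW = -1 := by
      rcases hεt with rfl | rfl <;> rcases hεW with rfl | rfl <;> simp
    have hT1 := orealT_triv (F := F) r hr hrp j hj1 (εt * εW) hεprod
    have hT2 := orealT_add _ r _ _ _ _ _ _ hWT hT1
    have hεfin : εW * (εt * εW) = εt := by
      rcases hεW with rfl | rfl <;> ring
    rw [hm, hεfin] at hT2
    apply orealT_congr _ r _ _ _ _ _ hT2
    intro f hf
    by_cases hf0 : f = X - 1
    · rw [if_pos hf0, if_pos hf0, hf0, x0deg', one_mul, hjdef, zero_add]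
    · rw [if_neg hf0, if_neg hf0, add_zero]

end typed

end Cfsg.Agent.Helper44.OBlocks
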