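import Mathlib
import Cfsg.Agent.Lib.Helper44.OTypes
import Cfsg.Agent.Lib.Helper14.IsomTransfer

set_option autoImplicit false
set_option linter.unusedSectionVars false

/-!
From abstract isometries to elements of the isometry groups of the standard forms; symmetry of the
primary dimensions of orthogonal matrices; the congruence forced by fixed-point-freeness.
-/

namespace Cfsg.Agent.Helper44.OBlocks

open Polynomial Module QuadraticMap Matrix
open Cfsg.Agent.Helper42.SemiConj Cfsg.Agent.Helper44.StarInv Cfsg.Agent.Helper44.SpBlocks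
open Cfsg.Agent.Helper44.QF Cfsg.Agent.Helper43
open scoped Classical

universe u

section transfer

variable {F : Type u} [Field F] [Fintype F] {p : ℕ} [Fact p.Prime] [CharP F p]

/-- transfer of an abstract isometry along a similarity to a concrete form -/
theorem exists_iso_of_equiv {ι : Type} [Fintype ι] [DecidableEq ι] (Q₀ : (ι → F) → F)
    {W : Type*} [AddCommGroup W] [Module F W] (Q : QuadraticForm F W) (G : W →ₗ[F] W)
    (hG : ∀ x, Q (G x) = Q x) (r : ℕ) (hr : 0 < r) (hGr : G ^ r = 1) (e : W ≃ₗ[F] (ι → F))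
    (c : F) (he : ∀ v, Q₀ (e v) = c * Q v) :
    ∃ A : ↥(Cfsg.isometryGroup F Q₀), A ^ r = 1 ∧
      ∀ f : F[X], kdi ((A : Matrix.GeneralLinearGroup ι F) : Matrix ι ι F) f =
        finrank F (LinearMap.ker (aeval G f)) := by
  set b : Basis ι F W := Basis.ofEquivFun e with hb
  set M : Matrix ι ι F := LinearMap.toMatrix b b G with hM
  have hMr : M ^ r = 1 := by
    rw [hM, toMatrix_pow_i, hGr]
    exact LinearMap.toMatrix_one b
  let U : (Matrix ι ι F)ˣ := ⟨M, M ^ (r - 1),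
    by rw [← pow_succ', Nat.sub_add_cancel hr, hMr],
    by rw [← pow_succ, Nat.sub_add_cancel hr, hMr]⟩
  have hrepr : ∀ v : W, (b.repr v : ι → F) = e v := by
    intro v
    funext i
    exact Basis.ofEquivFun_repr_apply e v i
  have hmul : ∀ v : W, M *ᵥ (e v) = e (G v) := by
    intro v
    have := LinearMap.toMatrix_mulVec_repr b b G v
    rw [hrepr, hrepr] at this
    exact this
  have hmem : U ∈ Cfsg.isometryGroup F Q₀ := by
    rw [Cfsg.Agent.Helper14.mem_isometryGroup_iff]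
    intro u
    show Q₀ (M *ᵥ u) = Q₀ u
    have hu : u = e (e.symm u) := (e.apply_symm_apply u).symm
    rw [hu, hmul, he, he, hG]
  refine ⟨⟨U, hmem⟩, ?_, ?_⟩
  · apply Subtype.ext
    apply Units.ext
    show ((U ^ r : (Matrix ι ι F)ˣ) : Matrix ι ι F) = 1
    rw [Units.val_pow_eq_pow_val]
    exact hMr
  · intro f
    show kdi M f = _
    exact kdi_toMatrix b G f

theorem exists_Oplus (r : ℕ) (hr : r.Prime) (d : F[X] → ℕ) (m : ℕ)
    (h : ORealT (powFactors F r) r d m 1) :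
    ∃ A : ↥(Cfsg.isometryGroup F (Cfsg.quadFormPlus m F)), A ^ r = 1 ∧
      ∀ f ∈ powFactors F r, kdi ((A : Matrix.GeneralLinearGroup (Fin m ⊕ Fin m) F) :
        Matrix (Fin m ⊕ Fin m) (Fin m ⊕ Fin m) F) f = d f := by
  obtain ⟨W, i1, i2, i3, Q, G, h1, h2, h3, h4, h5, h6⟩ := h
  have hGr : G ^ r = 1 := by
    rw [map_sub, map_pow, aeval_X, map_one, sub_eq_zero] at h3
    exact h3
  obtain ⟨e, he⟩ := exists_equiv_plus Q h1 m h5 h6
  obtain ⟨A, hA1, hA2⟩ := exists_iso_of_equiv (Cfsg.quadFormPlus m F) Q G h2 r hr.pos hGr e 1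
    (fun v => by rw [he, one_mul])
  exact ⟨A, hA1, fun f hf => (hA2 f).trans (h4 f hf)⟩

theorem exists_Ominus (r : ℕ) (hr : r.Prime) (d : F[X] → ℕ) (m : ℕ) (a c : F)
    (hac : ∀ z₁ z₂ : F, z₁ ^ 2 + a * z₁ * z₂ + c * z₂ ^ 2 = 0 → z₁ = 0 ∧ z₂ = 0)
    (h : ORealT (powFactors F r) r d m (-1)) :
    ∃ A : ↥(Cfsg.isometryGroup F (Cfsg.quadFormMinus (m - 1) F a c)), A ^ r = 1 ∧
      ∀ f ∈ powFactors F r,
        kdi ((A : Matrix.GeneralLinearGroup ((Fin (m - 1) ⊕ Fin (m - 1)) ⊕ Fin 2) F) :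
          Matrix ((Fin (m - 1) ⊕ Fin (m - 1)) ⊕ Fin 2) ((Fin (m - 1) ⊕ Fin (m - 1)) ⊕ Fin 2) F) f =
            d f := by
  obtain ⟨W, i1, i2, i3, Q, G, h1, h2, h3, h4, h5, h6⟩ := h
  have hGr : G ^ r = 1 := by
    rw [map_sub, map_pow, aeval_X, map_one, sub_eq_zero] at h3
    exact h3
  obtain ⟨e, he⟩ := exists_equiv_minus Q h1 m h5 h6 a c hac
  obtain ⟨A, hA1, hA2⟩ := exists_iso_of_equiv (Cfsg.quadFormMinus (m - 1) F a c) Q G h2 r hr.pos
    hGr e 1 (fun v => by rw [he, one_mul])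
  exact ⟨A, hA1, fun f hf => (hA2 f).trans (h4 f hf)⟩

theorem exists_Oodd (r : ℕ) (hr : r.Prime) (hrp : r ≠ p) (d : F[X] → ℕ) (m : ℕ)
    (h : OReal (powFactors F r) r d) (hsum : ∑ f ∈ powFactors F r, d f = 2 * m + 1) :
    ∃ A : ↥(Cfsg.isometryGroup F (Cfsg.quadFormOdd m F)), A ^ r = 1 ∧
      ∀ f ∈ powFactors F r,
        kdi ((A : Matrix.GeneralLinearGroup (Unit ⊕ (Fin m ⊕ Fin m)) F) :
          Matrix (Unit ⊕ (Fin m ⊕ Fin m)) (Unit ⊕ (Fin m ⊕ Fin m)) F) f = d f := by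
  obtain ⟨W, i1, i2, i3, Q, G, h1, h2, h3, h4⟩ := h
  have hGr : G ^ r = 1 := by
    rw [map_sub, map_pow, aeval_X, map_one, sub_eq_zero] at h3
    exact h3
  have hfin : finrank F W = 2 * m + 1 := by
    rw [finrank_eq_sum_ker (powFactors F r) W G (powFactors_coprime r hr hrp)
      (by rw [powFactors_prod r hr hrp]; exact h3), ← hsum]
    exact Finset.sum_congr rfl h4
  obtain ⟨c, e, _, he⟩ := exists_equiv_odd Q h1 m hfin
  obtain ⟨A, hA1, hA2⟩ := exists_iso_of_equiv (Cfsg.quadFormOdd m F) Q G h2 r hr.pos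
    hGr e c he
  exact ⟨A, hA1, fun f hf => (hA2 f).trans (h4 f hf)⟩

end transfer

section necessity

variable {F : Type u} [Field F] [Fintype F] {p : ℕ} [Fact p.Prime] [CharP F p]
variable {ι : Type} [Fintype ι] [DecidableEq ι]

lemma bilin_ext' (A B : Matrix ι ι F)
    (h : ∀ u v : ι → F, u ⬝ᵥ (A *ᵥ v) = u ⬝ᵥ (B *ᵥ v)) : A = B := by
  ext i j
  have := h (Pi.single i 1) (Pi.single j 1)
  simpa using this

/-- orthogonal matrices of order dividing `r` have symmetric primary dimensions -/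
theorem kdi_star_orth (Q : QuadraticForm F (ι → F)) (hQ : (polarBilin Q).Nondegenerate)
    (r : ℕ) (hr : r.Prime) (hrp : r ≠ p) (A : ↥(Cfsg.isometryGroup F ⇑Q)) (hA : A ^ r = 1)
    (f : F[X]) (hf : f ∈ powFactors F r) :
    kdi ((A : Matrix.GeneralLinearGroup ι F) : Matrix ι ι F) (star r f) =
      kdi ((A : Matrix.GeneralLinearGroup ι F) : Matrix ι ι F) f := by
  set U : Matrix.GeneralLinearGroup ι F := (A : Matrix.GeneralLinearGroup ι F) with hU
  have hUr : U ^ r = 1 := by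
    have := congrArg Subtype.val hA
    rw [SubgroupClass.coe_pow] at this
    exact this
  have hUi : (U⁻¹) ^ r = 1 := by rw [inv_pow, hUr, inv_one]
  have hXr : ((U⁻¹ : Matrix.GeneralLinearGroup ι F) : Matrix ι ι F) ^ r = 1 := by
    rw [← Units.val_pow_eq_pow_val, hUi]; rfl
  have hback : (U⁻¹) ^ (r - 1) = U := by
    have h1 : (U⁻¹) ^ (r - 1) * U⁻¹ = 1 := by
      rw [← pow_succ, Nat.sub_add_cancel hr.one_le, hUi]
    have := eq_inv_of_mul_eq_one_left h1
    rw [inv_inv] at this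
    exact this
  have hback' : ((U⁻¹ : Matrix.GeneralLinearGroup ι F) : Matrix ι ι F) ^ (r - 1) =
      (U : Matrix ι ι F) := by
    rw [← Units.val_pow_eq_pow_val, hback]
  have h1 := kdi_star ((U⁻¹ : Matrix.GeneralLinearGroup ι F) : Matrix ι ι F) r hr hrp hXr f hf
  rw [hback'] at h1
  rw [h1]
  -- the Gram matrix
  set N : Matrix ι ι F := LinearMap.BilinForm.toMatrix' (polarBilin Q) with hN
  have hpol : ∀ x y : ι → F, polar Q x y = x ⬝ᵥ (N *ᵥ y) := by
    intro x y
    have h1 : polarBilin Q = Matrix.toBilin' N := by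
      rw [hN, Matrix.toBilin'_toMatrix']
    have h2 : polar Q x y = polarBilin Q x y := rfl
    rw [h2, h1, Matrix.toBilin'_apply']
  have hNunit : IsUnit N := by
    rw [← Matrix.mulVec_injective_iff_isUnit]
    intro v w hvw
    have hv : N *ᵥ (v - w) = 0 := by rw [Matrix.mulVec_sub, hvw, sub_self]
    have : v - w = 0 := by
      apply hQ.2 (v - w)
      intro u
      show polar Q u (v - w) = 0
      rw [hpol, hv, dotProduct_zero]
    exact sub_eq_zero.1 this
  obtain ⟨P, hP⟩ := hNunit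
  have hiso : ∀ v, Q ((U : Matrix ι ι F) *ᵥ v) = Q v :=
    (Cfsg.Agent.Helper14.mem_isometryGroup_iff _ _).mp A.2
  have hpoliso : ∀ x y, polar Q ((U : Matrix ι ι F) *ᵥ x) ((U : Matrix ι ι F) *ᵥ y) =
      polar Q x y := by
    intro x y
    unfold polar
    rw [← Matrix.mulVec_add, hiso, hiso, hiso]
  have hgram : (U : Matrix ι ι F)ᵀ * N * (U : Matrix ι ι F) = N := by
    apply bilin_ext'
    intro u v
    rw [← hpol, ← hpoliso, hpol, ← Matrix.mulVec_mulVec, ← Matrix.mulVec_mulVec,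
      Matrix.dotProduct_mulVec u, Matrix.vecMul_transpose]
  have hUU : (U : Matrix ι ι F) * ((U⁻¹ : Matrix.GeneralLinearGroup ι F) : Matrix ι ι F) = 1 := by
    rw [← Units.val_mul, mul_inv_cancel]; rfl
  have hconj : P.val * ((U⁻¹ : Matrix.GeneralLinearGroup ι F) : Matrix ι ι F) =
      (U : Matrix ι ι F)ᵀ * P.val := by
    rw [hP]
    calc N * ((U⁻¹ : Matrix.GeneralLinearGroup ι F) : Matrix ι ι F)
        = (U : Matrix ι ι F)ᵀ * N * (U : Matrix ι ι F) *
          ((U⁻¹ : Matrix.GeneralLinearGroup ι F) : Matrix ι ι F) := by rw [hgram]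
      _ = (U : Matrix ι ι F)ᵀ * N := by rw [Matrix.mul_assoc, hUU, Matrix.mul_one]
  rw [kdi_eq_of_conj _ _ P hconj f, kdi_transpose]

/-- the congruence forced by an isometry of prime order without fixed vectors -/
theorem pow_eq_of_free_orth (Q₀ : (ι → F) → F) (hQ0 : Q₀ 0 = 0) (m : ℕ) (ε₀ : ℤ)
    (hT : HasType Q₀ m ε₀) (r : ℕ) (hr : r.Prime) (hrp : r ≠ p)
    (A : ↥(Cfsg.isometryGroup F Q₀)) (hA : A ^ r = 1)
    (h0 : kdi ((A : Matrix.GeneralLinearGroup ι F) : Matrix ι ι F) (X - 1) = 0) :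
    ((Fintype.card F : ℕ) : ZMod r) ^ m = (ε₀ : ZMod r) := by
  set U : Matrix.GeneralLinearGroup ι F := (A : Matrix.GeneralLinearGroup ι F) with hU
  have hUr : U ^ r = 1 := by
    have := congrArg Subtype.val hA
    rw [SubgroupClass.coe_pow] at this
    exact this
  have hMr : (U : Matrix ι ι F) ^ r = 1 := by
    rw [← Units.val_pow_eq_pow_val, hUr]; rfl
  have hGr : (Matrix.toLin' (U : Matrix ι ι F)) ^ r = 1 := by
    rw [← toLin_pow_i, hMr, Matrix.toLin'_one]; rfl
  have hiso : ∀ v, Q₀ ((U : Matrix ι ι F) *ᵥ v) = Q₀ v :=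
    (Cfsg.Agent.Helper14.mem_isometryGroup_iff _ _).mp A.2
  set σ := permOf (Matrix.toLin' (U : Matrix ι ι F)) r hr.pos hGr with hσ
  have hσr : σ ^ r = 1 := by
    apply Equiv.ext
    intro v
    rw [permOf_pow, hGr]
    rfl
  have hfix : ∀ v : ι → F, σ v = v → Q₀ v = 0 := by
    intro v hv
    have hv' : (U : Matrix ι ι F) *ᵥ v = v := by
      have : σ v = Matrix.toLin' (U : Matrix ι ι F) v := rfl
      rw [this, Matrix.toLin'_apply] at hv
      exact hv
    have hker : LinearMap.ker (aeval (Matrix.toLin' (U : Matrix ι ι F)) (X - 1 : F[X])) = ⊥ := by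
      apply Submodule.finrank_eq_zero.mp
      exact h0
    have hmem : v ∈ LinearMap.ker (aeval (Matrix.toLin' (U : Matrix ι ι F)) (X - 1 : F[X])) := by
      rw [LinearMap.mem_ker, map_sub, aeval_X, map_one, LinearMap.sub_apply, Matrix.toLin'_apply,
        hv']
      simp
    rw [hker] at hmem
    rw [(Submodule.mem_bot F).mp hmem, hQ0]
  exact pow_eq_sign_of_free Q₀ m ε₀ hT σ (fun v => by
    have : σ v = (U : Matrix ι ι F) *ᵥ v := by
      show Matrix.toLin' (U : Matrix ι ι F) v = _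
      rw [Matrix.toLin'_apply]
    rw [this, hiso]) r hr (not_dvd_card r hr hrp) hσr hfix

end necessity

end Cfsg.Agent.Helper44.OBlocks
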