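import Mathlib
import Cfsg.Agent.Lib.Helper44.OTransfer
import Cfsg.Agent.Lib.Helper44.OConj

set_option autoImplicit false
set_option linter.unusedSectionVars false

/-!
Classes of elements of order dividing an odd prime `r` (different from the characteristic) in the
isometry group of a nondegenerate quadratic form correspond to symmetric multiplicity functions
satisfying a realisability condition.
-/

namespace Cfsg.Agent.Helper44.OBlocks

open Polynomial Module QuadraticMap Matrix
open Cfsg.Agent.Helper42.SemiConj Cfsg.Agent.Helper44.StarInv Cfsg.Agent.Helper44.SpBlocks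
open Cfsg.Agent.Helper44.QF
open scoped Classical

universe u

section classes

variable {F : Type u} [Field F] [Fintype F] {p : ℕ} [Fact p.Prime] [CharP F p]
variable {ι : Type} [Fintype ι] [DecidableEq ι]

/-- the multiplicity function of a matrix -/
noncomputable def mult (r : ℕ) (A : Matrix ι ι F) : ↥(powFactors F r) → ℕ :=
  fun f => kdi A f.1 / f.1.natDegree

theorem card_classes_gen (Q₀ : (ι → F) → F) (Q : QuadraticForm F (ι → F)) (hcoe : ⇑Q = Q₀)
    (hQ : (polarBilin Q).Nondegenerate) (r : ℕ) (hr : r.Prime) (hr2 : r ≠ 2) (hrp : r ≠ p)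
    (Good : (↥(powFactors F r) → ℕ) → Prop)
    (hnec : ∀ A : ↥(Cfsg.isometryGroup F Q₀), A ^ r = 1 →
      (∑ f : ↥(powFactors F r), f.1.natDegree *
        mult r ((A : Matrix.GeneralLinearGroup ι F) : Matrix ι ι F) f = Fintype.card ι) →
      Good (mult r ((A : Matrix.GeneralLinearGroup ι F) : Matrix ι ι F)))
    (hex : ∀ mm : ↥(powFactors F r) → ℕ,
      (∑ f : ↥(powFactors F r), f.1.natDegree * mm f = Fintype.card ι) →
      (∀ f g : ↥(powFactors F r), g.1 = star r f.1 → mm g = mm f) → Good mm →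
      ∃ A : ↥(Cfsg.isometryGroup F Q₀), A ^ r = 1 ∧ ∀ f : ↥(powFactors F r),
        kdi ((A : Matrix.GeneralLinearGroup ι F) : Matrix ι ι F) f.1 = f.1.natDegree * mm f) :
    Nat.card {C : ConjClasses ↥(Cfsg.isometryGroup F Q₀) //
      ∃ g : ↥(Cfsg.isometryGroup F Q₀), ConjClasses.mk g = C ∧ g ^ r = 1} =
    Nat.card {mm : ↥(powFactors F r) → ℕ //
      (∑ f : ↥(powFactors F r), f.1.natDegree * mm f = Fintype.card ι) ∧
      (∀ f g : ↥(powFactors F r), g.1 = star r f.1 → mm g = mm f) ∧ Good mm} := by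
  classical
  subst hcoe
  have hirr := powFactors_irr (F := F) r
  have hcop := powFactors_coprime (F := F) r hr hrp
  have hlift : ∀ C : {C : ConjClasses ↥(Cfsg.isometryGroup F ⇑Q) //
      ∃ g : ↥(Cfsg.isometryGroup F ⇑Q), ConjClasses.mk g = C ∧ g ^ r = 1},
      ∃ g : ↥(Cfsg.isometryGroup F ⇑Q), ConjClasses.mk g = C.1 ∧ g ^ r = 1 := fun C => C.2
  choose rep hrep1 hrep2 using hlift
  have hval : ∀ g : ↥(Cfsg.isometryGroup F ⇑Q), g ^ r = 1 →
      ((g : Matrix.GeneralLinearGroup ι F) : Matrix ι ι F) ^ r = 1 := by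
    intro g hg
    have h1 := congrArg Subtype.val hg
    rw [SubgroupClass.coe_pow] at h1
    rw [← Units.val_pow_eq_pow_val, h1]
    rfl
  have hkill : ∀ g : ↥(Cfsg.isometryGroup F ⇑Q), g ^ r = 1 →
      aeval ((g : Matrix.GeneralLinearGroup ι F) : Matrix ι ι F) (∏ f ∈ (powFactors F r), f) = 0 := by
    intro g hg
    rw [powFactors_prod r hr hrp, map_sub, map_pow, aeval_X, map_one, hval g hg, sub_self]
  have hdegpos : ∀ f ∈ (powFactors F r), 0 < f.natDegree := fun f hf =>
    Polynomial.natDegree_pos_iff_degree_pos.mpr (Polynomial.degree_pos_of_irreducible (hirr f hf))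
  have hsum : ∀ g : ↥(Cfsg.isometryGroup F ⇑Q), g ^ r = 1 →
      ∑ f : ↥(powFactors F r), f.1.natDegree *
        mult r ((g : Matrix.GeneralLinearGroup ι F) : Matrix ι ι F) f = Fintype.card ι := by
    intro g hg
    have h1 := sum_kdi (powFactors F r) hcop ((g : Matrix.GeneralLinearGroup ι F) : Matrix ι ι F) (hkill g hg)
    rw [← Finset.sum_coe_sort (powFactors F r)] at h1
    refine Eq.trans ?_ h1
    apply Finset.sum_congr rfl
    intro f _
    exact Nat.mul_div_cancel' (natDegree_dvd_kdi _ f.1 (hirr f.1 f.2))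
  have hsymm : ∀ g : ↥(Cfsg.isometryGroup F ⇑Q), g ^ r = 1 → ∀ f h : ↥(powFactors F r), h.1 = star r f.1 →
      mult r ((g : Matrix.GeneralLinearGroup ι F) : Matrix ι ι F) h =
        mult r ((g : Matrix.GeneralLinearGroup ι F) : Matrix ι ι F) f := by
    intro g hg f h hfh
    unfold mult
    rw [hfh, kdi_star_orth Q hQ r hr hrp g hg f.1 f.2, natDegree_star r hr hrp f.1 f.2]
  have hordodd : ∀ g : ↥(Cfsg.isometryGroup F ⇑Q), g ^ r = 1 →
      Odd (orderOf g) ∧ (orderOf g).Coprime p := by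
    intro g hg
    have hd : orderOf g ∣ r := orderOf_dvd_of_pow_eq_one hg
    have hrodd : Odd r := hr.odd_of_ne_two hr2
    constructor
    · rcases (Nat.dvd_prime hr).mp hd with h | h
      · rw [h]; exact odd_one
      · rw [h]; exact hrodd
    · have hcp : r.Coprime p := (Nat.coprime_primes hr (Fact.out : p.Prime)).mpr hrp
      exact Nat.Coprime.coprime_dvd_left hd hcp
  have hbij : Function.Bijective (fun C => (⟨mult r
      (((rep C : ↥(Cfsg.isometryGroup F ⇑Q)) : Matrix.GeneralLinearGroup ι F) : Matrix ι ι F),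
      hsum (rep C) (hrep2 C), hsymm (rep C) (hrep2 C),
      hnec (rep C) (hrep2 C) (hsum (rep C) (hrep2 C))⟩ :
      {mm : ↥(powFactors F r) → ℕ // (∑ f : ↥(powFactors F r), f.1.natDegree * mm f = Fintype.card ι) ∧
        (∀ f g : ↥(powFactors F r), g.1 = star r f.1 → mm g = mm f) ∧ Good mm})) := by
    constructor
    · intro C C' h
      have h1 : ∀ f ∈ (powFactors F r), kdi (((rep C : ↥(Cfsg.isometryGroup F ⇑Q)) :
          Matrix.GeneralLinearGroup ι F) : Matrix ι ι F) f =
          kdi (((rep C' : ↥(Cfsg.isometryGroup F ⇑Q)) :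
          Matrix.GeneralLinearGroup ι F) : Matrix ι ι F) f := by
        intro f hf
        have h2 := congrFun (congrArg Subtype.val h) ⟨f, hf⟩
        simp only [mult] at h2
        rw [← Nat.mul_div_cancel' (natDegree_dvd_kdi
            (((rep C : ↥(Cfsg.isometryGroup F ⇑Q)) : Matrix.GeneralLinearGroup ι F) :
              Matrix ι ι F) f (hirr f hf)),
          ← Nat.mul_div_cancel' (natDegree_dvd_kdi
            (((rep C' : ↥(Cfsg.isometryGroup F ⇑Q)) : Matrix.GeneralLinearGroup ι F) :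
              Matrix ι ι F) f (hirr f hf)), h2]
      have hc := isConj_of_kdi_eq (powFactors F r) hirr hcop _ _ (hkill _ (hrep2 C)) (hkill _ (hrep2 C')) h1
      obtain ⟨ho, hcp⟩ := hordodd (rep C) (hrep2 C)
      have hc' : IsConj (rep C) (rep C') :=
        (orth_conj_iff_gen Q hQ (rep C) (rep C') ho hcp).mpr hc
      apply Subtype.ext
      rw [← hrep1 C, ← hrep1 C']
      exact ConjClasses.mk_eq_mk_iff_isConj.mpr hc'
    · rintro ⟨mm, hm1, hm2, hm3⟩
      obtain ⟨A, hAr, hAk⟩ := hex mm hm1 hm2 hm3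
      refine ⟨⟨ConjClasses.mk A, A, rfl, hAr⟩, ?_⟩
      apply Subtype.ext
      funext f
      show mult r (((rep _ : ↥(Cfsg.isometryGroup F ⇑Q)) : Matrix.GeneralLinearGroup ι F) :
        Matrix ι ι F) f = mm f
      have hc : IsConj (rep ⟨ConjClasses.mk A, A, rfl, hAr⟩) A :=
        ConjClasses.mk_eq_mk_iff_isConj.mp (hrep1 _)
      obtain ⟨ho, hcp⟩ := hordodd (rep ⟨ConjClasses.mk A, A, rfl, hAr⟩) (hrep2 _)
      have hcm := (orth_conj_iff_gen Q hQ _ A ho hcp).mp hc
      unfold mult
      rw [kdi_eq_of_isConj _ _ hcm, hAk f, Nat.mul_div_cancel_left _ (hdegpos f.1 f.2)]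
  exact Nat.card_eq_of_bijective _ hbij

end classes

end Cfsg.Agent.Helper44.OBlocks
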