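import Mathlib
import Cfsg.Agent.Lib.Helper44.CountInv

set_option autoImplicit false
set_option linter.unusedSectionVars false

/-!
Counting symmetric weighted multiplicity functions that vanish at the distinguished point, by
shifting the value at that point.
-/

namespace Cfsg.Agent.Helper44.OCount

open Cfsg.Agent.Helper44.CountInv

section generic

lemma card_split {β : Type*} (P G : β → Prop) [Finite {b : β // P b}] :
    Nat.card {b : β // P b} =
      Nat.card {b : β // P b ∧ G b} + Nat.card {b : β // P b ∧ ¬ G b} := by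
  classical
  have e1 : {b : β // P b} ≃ {a : {b : β // P b} // G a.1} ⊕ {a : {b : β // P b} // ¬ G a.1} :=
    (Equiv.sumCompl (fun a : {b : β // P b} => G a.1)).symm
  rw [Nat.card_congr e1, Nat.card_sum,
    Nat.card_congr (Equiv.subtypeSubtypeEquivSubtypeInter P G),
    Nat.card_congr (Equiv.subtypeSubtypeEquivSubtypeInter P (fun b => ¬ G b))]

variable {α : Type*} [DecidableEq α]

/-- the counting predicate: weighted sum `N` and invariance under `s` -/
def PW (x₀ : α) (C : Finset α) (s : α → α) (wt : α → ℕ) (N : ℕ)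
    (mm : ↥(insert x₀ C) → ℕ) : Prop :=
  (∑ f : ↥(insert x₀ C), wt f.1 * mm f = N) ∧
    ∀ f g : ↥(insert x₀ C), g.1 = s f.1 → mm g = mm f

lemma sum_update (x₀ : α) (C : Finset α) (wt : α → ℕ) (mm : ↥(insert x₀ C) → ℕ)
    (x : ↥(insert x₀ C)) (v : ℕ) :
    ∑ f : ↥(insert x₀ C), wt f.1 * (Function.update mm x v) f + wt x.1 * mm x =
      ∑ f : ↥(insert x₀ C), wt f.1 * mm f + wt x.1 * v := by
  rw [← Finset.add_sum_erase Finset.univ _ (Finset.mem_univ x),
    ← Finset.add_sum_erase Finset.univ (fun f => wt f.1 * mm f) (Finset.mem_univ x),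
    Function.update_self]
  have : ∑ f ∈ Finset.univ.erase x, wt f.1 * (Function.update mm x v) f =
      ∑ f ∈ Finset.univ.erase x, wt f.1 * mm f := by
    apply Finset.sum_congr rfl
    intro f hf
    rw [Function.update_of_ne (Finset.ne_of_mem_erase hf)]
  rw [this]
  ring

/-- shifting the value at the distinguished point -/
theorem card_shift (x₀ : α) (C : Finset α) (hx₀ : x₀ ∉ C) (s : α → α) (hs0 : s x₀ = x₀)
    (hsm : ∀ a ∈ C, s a ∈ C) (wt : α → ℕ) (hw0 : wt x₀ = 1) (N : ℕ) :
    Nat.card {mm : ↥(insert x₀ C) → ℕ // PW x₀ C s wt (N + 1) mm ∧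
      mm ⟨x₀, Finset.mem_insert_self x₀ C⟩ ≠ 0} =
    Nat.card {mm : ↥(insert x₀ C) → ℕ // PW x₀ C s wt N mm} := by
  set x : ↥(insert x₀ C) := ⟨x₀, Finset.mem_insert_self x₀ C⟩ with hx
  have hne : ∀ f : ↥(insert x₀ C), f ≠ x → f.1 ∈ C := by
    intro f hf
    rcases Finset.mem_insert.mp f.2 with h | h
    · exact absurd (Subtype.ext h) hf
    · exact h
  have hsymm : ∀ (mm : ↥(insert x₀ C) → ℕ) (v : ℕ),
      (∀ f g : ↥(insert x₀ C), g.1 = s f.1 → mm g = mm f) →
      ∀ f g : ↥(insert x₀ C), g.1 = s f.1 →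
        Function.update mm x v g = Function.update mm x v f := by
    intro mm v hm f g hg
    by_cases hf : f = x
    · have hgx : g = x := by
        apply Subtype.ext
        rw [hg, hf]
        exact hs0
      rw [hf, hgx]
    · have hgx : g ≠ x := by
        intro h
        have h1 : g.1 = x₀ := congrArg Subtype.val h
        rw [hg] at h1
        exact hx₀ (h1 ▸ hsm f.1 (hne f hf))
      rw [Function.update_of_ne hgx, Function.update_of_ne hf]
      exact hm f g hg
  apply Nat.card_congr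
  refine
    { toFun := fun mm => ⟨Function.update mm.1 x (mm.1 x - 1), ⟨?_, ?_⟩⟩
      invFun := fun mm => ⟨Function.update mm.1 x (mm.1 x + 1), ⟨?_, ?_⟩, ?_⟩
      left_inv := ?_
      right_inv := ?_ }
  · have h := sum_update x₀ C wt mm.1 x (mm.1 x - 1)
    have h1 : ∑ f : ↥(insert x₀ C), wt f.1 * mm.1 f = N + 1 := mm.2.1.1
    have h2 : mm.1 x ≠ 0 := mm.2.2
    rw [h1] at h
    have hwx : wt x.1 = 1 := hw0
    rw [hwx, one_mul, one_mul] at h
    omega
  · exact hsymm mm.1 _ mm.2.1.2
  · have h := sum_update x₀ C wt mm.1 x (mm.1 x + 1)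
    have h1 : ∑ f : ↥(insert x₀ C), wt f.1 * mm.1 f = N := mm.2.1
    rw [h1] at h
    have hwx : wt x.1 = 1 := hw0
    rw [hwx, one_mul, one_mul] at h
    omega
  · exact hsymm mm.1 _ mm.2.2
  · show Function.update mm.1 x (mm.1 x + 1) x ≠ 0
    rw [Function.update_self]
    omega
  · intro mm
    apply Subtype.ext
    show Function.update (Function.update mm.1 x (mm.1 x - 1)) x
      (Function.update mm.1 x (mm.1 x - 1) x + 1) = mm.1
    have h2 : mm.1 x ≠ 0 := mm.2.2
    rw [Function.update_self, Function.update_idem, Nat.sub_add_cancel (by omega),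
      Function.update_eq_self]
  · intro mm
    apply Subtype.ext
    show Function.update (Function.update mm.1 x (mm.1 x + 1)) x
      (Function.update mm.1 x (mm.1 x + 1) x - 1) = mm.1
    rw [Function.update_self, Function.update_idem, Nat.add_sub_cancel, Function.update_eq_self]

/-- the functions vanishing at the distinguished point -/
theorem card_zero (x₀ : α) (C : Finset α) (hx₀ : x₀ ∉ C) (s : α → α) (hs0 : s x₀ = x₀)
    (hsm : ∀ a ∈ C, s a ∈ C) (wt : α → ℕ) (hw0 : wt x₀ = 1) (N : ℕ)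
    (hfin : Finite {mm : ↥(insert x₀ C) → ℕ // PW x₀ C s wt (N + 1) mm}) :
    Nat.card {mm : ↥(insert x₀ C) → ℕ // PW x₀ C s wt (N + 1) mm ∧
      mm ⟨x₀, Finset.mem_insert_self x₀ C⟩ = 0} +
    Nat.card {mm : ↥(insert x₀ C) → ℕ // PW x₀ C s wt N mm} =
    Nat.card {mm : ↥(insert x₀ C) → ℕ // PW x₀ C s wt (N + 1) mm} := by
  rw [card_split (PW x₀ C s wt (N + 1))
    (fun mm => mm ⟨x₀, Finset.mem_insert_self x₀ C⟩ = 0),
    ← card_shift x₀ C hx₀ s hs0 hsm wt hw0 N]

lemma choose_diff (N d c : ℕ) (hc : 1 ≤ c) :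
    (N / d + c).choose c + (if d ∣ N + 1 then ((N + 1) / d + c - 1).choose (c - 1) else 0) =
      ((N + 1) / d + c).choose c := by
  rw [Nat.succ_div]
  generalize N / d = K
  split_ifs with h
  · obtain ⟨c', rfl⟩ : ∃ c', c = c' + 1 := ⟨c - 1, by omega⟩
    have e1 : K + 1 + (c' + 1) - 1 = K + c' + 1 := by omega
    have e2 : K + 1 + (c' + 1) = (K + c' + 1) + 1 := by omega
    have e3 : K + (c' + 1) = K + c' + 1 := by omega
    rw [e1, e2, e3, Nat.add_sub_cancel, Nat.choose_succ_succ (K + c' + 1) c']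
    ring
  · simp

end generic

end Cfsg.Agent.Helper44.OCount
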