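import Mathlib
import Cfsg.Agent.Lib.Helper44.OClasses
import Cfsg.Agent.Lib.Helper44.OCount

set_option autoImplicit false
set_option linter.unusedSectionVars false

/-!
Counting the multiplicity functions that are realised in an orthogonal group of prescribed type.
-/

namespace Cfsg.Agent.Helper44.OBlocks

open Polynomial Module
open Cfsg.Agent.Helper42.SemiConj Cfsg.Agent.Helper44.StarInv
open Cfsg.Agent.Helper44.CountInv Cfsg.Agent.Helper44.OCount
open scoped Classical

universe u

section final

variable {F : Type u} [Field F] [Fintype F] {p : ℕ} [Fact p.Prime] [CharP F p]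

/-- weighted sum `N` and symmetry -/
def PMS (S : Finset F[X]) (r N : ℕ) (mm : ↥S → ℕ) : Prop :=
  (∑ f : ↥S, f.1.natDegree * mm f = N) ∧ ∀ f g : ↥S, g.1 = star r f.1 → mm g = mm f

/-- the number of all symmetric multiplicity functions of weight `N` -/
def total (i t N : ℕ) : ℕ :=
  if Odd i then (N / (2 * i) + t / 2).choose (t / 2) else (N / i + t).choose t

/-- the number of those vanishing at `X - 1` -/
def zeroCount (i t N : ℕ) : ℕ :=
  if Odd i then (if 2 * i ∣ N then (N / (2 * i) + t / 2 - 1).choose (t / 2 - 1) else 0)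
  else (if i ∣ N then (N / i + t - 1).choose (t - 1) else 0)

lemma ipos (r i t : ℕ) (hr : r.Prime) (ht : t * i = r - 1) : 0 < i := by
  rcases Nat.eq_zero_or_pos i with h | h
  · rw [h, mul_zero] at ht
    have := hr.two_le
    omega
  · exact h

lemma tpos (r i t : ℕ) (hr : r.Prime) (ht : t * i = r - 1) : 0 < t := by
  rcases Nat.eq_zero_or_pos t with h | h
  · rw [h, zero_mul] at ht
    have := hr.two_le
    omega
  · exact h

lemma t_even (r i t : ℕ) (hr : r.Prime) (hr2 : r ≠ 2) (ht : t * i = r - 1) (hio : Odd i) :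
    Even t := by
  have hrodd : Odd r := hr.odd_of_ne_two hr2
  have hev : Even (t * i) := by
    rw [ht]
    obtain ⟨k, hk⟩ := hrodd
    exact ⟨k, by omega⟩
  rcases Nat.even_mul.mp hev with h | h
  · exact h
  · exact absurd h (Nat.not_even_iff_odd.mpr hio)

lemma card_cyc (r i t : ℕ) (hr : r.Prime) (hrp : r ≠ p)
    (hi : i = orderOf ((Fintype.card F : ℕ) : ZMod r)) (ht : t * i = r - 1) :
    (cycFactors F r).card = t := by
  have h1 := cyc_card (F := F) r hr hrp
  rw [← hi, ← ht] at h1
  exact Nat.eq_of_mul_eq_mul_right (ipos r i t hr ht) h1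

theorem key_total (r i t : ℕ) (hr : r.Prime) (hr2 : r ≠ 2) (hrp : r ≠ p)
    (hi : i = orderOf ((Fintype.card F : ℕ) : ZMod r)) (ht : t * i = r - 1) (N : ℕ)
    (S : Finset F[X]) (hS : S = insert (X - 1 : F[X]) (cycFactors F r)) :
    Nat.card {mm : ↥S → ℕ // PMS S r N mm} = total i t N := by
  subst hS
  have hx0 := X_sub_one_notMem_cyc (F := F) r hr hrp
  have hcard := card_cyc (F := F) r i t hr hrp hi ht
  have hip := ipos r i t hr ht
  have hdeg : ∀ f ∈ cycFactors F r, f.natDegree = i :=
    fun f hf => by rw [cyc_natDegree r hr hrp f hf, hi]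
  unfold total
  split_ifs with hio
  · have h := card_symm_free (X - 1 : F[X]) (cycFactors F r) hx0 (star r) (star_X_sub_one r)
      (star_mem_cyc r hr hrp)
      (fun f hf => star_star r hr hrp f (mem_pow_of_mem_cyc r f hf))
      (fun f hf => star_ne_self_of_odd r hr hr2 hrp f hf (hi ▸ hio))
      Polynomial.natDegree x0deg' i hip hdeg N
    rw [hcard] at h
    exact h
  · have h := card_symm_fixed (X - 1 : F[X]) (cycFactors F r) hx0 (star r) (star_X_sub_one r)
      (fun f hf => star_eq_self_of_even r hr hrp f hf (hi ▸ Nat.not_odd_iff_even.mp hio))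
      Polynomial.natDegree x0deg' i hip hdeg N
    rw [hcard] at h
    exact h

lemma total_pos (i t N : ℕ) : 0 < total i t N := by
  unfold total
  split_ifs
  · exact Nat.choose_pos (Nat.le_add_left _ _)
  · exact Nat.choose_pos (Nat.le_add_left _ _)

theorem key_zero (r i t : ℕ) (hr : r.Prime) (hr2 : r ≠ 2) (hrp : r ≠ p)
    (hi : i = orderOf ((Fintype.card F : ℕ) : ZMod r)) (ht : t * i = r - 1) (N : ℕ)
    (S : Finset F[X]) (hS : S = insert (X - 1 : F[X]) (cycFactors F r)) (hmem : X - 1 ∈ S) :
    Nat.card {mm : ↥S → ℕ // PMS S r (N + 1) mm ∧ mm ⟨X - 1, hmem⟩ = 0} + total i t N =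
      total i t (N + 1) := by
  subst hS
  have hx0 := X_sub_one_notMem_cyc (F := F) r hr hrp
  have h1 := key_total (F := F) r i t hr hr2 hrp hi ht N _ rfl
  have h2 := key_total (F := F) r i t hr hr2 hrp hi ht (N + 1) _ rfl
  have hfin : Finite {mm : ↥(insert (X - 1 : F[X]) (cycFactors F r)) → ℕ //
      PW (X - 1 : F[X]) (cycFactors F r) (star r) Polynomial.natDegree (N + 1) mm} := by
    apply Nat.finite_of_card_ne_zero
    have : Nat.card {mm : ↥(insert (X - 1 : F[X]) (cycFactors F r)) → ℕ //
        PMS (insert (X - 1 : F[X]) (cycFactors F r)) r (N + 1) mm} ≠ 0 := by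
      rw [h2]; exact (total_pos i t (N + 1)).ne'
    exact this
  have h3 := card_zero (X - 1 : F[X]) (cycFactors F r) hx0 (star r) (star_X_sub_one r)
    (star_mem_cyc r hr hrp) Polynomial.natDegree x0deg' N hfin
  rw [← h1, ← h2]
  exact h3

lemma zero_total (r i t : ℕ) (hr : r.Prime) (hr2 : r ≠ 2) (ht : t * i = r - 1) (N : ℕ) :
    total i t N + zeroCount i t (N + 1) = total i t (N + 1) := by
  unfold total zeroCount
  have htp := tpos r i t hr ht
  split_ifs with hio h2 h3
  · obtain ⟨c, hc⟩ := t_even r i t hr hr2 ht hio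
    have hc1 : 1 ≤ t / 2 := by omega
    have := choose_diff N (2 * i) (t / 2) hc1
    rw [if_pos h2] at this
    exact this
  · obtain ⟨c, hc⟩ := t_even r i t hr hr2 ht hio
    have hc1 : 1 ≤ t / 2 := by omega
    have := choose_diff N (2 * i) (t / 2) hc1
    rw [if_neg h2] at this
    exact this
  · have := choose_diff N i t htp
    rw [if_pos h3] at this
    exact this
  · have := choose_diff N i t htp
    rw [if_neg ‹¬ i ∣ N + 1›] at this
    exact this

/-- the distinguished point -/
noncomputable def x0 (F : Type u) [Field F] [Fintype F] (r : ℕ) : ↥(powFactors F r) :=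
  ⟨X - 1, X_sub_one_mem_pow r⟩

/-- the number of blocks -/
noncomputable def Kof (r : ℕ) (mm : ↥(powFactors F r) → ℕ) : ℕ :=
  ∑ f ∈ cycFactors F r, extend (powFactors F r) mm f

lemma sum_split (r i : ℕ) (hr : r.Prime) (hrp : r ≠ p)
    (hi : i = orderOf ((Fintype.card F : ℕ) : ZMod r)) (mm : ↥(powFactors F r) → ℕ) :
    ∑ f : ↥(powFactors F r), f.1.natDegree * mm f = mm (x0 F r) + i * Kof r mm := by
  have hx0 := X_sub_one_notMem_cyc (F := F) r hr hrp
  rw [sum_extend (powFactors F r) mm Polynomial.natDegree]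
  have : ∑ f ∈ powFactors F r, f.natDegree * extend (powFactors F r) mm f =
      ∑ f ∈ insert (X - 1 : F[X]) (cycFactors F r),
        f.natDegree * extend (powFactors F r) mm f := by
    rw [← powdef']
  rw [this, Finset.sum_insert hx0, x0deg', one_mul, extend_mem _ _ _ (X_sub_one_mem_pow r)]
  unfold Kof
  rw [Finset.mul_sum]
  congr 1
  apply Finset.sum_congr rfl
  intro f hf
  rw [cyc_natDegree r hr hrp f hf, hi]

/-- realisability in the group of type `ε₀` -/
def Good (r i : ℕ) (ε₀ : ℤ) (mm : ↥(powFactors F r) → ℕ) : Prop :=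
  mm (x0 F r) = 0 → sgn i (Kof r mm) = ε₀

/-- the number of unrealisable functions -/
def badCount (i t N : ℕ) (ε₀ : ℤ) : ℕ := if sgn i (N / i) = ε₀ then 0 else zeroCount i t N

theorem card_good (r i t : ℕ) (hr : r.Prime) (hr2 : r ≠ 2) (hrp : r ≠ p)
    (hi : i = orderOf ((Fintype.card F : ℕ) : ZMod r)) (ht : t * i = r - 1) (N : ℕ)
    (ε₀ : ℤ) :
    Nat.card {mm : ↥(powFactors F r) → ℕ // PMS (powFactors F r) r (N + 1) mm ∧
      Good r i ε₀ mm} + badCount i t (N + 1) ε₀ = total i t (N + 1) := by
  have hip := ipos r i t hr ht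
  have htot := key_total (F := F) r i t hr hr2 hrp hi ht (N + 1) (powFactors F r) (powdef' r)
  have hfin : Finite {mm : ↥(powFactors F r) → ℕ // PMS (powFactors F r) r (N + 1) mm} := by
    apply Nat.finite_of_card_ne_zero
    rw [htot]; exact (total_pos i t (N + 1)).ne'
  have hsplit := card_split (PMS (powFactors F r) r (N + 1)) (Good (F := F) r i ε₀)
  rw [htot] at hsplit
  rw [hsplit]
  congr 1
  -- the bad functions
  have hK : ∀ mm : ↥(powFactors F r) → ℕ, PMS (powFactors F r) r (N + 1) mm →
      mm (x0 F r) = 0 → Kof r mm = (N + 1) / i := by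
    intro mm hP h0
    have h1 := sum_split r i hr hrp hi mm
    rw [hP.1, h0, zero_add] at h1
    rw [h1, Nat.mul_div_cancel_left _ hip]
  unfold badCount
  split_ifs with hs
  · symm
    rw [Nat.card_eq_zero]
    left
    refine ⟨fun mm => ?_⟩
    apply mm.2.2
    intro h0
    rw [hK mm.1 mm.2.1 h0]
    exact hs
  · have hz := key_zero (F := F) r i t hr hr2 hrp hi ht N (powFactors F r) (powdef' r)
      (X_sub_one_mem_pow r)
    have hz2 := zero_total r i t hr hr2 ht N
    have e : {mm : ↥(powFactors F r) → ℕ // PMS (powFactors F r) r (N + 1) mm ∧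
        ¬ Good r i ε₀ mm} ≃ {mm : ↥(powFactors F r) → ℕ // PMS (powFactors F r) r (N + 1) mm ∧
        mm ⟨X - 1, X_sub_one_mem_pow r⟩ = 0} :=
      Equiv.subtypeEquivRight (fun mm => by
        constructor
        · rintro ⟨hP, hG⟩
          refine ⟨hP, ?_⟩
          by_contra h0
          exact hG (fun h => absurd h h0)
        · rintro ⟨hP, h0⟩
          refine ⟨hP, ?_⟩
          intro hG
          apply hs
          rw [← hK mm hP h0]
          exact hG h0)
    rw [Nat.card_congr e]
    omega

end final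

end Cfsg.Agent.Helper44.OBlocks
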