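import Mathlib
import Cfsg.Agent.Lib.Helper44.OFinal

set_option autoImplicit false
set_option linter.unusedSectionVars false

/-!
The number of classes of elements of odd prime order `r` (different from the characteristic) in
the isometry group of a nondegenerate quadratic form of even dimension and known type, and in
odd dimension.
-/

namespace Cfsg.Agent.Helper44.OBlocks

open Polynomial Module QuadraticMap Matrix
open Cfsg.Agent.Helper42.SemiConj Cfsg.Agent.Helper44.StarInv
open Cfsg.Agent.Helper44.QF Cfsg.Agent.Helper44.CountInv Cfsg.Agent.Helper44.OCount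
open scoped Classical

universe u

section main

variable {F : Type u} [Field F] [Fintype F] {p : ℕ} [Fact p.Prime] [CharP F p]
variable {ι : Type} [Fintype ι] [DecidableEq ι]

lemma extend_sym (r : ℕ) (hr : r.Prime) (hrp : r ≠ p) (mm : ↥(powFactors F r) → ℕ)
    (hm2 : ∀ f g : ↥(powFactors F r), g.1 = star r f.1 → mm g = mm f) :
    ∀ f ∈ cycFactors F r, extend (powFactors F r) mm (star r f) =
      extend (powFactors F r) mm f := by
  intro f hf
  have hfS : f ∈ powFactors F r := mem_pow_of_mem_cyc r f hf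
  have hsS : star r f ∈ powFactors F r := star_mem r hr hrp f hfS
  rw [extend_mem _ mm _ hsS, extend_mem _ mm _ hfS]
  exact hm2 ⟨f, hfS⟩ ⟨star r f, hsS⟩ rfl

lemma mult_x0 (r : ℕ) (A : Matrix ι ι F) : mult r A (x0 F r) = kdi A (X - 1) := by
  unfold mult x0
  simp only
  rw [x0deg', Nat.div_one]

theorem card_classes_typed (Q₀ : (ι → F) → F) (Q : QuadraticForm F (ι → F)) (hcoe : ⇑Q = Q₀)
    (hQ : (polarBilin Q).Nondegenerate) (m : ℕ) (hcard : Fintype.card ι = 2 * m) (hm : 1 ≤ m)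
    (ε₀ : ℤ) (hε₀ : ε₀ = 1 ∨ ε₀ = -1) (hT : HasType Q₀ m ε₀) (r i t : ℕ) (hr : r.Prime)
    (hr2 : r ≠ 2) (hrp : r ≠ p)
    (hexists : ∀ d : F[X] → ℕ, ORealT (powFactors F r) r d m ε₀ →
      ∃ A : ↥(Cfsg.isometryGroup F Q₀), A ^ r = 1 ∧ ∀ f ∈ powFactors F r,
        kdi ((A : Matrix.GeneralLinearGroup ι F) : Matrix ι ι F) f = d f)
    (hi : i = orderOf ((Fintype.card F : ℕ) : ZMod r)) (ht : t * i = r - 1) :
    Nat.card {C : ConjClasses ↥(Cfsg.isometryGroup F Q₀) //
      ∃ g : ↥(Cfsg.isometryGroup F Q₀), ConjClasses.mk g = C ∧ orderOf g = r} + 1 +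
      badCount i t (2 * m) ε₀ = total i t (2 * m) := by
  have hip := ipos r i t hr ht
  have hQ0 : Q₀ 0 = 0 := by rw [← hcoe, map_zero]
  have hnec : ∀ A : ↥(Cfsg.isometryGroup F Q₀), A ^ r = 1 →
      (∑ f : ↥(powFactors F r), f.1.natDegree *
        mult r ((A : Matrix.GeneralLinearGroup ι F) : Matrix ι ι F) f = Fintype.card ι) →
      Good r i ε₀ (mult r ((A : Matrix.GeneralLinearGroup ι F) : Matrix ι ι F)) := by
    intro A hA hsum h0
    rw [mult_x0] at h0
    have h1 := pow_eq_of_free_orth Q₀ hQ0 m ε₀ hT r hr hrp A hA h0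
    have h2 := sum_split r i hr hrp hi
      (mult r ((A : Matrix.GeneralLinearGroup ι F) : Matrix ι ι F))
    rw [hsum, hcard, mult_x0, h0, zero_add] at h2
    have h3 := pow_half r hr hr2 ((Fintype.card F : ℕ) : ZMod r) i m _ hi hip h2
    exact int_eq_of_zmod r hr hr2 _ _ (sgn_cases _ _) hε₀ (by rw [← h3, h1])
  have hex : ∀ mm : ↥(powFactors F r) → ℕ,
      (∑ f : ↥(powFactors F r), f.1.natDegree * mm f = Fintype.card ι) →
      (∀ f g : ↥(powFactors F r), g.1 = star r f.1 → mm g = mm f) → Good r i ε₀ mm →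
      ∃ A : ↥(Cfsg.isometryGroup F Q₀), A ^ r = 1 ∧ ∀ f : ↥(powFactors F r),
        kdi ((A : Matrix.GeneralLinearGroup ι F) : Matrix ι ι F) f.1 = f.1.natDegree * mm f := by
    intro mm hm1 hm2 hm3
    have hsym := extend_sym r hr hrp mm hm2
    have hsum' : ∑ f ∈ powFactors F r, f.natDegree * extend (powFactors F r) mm f = 2 * m := by
      rw [← sum_extend (powFactors F r) mm Polynomial.natDegree, hm1, hcard]
    have hT' := orealT_even r hr hr2 hrp (extend (powFactors F r) mm) hsym m hsum' ε₀ hε₀ (by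
      intro h0
      rw [extend_mem _ mm _ (X_sub_one_mem_pow r)] at h0
      rw [← hi]
      exact hm3 h0)
    obtain ⟨A, hA1, hA2⟩ := hexists _ hT'
    refine ⟨A, hA1, fun f => ?_⟩
    rw [hA2 f.1 f.2, extend_apply]
  have h1 := card_classes_gen Q₀ Q hcoe hQ r hr hr2 hrp (Good r i ε₀) hnec hex
  have h2 := card_classes_orderOf (G := ↥(Cfsg.isometryGroup F Q₀)) r hr
  obtain ⟨N, hN⟩ : ∃ N, 2 * m = N + 1 := ⟨2 * m - 1, by omega⟩
  have h3 := card_good (F := F) r i t hr hr2 hrp hi ht N ε₀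
  rw [← hN] at h3
  have e : {mm : ↥(powFactors F r) → ℕ //
      (∑ f : ↥(powFactors F r), f.1.natDegree * mm f = Fintype.card ι) ∧
      (∀ f g : ↥(powFactors F r), g.1 = star r f.1 → mm g = mm f) ∧ Good r i ε₀ mm} ≃
      {mm : ↥(powFactors F r) → ℕ // PMS (powFactors F r) r (2 * m) mm ∧ Good r i ε₀ mm} :=
    Equiv.subtypeEquivRight (fun mm => by
      unfold PMS
      rw [hcard, and_assoc])
  rw [Nat.card_congr e] at h1
  rw [h2, h1]
  exact h3

theorem card_classes_odd (Q₀ : (ι → F) → F) (Q : QuadraticForm F (ι → F)) (hcoe : ⇑Q = Q₀)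
    (hQ : (polarBilin Q).Nondegenerate) (N : ℕ) (hcard : Fintype.card ι = N) (r i t : ℕ)
    (hr : r.Prime) (hr2 : r ≠ 2) (hrp : r ≠ p)
    (hexists : ∀ mm : F[X] → ℕ, (∀ f ∈ cycFactors F r, mm (star r f) = mm f) →
      (∑ f ∈ powFactors F r, f.natDegree * mm f = N) →
      ∃ A : ↥(Cfsg.isometryGroup F Q₀), A ^ r = 1 ∧ ∀ f ∈ powFactors F r,
        kdi ((A : Matrix.GeneralLinearGroup ι F) : Matrix ι ι F) f = f.natDegree * mm f)
    (hi : i = orderOf ((Fintype.card F : ℕ) : ZMod r)) (ht : t * i = r - 1) :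
    Nat.card {C : ConjClasses ↥(Cfsg.isometryGroup F Q₀) //
      ∃ g : ↥(Cfsg.isometryGroup F Q₀), ConjClasses.mk g = C ∧ orderOf g = r} + 1 =
      total i t N := by
  have hex : ∀ mm : ↥(powFactors F r) → ℕ,
      (∑ f : ↥(powFactors F r), f.1.natDegree * mm f = Fintype.card ι) →
      (∀ f g : ↥(powFactors F r), g.1 = star r f.1 → mm g = mm f) → True →
      ∃ A : ↥(Cfsg.isometryGroup F Q₀), A ^ r = 1 ∧ ∀ f : ↥(powFactors F r),
        kdi ((A : Matrix.GeneralLinearGroup ι F) : Matrix ι ι F) f.1 = f.1.natDegree * mm f := by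
    intro mm hm1 hm2 _
    have hsym := extend_sym r hr hrp mm hm2
    have hsum' : ∑ f ∈ powFactors F r, f.natDegree * extend (powFactors F r) mm f = N := by
      rw [← sum_extend (powFactors F r) mm Polynomial.natDegree, hm1, hcard]
    obtain ⟨A, hA1, hA2⟩ := hexists _ hsym hsum'
    refine ⟨A, hA1, fun f => ?_⟩
    rw [hA2 f.1 f.2, extend_apply]
  have h1 := card_classes_gen Q₀ Q hcoe hQ r hr hr2 hrp (fun _ => True)
    (fun _ _ _ => trivial) hex
  have h2 := card_classes_orderOf (G := ↥(Cfsg.isometryGroup F Q₀)) r hr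
  have h3 := key_total (F := F) r i t hr hr2 hrp hi ht N (powFactors F r) (powdef' r)
  have e : {mm : ↥(powFactors F r) → ℕ //
      (∑ f : ↥(powFactors F r), f.1.natDegree * mm f = Fintype.card ι) ∧
      (∀ f g : ↥(powFactors F r), g.1 = star r f.1 → mm g = mm f) ∧ True} ≃
      {mm : ↥(powFactors F r) → ℕ // PMS (powFactors F r) r N mm} :=
    Equiv.subtypeEquivRight (fun mm => by
      unfold PMS
      rw [hcard, and_true])
  rw [Nat.card_congr e] at h1
  rw [h2, h1, h3]

end main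

end Cfsg.Agent.Helper44.OBlocks
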