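import Mathlib
import Cfsg.Agent.Lib.Helper44.OMain
import Cfsg.Agent.Lib.Helper43.OrthOdd

set_option autoImplicit false
set_option linter.unusedSectionVars false

/-!
Existence of isometries of prescribed kernel dimensions in the odd-dimensional orthogonal group.
-/

namespace Cfsg.Agent.Helper44.OBlocks

open Polynomial Module QuadraticMap Matrix
open Cfsg.Agent.Helper42.SemiConj Cfsg.Agent.Helper44.StarInv
open Cfsg.Agent.Helper44.QF Cfsg.Agent.Helper43
open scoped Classical

universe u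

variable {F : Type u} [Field F] [Fintype F] {p : ℕ} [Fact p.Prime] [CharP F p]

theorem exists_Oodd_mm (h2 : (2 : F) ≠ 0) (r : ℕ) (hr : r.Prime) (hr2 : r ≠ 2) (hrp : r ≠ p)
    (m : ℕ) (mm : F[X] → ℕ) (hsym : ∀ f ∈ cycFactors F r, mm (star r f) = mm f)
    (hsum : ∑ f ∈ powFactors F r, f.natDegree * mm f = 2 * m + 1) :
    ∃ A : ↥(Cfsg.isometryGroup F (Cfsg.quadFormOdd m F)), A ^ r = 1 ∧ ∀ f ∈ powFactors F r,
      kdi ((A : Matrix.GeneralLinearGroup (Unit ⊕ (Fin m ⊕ Fin m)) F) :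
        Matrix (Unit ⊕ (Fin m ⊕ Fin m)) (Unit ⊕ (Fin m ⊕ Fin m)) F) f = f.natDegree * mm f := by
  obtain ⟨hs1, hs2⟩ := sum_cyc_deg r hr hr2 hrp mm hsym
  have hsplit : ∑ f ∈ powFactors F r, f.natDegree * mm f =
      (∑ f ∈ powFactors F r, (if f = X - 1 then 0 else f.natDegree * mm f)) + mm (X - 1) := by
    have h0 : mm (X - 1) = ∑ f ∈ powFactors F r, (if f = X - 1 then mm f else 0) := by
      rw [Finset.sum_ite_eq', if_pos (X_sub_one_mem_pow r)]
    rw [h0, ← Finset.sum_add_distrib]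
    apply Finset.sum_congr rfl
    intro f _
    by_cases hf : f = X - 1
    · rw [if_pos hf, if_pos hf, zero_add, hf, x0deg', one_mul]
    · rw [if_neg hf, if_neg hf, add_zero]
  obtain ⟨j, hj⟩ : ∃ j, mm (X - 1 : F[X]) = 2 * j + 1 := by
    rw [hs1] at hsplit
    obtain ⟨k, hk⟩ := hs2
    refine ⟨m - k, ?_⟩
    omega
  have hnd : ∀ x, (∀ y, polar (stdOdd F j) x y = 0) → x = 0 :=
    fun x hx => (stdOdd_nondegenerate F j h2).1 x hx
  have hfr : finrank F (Unit ⊕ (Fin j ⊕ Fin j) → F) = 2 * j + 1 := by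
    rw [Module.finrank_fintype_fun_eq_card, Fintype.card_sum, Fintype.card_sum, Fintype.card_fin,
      Fintype.card_unit]
    ring
  have h3 := oReal_add _ r _ _ (oReal_cyc r hr hr2 hrp mm hsym)
    (oReal_triv r hr hrp (stdOdd F j) hnd)
  have h4 : OReal (powFactors F r) r (fun f => f.natDegree * mm f) := by
    apply oReal_congr _ r _ _ _ h3
    intro f _
    by_cases hf : f = X - 1
    · simp only [if_pos hf]
      rw [zero_add, hfr, hf, x0deg', one_mul, hj]
    · simp only [if_neg hf]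
      rw [add_zero]
  exact exists_Oodd r hr hrp _ m h4 hsum

end Cfsg.Agent.Helper44.OBlocks
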