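import Mathlib

set_option autoImplicit false

/-!
Abstract group theory for counting classes of elements of prime order in a central quotient.
-/

namespace Cfsg.Agent.Helper44.PGU

section quot

variable {G : Type*} [Group G]

/-- order of an image in a quotient -/
lemma orderOf_mk_eq_prime_iff (N : Subgroup G) [N.Normal] (r : ℕ) (hr : r.Prime) (g : G) :
    orderOf (g : G ⧸ N) = r ↔ g ∉ N ∧ g ^ r ∈ N := by
  have : Fact r.Prime := ⟨hr⟩
  rw [orderOf_eq_prime_iff, ← QuotientGroup.mk_pow, QuotientGroup.eq_one_iff, ne_eq,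
    QuotientGroup.eq_one_iff]
  exact and_comm

lemma mk_central_mul (z g : G) (hz : z ∈ Subgroup.center G) :
    ((z * g : G) : G ⧸ Subgroup.center G) = (g : G ⧸ Subgroup.center G) := by
  rw [QuotientGroup.mk_mul, (QuotientGroup.eq_one_iff z).mpr hz, one_mul]

lemma isConj_mk_iff (g g' : G) :
    IsConj (g : G ⧸ Subgroup.center G) (g' : G ⧸ Subgroup.center G) ↔
      ∃ h : G, ∃ z ∈ Subgroup.center G, g' = z * (h * g * h⁻¹) := by
  rw [isConj_iff]
  constructor
  · rintro ⟨c, hc⟩
    obtain ⟨h, rfl⟩ := QuotientGroup.mk_surjective c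
    rw [← QuotientGroup.mk_inv, ← QuotientGroup.mk_mul, ← QuotientGroup.mk_mul,
      QuotientGroup.eq] at hc
    refine ⟨h, (h * g * h⁻¹)⁻¹ * g', hc, ?_⟩
    rw [Subgroup.mem_center_iff] at hc
    rw [← hc (h * g * h⁻¹)]
    group
  · rintro ⟨h, z, hz, rfl⟩
    refine ⟨(h : G ⧸ Subgroup.center G), ?_⟩
    rw [mk_central_mul z _ hz, QuotientGroup.mk_mul, QuotientGroup.mk_mul, QuotientGroup.mk_inv]

lemma central_mul_pow (z g : G) (hz : z ∈ Subgroup.center G) (k : ℕ) :
    (z * g) ^ k = z ^ k * g ^ k := by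
  have hc : Commute z g := by
    rw [Subgroup.mem_center_iff] at hz
    exact (hz g).symm
  exact hc.mul_pow k

lemma conj_pow' (h g : G) (k : ℕ) : (h * g * h⁻¹) ^ k = h * g ^ k * h⁻¹ := conj_pow

end quot

section classesA

variable {G R Y : Type*} [Group G] [Group R] [MulAction R Y]

/-- classes of `r`-th roots of one in the central quotient are the orbits of profiles -/
theorem card_classes_pow_quot (r : ℕ) (j : R →* G) (hjc : ∀ ζ, j ζ ∈ Subgroup.center G)
    (hj : ∀ z ∈ Subgroup.center G, z ^ r = 1 → ∃ ζ, j ζ = z) (hjr : ∀ ζ : R, ζ ^ r = 1)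
    (prof : G → Y) (hP1 : ∀ ζ g, g ^ r = 1 → prof (j ζ * g) = ζ • prof g)
    (hP2 : ∀ g g', g ^ r = 1 → g' ^ r = 1 → (prof g = prof g' ↔ IsConj g g'))
    (hP3 : ∀ y : Y, ∃ g, g ^ r = 1 ∧ prof g = y) :
    Nat.card {C : ConjClasses (G ⧸ Subgroup.center G) //
      ∃ g : G, ConjClasses.mk (g : G ⧸ Subgroup.center G) = C ∧ g ^ r = 1} =
      Nat.card (MulAction.orbitRel.Quotient R Y) := by
  have hlift : ∀ C : {C : ConjClasses (G ⧸ Subgroup.center G) //
      ∃ g : G, ConjClasses.mk (g : G ⧸ Subgroup.center G) = C ∧ g ^ r = 1},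
      ∃ g : G, ConjClasses.mk (g : G ⧸ Subgroup.center G) = C.1 ∧ g ^ r = 1 := fun C => C.2
  choose rep hrep1 hrep2 using hlift
  have hjpow : ∀ ζ g, g ^ r = 1 → (j ζ * g) ^ r = 1 := by
    intro ζ g hg
    rw [central_mul_pow _ _ (hjc ζ), hg, ← map_pow, hjr, map_one, one_mul]
  have hbij : Function.Bijective (fun C => (Quotient.mk'' (prof (rep C)) :
      MulAction.orbitRel.Quotient R Y)) := by
    constructor
    · intro C C' h
      have h1 : prof (rep C) ∈ MulAction.orbit R (prof (rep C')) := by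
        rw [← MulAction.orbitRel_apply]
        exact Quotient.eq''.mp h
      obtain ⟨ζ, hζ⟩ := h1
      have hζ' : ζ • prof (rep C') = prof (rep C) := hζ
      rw [← hP1 ζ _ (hrep2 C')] at hζ'
      have hc := (hP2 _ _ (hjpow ζ _ (hrep2 C')) (hrep2 C)).mp hζ'
      apply Subtype.ext
      rw [← hrep1 C, ← hrep1 C', ← mk_central_mul (j ζ) (rep C') (hjc ζ)]
      exact (ConjClasses.mk_eq_mk_iff_isConj.mpr ((QuotientGroup.mk' _).map_isConj hc)).symm
    · intro x
      induction x using Quotient.inductionOn' with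
      | h y =>
        obtain ⟨g, hg, rfl⟩ := hP3 y
        refine ⟨⟨ConjClasses.mk (g : G ⧸ Subgroup.center G), g, rfl, hg⟩, ?_⟩
        apply Quotient.sound'
        rw [MulAction.orbitRel_apply]
        set g₀ := rep ⟨ConjClasses.mk (g : G ⧸ Subgroup.center G), g, rfl, hg⟩ with hg₀
        have h1 : ConjClasses.mk (g₀ : G ⧸ Subgroup.center G) =
            ConjClasses.mk (g : G ⧸ Subgroup.center G) := hrep1 _
        have h2 : g₀ ^ r = 1 := hrep2 _
        obtain ⟨h, z, hz, hgz⟩ := (isConj_mk_iff g g₀).mp (ConjClasses.mk_eq_mk_iff_isConj.mp h1.symm)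
        have hzr : z ^ r = 1 := by
          have := h2
          rw [hgz, central_mul_pow _ _ hz, conj_pow', hg, mul_one, mul_inv_cancel, mul_one] at this
          exact this
        obtain ⟨ζ, rfl⟩ := hj z hz hzr
        refine ⟨ζ, ?_⟩
        show ζ • prof g = prof g₀
        have h3 : (h * g * h⁻¹) ^ r = 1 := by rw [conj_pow', hg, mul_one, mul_inv_cancel]
        rw [hgz, hP1 ζ _ h3]
        congr 1
        exact (hP2 _ _ hg h3).mpr (isConj_iff.mpr ⟨h, rfl⟩)
  exact Nat.card_eq_of_bijective _ hbij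

end classesA

section classesB

open scoped IsMulCommutative

variable {G : Type*} [Group G]

/-- the classes of order `r` in the central quotient not represented by an `r`-th root of one -/
def ExtraClass (r : ℕ) (C : ConjClasses (G ⧸ Subgroup.center G)) : Prop :=
  (∃ g : G ⧸ Subgroup.center G, ConjClasses.mk g = C ∧ orderOf g = r) ∧
    ¬ ∃ g : G, ConjClasses.mk (g : G ⧸ Subgroup.center G) = C ∧ g ^ r = 1

/-- not an `r`-th power of a central element -/
def NotPow (r : ℕ) (z : G) : Prop := ¬ ∃ c ∈ Subgroup.center G, c ^ r = z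

/-- the subgroup of `r`-th powers of central elements -/
def powCenter (G : Type*) [Group G] (r : ℕ) : Subgroup ↥(Subgroup.center G) :=
  (powMonoidHom (α := ↥(Subgroup.center G)) r).range

lemma mem_powCenter (r : ℕ) (z : ↥(Subgroup.center G)) :
    z ∈ powCenter G r ↔ ∃ c : ↥(Subgroup.center G), c ^ r = z := by
  unfold powCenter
  rw [MonoidHom.mem_range]
  rfl

lemma orderOf_eq_of_isConj {H : Type*} [Group H] (a b : H) (h : IsConj a b) :
    orderOf a = orderOf b := by
  obtain ⟨c, rfl⟩ := isConj_iff.mp h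
  exact (orderOf_injective (MulAut.conj c).toMonoidHom (MulAut.conj c).injective a).symm

lemma extra_any (r : ℕ) (hr : r.Prime) (C : ConjClasses (G ⧸ Subgroup.center G))
    (hC : ExtraClass r C) (g : G) (hg : ConjClasses.mk (g : G ⧸ Subgroup.center G) = C) :
    g ∉ Subgroup.center G ∧ g ^ r ∈ Subgroup.center G ∧ NotPow r (g ^ r) := by
  obtain ⟨⟨g', hg', hord⟩, hno⟩ := hC
  have hc : IsConj (g : G ⧸ Subgroup.center G) g' :=
    ConjClasses.mk_eq_mk_iff_isConj.mp (hg.trans hg'.symm)
  have hord' : orderOf (g : G ⧸ Subgroup.center G) = r := by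
    rw [orderOf_eq_of_isConj _ _ hc, hord]
  obtain ⟨h1, h2⟩ := (orderOf_mk_eq_prime_iff (Subgroup.center G) r hr g).mp hord'
  refine ⟨h1, h2, ?_⟩
  rintro ⟨c, hc, hcr⟩
  apply hno
  refine ⟨c⁻¹ * g, ?_, ?_⟩
  · rw [mk_central_mul _ _ (inv_mem hc), hg]
  · rw [central_mul_pow _ _ (inv_mem hc), inv_pow, hcr, inv_mul_cancel]

lemma extra_rep (r : ℕ) (hr : r.Prime) (C : ConjClasses (G ⧸ Subgroup.center G))
    (hC : ExtraClass r C) :
    ∃ g : G, ConjClasses.mk (g : G ⧸ Subgroup.center G) = C ∧ g ∉ Subgroup.center G ∧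
      g ^ r ∈ Subgroup.center G ∧ NotPow r (g ^ r) := by
  obtain ⟨g', hg', _⟩ := hC.1
  obtain ⟨g, rfl⟩ := QuotientGroup.mk_surjective g'
  exact ⟨g, hg', extra_any r hr C hC g hg'⟩

theorem card_extra_zero (r : ℕ) (hr : r.Prime)
    (hN : ∀ g : G, g ^ r ∈ Subgroup.center G → NotPow r (g ^ r) → False) :
    Nat.card {C : ConjClasses (G ⧸ Subgroup.center G) // ExtraClass r C} = 0 := by
  have : IsEmpty {C : ConjClasses (G ⧸ Subgroup.center G) // ExtraClass r C} := by
    refine ⟨fun C => ?_⟩
    obtain ⟨g, _, _, h3, h4⟩ := extra_rep r hr C.1 C.2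
    exact hN g h3 h4
  exact Nat.card_of_isEmpty

theorem card_extra (r : ℕ) (hr : r.Prime)
    (hU : ∀ g g' : G, g ^ r ∈ Subgroup.center G → NotPow r (g ^ r) → g' ^ r = g ^ r →
      IsConj g g')
    (hE : ∀ z ∈ Subgroup.center G, NotPow r z → ∃ g : G, g ^ r = z) :
    Nat.card {C : ConjClasses (G ⧸ Subgroup.center G) // ExtraClass r C} =
      Nat.card {x : ↥(Subgroup.center G) ⧸
        powCenter G r // x ≠ 1} := by
  have hlift : ∀ C : {C : ConjClasses (G ⧸ Subgroup.center G) // ExtraClass r C},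
      ∃ g : G, ConjClasses.mk (g : G ⧸ Subgroup.center G) = C.1 ∧ g ∉ Subgroup.center G ∧
        g ^ r ∈ Subgroup.center G ∧ NotPow r (g ^ r) := fun C => extra_rep r hr C.1 C.2
  choose rep h1 h2 h3 h4 using hlift
  have hmemP : ∀ z : ↥(Subgroup.center G),
      z ∈ powCenter G r →
      ¬ NotPow r (z : G) := by
    intro z hzP hn
    obtain ⟨c, hc⟩ := (mem_powCenter r z).mp hzP
    apply hn
    refine ⟨c.1, c.2, ?_⟩
    have := congrArg Subtype.val hc
    simpa using this
  have hne : ∀ C, ((⟨rep C ^ r, h3 C⟩ : ↥(Subgroup.center G)) : ↥(Subgroup.center G) ⧸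
      powCenter G r) ≠ 1 := by
    intro C h
    rw [QuotientGroup.eq_one_iff] at h
    exact hmemP _ h (h4 C)
  have hbij : Function.Bijective (fun C => (⟨_, hne C⟩ : {x : ↥(Subgroup.center G) ⧸
      powCenter G r // x ≠ 1})) := by
    constructor
    · intro C C' h
      have h5 := congrArg Subtype.val h
      simp only at h5
      rw [QuotientGroup.eq] at h5
      obtain ⟨c, hc⟩ := (mem_powCenter r _).mp h5
      have hc' : (c : G) ^ r = (rep C ^ r)⁻¹ * rep C' ^ r := by
        have := congrArg Subtype.val hc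
        simpa using this
      have h6 : ((c : G) * rep C) ^ r = rep C' ^ r := by
        rw [central_mul_pow _ _ c.2, hc']
        have hcomm := (Subgroup.mem_center_iff.mp (h3 C')) ((rep C ^ r)⁻¹)
        rw [hcomm, inv_mul_cancel_right]
      have h7 := hU (rep C') ((c : G) * rep C) (h3 C') (h4 C') h6
      apply Subtype.ext
      rw [← h1 C, ← h1 C', ← mk_central_mul (c : G) (rep C) c.2]
      exact (ConjClasses.mk_eq_mk_iff_isConj.mpr ((QuotientGroup.mk' _).map_isConj h7)).symm
    · rintro ⟨x, hx⟩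
      obtain ⟨z, rfl⟩ := QuotientGroup.mk_surjective x
      have hz : NotPow r (z : G) := by
        rintro ⟨c, hc, hcr⟩
        apply hx
        rw [QuotientGroup.eq_one_iff, mem_powCenter]
        exact ⟨⟨c, hc⟩, Subtype.ext (by simpa using hcr)⟩
      obtain ⟨g, hg⟩ := hE z.1 z.2 hz
      have hgc : g ∉ Subgroup.center G := fun h => hz ⟨g, h, hg⟩
      have hgr : g ^ r ∈ Subgroup.center G := by rw [hg]; exact z.2
      have hord : orderOf (g : G ⧸ Subgroup.center G) = r :=
        (orderOf_mk_eq_prime_iff (Subgroup.center G) r hr g).mpr ⟨hgc, hgr⟩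
      have hex : ExtraClass r (ConjClasses.mk (g : G ⧸ Subgroup.center G)) := by
        refine ⟨⟨_, rfl, hord⟩, ?_⟩
        rintro ⟨g', hg', hg'r⟩
        obtain ⟨h, z', hz', hgz⟩ := (isConj_mk_iff g' g).mp (ConjClasses.mk_eq_mk_iff_isConj.mp hg')
        apply hz
        refine ⟨z', hz', ?_⟩
        rw [← hg, hgz, central_mul_pow _ _ hz', conj_pow', hg'r, mul_one, mul_inv_cancel, mul_one]
      refine ⟨⟨_, hex⟩, ?_⟩
      apply Subtype.ext
      show ((⟨rep ⟨_, hex⟩ ^ r, h3 _⟩ : ↥(Subgroup.center G)) : ↥(Subgroup.center G) ⧸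
        powCenter G r) = (z : _ ⧸ _)
      set g₀ := rep ⟨_, hex⟩ with hg₀
      have h8 : ConjClasses.mk (g₀ : G ⧸ Subgroup.center G) =
          ConjClasses.mk (g : G ⧸ Subgroup.center G) := h1 ⟨_, hex⟩
      obtain ⟨h, z', hz', hgz⟩ := (isConj_mk_iff g g₀).mp
        (ConjClasses.mk_eq_mk_iff_isConj.mp h8.symm)
      rw [eq_comm, QuotientGroup.eq, mem_powCenter]
      refine ⟨⟨z', hz'⟩, Subtype.ext ?_⟩
      show z' ^ r = (z : G)⁻¹ * g₀ ^ r
      rw [hgz, central_mul_pow _ _ hz', conj_pow', hg]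
      have hcomm := (Subgroup.mem_center_iff.mp z.2) h
      have hcomm2 := (Subgroup.mem_center_iff.mp z.2) (z' ^ r)
      rw [hcomm, mul_inv_cancel_right, hcomm2, inv_mul_cancel_left]
  exact Nat.card_eq_of_bijective _ hbij

theorem card_split_classes [Finite G] (r : ℕ) (hr : r.Prime) :
    Nat.card {C : ConjClasses (G ⧸ Subgroup.center G) //
      ∃ g : G ⧸ Subgroup.center G, ConjClasses.mk g = C ∧ orderOf g = r} + 1 =
    Nat.card {C : ConjClasses (G ⧸ Subgroup.center G) //
      ∃ g : G, ConjClasses.mk (g : G ⧸ Subgroup.center G) = C ∧ g ^ r = 1} +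
    Nat.card {C : ConjClasses (G ⧸ Subgroup.center G) // ExtraClass r C} := by
  classical
  have : Fintype (ConjClasses (G ⧸ Subgroup.center G)) := Fintype.ofFinite _
  set T : ConjClasses (G ⧸ Subgroup.center G) → Prop :=
    fun C => ∃ g : G ⧸ Subgroup.center G, ConjClasses.mk g = C ∧ orderOf g = r with hT
  set A : ConjClasses (G ⧸ Subgroup.center G) → Prop :=
    fun C => ∃ g : G, ConjClasses.mk (g : G ⧸ Subgroup.center G) = C ∧ g ^ r = 1 with hA
  have hE : ∀ C, ExtraClass r C ↔ T C ∧ ¬ A C := fun C => Iff.rfl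
  have hT1 : ∀ C, T C → C ≠ ConjClasses.mk (1 : G ⧸ Subgroup.center G) := by
    rintro C ⟨g, rfl, hg⟩ h
    have h1 : g = 1 := isConj_one_right.mp (ConjClasses.mk_eq_mk_iff_isConj.mp h).symm
    rw [h1, orderOf_one] at hg
    exact hr.one_lt.ne hg
  have hA1 : ∀ C, A C ↔ (T C ∧ A C) ∨ C = ConjClasses.mk (1 : G ⧸ Subgroup.center G) := by
    intro C
    constructor
    · rintro ⟨g, rfl, hg⟩
      by_cases h1 : (g : G ⧸ Subgroup.center G) = 1
      · right; rw [h1]
      · left
        refine ⟨⟨_, rfl, ?_⟩, g, rfl, hg⟩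
        have : Fact r.Prime := ⟨hr⟩
        rw [orderOf_eq_prime_iff]
        exact ⟨by rw [← QuotientGroup.mk_pow, hg, QuotientGroup.mk_one], h1⟩
    · rintro (h | rfl)
      · exact h.2
      · exact ⟨1, by rw [QuotientGroup.mk_one], one_pow r⟩
  rw [Nat.card_eq_fintype_card, Nat.card_eq_fintype_card, Nat.card_eq_fintype_card,
    Fintype.card_subtype, Fintype.card_subtype, Fintype.card_subtype]
  show (Finset.univ.filter T).card + 1 = (Finset.univ.filter A).card +
    (Finset.univ.filter (fun C : ConjClasses (G ⧸ Subgroup.center G) => ExtraClass r C)).card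
  have h1 : (Finset.univ.filter A).card = (Finset.univ.filter (fun C => T C ∧ A C)).card + 1 := by
    have : Finset.univ.filter A = insert (ConjClasses.mk (1 : G ⧸ Subgroup.center G)) (Finset.univ.filter (fun C => T C ∧ A C)) := by
      ext C
      simp only [Finset.mem_filter, Finset.mem_univ, true_and, Finset.mem_insert]
      exact (hA1 C).trans or_comm
    rw [this, Finset.card_insert_of_notMem]
    simp only [Finset.mem_filter, Finset.mem_univ, true_and, not_and]
    intro h
    exact absurd rfl (hT1 _ h)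
  have h2 : (Finset.univ.filter T).card =
      (Finset.univ.filter (fun C => T C ∧ A C)).card +
        (Finset.univ.filter (fun C : ConjClasses (G ⧸ Subgroup.center G) => ExtraClass r C)).card := by
    rw [← Finset.card_union_of_disjoint]
    · congr 1
      ext C
      simp only [Finset.mem_filter, Finset.mem_univ, true_and, Finset.mem_union, hE]
      by_cases hAC : A C
      · simp only [hAC, and_true, not_true_eq_false, and_false, or_false]
      · simp only [hAC, and_false, not_false_eq_true, and_true, false_or]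
    · rw [Finset.disjoint_filter]
      intro C _ h1 h2
      exact ((hE C).mp h2).2 h1.2
  rw [h1, h2]
  ring

end classesB

section burnside

theorem card_orbits_mul_prime {R Y : Type*} [Group R] [Finite R] [Finite Y] [MulAction R Y]
    (r : ℕ) (hr : r.Prime) (hR : Nat.card R = r) :
    Nat.card (MulAction.orbitRel.Quotient R Y) * r =
      Nat.card Y + (r - 1) * Nat.card (MulAction.fixedPoints R Y) := by
  classical
  have : Fact r.Prime := ⟨hr⟩
  have : Fintype R := Fintype.ofFinite _
  have : Fintype Y := Fintype.ofFinite _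
  have : Fintype (MulAction.orbitRel.Quotient R Y) := Fintype.ofFinite _
  have hB := MulAction.sum_card_fixedBy_eq_card_orbits_mul_card_group R Y
  have hfix : ∀ a : R, a ≠ 1 → Fintype.card (MulAction.fixedBy Y a) =
      Nat.card (MulAction.fixedPoints R Y) := by
    intro a ha
    rw [← Nat.card_eq_fintype_card]
    apply Nat.card_congr
    apply Equiv.subtypeEquivRight
    intro y
    rw [MulAction.mem_fixedBy, MulAction.mem_fixedPoints]
    constructor
    · intro h b
      have h1 : a ∈ MulAction.stabilizer R y := h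
      have h2 : Subgroup.zpowers a ≤ MulAction.stabilizer R y :=
        (Subgroup.zpowers_le).mpr h1
      rw [zpowers_eq_top_of_prime_card hR ha] at h2
      exact h2 (Subgroup.mem_top b)
    · intro h
      exact h a
  have h1 : Fintype.card (MulAction.fixedBy Y (1 : R)) = Nat.card Y := by
    rw [← Nat.card_eq_fintype_card]
    apply Nat.card_congr
    rw [MulAction.fixedBy_one_eq_univ]
    exact Equiv.Set.univ Y
  rw [← Finset.add_sum_erase Finset.univ _ (Finset.mem_univ (1 : R)), h1,
    Finset.sum_congr rfl (fun a ha => hfix a (Finset.ne_of_mem_erase ha)), Finset.sum_const,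
    Finset.card_erase_of_mem (Finset.mem_univ _), Finset.card_univ, ← Nat.card_eq_fintype_card (α := R),
    hR, smul_eq_mul] at hB
  rw [Nat.card_eq_fintype_card (α := MulAction.orbitRel.Quotient R Y), ← hB]

end burnside

end Cfsg.Agent.Helper44.PGU
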