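import Mathlib
import Cfsg.Agent.Lib.Helper44.PGUa
import Cfsg.Agent.Lib.Helper42.SemiConj7

set_option autoImplicit false
set_option linter.unusedSectionVars false

/-!
Profiles (multiplicity functions) on a finite group, the translation action and its orbits.
-/

namespace Cfsg.Agent.Helper44.PGU

open Cfsg.Agent.Helper42.SemiConj

section prof

variable (R : Type*) [Group R] [Fintype R] (n : ℕ)

/-- multiplicity functions of total `n` -/
abbrev Prof : Type _ := {m : R → ℕ // ∑ ω, m ω = n}

variable {R n}

instance profMulAction : MulAction R (Prof R n) where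
  smul ζ m := ⟨fun ω => m.1 (ζ⁻¹ * ω), (Equiv.sum_comp (Equiv.mulLeft ζ⁻¹) m.1).trans m.2⟩
  one_smul m := by
    apply Subtype.ext
    funext ω
    show m.1 ((1 : R)⁻¹ * ω) = m.1 ω
    rw [inv_one, one_mul]
  mul_smul a b m := by
    apply Subtype.ext
    funext ω
    show m.1 ((a * b)⁻¹ * ω) = m.1 (b⁻¹ * (a⁻¹ * ω))
    rw [mul_inv_rev, mul_assoc]

lemma prof_smul_apply (ζ : R) (m : Prof R n) (ω : R) : (ζ • m).1 ω = m.1 (ζ⁻¹ * ω) := rfl

instance profFinite : Finite (Prof R n) := by
  classical
  have : Fintype (Prof R n) := by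
    unfold Prof
    have e : {m : R → ℕ // ∑ ω, m ω = n} ≃ Sym R n := (Sym.equivNatSumOfFintype R n).symm
    exact Fintype.ofEquiv _ e.symm
  infer_instance

lemma card_prof : Nat.card (Prof R n) = (Fintype.card R + n - 1).choose n :=
  card_compositions R n

lemma card_fixed_prof (hR : 0 < Fintype.card R) :
    Nat.card (MulAction.fixedPoints R (Prof R n)) = if Fintype.card R ∣ n then 1 else 0 := by
  have hconst : ∀ m : Prof R n, m ∈ MulAction.fixedPoints R (Prof R n) → ∀ ω, m.1 ω = m.1 1 := by
    intro m hm ω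
    have h1 := congrArg (fun x : Prof R n => x.1 ω) (hm ω)
    simp only [prof_smul_apply, inv_mul_cancel] at h1
    exact h1.symm
  split_ifs with hd
  · obtain ⟨c, hc⟩ := hd
    have hmem : (⟨fun _ => c, by
        rw [Finset.sum_const, Finset.card_univ, smul_eq_mul, hc]⟩ : Prof R n) ∈
        MulAction.fixedPoints R (Prof R n) := by
      intro ζ
      apply Subtype.ext
      funext ω
      rfl
    rw [Nat.card_eq_one_iff_unique]
    refine ⟨⟨fun a b => ?_⟩, ⟨⟨_, hmem⟩⟩⟩
    apply Subtype.ext
    apply Subtype.ext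
    funext ω
    have ha := hconst a.1 a.2
    have hb := hconst b.1 b.2
    have hsa := a.1.2
    have hsb := b.1.2
    rw [Finset.sum_congr rfl (fun ω _ => ha ω), Finset.sum_const, Finset.card_univ,
      smul_eq_mul] at hsa
    rw [Finset.sum_congr rfl (fun ω _ => hb ω), Finset.sum_const, Finset.card_univ,
      smul_eq_mul] at hsb
    rw [ha ω, hb ω]
    exact Nat.eq_of_mul_eq_mul_left hR (hsa.trans hsb.symm)
  · have : IsEmpty (MulAction.fixedPoints R (Prof R n)) := by
      refine ⟨fun a => hd ?_⟩
      have ha := hconst a.1 a.2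
      have hsa := a.1.2
      rw [Finset.sum_congr rfl (fun ω _ => ha ω), Finset.sum_const, Finset.card_univ,
        smul_eq_mul] at hsa
      exact ⟨_, hsa.symm⟩
    exact Nat.card_of_isEmpty

theorem card_orbits_prof (r : ℕ) (hr : r.Prime) (hR : Fintype.card R = r) :
    Nat.card (MulAction.orbitRel.Quotient R (Prof R n)) * r =
      (n + r - 1).choose (r - 1) + (r - 1) * (if r ∣ n then 1 else 0) := by
  have h1 := card_orbits_mul_prime (R := R) (Y := Prof R n) r hr
    (by rw [Nat.card_eq_fintype_card, hR])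
  rw [card_prof, card_fixed_prof (by rw [hR]; exact hr.pos), hR] at h1
  rw [h1]
  congr 1
  have h2 : r + n - 1 = n + (r - 1) := by have := hr.pos; omega
  have h3 : n + r - 1 = n + (r - 1) := by have := hr.pos; omega
  rw [h2, h3, Nat.choose_symm_add]

end prof

end Cfsg.Agent.Helper44.PGU
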