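import Mathlib
import Cfsg.Agent.Lib.Helper44.KdIdx
import Cfsg.Agent.S2642

set_option autoImplicit false
set_option linter.unusedSectionVars false

/-!
The twisted involution `f ↦ (f*)^σ` (`σ` the `q`-Frobenius of a field with `q²` elements) on the
monic irreducible factors of `X ^ r - 1`; it fixes the cyclotomic factors iff the order of
`q` mod `r` is `≡ 2 (mod 4)`, and fixes none of them otherwise.
-/

namespace Cfsg.Agent.Helper44.TwInv

open Polynomial Module
open Cfsg.Agent.Helper42.SemiConj Cfsg.Agent.Helper44.StarInv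

universe u

section tw

variable {K : Type u} [Field K] [Fintype K] {p : ℕ} [Fact p.Prime] [CharP K p]

/-- uniqueness characterisation of `star` -/
lemma eq_star_of_dvd_comp (r : ℕ) (g h : K[X]) (hg : g ∈ powFactors K r)
    (hh : h ∈ powFactors K r) (hd : g ∣ h.comp (X ^ (r - 1))) : h = star r g := by
  have hgirr := powFactors_irr r g hg
  have : Fact (Irreducible g) := ⟨hgirr⟩
  have h0 : aeval ((AdjoinRoot.root g) ^ (r - 1)) h = 0 := by
    rw [← AdjoinRoot.mk_eq_zero, ← AdjoinRoot.aeval_eq, aeval_comp, map_pow, aeval_X] at hd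
    exact hd
  exact minpoly.eq_of_irreducible_of_monic (powFactors_irr r h hh) h0 (powFactors_monic r h hh)

variable (σ : K →+* K)

lemma map_irreducible (hσ : Function.Bijective σ) (f : K[X]) (hf : Irreducible f) :
    Irreducible (f.map σ) := by
  let e : K ≃+* K := RingEquiv.ofBijective σ hσ
  have h1 : f.map σ = Polynomial.mapEquiv e f := rfl
  rw [h1]
  exact (MulEquiv.irreducible_iff (Polynomial.mapEquiv e)).mpr hf

lemma map_X_pow_sub_one (r : ℕ) : (X ^ r - 1 : K[X]).map σ = X ^ r - 1 := by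
  rw [Polynomial.map_sub, Polynomial.map_pow, Polynomial.map_X, Polynomial.map_one]

lemma map_X_sub_one : (X - 1 : K[X]).map σ = X - 1 := by
  rw [Polynomial.map_sub, Polynomial.map_X, Polynomial.map_one]

lemma map_mem_pow (hσ : Function.Bijective σ) (r : ℕ) (hr : r.Prime) (hrp : r ≠ p) (f : K[X])
    (hf : f ∈ powFactors K r) : f.map σ ∈ powFactors K r := by
  apply mem_powFactors_of_dvd r hr hrp
  · exact map_irreducible σ hσ f (powFactors_irr r f hf)
  · exact (powFactors_monic r f hf).map σ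
  · have := Polynomial.map_dvd σ (powFactors_dvd r hr hrp f hf)
    rw [map_X_pow_sub_one] at this
    exact this

lemma star_map (hσ : Function.Bijective σ) (r : ℕ) (hr : r.Prime) (hrp : r ≠ p) (f : K[X])
    (hf : f ∈ powFactors K r) : star r (f.map σ) = (star r f).map σ := by
  symm
  apply eq_star_of_dvd_comp r (f.map σ) ((star r f).map σ) (map_mem_pow σ hσ r hr hrp f hf)
    (map_mem_pow σ hσ r hr hrp _ (star_mem r hr hrp f hf))
  have h := Polynomial.map_dvd σ (dvd_star_comp r f)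
  rw [Polynomial.map_comp, Polynomial.map_pow, Polynomial.map_X] at h
  exact h

lemma map_map_self (hσσ : ∀ x, σ (σ x) = x) (f : K[X]) : (f.map σ).map σ = f := by
  rw [Polynomial.map_map]
  have : σ.comp σ = RingHom.id K := RingHom.ext hσσ
  rw [this, Polynomial.map_id]

/-- the twisted involution -/
noncomputable def tw (r : ℕ) (f : K[X]) : K[X] := (star r f).map σ

lemma tw_mem (hσ : Function.Bijective σ) (r : ℕ) (hr : r.Prime) (hrp : r ≠ p) (f : K[X])
    (hf : f ∈ powFactors K r) : tw σ r f ∈ powFactors K r :=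
  map_mem_pow σ hσ r hr hrp _ (star_mem r hr hrp f hf)

lemma tw_eq (hσ : Function.Bijective σ) (r : ℕ) (hr : r.Prime) (hrp : r ≠ p) (f : K[X])
    (hf : f ∈ powFactors K r) : tw σ r f = star r (f.map σ) :=
  (star_map σ hσ r hr hrp f hf).symm

lemma tw_tw (hσ : Function.Bijective σ) (hσσ : ∀ x, σ (σ x) = x) (r : ℕ) (hr : r.Prime)
    (hrp : r ≠ p) (f : K[X]) (hf : f ∈ powFactors K r) : tw σ r (tw σ r f) = f := by
  unfold tw
  rw [star_map σ hσ r hr hrp _ (star_mem r hr hrp f hf), star_star r hr hrp f hf,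
    map_map_self σ hσσ]

lemma natDegree_tw (r : ℕ) (hr : r.Prime) (hrp : r ≠ p) (f : K[X])
    (hf : f ∈ powFactors K r) : (tw σ r f).natDegree = f.natDegree := by
  unfold tw
  rw [Polynomial.natDegree_map, natDegree_star r hr hrp f hf]

lemma tw_X_sub_one (r : ℕ) : tw σ r (X - 1 : K[X]) = X - 1 := by
  unfold tw
  rw [star_X_sub_one, map_X_sub_one]

lemma tw_mem_cyc (hσ : Function.Bijective σ) (hσσ : ∀ x, σ (σ x) = x) (r : ℕ) (hr : r.Prime)
    (hrp : r ≠ p) (f : K[X]) (hf : f ∈ cycFactors K r) : tw σ r f ∈ cycFactors K r := by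
  have hfp := mem_pow_of_mem_cyc r f hf
  apply mem_cyc_of_mem_pow r _ (tw_mem σ hσ r hr hrp f hfp)
  intro h
  have h1 := tw_tw σ hσ hσσ r hr hrp f hfp
  rw [h, tw_X_sub_one] at h1
  rw [← h1] at hf
  exact X_sub_one_notMem_cyc r hr hrp hf

/-- `tw f = f` iff `ρ⁻¹` is a root of `f^σ` -/
lemma tw_eq_self_iff (hσ : Function.Bijective σ) (hσσ : ∀ x, σ (σ x) = x) (r : ℕ)
    (hr : r.Prime) (hrp : r ≠ p) (f : K[X]) (hf : f ∈ powFactors K r) :
    tw σ r f = f ↔ aeval ((AdjoinRoot.root f) ^ (r - 1)) (f.map σ) = 0 := by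
  have hirr := powFactors_irr r f hf
  have : Fact (Irreducible f) := ⟨hirr⟩
  constructor
  · intro h
    have h1 : star r f = f.map σ := by
      have := congrArg (Polynomial.map σ) h
      unfold tw at this
      rw [map_map_self σ hσσ] at this
      exact this
    rw [← h1]
    exact minpoly.aeval K _
  · intro h
    have hm := map_mem_pow σ hσ r hr hrp f hf
    have h1 : f.map σ = star r f :=
      minpoly.eq_of_irreducible_of_monic (powFactors_irr r _ hm) h (powFactors_monic r _ hm)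
    unfold tw
    rw [← h1, map_map_self σ hσσ]

end tw

section frob

variable {K : Type u} [Field K] [Fintype K] {p : ℕ} [Fact p.Prime] [CharP K p]

/-- Frobenius twist of polynomial evaluation -/
lemma aeval_pow_map {L : Type*} [CommRing L] [Algebra K L] [CharP L p] (a : ℕ) (g : K[X])
    (y : L) :
    aeval (y ^ p ^ a) (g.map (iterateFrobenius K p a)) = (aeval y g) ^ p ^ a := by
  have h1 : (aeval y g) ^ p ^ a = iterateFrobenius L p a (aeval y g) :=
    (iterateFrobenius_def p a _).symm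
  rw [h1, aeval_def, aeval_def, Polynomial.hom_eval₂, Polynomial.eval₂_map, iterateFrobenius_def]
  congr 1
  apply RingHom.ext
  intro x
  simp only [RingHom.comp_apply, iterateFrobenius_def, map_pow]

/-- the roots of an irreducible polynomial in its root field are the Frobenius conjugates -/
lemma root_eq_frob_pow (f : K[X]) (hirr : Irreducible f) (hm : f.Monic) (x : AdjoinRoot f)
    (hx : aeval x f = 0) : ∃ n : ℕ, x = (AdjoinRoot.root f) ^ (Fintype.card K ^ n) := by
  have : Fact (Irreducible f) := ⟨hirr⟩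
  have hfin : Module.Finite K (AdjoinRoot f) := (AdjoinRoot.powerBasis hirr.ne_zero).finite
  have : Finite (AdjoinRoot f) := Module.finite_of_finite K
  have hmin : minpoly K (AdjoinRoot.root f) = f := by
    rw [AdjoinRoot.minpoly_root hirr.ne_zero, hm.leadingCoeff, inv_one, map_one, mul_one]
  have halg : IsAlgebraic K (AdjoinRoot.root f) := Algebra.IsAlgebraic.isAlgebraic _
  obtain ⟨τ, hτ⟩ := minpoly.exists_algEquiv_of_root' halg (by rw [hmin]; exact hx)
  obtain ⟨n, hn⟩ := (FiniteField.bijective_frobeniusAlgEquivOfAlgebraic_pow K (AdjoinRoot f)).2 τ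
  refine ⟨n.1, ?_⟩
  rw [← hτ, ← hn]
  show (FiniteField.frobeniusAlgEquivOfAlgebraic K (AdjoinRoot f) ^ n.1) (AdjoinRoot.root f) = _
  rw [AlgEquiv.coe_pow, FiniteField.coe_frobeniusAlgEquivOfAlgebraic_iterate]

/-- Frobenius conjugates of the root are roots -/
lemma aeval_root_frob_pow (f : K[X]) (n : ℕ) :
    aeval ((AdjoinRoot.root f) ^ (Fintype.card K ^ n)) f = 0 := by
  let φ := FiniteField.frobeniusAlgHom K (AdjoinRoot f)
  have hφ : ∀ x : AdjoinRoot f, (φ ^ n) x = x ^ (Fintype.card K ^ n) := by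
    intro x
    rw [AlgHom.coe_pow, FiniteField.coe_frobeniusAlgHom, pow_iterate]
  rw [← hφ, Polynomial.aeval_algHom_apply, AdjoinRoot.aeval_eq, AdjoinRoot.mk_self, map_zero]

lemma orderOf_root (r : ℕ) (hr : r.Prime) (hrp : r ≠ p) (f : K[X]) (hf : f ∈ cycFactors K r) :
    orderOf (AdjoinRoot.root f) = r := by
  have : Fact r.Prime := ⟨hr⟩
  exact orderOf_eq_prime
    (root_pow r f (powFactors_dvd r hr hrp f (mem_pow_of_mem_cyc r f hf)))
    (root_ne_one r hr hrp f hf)

end frob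

section parity

variable {K : Type u} [Field K] [Fintype K] {p : ℕ} [Fact p.Prime] [CharP K p]

lemma frob_sq (a : ℕ) (hK : Fintype.card K = (p ^ a) ^ 2) (x : K) :
    iterateFrobenius K p a (iterateFrobenius K p a x) = x := by
  rw [iterateFrobenius_def, iterateFrobenius_def, ← pow_mul, ← pow_two, ← hK,
    FiniteField.pow_card]

lemma frob_bij (a : ℕ) : Function.Bijective (iterateFrobenius K p a) :=
  Finite.injective_iff_bijective.1 (RingHom.injective _)

theorem tw_eq_self_of_mod4 (a r : ℕ) (hK : Fintype.card K = (p ^ a) ^ 2) (hr : r.Prime)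
    (hrp : r ≠ p) (f : K[X]) (hf : f ∈ cycFactors K r)
    (h4 : orderOf ((p ^ a : ℕ) : ZMod r) % 4 = 2) :
    tw (iterateFrobenius K p a) r f = f := by
  have hfp := mem_pow_of_mem_cyc r f hf
  have hirr := cyc_irr r f hf
  have : Fact (Irreducible f) := ⟨hirr⟩
  have : Fact r.Prime := ⟨hr⟩
  have hcharL : CharP (AdjoinRoot f) p :=
    charP_of_injective_algebraMap (algebraMap K (AdjoinRoot f)).injective p
  rw [tw_eq_self_iff _ (frob_bij a) (frob_sq a hK) r hr hrp f hfp]
  set u := ((p ^ a : ℕ) : ZMod r) with hu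
  set i := orderOf u with hi
  obtain ⟨k, hk⟩ : ∃ k, i = 2 * (2 * k + 1) := ⟨i / 4, by omega⟩
  have hx2 : u ^ (2 * k + 1) * u ^ (2 * k + 1) = 1 := by
    rw [← pow_add, ← two_mul, ← hk]; exact pow_orderOf_eq_one _
  have hx1 : u ^ (2 * k + 1) ≠ 1 := by
    intro h
    have h1 := orderOf_dvd_of_pow_eq_one h
    have h2 := Nat.le_of_dvd (by omega) h1
    omega
  have hxm : u ^ (2 * k + 1) = -1 := by
    rcases mul_self_eq_one_iff.mp hx2 with h | h
    · exact absurd h hx1
    · exact h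
  have hdvd : r ∣ (p ^ a) ^ (2 * k + 1) + 1 := by
    rw [← ZMod.natCast_eq_zero_iff]
    rw [Nat.cast_add, Nat.cast_pow, ← hu, hxm]
    simp
  have hroot := root_pow r f (powFactors_dvd r hr hrp f hfp)
  have h1 : (AdjoinRoot.root f) ^ ((p ^ a) ^ (2 * k + 1)) * AdjoinRoot.root f = 1 := by
    rw [← pow_succ]
    obtain ⟨c, hc⟩ := hdvd
    rw [hc, pow_mul, hroot, one_pow]
  have h2 : (AdjoinRoot.root f) ^ (r - 1) * AdjoinRoot.root f = 1 := by
    rw [← pow_succ, Nat.sub_add_cancel hr.one_le, hroot]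
  have hne : AdjoinRoot.root f ≠ 0 := by
    intro h0
    rw [h0, zero_pow hr.ne_zero] at hroot
    exact zero_ne_one hroot
  have h3 : (AdjoinRoot.root f) ^ (r - 1) = (AdjoinRoot.root f) ^ ((p ^ a) ^ (2 * k + 1)) :=
    mul_right_cancel₀ hne (h2.trans h1.symm)
  have h4' : (p ^ a) ^ (2 * k + 1) = Fintype.card K ^ k * p ^ a := by
    rw [hK]; ring
  rw [h3, h4', pow_mul, aeval_pow_map, aeval_root_frob_pow, zero_pow]
  exact (pow_pos (Fact.out : p.Prime).pos a).ne'

theorem mod4_of_tw_eq_self (a r : ℕ) (hK : Fintype.card K = (p ^ a) ^ 2) (hr : r.Prime)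
    (hr2 : r ≠ 2) (hrp : r ≠ p) (f : K[X]) (hf : f ∈ cycFactors K r)
    (h : tw (iterateFrobenius K p a) r f = f) :
    orderOf ((p ^ a : ℕ) : ZMod r) % 4 = 2 := by
  have hfp := mem_pow_of_mem_cyc r f hf
  have hirr := cyc_irr r f hf
  have : Fact (Irreducible f) := ⟨hirr⟩
  have : Fact r.Prime := ⟨hr⟩
  have hcharL : CharP (AdjoinRoot f) p :=
    charP_of_injective_algebraMap (algebraMap K (AdjoinRoot f)).injective p
  rw [tw_eq_self_iff _ (frob_bij a) (frob_sq a hK) r hr hrp f hfp] at h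
  have hroot := root_pow r f (powFactors_dvd r hr hrp f hfp)
  have h1 : aeval (((AdjoinRoot.root f) ^ (r - 1)) ^ p ^ a) f = 0 := by
    have := aeval_pow_map (K := K) a (f.map (iterateFrobenius K p a)) ((AdjoinRoot.root f) ^ (r - 1))
    rw [map_map_self _ (frob_sq a hK), h, zero_pow] at this
    · exact this
    · exact (pow_pos (Fact.out : p.Prime).pos a).ne'
  obtain ⟨n, hn⟩ := root_eq_frob_pow f hirr (powFactors_monic r f hfp) _ h1
  have hfo : IsOfFinOrder (AdjoinRoot.root f) := isOfFinOrder_iff_pow_eq_one.mpr ⟨r, hr.pos, hroot⟩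
  rw [← pow_mul, hfo.pow_eq_pow_iff_modEq, orderOf_root r hr hrp f hf,
    ← ZMod.natCast_eq_natCast_iff] at hn
  have hr1 : ((r - 1 : ℕ) : ZMod r) = -1 := by
    rw [Nat.cast_sub hr.one_le, ZMod.natCast_self, zero_sub, Nat.cast_one]
  rw [Nat.cast_mul, hr1, hK] at hn
  have hn' : (-1 : ZMod r) * ((p ^ a : ℕ) : ZMod r) = (((p ^ a : ℕ) : ZMod r) ^ 2) ^ n := by
    push_cast
    push_cast at hn
    exact hn
  clear hn
  set u := ((p ^ a : ℕ) : ZMod r) with hu
  have hn : -1 * u = (u ^ 2) ^ n := hn'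
  have hu0 : u ≠ 0 := by
    intro h0
    rw [hu, ZMod.natCast_eq_zero_iff] at h0
    have h2 : r ∣ p := hr.dvd_of_dvd_pow h0
    exact hrp ((Nat.prime_dvd_prime_iff_eq hr (Fact.out : p.Prime)).mp h2)
  have hodd : ∃ k, Odd k ∧ u ^ k = -1 := by
    rcases Nat.eq_zero_or_pos n with h0 | hpos
    · refine ⟨1, odd_one, ?_⟩
      rw [h0, pow_zero] at hn
      rw [pow_one]
      have : u = -(-1 * u) := by ring
      rw [this, hn]
    · obtain ⟨n', rfl⟩ : ∃ n', n = n' + 1 := ⟨n - 1, by omega⟩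
      refine ⟨2 * n' + 1, ⟨n', rfl⟩, ?_⟩
      apply mul_left_cancel₀ hu0
      have e1 : u * u ^ (2 * n' + 1) = (u ^ 2) ^ (n' + 1) := by ring
      rw [e1, ← hn]; ring
  obtain ⟨k, hkodd, hk⟩ := hodd
  set i := orderOf u with hi
  have hne1 : (-1 : ZMod r) ≠ 1 := by
    intro h'
    have h2 : ((2 : ℕ) : ZMod r) = 0 := by
      push_cast
      have : (2 : ZMod r) = 1 - (-1) := by ring
      rw [this, h', sub_self]
    rw [ZMod.natCast_eq_zero_iff] at h2
    exact hr2 ((Nat.prime_dvd_prime_iff_eq hr Nat.prime_two).mp h2)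
  have hd1 : i ∣ 2 * k := by
    apply orderOf_dvd_of_pow_eq_one
    rw [mul_comm, pow_mul, hk]; ring
  have hd2 : ¬ i ∣ k := by
    intro hd
    have := orderOf_dvd_iff_pow_eq_one.mp hd
    rw [hk] at this
    exact hne1 this
  rcases Nat.even_or_odd i with hie | hio
  · obtain ⟨j, hj⟩ := hie
    have hjk : j ∣ k := by
      have : 2 * j ∣ 2 * k := by rw [← two_mul] at hj; rw [← hj]; exact hd1
      exact (Nat.mul_dvd_mul_iff_left (by norm_num)).mp this
    have hjodd : Odd j := Odd.of_dvd_nat hkodd hjk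
    obtain ⟨l, hl⟩ := hjodd
    omega
  · exfalso
    apply hd2
    have hcop : Nat.Coprime i 2 := Nat.Coprime.symm (Nat.coprime_two_left.mpr hio)
    exact hcop.dvd_of_dvd_mul_left hd1

end parity

section kdtw

open Matrix

variable {K : Type u} [Field K] [Fintype K] {p : ℕ} [Fact p.Prime] [CharP K p] {n : ℕ}

lemma aeval_map_map (σ : K →+* K) (A : Matrix (Fin n) (Fin n) K) (g : K[X]) :
    aeval (A.map σ) (g.map σ) = (aeval A g).map σ := by
  have h1 : (aeval A g).map σ = σ.mapMatrix (aeval A g) := rfl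
  have h2 : A.map σ = σ.mapMatrix A := rfl
  rw [h1, h2, aeval_def, aeval_def, Polynomial.hom_eval₂, Polynomial.eval₂_map]
  congr 1
  apply RingHom.ext
  intro x
  ext i j
  simp only [RingHom.comp_apply, RingHom.mapMatrix_apply, Matrix.map_apply,
    Matrix.algebraMap_matrix_apply]
  split_ifs <;> simp

lemma kdi_map (σ : K →+* K) (hσ : Function.Bijective σ) (A : Matrix (Fin n) (Fin n) K)
    (g : K[X]) : kdi (A.map σ) (g.map σ) = kdi A g := by
  have h1 := kdi_add_rank (A.map σ) (g.map σ)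
  have h2 := kdi_add_rank A g
  rw [aeval_map_map, Cfsg.Agent.S2642.rank_map_bij σ hσ] at h1
  omega

lemma map_pow_eq_one (σ : K →+* K) (A : Matrix (Fin n) (Fin n) K) (r : ℕ) (hA : A ^ r = 1) :
    ((A.map σ)ᵀ) ^ r = 1 := by
  have h2 : A.map σ = σ.mapMatrix A := rfl
  rw [← Matrix.transpose_pow, h2, ← map_pow, hA, map_one, Matrix.transpose_one]

lemma twist_inv_eq (σ : K →+* K) (A : Matrix (Fin n) (Fin n) K) (r : ℕ) (hr : 0 < r)
    (hA : A ^ r = 1) : ((A.map σ)ᵀ)⁻¹ = ((A.map σ)ᵀ) ^ (r - 1) := by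
  apply Matrix.inv_eq_right_inv
  rw [← pow_succ', Nat.sub_add_cancel hr, map_pow_eq_one σ A r hA]

lemma kdi_twist (σ : K →+* K) (hσ : Function.Bijective σ) (r : ℕ) (hr : r.Prime) (hrp : r ≠ p)
    (A : Matrix (Fin n) (Fin n) K) (hA : A ^ r = 1) (h : K[X]) (hh : h ∈ powFactors K r) :
    kdi (((A.map σ)ᵀ)⁻¹) (tw σ r h) = kdi A h := by
  rw [twist_inv_eq σ A r hr.pos hA, tw_eq σ hσ r hr hrp h hh,
    kdi_star _ r hr hrp (map_pow_eq_one σ A r hA) _ (map_mem_pow σ hσ r hr hrp h hh),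
    kdi_transpose, kdi_map σ hσ]

theorem isConj_twist_iff (σ : K →+* K) (hσ : Function.Bijective σ) (hσσ : ∀ x, σ (σ x) = x)
    (r : ℕ) (hr : r.Prime) (hrp : r ≠ p) (A : Matrix (Fin n) (Fin n) K) (hA : A ^ r = 1) :
    IsConj A (((A.map σ)ᵀ)⁻¹) ↔ ∀ h ∈ powFactors K r, kdi A (tw σ r h) = kdi A h := by
  constructor
  · intro hc h hh
    rw [kdi_eq_of_isConj _ _ hc, kdi_twist σ hσ r hr hrp A hA h hh]
  · intro hsym
    have hB : (((A.map σ)ᵀ)⁻¹) ^ r = 1 := by
      rw [twist_inv_eq σ A r hr.pos hA, ← pow_mul, mul_comm, pow_mul, map_pow_eq_one σ A r hA,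
        one_pow]
    apply isConj_of_kdi_eq (powFactors K r) (powFactors_irr r) (powFactors_coprime r hr hrp)
    · rw [powFactors_prod r hr hrp, map_sub, map_pow, aeval_X, map_one, hA, sub_self]
    · rw [powFactors_prod r hr hrp, map_sub, map_pow, aeval_X, map_one, hB, sub_self]
    · intro f hf
      have h1 := kdi_twist σ hσ r hr hrp A hA (tw σ r f) (tw_mem σ hσ r hr hrp f hf)
      rw [tw_tw σ hσ hσσ r hr hrp f hf] at h1
      rw [h1, hsym f hf]

end kdtw

end Cfsg.Agent.Helper44.TwInv
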