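import Mathlib
import Cfsg.Agent.Lib.Helper44.PGUb
import Cfsg.Agent.Lib.Helper44.TwInv

set_option autoImplicit false
set_option linter.unusedSectionVars false

/-!
Matrices of order dividing `r` over a field containing the `r`-th roots of unity: profiles.
-/

namespace Cfsg.Agent.Helper44.PGU

open Polynomial Module Matrix
open Cfsg.Agent.Helper42.SemiConj Cfsg.Agent.Helper44.StarInv Cfsg.Agent.Helper44.TwInv
open scoped Classical

universe u

section lin

variable {K : Type u} [Field K] [Fintype K] {n : ℕ} (r : ℕ) [Fintype ↥(rootsOfUnity r K)]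

/-- the linear factor attached to a root of unity -/
noncomputable def linF (ω : ↥(rootsOfUnity r K)) : K[X] := X - C ((ω : Kˣ) : K)

/-- the linear factors of `X ^ r - 1` -/
noncomputable def linFactors : Finset K[X] := Finset.univ.image (linF r)

lemma linF_inj : Function.Injective (linF (K := K) r) := by
  intro a b h
  unfold linF at h
  have h1 : C ((a : Kˣ) : K) = C ((b : Kˣ) : K) := sub_right_injective h
  exact Subtype.ext (Units.ext (C_injective h1))

lemma lin_irr : ∀ f ∈ linFactors (K := K) r, Irreducible f := by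
  intro f hf
  obtain ⟨ω, _, rfl⟩ := Finset.mem_image.mp hf
  exact irreducible_X_sub_C _

lemma lin_cop : ((linFactors (K := K) r : Finset K[X]) : Set K[X]).Pairwise IsCoprime := by
  intro f hf g hg hne
  obtain ⟨a, _, rfl⟩ := Finset.mem_image.mp (Finset.mem_coe.mp hf)
  obtain ⟨b, _, rfl⟩ := Finset.mem_image.mp (Finset.mem_coe.mp hg)
  apply isCoprime_X_sub_C_of_isUnit_sub
  apply IsUnit.mk0
  intro h
  apply hne
  rw [sub_eq_zero] at h
  unfold linF
  rw [h]

lemma lin_prod (hr : 0 < r) (ζ₀ : K) (h : IsPrimitiveRoot ζ₀ r) :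
    ∏ f ∈ linFactors (K := K) r, f = X ^ r - 1 := by
  classical
  unfold linFactors
  rw [Finset.prod_image (fun a _ b _ hab => linF_inj r hab), X_pow_sub_one_eq_prod hr h]
  have h1 : nthRootsFinset r (1 : K) =
      Finset.univ.image (fun ω : ↥(rootsOfUnity r K) => ((ω : Kˣ) : K)) := by
    ext x
    rw [mem_nthRootsFinset hr, Finset.mem_image]
    constructor
    · intro hx
      have hx0 : x ≠ 0 := by
        rintro rfl
        rw [zero_pow hr.ne'] at hx
        exact zero_ne_one hx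
      refine ⟨⟨Units.mk0 x hx0, ?_⟩, Finset.mem_univ _, rfl⟩
      rw [mem_rootsOfUnity]
      apply Units.ext
      rw [Units.val_pow_eq_pow_val, Units.val_mk0, hx, Units.val_one]
    · rintro ⟨ω, _, rfl⟩
      have := ω.2
      rw [mem_rootsOfUnity] at this
      rw [← Units.val_pow_eq_pow_val, this, Units.val_one]
  rw [h1, Finset.prod_image]
  · rfl
  · intro a _ b _ hab
    exact Subtype.ext (Units.ext hab)

/-- the profile of a matrix -/
noncomputable def mprof (A : Matrix (Fin n) (Fin n) K) : ↥(rootsOfUnity r K) → ℕ :=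
  fun ω => kd A (linF r ω)

lemma sum_mprof (hr : 0 < r) (ζ₀ : K) (h : IsPrimitiveRoot ζ₀ r) (A : Matrix (Fin n) (Fin n) K)
    (hA : A ^ r = 1) : ∑ ω, mprof r A ω = n := by
  have h1 := sum_kd (linFactors (K := K) r) (lin_cop r) A (by
    rw [lin_prod r hr ζ₀ h, aeval_pow_sub_one, hA, sub_self])
  unfold linFactors at h1
  rw [Finset.sum_image (fun a _ b _ hab => linF_inj r hab)] at h1
  exact h1

lemma conj_of_mprof_eq (hr : 0 < r) (ζ₀ : K) (h : IsPrimitiveRoot ζ₀ r)
    (A B : Matrix (Fin n) (Fin n) K) (hA : A ^ r = 1) (hB : B ^ r = 1)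
    (hAB : mprof r A = mprof r B) : ∃ P : GL (Fin n) K, P.val * A = B * P.val := by
  apply exists_GL_conj_of_kd_eq (linFactors (K := K) r) (lin_irr r) (lin_cop r) A B
  · rw [lin_prod r hr ζ₀ h, aeval_pow_sub_one, hA, sub_self]
  · rw [lin_prod r hr ζ₀ h, aeval_pow_sub_one, hB, sub_self]
  · intro f hf
    obtain ⟨ω, _, rfl⟩ := Finset.mem_image.mp hf
    exact congrFun hAB ω

lemma exists_of_mprof (hr : 0 < r) (ζ₀ : K) (h : IsPrimitiveRoot ζ₀ r)
    (m : ↥(rootsOfUnity r K) → ℕ) (hm : ∑ ω, m ω = n) :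
    ∃ A : Matrix (Fin n) (Fin n) K, A ^ r = 1 ∧ mprof r A = m := by
  classical
  let mm : K[X] → ℕ := fun f => if hf : ∃ ω, linF r ω = f then m hf.choose else 0
  have hmm : ∀ ω, mm (linF r ω) = m ω := by
    intro ω
    have hex : ∃ ω', linF r ω' = linF (K := K) r ω := ⟨ω, rfl⟩
    simp only [mm, dif_pos hex]
    congr 1
    exact linF_inj r hex.choose_spec
  have hdeg : ∀ ω : ↥(rootsOfUnity r K), (linF r ω).natDegree = 1 := fun ω => natDegree_X_sub_C _
  obtain ⟨A, hA0, hAk⟩ := exists_matrix_of_kd (n := n) (linFactors (K := K) r) (lin_irr r)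
    (lin_cop r) mm (by
      unfold linFactors
      rw [Finset.sum_image (fun a _ b _ hab => linF_inj r hab), ← hm]
      apply Finset.sum_congr rfl
      intro ω _
      rw [hdeg, one_mul, hmm])
  refine ⟨A, ?_, ?_⟩
  · rw [lin_prod r hr ζ₀ h, aeval_pow_sub_one, sub_eq_zero] at hA0
    exact hA0
  · funext ω
    unfold mprof
    rw [hAk _ (Finset.mem_image.mpr ⟨ω, Finset.mem_univ _, rfl⟩), hdeg, one_mul, hmm]

/-- scaling by a root of unity rotates the profile -/
lemma mprof_smul (A : Matrix (Fin n) (Fin n) K) (ζ ω : ↥(rootsOfUnity r K)) :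
    mprof r (((ζ : Kˣ) : K) • A) ω = mprof r A (ζ⁻¹ * ω) := by
  unfold mprof kd
  have hz : ((ζ : Kˣ) : K) ≠ 0 := Units.ne_zero _
  have h1 : aeval (Matrix.toLin' (((ζ : Kˣ) : K) • A)) (linF r ω) =
      ((ζ : Kˣ) : K) • aeval (Matrix.toLin' A) (linF r (ζ⁻¹ * ω)) := by
    unfold linF
    rw [map_sub, map_sub, aeval_X, aeval_X, aeval_C, aeval_C, smul_sub, map_smul]
    congr 1
    rw [Algebra.algebraMap_eq_smul_one, Algebra.algebraMap_eq_smul_one, smul_smul]
    congr 1
    rw [Subgroup.coe_mul, Units.val_mul, Subgroup.coe_inv, ← mul_assoc, Units.mul_inv, one_mul]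
  have h2 : ∀ L : (Fin n → K) →ₗ[K] (Fin n → K),
      LinearMap.ker (((ζ : Kˣ) : K) • L) = LinearMap.ker L := by
    intro L
    ext v
    simp only [LinearMap.mem_ker, LinearMap.smul_apply, smul_eq_zero, hz, false_or]
  rw [h1, h2]

end lin

end Cfsg.Agent.Helper44.PGU
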