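import Mathlib
import Cfsg.Agent.Lib.Helper44.PGUc
import Cfsg.Agent.S0783
import Cfsg.Agent.S2587
import Cfsg.Agent.S2588

set_option autoImplicit false
set_option linter.unusedSectionVars false

/-!
The general unitary group: scalars, the centre, and elements of order dividing `r` when
`r ∣ q + 1`.
-/

namespace Cfsg.Agent.Helper44.PGU

open Polynomial Module Matrix
open Cfsg.Agent.Helper42.SemiConj Cfsg.Agent.Helper44.StarInv Cfsg.Agent.Helper44.TwInv
open Cfsg.Agent.S0783
open scoped Classical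

universe u

section scalars

variable {K : Type u} [Field K] [Fintype K] {q n : ℕ}

/-- scalar matrices of norm one, as a homomorphism into `GU` -/
noncomputable def scG (n q : ℕ) : ↥(rootsOfUnity (q + 1) K) →* ↥(Cfsg.GU n K q) where
  toFun a := ⟨scalarGL n (a : Kˣ), scalarGL_mem _ ((mem_rootsOfUnity _ _).mp a.2)⟩
  map_one' := by
    apply Subtype.ext
    show scalarGL n ((1 : ↥(rootsOfUnity (q + 1) K)) : Kˣ) = 1
    unfold scalarGL
    rw [Subgroup.coe_one, map_one]
  map_mul' a b := by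
    apply Subtype.ext
    show scalarGL n ((a * b : ↥(rootsOfUnity (q + 1) K)) : Kˣ) = scalarGL n a * scalarGL n b
    unfold scalarGL
    rw [Subgroup.coe_mul, map_mul]

lemma scG_val (a : ↥(rootsOfUnity (q + 1) K)) :
    (((scG n q a : ↥(Cfsg.GU n K q)) : GL (Fin n) K) : Matrix (Fin n) (Fin n) K) =
      ((a : Kˣ) : K) • (1 : Matrix (Fin n) (Fin n) K) := by
  show ((scalarGL n (a : Kˣ) : GL (Fin n) K) : Matrix (Fin n) (Fin n) K) = _
  rw [scalarGL_val]
  ext i j
  rw [Matrix.smul_apply, Matrix.diagonal_apply, Matrix.one_apply]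
  split_ifs <;> simp

lemma scG_mem_center (a : ↥(rootsOfUnity (q + 1) K)) :
    scG n q a ∈ Subgroup.center ↥(Cfsg.GU n K q) := by
  rw [Subgroup.mem_center_iff]
  intro g
  apply Subtype.ext
  rw [Subgroup.coe_mul, Subgroup.coe_mul]
  exact scalarGL_comm _ _

lemma scG_injective (hn : 1 ≤ n) : Function.Injective (scG (K := K) n q) := by
  intro a b h
  have h1 := congrArg (fun g : ↥(Cfsg.GU n K q) =>
    ((g : GL (Fin n) K) : Matrix (Fin n) (Fin n) K) ⟨0, hn⟩ ⟨0, hn⟩) h
  simp only [scG_val, Matrix.smul_apply, Matrix.one_apply_eq, smul_eq_mul, mul_one] at h1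
  exact Subtype.ext (Units.ext h1)

lemma exists_scG_of_center (hK : Fintype.card K = q ^ 2) (hn : 1 ≤ n) (z : ↥(Cfsg.GU n K q))
    (hz : z ∈ Subgroup.center ↥(Cfsg.GU n K q)) : ∃ a, scG n q a = z := by
  obtain ⟨a, ha, hza⟩ := center_scalar hK hn z hz
  refine ⟨⟨a, (mem_rootsOfUnity _ _).mpr ha⟩, ?_⟩
  apply Subtype.ext
  exact hza.symm

/-- the centre is the group of norm-one scalars -/
noncomputable def scCenter (n q : ℕ) :
    ↥(rootsOfUnity (q + 1) K) →* ↥(Subgroup.center ↥(Cfsg.GU n K q)) :=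
  (scG n q).codRestrict _ scG_mem_center

lemma scCenter_bijective (hK : Fintype.card K = q ^ 2) (hn : 1 ≤ n) :
    Function.Bijective (scCenter (K := K) n q) := by
  constructor
  · intro a b h
    apply scG_injective hn
    exact congrArg Subtype.val h
  · intro z
    obtain ⟨a, ha⟩ := exists_scG_of_center hK hn z.1 z.2
    exact ⟨a, Subtype.ext ha⟩

lemma card_rootsOfUnity_succ (hK : Fintype.card K = q ^ 2) :
    Nat.card ↥(rootsOfUnity (q + 1) K) = q + 1 := by
  refine Eq.trans (Nat.card_congr ?_) (Cfsg.Agent.Lead.card_norm_one_units hK)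
  apply Equiv.subtypeEquivRight
  intro a
  exact mem_rootsOfUnity (q + 1) a

open scoped IsMulCommutative in
theorem card_center_quot (hK : Fintype.card K = q ^ 2) (hn : 1 ≤ n) (r : ℕ) (hr : r.Prime)
    (hrq : r ∣ q + 1) :
    Nat.card {x : ↥(Subgroup.center ↥(Cfsg.GU n K q)) ⧸ powCenter ↥(Cfsg.GU n K q) r // x ≠ 1} =
      r - 1 := by
  have hbij := scCenter_bijective (n := n) hK hn
  have hcyc : IsCyclic ↥(Subgroup.center ↥(Cfsg.GU n K q)) :=
    isCyclic_of_surjective (scCenter (K := K) n q) hbij.2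
  have hcard : Nat.card ↥(Subgroup.center ↥(Cfsg.GU n K q)) = q + 1 := by
    rw [← card_rootsOfUnity_succ hK]
    exact (Nat.card_eq_of_bijective _ hbij).symm
  have hidx : (powCenter ↥(Cfsg.GU n K q) r).index = r := by
    unfold powCenter
    rw [IsCyclic.index_powMonoidHom_range, hcard]
    exact Nat.gcd_eq_right hrq
  have hq : Nat.card (↥(Subgroup.center ↥(Cfsg.GU n K q)) ⧸ powCenter ↥(Cfsg.GU n K q) r) = r := by
    rw [← Subgroup.index_eq_card, hidx]
  have : Finite (↥(Subgroup.center ↥(Cfsg.GU n K q)) ⧸ powCenter ↥(Cfsg.GU n K q) r) :=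
    Nat.finite_of_card_ne_zero (by rw [hq]; exact hr.ne_zero)
  have : Fintype (↥(Subgroup.center ↥(Cfsg.GU n K q)) ⧸ powCenter ↥(Cfsg.GU n K q) r) :=
    Fintype.ofFinite _
  rw [Nat.card_eq_fintype_card, Fintype.card_subtype_compl, Fintype.card_subtype_eq,
    ← Nat.card_eq_fintype_card, hq]

end scalars

end Cfsg.Agent.Helper44.PGU
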