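import Mathlib
import Cfsg.Agent.Lib.Helper44.PGUd

set_option autoImplicit false
set_option linter.unusedSectionVars false

/-!
Classes of `r`-th roots of one in `PGU_n(q)` for `r ∣ q + 1`.
-/

namespace Cfsg.Agent.Helper44.PGU

open Polynomial Module Matrix
open Cfsg.Agent.Helper42.SemiConj Cfsg.Agent.Helper44.StarInv Cfsg.Agent.Helper44.TwInv
open Cfsg.Agent.S0783
open scoped Classical

universe u

section twist

variable {K : Type u} [Field K] [Fintype K] {p : ℕ} [Fact p.Prime] [CharP K p] {n : ℕ}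

lemma orderOf_q (a r : ℕ) (hr : r.Prime) (hr2 : r ≠ 2) (hrq : r ∣ p ^ a + 1) :
    orderOf ((p ^ a : ℕ) : ZMod r) = 2 := by
  have : Fact (Nat.Prime 2) := ⟨Nat.prime_two⟩
  have : Fact r.Prime := ⟨hr⟩
  have h0 : ((p ^ a : ℕ) : ZMod r) + 1 = 0 := by
    have := (ZMod.natCast_eq_zero_iff (p ^ a + 1) r).mpr hrq
    rw [Nat.cast_add, Nat.cast_one] at this
    exact this
  have h1 : ((p ^ a : ℕ) : ZMod r) = -1 := eq_neg_of_add_eq_zero_left h0
  apply orderOf_eq_prime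
  · rw [h1]; ring
  · rw [h1]
    intro h
    have h2 : ((2 : ℕ) : ZMod r) = 0 := by
      have : (1 : ZMod r) + 1 = 0 := by linear_combination -h
      rw [Nat.cast_ofNat, ← one_add_one_eq_two]
      exact this
    have h3 := (ZMod.natCast_eq_zero_iff 2 r).mp h2
    exact hr2 ((Nat.prime_dvd_prime_iff_eq hr Nat.prime_two).mp h3)

lemma tw_fixed (a r : ℕ) (hK : Fintype.card K = (p ^ a) ^ 2) (hr : r.Prime) (hr2 : r ≠ 2)
    (hrp : r ≠ p) (hrq : r ∣ p ^ a + 1) (f : K[X]) (hf : f ∈ powFactors K r) :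
    tw (iterateFrobenius K p a) r f = f := by
  by_cases hne : f = X - 1
  · rw [hne, tw_X_sub_one]
  · exact tw_eq_self_of_mod4 a r hK hr hrp f (mem_cyc_of_mem_pow r f hf hne)
      (by rw [orderOf_q a r hr hr2 hrq])

lemma isConj_twist_of_pow (a r : ℕ) (hK : Fintype.card K = (p ^ a) ^ 2) (hr : r.Prime)
    (hr2 : r ≠ 2) (hrp : r ≠ p) (hrq : r ∣ p ^ a + 1) (A : Matrix (Fin n) (Fin n) K)
    (hA : A ^ r = 1) : IsConj A (((A.map (iterateFrobenius K p a))ᵀ)⁻¹) := by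
  rw [isConj_twist_iff _ (frob_bij a) (frob_sq a hK) r hr hrp A hA]
  intro h hh
  rw [tw_fixed a r hK hr hr2 hrp hrq h hh]

end twist

section classesA

variable {K : Type u} [Field K] [Fintype K] {p : ℕ} [Fact p.Prime] [CharP K p] {n q : ℕ}
variable (r : ℕ) [Fintype ↥(rootsOfUnity r K)]

/-- the scalar homomorphism from the `r`-th roots of unity -/
noncomputable def jR (n : ℕ) (hrq : r ∣ q + 1) : ↥(rootsOfUnity r K) →* ↥(Cfsg.GU n K q) :=
  (scG n q).comp (Subgroup.inclusion (rootsOfUnity_le_of_dvd hrq))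

lemma jR_val (hrq : r ∣ q + 1) (ζ : ↥(rootsOfUnity r K)) :
    (((jR r n hrq ζ : ↥(Cfsg.GU n K q)) : GL (Fin n) K) : Matrix (Fin n) (Fin n) K) =
      ((ζ : Kˣ) : K) • (1 : Matrix (Fin n) (Fin n) K) := by
  unfold jR
  rw [MonoidHom.comp_apply, scG_val]
  rfl

lemma mat_pow (g : ↥(Cfsg.GU n K q)) (k : ℕ) :
    (((g ^ k : ↥(Cfsg.GU n K q)) : GL (Fin n) K) : Matrix (Fin n) (Fin n) K) =
      ((g : GL (Fin n) K) : Matrix (Fin n) (Fin n) K) ^ k := by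
  rw [Subgroup.coe_pow, Units.val_pow_eq_pow_val]

lemma mat_pow_one (g : ↥(Cfsg.GU n K q)) (k : ℕ) (h : g ^ k = 1) :
    ((g : GL (Fin n) K) : Matrix (Fin n) (Fin n) K) ^ k = 1 := by
  rw [← mat_pow, h]
  rfl

/-- the profile of an element of `GU` -/
noncomputable def gprof (hr0 : 0 < r) (ζ₀ : K) (hζ₀ : IsPrimitiveRoot ζ₀ r)
    (g : ↥(Cfsg.GU n K q)) : Prof ↥(rootsOfUnity r K) n :=
  if h : g ^ r = 1 then
    ⟨mprof r ((g : GL (Fin n) K) : Matrix (Fin n) (Fin n) K),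
      sum_mprof r hr0 ζ₀ hζ₀ _ (mat_pow_one g r h)⟩
  else ⟨fun ω => if ω = 1 then n else 0, by simp⟩

lemma gprof_val (hr0 : 0 < r) (ζ₀ : K) (hζ₀ : IsPrimitiveRoot ζ₀ r)
    (g : ↥(Cfsg.GU n K q)) (h : g ^ r = 1) :
    (gprof r hr0 ζ₀ hζ₀ g).1 = mprof r ((g : GL (Fin n) K) : Matrix (Fin n) (Fin n) K) := by
  unfold gprof
  rw [dif_pos h]

end classesA

section mainA

variable {K : Type u} [Field K] [Fintype K] {p : ℕ} [Fact p.Prime] [CharP K p] {n : ℕ}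

lemma exists_primitive_root (a r : ℕ) (hK : Fintype.card K = (p ^ a) ^ 2) (hr : r.Prime)
    (hrq : r ∣ p ^ a + 1) : ∃ ζ₀ : K, IsPrimitiveRoot ζ₀ r := by
  have : Fact r.Prime := ⟨hr⟩
  have hdvdU : r ∣ Fintype.card Kˣ := by
    rw [Fintype.card_units, hK]
    obtain ⟨Q', hQ'⟩ : ∃ Q', p ^ a = Q' + 1 :=
      ⟨p ^ a - 1, by have := Nat.one_le_pow a p (Fact.out : p.Prime).pos; omega⟩
    rw [hQ'] at hrq ⊢
    have h1 : (Q' + 1) ^ 2 - 1 = Q' * (Q' + 1 + 1) := by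
      apply Nat.sub_eq_of_eq_add
      ring
    rw [h1]
    exact Dvd.dvd.mul_left hrq _
  obtain ⟨x, hx⟩ := exists_prime_orderOf_dvd_card r hdvdU
  refine ⟨((x : Kˣ) : K), ?_⟩
  rw [IsPrimitiveRoot.coe_units_iff, ← hx]
  exact IsPrimitiveRoot.orderOf x

theorem card_classesA (a r : ℕ) (hK : Fintype.card K = (p ^ a) ^ 2) (hn : 1 ≤ n) (hr : r.Prime)
    (hr2 : r ≠ 2) (hrp : r ≠ p) (hrq : r ∣ p ^ a + 1) :
    Nat.card {C : ConjClasses (↥(Cfsg.GU n K (p ^ a)) ⧸ Subgroup.center ↥(Cfsg.GU n K (p ^ a))) //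
      ∃ g : ↥(Cfsg.GU n K (p ^ a)), ConjClasses.mk (g : ↥(Cfsg.GU n K (p ^ a)) ⧸
        Subgroup.center ↥(Cfsg.GU n K (p ^ a))) = C ∧ g ^ r = 1} * r =
      (n + r - 1).choose (r - 1) + (r - 1) * (if r ∣ n then 1 else 0) := by
  have : NeZero r := ⟨hr.ne_zero⟩
  have instR : Fintype ↥(rootsOfUnity r K) := Fintype.ofFinite _
  obtain ⟨ζ₀, hζ₀⟩ := exists_primitive_root a r hK hr hrq
  have hRcard : Fintype.card ↥(rootsOfUnity r K) = r := by
    rw [← Nat.card_eq_fintype_card]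
    exact hζ₀.card_rootsOfUnity
  have hfun : (fun x : K => x ^ (p ^ a)) = ⇑(iterateFrobenius K p a) := by
    funext x; exact (iterateFrobenius_def p a x).symm
  have hζr : ∀ ζ : ↥(rootsOfUnity r K), ζ ^ r = 1 := by
    intro ζ
    apply Subtype.ext
    rw [Subgroup.coe_pow, Subgroup.coe_one]
    exact (mem_rootsOfUnity r _).mp ζ.2
  have hjc : ∀ ζ, jR (q := p ^ a) r n hrq ζ ∈ Subgroup.center ↥(Cfsg.GU n K (p ^ a)) :=
    fun ζ => scG_mem_center _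
  have hjpow : ∀ ζ (g : ↥(Cfsg.GU n K (p ^ a))), g ^ r = 1 →
      (jR (q := p ^ a) r n hrq ζ * g) ^ r = 1 := by
    intro ζ g hg
    rw [central_mul_pow _ _ (hjc ζ), hg, ← map_pow, hζr, map_one, one_mul]
  have hj : ∀ z ∈ Subgroup.center ↥(Cfsg.GU n K (p ^ a)), z ^ r = 1 →
      ∃ ζ, jR (q := p ^ a) r n hrq ζ = z := by
    intro z hz hzr
    obtain ⟨c, rfl⟩ := exists_scG_of_center hK hn z hz
    rw [← map_pow] at hzr
    have h1 : c ^ r = 1 := scG_injective hn (hzr.trans (map_one _).symm)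
    refine ⟨⟨(c : Kˣ), ?_⟩, ?_⟩
    · rw [mem_rootsOfUnity]
      have := congrArg Subtype.val h1
      rw [Subgroup.coe_pow, Subgroup.coe_one] at this
      exact this
    · unfold jR
      rw [MonoidHom.comp_apply]
      congr 1
  have hP1 : ∀ ζ (g : ↥(Cfsg.GU n K (p ^ a))), g ^ r = 1 →
      gprof r hr.pos ζ₀ hζ₀ (jR (q := p ^ a) r n hrq ζ * g) = ζ • gprof r hr.pos ζ₀ hζ₀ g := by
    intro ζ g hg
    apply Subtype.ext
    funext ω
    rw [gprof_val r hr.pos ζ₀ hζ₀ _ (hjpow ζ g hg), prof_smul_apply,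
      gprof_val r hr.pos ζ₀ hζ₀ g hg, ← mprof_smul]
    congr 1
    rw [Subgroup.coe_mul, Units.val_mul, jR_val, Matrix.smul_mul, Matrix.one_mul]
  have hP2 : ∀ g g' : ↥(Cfsg.GU n K (p ^ a)), g ^ r = 1 → g' ^ r = 1 →
      (gprof r hr.pos ζ₀ hζ₀ g = gprof r hr.pos ζ₀ hζ₀ g' ↔ IsConj g g') := by
    intro g g' hg hg'
    constructor
    · intro h
      have h1 := congrArg Subtype.val h
      rw [gprof_val r hr.pos ζ₀ hζ₀ g hg, gprof_val r hr.pos ζ₀ hζ₀ g' hg'] at h1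
      obtain ⟨P, hP⟩ := conj_of_mprof_eq r hr.pos ζ₀ hζ₀ _ _ (mat_pow_one g r hg)
        (mat_pow_one g' r hg') h1
      exact (Cfsg.Agent.S2587.result hK g g').mpr (isConj_of_GL_conj _ _ P hP)
    · intro h
      have h1 := (Cfsg.Agent.S2587.result hK g g').mp h
      apply Subtype.ext
      rw [gprof_val r hr.pos ζ₀ hζ₀ g hg, gprof_val r hr.pos ζ₀ hζ₀ g' hg']
      funext ω
      exact kd_eq_of_isConj _ _ h1 _
  have hP3 : ∀ y : Prof ↥(rootsOfUnity r K) n, ∃ g : ↥(Cfsg.GU n K (p ^ a)),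
      g ^ r = 1 ∧ gprof r hr.pos ζ₀ hζ₀ g = y := by
    intro y
    obtain ⟨A, hAr, hAm⟩ := exists_of_mprof (n := n) r hr.pos ζ₀ hζ₀ y.1 y.2
    let g0 := glOfPow A r hr.pos hAr
    have hg0 : g0 ^ r = 1 := by
      rw [pow_eq_one_iff_aeval, aeval_pow_sub_one, sub_eq_zero]; exact hAr
    have hconj := isConj_twist_of_pow a r hK hr hr2 hrp hrq A hAr
    obtain ⟨B, hB⟩ := (Cfsg.Agent.S2588.result hK g0).mpr (by rw [hfun]; exact hconj)
    have hBr : B ^ r = 1 := by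
      apply Subtype.ext
      rw [Subgroup.coe_pow, Subgroup.coe_one]
      obtain ⟨c, hc⟩ := isConj_iff.mp hB
      rw [← hc, conj_pow, hg0, mul_one, mul_inv_cancel]
    refine ⟨B, hBr, ?_⟩
    apply Subtype.ext
    rw [gprof_val r hr.pos ζ₀ hζ₀ B hBr, ← hAm]
    funext ω
    exact (kd_eq_of_isConj _ _ hB _).symm
  rw [card_classes_pow_quot r (jR (q := p ^ a) r n hrq) hjc hj hζr (gprof r hr.pos ζ₀ hζ₀)
    hP1 hP2 hP3]
  exact card_orbits_prof r hr hRcard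

end mainA

end Cfsg.Agent.Helper44.PGU
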