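import Mathlib
import Cfsg.Agent.Lib.Helper44.PGUe

set_option autoImplicit false
set_option linter.unusedSectionVars false

/-!
The extra classes of order `r` in `PGU_n(q)` for `r ∣ q + 1`: elements whose `r`-th power is a
scalar that is not an `r`-th power of a norm-one scalar.
-/

namespace Cfsg.Agent.Helper44.PGU

open Polynomial Module Matrix
open Cfsg.Agent.Helper42.SemiConj Cfsg.Agent.Helper44.StarInv Cfsg.Agent.Helper44.TwInv
open Cfsg.Agent.S0783
open scoped Classical

universe u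

section field

variable {K : Type u} [Field K] [Fintype K] {q : ℕ}

lemma coprime_pred (r : ℕ) (hr : r.Prime) (hr2 : r ≠ 2) (hrq : r ∣ q + 1) :
    Nat.Coprime r (q - 1) := by
  rw [Nat.Prime.coprime_iff_not_dvd hr]
  intro h
  rcases Nat.eq_zero_or_pos q with h0 | h0
  · subst h0
    have := Nat.le_of_dvd (by norm_num) hrq
    have := hr.two_le
    omega
  · have h2 : r ∣ 2 := by
      have h3 : q + 1 = (q - 1) + 2 := by omega
      rw [h3] at hrq
      exact (Nat.dvd_add_right h).mp hrq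
    exact hr2 ((Nat.prime_dvd_prime_iff_eq hr Nat.prime_two).mp h2)

/-- a norm-one scalar which is an `r`-th power in `K` is an `r`-th power of a norm-one scalar -/
lemma pow_mem_of_pow (hK : Fintype.card K = q ^ 2) (r : ℕ) (hr : r.Prime) (hr2 : r ≠ 2)
    (hrq : r ∣ q + 1) (ν b : Kˣ) (hν : ν ^ (q + 1) = 1) (hb : b ^ r = ν) : b ^ (q + 1) = 1 := by
  have h1 : (b ^ (q + 1)) ^ r = 1 := by
    rw [← pow_mul, mul_comm, pow_mul, hb, hν]
  have h2 : (b ^ (q + 1)) ^ (q - 1) = 1 := by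
    rw [← pow_mul]
    have hq : 1 ≤ q := by
      rcases Nat.eq_zero_or_pos q with h0 | h0
      · subst h0
        have := Fintype.one_lt_card (α := K)
        rw [hK] at this
        norm_num at this
      · exact h0
    have h3 : (q + 1) * (q - 1) = Fintype.card K - 1 := by
      rw [hK]
      obtain ⟨Q', rfl⟩ : ∃ Q', q = Q' + 1 := ⟨q - 1, by omega⟩
      have : (Q' + 1) ^ 2 - 1 = (Q' + 1 + 1) * (Q' + 1 - 1) := by
        apply Nat.sub_eq_of_eq_add
        rw [Nat.add_sub_cancel]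
        ring
      rw [this]
    rw [h3]
    apply Units.ext
    rw [Units.val_pow_eq_pow_val, Units.val_one]
    exact FiniteField.pow_card_sub_one_eq_one _ (Units.ne_zero b)
  have h4 := orderOf_dvd_of_pow_eq_one h1
  have h5 := orderOf_dvd_of_pow_eq_one h2
  have h6 := Nat.dvd_gcd h4 h5
  rw [Nat.Coprime.gcd_eq_one (coprime_pred r hr hr2 hrq), Nat.dvd_one] at h6
  exact orderOf_eq_one_iff.mp h6

lemma irr_of_notpow (hK : Fintype.card K = q ^ 2) (r : ℕ) (hr : r.Prime) (hr2 : r ≠ 2)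
    (hrq : r ∣ q + 1) (ν : ↥(rootsOfUnity (q + 1) K))
    (hν : ∀ c : ↥(rootsOfUnity (q + 1) K), c ^ r ≠ ν) :
    Irreducible (X ^ r - C (((ν : Kˣ) : K)) : K[X]) := by
  apply X_pow_sub_C_irreducible_of_prime hr
  intro b hb
  have hb0 : b ≠ 0 := by
    rintro rfl
    rw [zero_pow hr.ne_zero] at hb
    exact Units.ne_zero _ hb.symm
  have hbu : (Units.mk0 b hb0) ^ r = (ν : Kˣ) := by
    apply Units.ext
    rw [Units.val_pow_eq_pow_val, Units.val_mk0, hb]
  have h1 := pow_mem_of_pow hK r hr hr2 hrq (ν : Kˣ) (Units.mk0 b hb0)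
    ((mem_rootsOfUnity _ _).mp ν.2) hbu
  apply hν ⟨Units.mk0 b hb0, (mem_rootsOfUnity _ _).mpr h1⟩
  apply Subtype.ext
  rw [Subgroup.coe_pow]
  exact hbu

end field

section mat

variable {K : Type u} [Field K] [Fintype K] {n : ℕ}

lemma aeval_pow_sub_C (A : Matrix (Fin n) (Fin n) K) (r : ℕ) (ν : K) :
    aeval A (X ^ r - C ν : K[X]) = A ^ r - ν • (1 : Matrix (Fin n) (Fin n) K) := by
  rw [map_sub, map_pow, aeval_X, aeval_C, Algebra.algebraMap_eq_smul_one]

lemma kd_of_aeval_eq_zero (A : Matrix (Fin n) (Fin n) K) (f : K[X]) (h : aeval A f = 0) :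
    kd A f = n := by
  unfold kd
  rw [(aeval_toLin'_eq_zero_iff A f).mpr h, LinearMap.ker_zero, finrank_top,
    Module.finrank_fin_fun]

lemma conj_of_pow_eq (r : ℕ) (ν : K) (hirr : Irreducible (X ^ r - C ν : K[X]))
    (A B : Matrix (Fin n) (Fin n) K) (hA : A ^ r = ν • 1) (hB : B ^ r = ν • 1) :
    ∃ P : GL (Fin n) K, P.val * A = B * P.val := by
  have hA0 : aeval A (X ^ r - C ν : K[X]) = 0 := by rw [aeval_pow_sub_C, hA, sub_self]
  have hB0 : aeval B (X ^ r - C ν : K[X]) = 0 := by rw [aeval_pow_sub_C, hB, sub_self]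
  apply exists_GL_conj_of_kd_eq {(X ^ r - C ν : K[X])}
  · intro f hf
    rw [Finset.mem_singleton] at hf
    rw [hf]; exact hirr
  · rw [Finset.coe_singleton]
    exact Set.pairwise_singleton _ _
  · rw [Finset.prod_singleton]; exact hA0
  · rw [Finset.prod_singleton]; exact hB0
  · intro f hf
    rw [Finset.mem_singleton] at hf
    rw [hf, kd_of_aeval_eq_zero A _ hA0, kd_of_aeval_eq_zero B _ hB0]

lemma dvd_of_pow_eq (r : ℕ) (hr : 0 < r) (ν : K) (hirr : Irreducible (X ^ r - C ν : K[X]))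
    (A : Matrix (Fin n) (Fin n) K) (hA : A ^ r = ν • 1) : r ∣ n := by
  have hA0 : aeval A (X ^ r - C ν : K[X]) = 0 := by rw [aeval_pow_sub_C, hA, sub_self]
  have h1 := natDegree_dvd_kd A _ hirr
  rw [kd_of_aeval_eq_zero A _ hA0, natDegree_X_pow_sub_C] at h1
  exact h1

lemma exists_of_pow_eq (r : ℕ) (hr : 0 < r) (ν : K) (hirr : Irreducible (X ^ r - C ν : K[X]))
    (hrn : r ∣ n) : ∃ A : Matrix (Fin n) (Fin n) K, A ^ r = ν • 1 := by
  obtain ⟨A, hA0, _⟩ := exists_matrix_of_kd (n := n) {(X ^ r - C ν : K[X])}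
    (by
      intro f hf
      rw [Finset.mem_singleton] at hf
      rw [hf]; exact hirr)
    (by
      rw [Finset.coe_singleton]
      exact Set.pairwise_singleton _ _)
    (fun _ => n / r)
    (by rw [Finset.sum_singleton, natDegree_X_pow_sub_C, Nat.mul_div_cancel' hrn])
  rw [Finset.prod_singleton, aeval_pow_sub_C, sub_eq_zero] at hA0
  exact ⟨A, hA0⟩

end mat

end Cfsg.Agent.Helper44.PGU
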