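import Mathlib
import Cfsg.Agent.Lib.Helper44.PGUf

set_option autoImplicit false
set_option linter.unusedSectionVars false

/-!
The extra classes in `PGU_n(q)`, group level.
-/

namespace Cfsg.Agent.Helper44.PGU

open Polynomial Module Matrix
open Cfsg.Agent.Helper42.SemiConj Cfsg.Agent.Helper44.StarInv Cfsg.Agent.Helper44.TwInv
open Cfsg.Agent.S0783
open scoped Classical

universe u

section mainB

variable {K : Type u} [Field K] [Fintype K] {p : ℕ} [Fact p.Prime] [CharP K p] {n : ℕ}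

/-- the twist of a matrix whose `r`-th power is a norm-one scalar has the same `r`-th power -/
lemma twist_pow_scalar (a r : ℕ) (A : Matrix (Fin n) (Fin n) K) (ν : K)
    (hν : ν ^ (p ^ a + 1) = 1) (hA : A ^ r = ν • 1) :
    (((A.map (iterateFrobenius K p a))ᵀ)⁻¹) ^ r = ν • 1 := by
  have h2 : A.map (iterateFrobenius K p a) = (iterateFrobenius K p a).mapMatrix A := rfl
  have h3 : ((A.map (iterateFrobenius K p a))ᵀ) ^ r =
      (ν ^ p ^ a) • (1 : Matrix (Fin n) (Fin n) K) := by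
    rw [← Matrix.transpose_pow, h2, ← map_pow, hA]
    ext i j
    simp only [Matrix.transpose_apply, RingHom.mapMatrix_apply, Matrix.map_apply,
      Matrix.smul_apply, Matrix.one_apply, smul_eq_mul, iterateFrobenius_def]
    split_ifs with h1 h2 h2
    · simp
    · exact absurd h1.symm h2
    · exact absurd h2.symm h1
    · simp [zero_pow (pow_pos (Fact.out : p.Prime).pos a).ne']
  rw [Matrix.inv_pow', h3]
  apply Matrix.inv_eq_right_inv
  rw [Matrix.smul_mul, Matrix.one_mul, smul_smul, ← pow_succ, hν, one_smul]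

theorem card_classesB (a r : ℕ) (hK : Fintype.card K = (p ^ a) ^ 2) (hn : 1 ≤ n) (hr : r.Prime)
    (hr2 : r ≠ 2) (hrq : r ∣ p ^ a + 1) :
    Nat.card {C : ConjClasses (↥(Cfsg.GU n K (p ^ a)) ⧸ Subgroup.center ↥(Cfsg.GU n K (p ^ a))) //
      ExtraClass r C} = (r - 1) * (if r ∣ n then 1 else 0) := by
  have hfun : (fun x : K => x ^ (p ^ a)) = ⇑(iterateFrobenius K p a) := by
    funext x; exact (iterateFrobenius_def p a x).symm
  -- translation of the abstract hypotheses
  have htrans : ∀ g : ↥(Cfsg.GU n K (p ^ a)), g ^ r ∈ Subgroup.center ↥(Cfsg.GU n K (p ^ a)) →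
      NotPow r (g ^ r) → ∃ ν : ↥(rootsOfUnity (p ^ a + 1) K), scG n (p ^ a) ν = g ^ r ∧
        Irreducible (X ^ r - C (((ν : Kˣ) : K)) : K[X]) := by
    intro g hgz hnp
    obtain ⟨ν, hν⟩ := exists_scG_of_center hK hn _ hgz
    refine ⟨ν, hν, irr_of_notpow hK r hr hr2 hrq ν ?_⟩
    intro c hc
    apply hnp
    refine ⟨scG n (p ^ a) c, scG_mem_center c, ?_⟩
    rw [← map_pow, hc, hν]
  have hmat : ∀ (g : ↥(Cfsg.GU n K (p ^ a))) (ν : ↥(rootsOfUnity (p ^ a + 1) K)),
      scG n (p ^ a) ν = g ^ r →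
      ((g : GL (Fin n) K) : Matrix (Fin n) (Fin n) K) ^ r =
        (((ν : Kˣ) : K)) • (1 : Matrix (Fin n) (Fin n) K) := by
    intro g ν hν
    rw [← mat_pow, ← hν, scG_val]
  have hU : ∀ g g' : ↥(Cfsg.GU n K (p ^ a)),
      g ^ r ∈ Subgroup.center ↥(Cfsg.GU n K (p ^ a)) → NotPow r (g ^ r) → g' ^ r = g ^ r →
      IsConj g g' := by
    intro g g' hgz hnp hgg
    obtain ⟨ν, hν, hirr⟩ := htrans g hgz hnp
    obtain ⟨P, hP⟩ := conj_of_pow_eq r _ hirr _ _ (hmat g ν hν) (hmat g' ν (hν.trans hgg.symm))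
    exact (Cfsg.Agent.S2587.result hK g g').mpr (isConj_of_GL_conj _ _ P hP)
  split_ifs with hrn
  · rw [mul_one, card_extra r hr hU ?_, card_center_quot hK hn r hr hrq]
    intro z hz hnp
    obtain ⟨ν, hνz⟩ := exists_scG_of_center hK hn z hz
    have hirr : Irreducible (X ^ r - C (((ν : Kˣ) : K)) : K[X]) := by
      apply irr_of_notpow hK r hr hr2 hrq ν
      intro c hc
      apply hnp
      refine ⟨scG n (p ^ a) c, scG_mem_center c, ?_⟩
      rw [← map_pow, hc, hνz]
    obtain ⟨A, hA⟩ := exists_of_pow_eq (n := n) r hr.pos _ hirr hrn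
    have hνu : (((ν : Kˣ) : K)) ^ (p ^ a + 1) = 1 := by
      rw [← Units.val_pow_eq_pow_val, (mem_rootsOfUnity _ _).mp ν.2, Units.val_one]
    have hν0 : (((ν : Kˣ) : K)) ≠ 0 := Units.ne_zero _
    let g0 : GL (Fin n) K := ⟨A, (((ν : Kˣ) : K))⁻¹ • A ^ (r - 1), by
      rw [Matrix.mul_smul, ← pow_succ', Nat.sub_add_cancel hr.pos, hA, smul_smul,
        inv_mul_cancel₀ hν0, one_smul], by
      rw [Matrix.smul_mul, ← pow_succ, Nat.sub_add_cancel hr.pos, hA, smul_smul,
        inv_mul_cancel₀ hν0, one_smul]⟩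
    have hconj : IsConj A (((A.map (iterateFrobenius K p a))ᵀ)⁻¹) := by
      obtain ⟨P, hP⟩ := conj_of_pow_eq r _ hirr A _ hA (twist_pow_scalar a r A _ hνu hA)
      exact ⟨P, hP⟩
    obtain ⟨B, hB⟩ := (Cfsg.Agent.S2588.result hK g0).mpr (by rw [hfun]; exact hconj)
    refine ⟨B, ?_⟩
    rw [← hνz]
    apply Subtype.ext
    apply Units.ext
    rw [mat_pow, scG_val]
    obtain ⟨c, hc⟩ := isConj_iff.mp hB
    have h1 : ((B : GL (Fin n) K) : Matrix (Fin n) (Fin n) K) =
        c.val * A * c⁻¹.val := by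
      rw [← hc]
      rfl
    rw [h1]
    have h2 : ∀ k : ℕ, (c.val * A * c⁻¹.val) ^ k = c.val * A ^ k * c⁻¹.val := by
      intro k
      induction k with
      | zero =>
        rw [pow_zero, pow_zero, Matrix.mul_one, ← Units.val_mul, mul_inv_cancel, Units.val_one]
      | succ k ih =>
        rw [pow_succ, ih, pow_succ]
        have h3 : c⁻¹.val * c.val = 1 := by rw [← Units.val_mul, inv_mul_cancel, Units.val_one]
        calc c.val * A ^ k * c⁻¹.val * (c.val * A * c⁻¹.val)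
            = c.val * A ^ k * (c⁻¹.val * c.val) * A * c⁻¹.val := by
              simp only [Matrix.mul_assoc]
          _ = c.val * (A ^ k * A) * c⁻¹.val := by
              rw [h3, Matrix.mul_one, Matrix.mul_assoc c.val]
    rw [h2, hA, Matrix.mul_smul, Matrix.mul_one, Matrix.smul_mul, ← Units.val_mul,
      mul_inv_cancel, Units.val_one]
  · rw [mul_zero]
    apply card_extra_zero r hr
    intro g hgz hnp
    obtain ⟨ν, hν, hirr⟩ := htrans g hgz hnp
    exact hrn (dvd_of_pow_eq r hr.pos _ hirr _ (hmat g ν hν))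

end mainB

end Cfsg.Agent.Helper44.PGU
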