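import Mathlib
import Cfsg.Prelude.Def_GeometricClasses
import Cfsg.Agent.Lib.Helper13.HermStd
import Cfsg.Agent.Lib.Helper44.UnitaryTv

/-!
# Polar pairs for the standard Hermitian form (helper44, for S5984)

Pairs of complementary totally singular `m`-spaces of `F^(m+m)`; hyperbolic bases; dual families.
-/

set_option autoImplicit false
set_option linter.unusedSectionVars false

namespace Cfsg.Agent.Helper44.PP

open Matrix Module Cfsg.Agent.Lead Cfsg.Agent.Helper19 Cfsg.Agent.Helper44

variable {F : Type*} [Field F] [Fintype F] {q : ℕ} {n : ℕ}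

/-- a pair of complementary totally singular subspaces of dimension `m` -/
structure Polar (q m : ℕ) (E0 E1 : Submodule F (Fin n → F)) : Prop where
  ts0 : ∀ u ∈ E0, ∀ v ∈ E0, Cfsg.hermForm n F q u v = 0
  ts1 : ∀ u ∈ E1, ∀ v ∈ E1, Cfsg.hermForm n F q u v = 0
  fr0 : finrank F E0 = m
  fr1 : finrank F E1 = m
  disj : E0 ⊓ E1 = ⊥
  sup : E0 ⊔ E1 = ⊤

theorem Polar.symm {m : ℕ} {E0 E1 : Submodule F (Fin n → F)} (h : Polar q m E0 E1) :
    Polar q m E1 E0 :=
  ⟨h.ts1, h.ts0, h.fr1, h.fr0, by rw [inf_comm]; exact h.disj, by rw [sup_comm]; exact h.sup⟩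

theorem hH_zero_right (hF : Fintype.card F = q ^ 2) (w : Fin n → F) :
    Cfsg.hermForm n F q w 0 = 0 := by
  have hq : q ≠ 0 := by have := herm_two_le hF; omega
  exact (stdHerm hF n).zero_right hq w

theorem hH_neg_left (hF : Fintype.card F = q ^ 2) (u w : Fin n → F) :
    Cfsg.hermForm n F q (-u) w = - Cfsg.hermForm n F q u w :=
  (stdHerm hF n).neg_left u w

theorem hH_eq_zero_symm (hF : Fintype.card F = q ^ 2) {u v : Fin n → F}
    (h : Cfsg.hermForm n F q u v = 0) : Cfsg.hermForm n F q v u = 0 := by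
  have hq : q ≠ 0 := by have := herm_two_le hF; omega
  rw [hH_conj hF u v, h, zero_pow hq]

theorem hH_sum_left (hF : Fintype.card F = q ^ 2) {ι : Type*} (s : Finset ι) (a : ι → F)
    (x : ι → (Fin n → F)) (w : Fin n → F) :
    Cfsg.hermForm n F q (∑ i ∈ s, a i • x i) w = ∑ i ∈ s, a i * Cfsg.hermForm n F q (x i) w :=
  (stdHerm hF n).sum_left s a x w

/-- if `v` is orthogonal (on the right) to a spanning set of `W`, it is orthogonal to `W` -/
theorem hH_span_right (hF : Fintype.card F = q ^ 2) (v : Fin n → F) (s : Set (Fin n → F))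
    (hs : ∀ u ∈ s, Cfsg.hermForm n F q v u = 0) :
    ∀ u ∈ Submodule.span F s, Cfsg.hermForm n F q v u = 0 := by
  intro u hu
  induction hu using Submodule.span_induction with
  | mem x hx => exact hs x hx
  | zero => exact hH_zero_right hF v
  | add x y _ _ hx hy => rw [hH_add_right hF, hx, hy, add_zero]
  | smul a x _ hx => rw [hH_smul_right hF, hx, mul_zero]

theorem hH_span_left (hF : Fintype.card F = q ^ 2) (v : Fin n → F) (s : Set (Fin n → F))
    (hs : ∀ u ∈ s, Cfsg.hermForm n F q u v = 0) :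
    ∀ u ∈ Submodule.span F s, Cfsg.hermForm n F q u v = 0 := by
  intro u hu
  induction hu using Submodule.span_induction with
  | mem x hx => exact hs x hx
  | zero => exact hH_zero_left hF v
  | add x y _ _ hx hy => rw [hH_add_left hF, hx, hy, add_zero]
  | smul a x _ hx => rw [hH_smul_left hF, hx, mul_zero]

/-- nondegeneracy, right version -/
theorem eq_zero_of_forall_right (hF : Fintype.card F = q ^ 2) (v : Fin n → F)
    (hv : ∀ w, Cfsg.hermForm n F q v w = 0) : v = 0 := by
  apply stdHerm_nondeg hF n v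
  intro w
  exact hH_eq_zero_symm hF (hv w)

theorem eq_zero_of_forall_left (hF : Fintype.card F = q ^ 2) (v : Fin n → F)
    (hv : ∀ w, Cfsg.hermForm n F q w v = 0) : v = 0 :=
  stdHerm_nondeg hF n v hv

/-- a linearly independent family of `m` vectors in an `m`-dimensional subspace spans it -/
theorem span_eq_of_li {m : ℕ} {E : Submodule F (Fin n → F)} (hfr : finrank F E = m)
    (e : Fin m → (Fin n → F)) (he : ∀ a, e a ∈ E) (hLI : LinearIndependent F e) :
    Submodule.span F (Set.range e) = E := by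
  apply Submodule.eq_of_le_of_finrank_eq
  · rw [Submodule.span_le]
    rintro _ ⟨a, rfl⟩
    exact he a
  · rw [finrank_span_eq_card hLI, Fintype.card_fin, hfr]

/-- in a polar pair, a vector of `E1` orthogonal to `E0` vanishes -/
theorem Polar.eq_zero_of_orth {m : ℕ} (hF : Fintype.card F = q ^ 2)
    {E0 E1 : Submodule F (Fin n → F)} (hE : Polar q m E0 E1) {v : Fin n → F} (hv : v ∈ E1)
    (h0 : ∀ u ∈ E0, Cfsg.hermForm n F q v u = 0) : v = 0 := by
  apply eq_zero_of_forall_right hF
  intro w
  have hw : w ∈ E0 ⊔ E1 := by rw [hE.sup]; trivial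
  obtain ⟨u, hu, u', hu', rfl⟩ := Submodule.mem_sup.mp hw
  rw [hH_add_right hF, h0 u hu, hE.ts1 v hv u' hu', add_zero]

/-- the pairing map `E1 → F^m` against a family in `E0` -/
noncomputable def pairing (hF : Fintype.card F = q ^ 2) {m : ℕ} (E1 : Submodule F (Fin n → F))
    (e : Fin m → (Fin n → F)) : E1 →ₗ[F] (Fin m → F) :=
  LinearMap.pi (fun b => ((stdHerm hF n).lin (e b)).comp E1.subtype)

theorem pairing_apply (hF : Fintype.card F = q ^ 2) {m : ℕ} (E1 : Submodule F (Fin n → F))
    (e : Fin m → (Fin n → F)) (v : E1) (b : Fin m) :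
    pairing hF E1 e v b = Cfsg.hermForm n F q (v : Fin n → F) (e b) := rfl

theorem pairing_injective (hF : Fintype.card F = q ^ 2) {m : ℕ}
    {E0 E1 : Submodule F (Fin n → F)} (hE : Polar q m E0 E1)
    (e : Fin m → (Fin n → F)) (he : ∀ a, e a ∈ E0) (hLI : LinearIndependent F e) :
    Function.Injective (pairing hF E1 e) := by
  rw [← LinearMap.ker_eq_bot, LinearMap.ker_eq_bot']
  intro v hv
  have hspan := span_eq_of_li hE.fr0 e he hLI
  have h1 : ∀ u ∈ E0, Cfsg.hermForm n F q (v : Fin n → F) u = 0 := by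
    rw [← hspan]
    apply hH_span_right hF
    rintro _ ⟨b, rfl⟩
    have := congrFun hv b
    rwa [pairing_apply] at this
  exact Subtype.ext (hE.eq_zero_of_orth hF v.2 h1)

theorem pairing_surjective (hF : Fintype.card F = q ^ 2) {m : ℕ}
    {E0 E1 : Submodule F (Fin n → F)} (hE : Polar q m E0 E1)
    (e : Fin m → (Fin n → F)) (he : ∀ a, e a ∈ E0) (hLI : LinearIndependent F e) :
    Function.Surjective (pairing hF E1 e) := by
  have hfr : finrank F E1 = finrank F (Fin m → F) := by rw [hE.fr1]; simp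
  exact (LinearMap.injective_iff_surjective_of_finrank_eq_finrank hfr).mp
    (pairing_injective hF hE e he hLI)

/-- the dual family -/
theorem exists_dual (hF : Fintype.card F = q ^ 2) {m : ℕ}
    {E0 E1 : Submodule F (Fin n → F)} (hE : Polar q m E0 E1)
    (e : Fin m → (Fin n → F)) (he : ∀ a, e a ∈ E0) (hLI : LinearIndependent F e) :
    ∃ f : Fin m → (Fin n → F), (∀ a, f a ∈ E1) ∧
      ∀ a b, Cfsg.hermForm n F q (f a) (e b) = if a = b then 1 else 0 := by
  classical
  have hs := pairing_surjective hF hE e he hLI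
  choose f hf using fun a : Fin m => hs (Pi.single a 1)
  refine ⟨fun a => (f a : Fin n → F), fun a => (f a).2, fun a b => ?_⟩
  have := congrFun (hf a) b
  rw [pairing_apply] at this
  rw [this, Pi.single_apply]
  simp [eq_comm]

/-- a basis of an `m`-dimensional subspace, as a family of vectors -/
theorem exists_li_family {m : ℕ} {E : Submodule F (Fin n → F)} (hfr : finrank F E = m) :
    ∃ e : Fin m → (Fin n → F), (∀ a, e a ∈ E) ∧ LinearIndependent F e := by
  let b := Module.finBasisOfFinrankEq F E hfr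
  refine ⟨fun a => (b a : Fin n → F), fun a => (b a).2, ?_⟩
  exact b.linearIndependent.map' E.subtype (Submodule.ker_subtype E)

end Cfsg.Agent.Helper44.PP
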