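import Mathlib
import Cfsg.Agent.Lib.Helper44.PPa

/-!
# Hyperbolic families and transitivity of `SU` on polar pairs (helper44, for S5984)
-/

set_option autoImplicit false
set_option linter.unusedSectionVars false

namespace Cfsg.Agent.Helper44.PP

open Matrix Module Cfsg.Agent.Lead Cfsg.Agent.Helper19 Cfsg.Agent.Helper44

variable {F : Type*} [Field F] [Fintype F] {q : ℕ} {n : ℕ}

/-- a hyperbolic family -/
structure IsHyp (q : ℕ) {m : ℕ} (e f : Fin m → (Fin n → F)) : Prop where
  ee : ∀ a b, Cfsg.hermForm n F q (e a) (e b) = 0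
  ff : ∀ a b, Cfsg.hermForm n F q (f a) (f b) = 0
  fe : ∀ a b, Cfsg.hermForm n F q (f a) (e b) = if a = b then 1 else 0

theorem IsHyp.ef (hF : Fintype.card F = q ^ 2) {m : ℕ} {e f : Fin m → (Fin n → F)}
    (h : IsHyp q e f) (a b : Fin m) :
    Cfsg.hermForm n F q (e a) (f b) = if a = b then 1 else 0 := by
  have hq : q ≠ 0 := by have := herm_two_le hF; omega
  rw [hH_conj hF (f b) (e a), h.fe]
  by_cases hab : a = b
  · subst hab; simp
  · rw [if_neg hab, if_neg (fun h' => hab h'.symm), zero_pow hq]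

theorem IsHyp.li (hF : Fintype.card F = q ^ 2) {m : ℕ} {e f : Fin m → (Fin n → F)}
    (h : IsHyp q e f) : LinearIndependent F (Fin.append e f) := by
  classical
  rw [Fintype.linearIndependent_iff]
  intro g hg i
  rw [Fin.sum_univ_add] at hg
  simp only [Fin.append_left, Fin.append_right] at hg
  have key : ∀ w, Cfsg.hermForm n F q (∑ a, g (Fin.castAdd m a) • e a
      + ∑ a, g (Fin.natAdd m a) • f a) w = 0 := by
    intro w
    rw [hg]
    exact hH_zero_left hF w
  refine Fin.addCases (fun a => ?_) (fun a => ?_) i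
  · have h1 := key (f a)
    rw [hH_add_left hF, hH_sum_left hF, hH_sum_left hF] at h1
    simp only [h.ef hF, h.ff, mul_zero, Finset.sum_const_zero, add_zero, mul_ite, mul_one] at h1
    rw [Finset.sum_ite_eq' Finset.univ a] at h1
    simpa using h1
  · have h1 := key (e a)
    rw [hH_add_left hF, hH_sum_left hF, hH_sum_left hF] at h1
    simp only [h.ee, h.fe, mul_zero, Finset.sum_const_zero, zero_add, mul_ite, mul_one] at h1
    rw [Finset.sum_ite_eq' Finset.univ a] at h1
    simpa using h1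

theorem IsHyp.li_left (hF : Fintype.card F = q ^ 2) {m : ℕ} {e f : Fin m → (Fin n → F)}
    (h : IsHyp q e f) : LinearIndependent F e := by
  have h1 := (h.li hF).comp (Fin.castAdd m) (Fin.castAdd_injective m m)
  have h2 : Fin.append e f ∘ Fin.castAdd m = e := by
    funext a
    exact Fin.append_left e f a
  rwa [h2] at h1

theorem IsHyp.li_right (hF : Fintype.card F = q ^ 2) {m : ℕ} {e f : Fin m → (Fin n → F)}
    (h : IsHyp q e f) : LinearIndependent F f := by
  have h1 := (h.li hF).comp (Fin.natAdd m) (Fin.natAdd_injective m m)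
  have h2 : Fin.append e f ∘ Fin.natAdd m = f := by
    funext a
    exact Fin.append_right e f a
  rwa [h2] at h1

theorem IsHyp.gram_eq (hF : Fintype.card F = q ^ 2) {m : ℕ} {e f e' f' : Fin m → (Fin n → F)}
    (h : IsHyp q e f) (h' : IsHyp q e' f') (a b : Fin (m + m)) :
    Cfsg.hermForm n F q (Fin.append e f a) (Fin.append e f b) =
      Cfsg.hermForm n F q (Fin.append e' f' a) (Fin.append e' f' b) := by
  refine Fin.addCases (fun a => ?_) (fun a => ?_) a <;>
    refine Fin.addCases (fun b => ?_) (fun b => ?_) b <;>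
    simp only [Fin.append_left, Fin.append_right]
  · rw [h.ee, h'.ee]
  · rw [h.ef hF, h'.ef hF]
  · rw [h.fe, h'.fe]
  · rw [h.ff, h'.ff]

/-- Witt: `GU` is transitive on hyperbolic families -/
theorem exists_GU_hyp (hF : Fintype.card F = q ^ 2) {m : ℕ}
    {e f e' f' : Fin m → (Fin n → F)} (h : IsHyp q e f) (h' : IsHyp q e' f') :
    ∃ A : GL (Fin n) F, A ∈ Cfsg.GU n F q ∧
      (∀ a, (A : Matrix (Fin n) (Fin n) F) *ᵥ e a = e' a) ∧
      (∀ a, (A : Matrix (Fin n) (Fin n) F) *ᵥ f a = f' a) := by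
  obtain ⟨A, hA, hAx⟩ := Cfsg.Agent.Helper13.exists_GU_frame hF (Fin.append e f)
    (Fin.append e' f') (h.li hF) (h'.li hF) (h.gram_eq hF h')
  refine ⟨A, hA, fun a => ?_, fun a => ?_⟩
  · have := hAx (Fin.castAdd m a)
    rwa [Fin.append_left, Fin.append_left] at this
  · have := hAx (Fin.natAdd m a)
    rwa [Fin.append_right, Fin.append_right] at this

theorem IsHyp.scale (hF : Fintype.card F = q ^ 2) {m : ℕ} {e f : Fin m → (Fin n → F)}
    (h : IsHyp q e f) (s t : Fin m → F) (hst : ∀ a, t a * s a ^ q = 1) :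
    IsHyp q (fun a => s a • e a) (fun a => t a • f a) := by
  refine ⟨fun a b => ?_, fun a b => ?_, fun a b => ?_⟩
  · rw [hH_smul_left hF, hH_smul_right hF, h.ee, mul_zero, mul_zero]
  · rw [hH_smul_left hF, hH_smul_right hF, h.ff, mul_zero, mul_zero]
  · rw [hH_smul_left hF, hH_smul_right hF, h.fe]
    by_cases hab : a = b
    · subst hab
      rw [if_pos rfl, mul_one, hst]
    · rw [if_neg hab, mul_zero, mul_zero]

/-- determinant of a matrix scaling a basis -/
theorem det_of_scale (A : Matrix (Fin n) (Fin n) F) (x : Fin n → (Fin n → F))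
    (hx : LinearIndependent F x) (d : Fin n → F) (hA : ∀ a, A *ᵥ x a = d a • x a) :
    A.det = ∏ a, d a := by
  have hP : IsUnit (colMat x) := by
    rw [← Matrix.linearIndependent_cols_iff_isUnit]
    have : (colMat x).col = x := by
      funext j i
      rfl
    rw [this]
    exact hx
  have hdet : (colMat x).det ≠ 0 := ((Matrix.isUnit_iff_isUnit_det _).mp hP).ne_zero
  have hmul : A * colMat x = colMat x * Matrix.diagonal d := by
    apply Matrix.toLin'.injective
    apply LinearMap.ext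
    intro v
    rw [Matrix.toLin'_apply, Matrix.toLin'_apply, ← Matrix.mulVec_mulVec, ← Matrix.mulVec_mulVec,
      colMat_mulVec, colMat_mulVec, Matrix.mulVec_sum]
    apply Finset.sum_congr rfl
    intro a _
    rw [Matrix.mulVec_smul, hA, Matrix.mulVec_diagonal, smul_smul, mul_comm]
  have h2 := congrArg Matrix.det hmul
  rw [Matrix.det_mul, Matrix.det_mul, Matrix.det_diagonal, mul_comm] at h2
  exact mul_left_cancel₀ hdet h2

/-- Hilbert 90 for `F/F_q`: elements of norm one are `(q-1)`-th powers -/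
theorem exists_pow_sub_one (hF : Fintype.card F = q ^ 2) (δ : F) (hδ : δ ^ (q + 1) = 1) :
    ∃ c : F, c ≠ 0 ∧ c ^ q = c * δ := by
  classical
  have hq := herm_two_le hF
  have hδ0 : δ ≠ 0 := by
    intro h0
    rw [h0, zero_pow (by omega)] at hδ
    exact zero_ne_one hδ
  obtain ⟨ζ, hζ⟩ := IsCyclic.exists_generator (α := Fˣ)
  have hord : orderOf ζ = q ^ 2 - 1 := by
    rw [orderOf_eq_card_of_forall_mem_zpowers hζ, Nat.card_eq_fintype_card, Fintype.card_units, hF]
  obtain ⟨k, hk⟩ : ∃ k : ℕ, ζ ^ k = Units.mk0 δ hδ0 := by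
    have hmem := hζ (Units.mk0 δ hδ0)
    rw [← mem_powers_iff_mem_zpowers] at hmem
    exact hmem
  have h1 : ζ ^ (k * (q + 1)) = 1 := by
    rw [pow_mul, hk]
    apply Units.ext
    rw [Units.val_pow_eq_pow_val, Units.val_mk0, hδ, Units.val_one]
  have h2 : (q ^ 2 - 1) ∣ k * (q + 1) := by
    rw [← hord]
    exact orderOf_dvd_of_pow_eq_one h1
  have h3 : q ^ 2 - 1 = (q - 1) * (q + 1) := by
    have : q ^ 2 = (q - 1) * (q + 1) + 1 := by
      obtain ⟨j, rfl⟩ : ∃ j, q = j + 1 := ⟨q - 1, by omega⟩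
      simp only [Nat.add_sub_cancel]
      ring
    omega
  rw [h3] at h2
  have h4 : (q - 1) ∣ k := Nat.dvd_of_mul_dvd_mul_right (by omega) h2
  obtain ⟨j, rfl⟩ := h4
  refine ⟨((ζ ^ j : Fˣ) : F), Units.ne_zero _, ?_⟩
  have h5 : ((ζ ^ j : Fˣ) : F) ^ (q - 1) = δ := by
    rw [← Units.val_pow_eq_pow_val, ← pow_mul, mul_comm j, hk, Units.val_mk0]
  have h6 : q = (q - 1) + 1 := by omega
  conv_lhs => rw [h6, pow_succ, h5]
  rw [mul_comm]

end Cfsg.Agent.Helper44.PP
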