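import Mathlib
import Cfsg.Agent.Lib.Helper44.PPb

/-!
# `SU` is transitive on polar pairs (helper44, for S5984)
-/

set_option autoImplicit false
set_option linter.unusedSectionVars false

namespace Cfsg.Agent.Helper44.PP

open Matrix Module Cfsg.Agent.Lead Cfsg.Agent.Helper19 Cfsg.Agent.Helper44

variable {F : Type*} [Field F] [Fintype F] {q : ℕ} {n : ℕ}

/-- a polar pair has an adapted hyperbolic family -/
theorem Polar.exists_hyp (hF : Fintype.card F = q ^ 2) {m : ℕ}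
    {E0 E1 : Submodule F (Fin n → F)} (hE : Polar q m E0 E1) :
    ∃ e f : Fin m → (Fin n → F), (∀ a, e a ∈ E0) ∧ (∀ a, f a ∈ E1) ∧ IsHyp q e f := by
  obtain ⟨e, he, hLI⟩ := exists_li_family hE.fr0
  obtain ⟨f, hf, hfe⟩ := exists_dual hF hE e he hLI
  exact ⟨e, f, he, hf, ⟨fun a b => hE.ts0 _ (he a) _ (he b),
    fun a b => hE.ts1 _ (hf a) _ (hf b), hfe⟩⟩

theorem map_eq_of_li {m : ℕ} {D0 E0 : Submodule F (Fin n → F)} (hD : finrank F D0 = m)
    (hE : finrank F E0 = m) (A : Matrix (Fin n) (Fin n) F) (e e' : Fin m → (Fin n → F))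
    (he : ∀ a, e a ∈ D0) (hLI : LinearIndependent F e) (he' : ∀ a, e' a ∈ E0)
    (hLI' : LinearIndependent F e') (hA : ∀ a, A *ᵥ e a = e' a) :
    D0.map (Matrix.toLin' A) = E0 := by
  rw [← span_eq_of_li hD e he hLI, ← span_eq_of_li hE e' he' hLI', Submodule.map_span]
  congr 1
  ext v
  constructor
  · rintro ⟨_, ⟨a, rfl⟩, rfl⟩
    exact ⟨a, by rw [Matrix.toLin'_apply, hA]⟩
  · rintro ⟨a, rfl⟩
    exact ⟨e a, ⟨a, rfl⟩, by rw [Matrix.toLin'_apply, hA]⟩

/-- `SU_{2m}` is transitive on polar pairs -/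
theorem exists_SU_map_polar (hF : Fintype.card F = q ^ 2) {m : ℕ} (hm : 1 ≤ m)
    {D0 D1 E0 E1 : Submodule F (Fin (m + m) → F)}
    (hD : Polar q m D0 D1) (hE : Polar q m E0 E1) :
    ∃ A : GL (Fin (m + m)) F, A ∈ Cfsg.GU (m + m) F q ∧
      (A : Matrix (Fin (m + m)) (Fin (m + m)) F).det = 1 ∧
      D0.map (Matrix.toLin' (A : Matrix (Fin (m + m)) (Fin (m + m)) F)) = E0 ∧
      D1.map (Matrix.toLin' (A : Matrix (Fin (m + m)) (Fin (m + m)) F)) = E1 := by
  classical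
  obtain ⟨e, f, he, hf, h⟩ := hD.exists_hyp hF
  obtain ⟨e', f', he', hf', h'⟩ := hE.exists_hyp hF
  obtain ⟨A₁, hA₁, hA₁e, hA₁f⟩ := exists_GU_hyp hF h h'
  obtain ⟨δ, hδdef⟩ : ∃ δ : F, δ = (A₁ : Matrix (Fin (m + m)) (Fin (m + m)) F).det := ⟨_, rfl⟩
  have hδ : δ ^ (q + 1) = 1 := by rw [hδdef]; exact GU_det_pow hF A₁ hA₁
  have hδ0 : δ ≠ 0 := by
    intro h0
    rw [h0, zero_pow (by omega)] at hδ
    exact zero_ne_one hδ
  obtain ⟨c, hc0, hc⟩ := exists_pow_sub_one hF δ hδ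
  have hcq0 : c ^ q ≠ 0 := pow_ne_zero _ hc0
  let a0 : Fin m := ⟨0, hm⟩
  let s : Fin m → F := Function.update (fun _ => (1 : F)) a0 c
  let t : Fin m → F := Function.update (fun _ => (1 : F)) a0 (c ^ q)⁻¹
  have hst : ∀ a, t a * s a ^ q = 1 := by
    intro a
    by_cases ha : a = a0
    · subst ha
      simp only [s, t, Function.update_self]
      exact inv_mul_cancel₀ hcq0
    · simp only [s, t, Function.update_of_ne ha, one_pow, mul_one]
  have h'' := h'.scale hF s t hst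
  obtain ⟨A₂, hA₂, hA₂e, hA₂f⟩ := exists_GU_hyp hF h h''
  have hinv : ∀ v, ((A₁⁻¹ : GL (Fin (m + m)) F) : Matrix (Fin (m + m)) (Fin (m + m)) F) *ᵥ
      ((A₁ : Matrix (Fin (m + m)) (Fin (m + m)) F) *ᵥ v) = v := by
    intro v
    rw [Matrix.mulVec_mulVec, ← Units.val_mul, inv_mul_cancel, Units.val_one, Matrix.one_mulVec]
  have hM : ∀ a : Fin (m + m),
      ((A₂ * A₁⁻¹ : GL (Fin (m + m)) F) : Matrix (Fin (m + m)) (Fin (m + m)) F) *ᵥ
        (Fin.append e' f' a) = (Fin.append s t a) • Fin.append e' f' a := by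
    intro a
    refine Fin.addCases (fun a => ?_) (fun a => ?_) a
    · rw [Fin.append_left, Fin.append_left, Units.val_mul, ← Matrix.mulVec_mulVec, ← hA₁e, hinv,
        hA₂e, hA₁e]
    · rw [Fin.append_right, Fin.append_right, Units.val_mul, ← Matrix.mulVec_mulVec, ← hA₁f, hinv,
        hA₂f, hA₁f]
  have hdetM := det_of_scale _ (Fin.append e' f') (h'.li hF) (Fin.append s t) hM
  have hprod : ∏ a, Fin.append s t a = c * (c ^ q)⁻¹ := by
    rw [Fin.prod_univ_add]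
    simp only [Fin.append_left, Fin.append_right]
    rw [Fintype.prod_eq_single a0, Fintype.prod_eq_single a0]
    · simp only [s, t, Function.update_self]
    · intro a ha
      simp only [t, Function.update_of_ne ha]
    · intro a ha
      simp only [s, Function.update_of_ne ha]
  have hdet2 : (A₂ : Matrix (Fin (m + m)) (Fin (m + m)) F).det = 1 := by
    rw [hprod, Units.val_mul, Matrix.det_mul] at hdetM
    have h3 : ((A₁⁻¹ : GL (Fin (m + m)) F) : Matrix (Fin (m + m)) (Fin (m + m)) F).det = δ⁻¹ := by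
      have h4 : ((A₁⁻¹ : GL (Fin (m + m)) F) : Matrix (Fin (m + m)) (Fin (m + m)) F).det * δ = 1 := by
        rw [hδdef, ← Matrix.det_mul, ← Units.val_mul, inv_mul_cancel, Units.val_one, Matrix.det_one]
      exact eq_inv_of_mul_eq_one_left h4
    rw [h3, hc] at hdetM
    have h5 : (A₂ : Matrix (Fin (m + m)) (Fin (m + m)) F).det
        = (A₂ : Matrix (Fin (m + m)) (Fin (m + m)) F).det * δ⁻¹ * δ := by
      rw [mul_assoc, inv_mul_cancel₀ hδ0, mul_one]
    rw [h5, hdetM]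
    field_simp
  refine ⟨A₂, hA₂, hdet2, ?_, ?_⟩
  · exact map_eq_of_li hD.fr0 hE.fr0 _ e (fun a => s a • e' a) he (h.li_left hF)
      (fun a => E0.smul_mem _ (he' a)) (h''.li_left hF) hA₂e
  · exact map_eq_of_li hD.fr1 hE.fr1 _ f (fun a => t a • f' a) hf (h.li_right hF)
      (fun a => E1.smul_mem _ (hf' a)) (h''.li_right hF) hA₂f

end Cfsg.Agent.Helper44.PP
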