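import Mathlib
import Cfsg.Agent.Lib.Helper44.PPc

/-!
# Totally singular subspaces, eigenspaces of unitary elements (helper44, for S5984)
-/

set_option autoImplicit false
set_option linter.unusedSectionVars false

namespace Cfsg.Agent.Helper44.PP

open Matrix Module Cfsg.Agent.Lead Cfsg.Agent.Helper19 Cfsg.Agent.Helper44

variable {F : Type*} [Field F] [Fintype F] {q : ℕ} {n : ℕ}

/-- totally singular -/
def TS (q : ℕ) (W : Submodule F (Fin n → F)) : Prop :=
  ∀ u ∈ W, ∀ v ∈ W, Cfsg.hermForm n F q u v = 0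

/-- orthogonal subspaces -/
def Orth (q : ℕ) (W W' : Submodule F (Fin n → F)) : Prop :=
  ∀ u ∈ W, ∀ v ∈ W', Cfsg.hermForm n F q u v = 0

theorem Orth.symm (hF : Fintype.card F = q ^ 2) {W W' : Submodule F (Fin n → F)}
    (h : Orth q W W') : Orth q W' W :=
  fun u hu v hv => hH_eq_zero_symm hF (h v hv u hu)

theorem ts_span (hF : Fintype.card F = q ^ 2) {ι : Type*} (e : ι → (Fin n → F))
    (hee : ∀ a b, Cfsg.hermForm n F q (e a) (e b) = 0) : TS q (Submodule.span F (Set.range e)) := by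
  intro u hu v hv
  refine hH_span_left hF v _ ?_ u hu
  rintro _ ⟨a, rfl⟩
  refine hH_span_right hF (e a) _ ?_ v hv
  rintro _ ⟨b, rfl⟩
  exact hee a b

theorem ts_sup (hF : Fintype.card F = q ^ 2) {W W' : Submodule F (Fin n → F)}
    (h1 : TS q W) (h2 : TS q W') (h12 : Orth q W W') : TS q (W ⊔ W') := by
  intro u hu v hv
  obtain ⟨u1, hu1, u2, hu2, rfl⟩ := Submodule.mem_sup.mp hu
  obtain ⟨v1, hv1, v2, hv2, rfl⟩ := Submodule.mem_sup.mp hv
  rw [hH_add_left hF, hH_add_right hF, hH_add_right hF, h1 u1 hu1 v1 hv1, h12 u1 hu1 v2 hv2,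
    h12.symm hF u2 hu2 v1 hv1, h2 u2 hu2 v2 hv2]
  simp

/-- Lemma G: complementary-spanning totally singular subspaces -/
theorem finrank_le_of_ts (hF : Fintype.card F = q ^ 2) {W₁ W₂ : Submodule F (Fin n → F)}
    (h2 : TS q W₂) (hsup : W₁ ⊔ W₂ = ⊤) : finrank F W₂ ≤ finrank F W₁ := by
  obtain ⟨e, he, hLI⟩ := exists_li_family (E := W₁) rfl
  have hinj : Function.Injective (pairing hF W₂ e) := by
    rw [← LinearMap.ker_eq_bot, LinearMap.ker_eq_bot']
    intro v hv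
    have hspan := span_eq_of_li rfl e he hLI
    have h1 : ∀ u ∈ W₁, Cfsg.hermForm n F q (v : Fin n → F) u = 0 := by
      rw [← hspan]
      apply hH_span_right hF
      rintro _ ⟨b, rfl⟩
      have := congrFun hv b
      rwa [pairing_apply] at this
    apply Subtype.ext
    apply eq_zero_of_forall_right hF
    intro w
    have hw : w ∈ W₁ ⊔ W₂ := by rw [hsup]; trivial
    obtain ⟨u, hu, u', hu', rfl⟩ := Submodule.mem_sup.mp hw
    rw [hH_add_right hF, h1 u hu, h2 v v.2 u' hu', add_zero]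
  have := LinearMap.finrank_le_finrank_of_injective hinj
  simpa using this

theorem polar_of_ts (hF : Fintype.card F = q ^ 2) {m : ℕ}
    {W₁ W₂ : Submodule F (Fin (m + m) → F)} (h1 : TS q W₁) (h2 : TS q W₂)
    (hsup : W₁ ⊔ W₂ = ⊤) (hle : finrank F W₁ + finrank F W₂ ≤ m + m) : Polar q m W₁ W₂ := by
  have ha := finrank_le_of_ts hF h2 hsup
  have hb := finrank_le_of_ts hF h1 (by rw [sup_comm]; exact hsup)
  have hsum := Submodule.finrank_sup_add_finrank_inf_eq W₁ W₂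
  rw [hsup, finrank_top, Module.finrank_fin_fun] at hsum
  have hinf : finrank F ↥(W₁ ⊓ W₂) = 0 := by omega
  refine ⟨h1, h2, by omega, by omega, ?_, hsup⟩
  exact Submodule.finrank_eq_zero.mp hinf

/-! ### eigenspaces -/

/-- the eigenspace of a matrix -/
noncomputable def eig (X : Matrix (Fin n) (Fin n) F) (c : F) : Submodule F (Fin n → F) :=
  Module.End.eigenspace (Matrix.toLin' X) c

theorem mem_eig (X : Matrix (Fin n) (Fin n) F) (c : F) (v : Fin n → F) :
    v ∈ eig X c ↔ X *ᵥ v = c • v := by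
  unfold eig
  rw [Module.End.mem_eigenspace_iff, Matrix.toLin'_apply]

theorem map_eq_of_le_eig (X : Matrix (Fin n) (Fin n) F) {c : F} (hc : c ≠ 0)
    {P : Submodule F (Fin n → F)} (hP : P ≤ eig X c) : P.map (Matrix.toLin' X) = P := by
  ext w
  constructor
  · rintro ⟨u, hu, rfl⟩
    rw [Matrix.toLin'_apply, (mem_eig X c u).mp (hP hu)]
    exact P.smul_mem c hu
  · intro hw
    refine ⟨c⁻¹ • w, P.smul_mem _ hw, ?_⟩
    rw [Matrix.toLin'_apply, Matrix.mulVec_smul, (mem_eig X c w).mp (hP hw), smul_smul,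
      inv_mul_cancel₀ hc, one_smul]

theorem eig_orth (hF : Fintype.card F = q ^ 2) (X : Matrix (Fin n) (Fin n) F)
    (hX : ∀ u v, Cfsg.hermForm n F q (X *ᵥ u) (X *ᵥ v) = Cfsg.hermForm n F q u v)
    {c c' : F} (hcc : c * c' ^ q ≠ 1) : Orth q (eig X c) (eig X c') := by
  intro u hu v hv
  have h1 := hX u v
  rw [(mem_eig X c u).mp hu, (mem_eig X c' v).mp hv, hH_smul_left hF, hH_smul_right hF,
    ← mul_assoc] at h1
  by_contra h0
  apply hcc
  have h2 : (c * c' ^ q - 1) * Cfsg.hermForm n F q u v = 0 := by linear_combination h1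
  rcases mul_eq_zero.mp h2 with h3 | h3
  · linear_combination h3
  · exact absurd h3 h0

/-- eigenspace decomposition of an element with `X^2 = ν^2` -/
theorem eig_sup_eq_top (h2 : (2 : F) ≠ 0) (X : Matrix (Fin n) (Fin n) F) {ν : F} (hν : ν ≠ 0)
    (hXX : X * X = (ν * ν) • (1 : Matrix (Fin n) (Fin n) F)) : eig X ν ⊔ eig X (-ν) = ⊤ := by
  rw [eq_top_iff]
  intro v _
  have hXXv : X *ᵥ (X *ᵥ v) = (ν * ν) • v := by
    rw [Matrix.mulVec_mulVec, hXX, Matrix.smul_mulVec, Matrix.one_mulVec]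
  rw [Submodule.mem_sup]
  refine ⟨(2 : F)⁻¹ • (v + ν⁻¹ • X *ᵥ v), ?_, (2 : F)⁻¹ • (v - ν⁻¹ • X *ᵥ v), ?_, ?_⟩
  · rw [mem_eig, Matrix.mulVec_smul, Matrix.mulVec_add, Matrix.mulVec_smul, hXXv]
    funext i
    simp only [Pi.smul_apply, Pi.add_apply, smul_eq_mul]
    field_simp
    ring
  · rw [mem_eig, Matrix.mulVec_smul, Matrix.mulVec_sub, Matrix.mulVec_smul, hXXv]
    funext i
    simp only [Pi.smul_apply, Pi.sub_apply, smul_eq_mul]
    field_simp
    ring
  · rw [← smul_add]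
    have : v + ν⁻¹ • X *ᵥ v + (v - ν⁻¹ • X *ᵥ v) = (2 : F) • v := by
      rw [two_smul]; abel
    rw [this, smul_smul, inv_mul_cancel₀ h2, one_smul]

theorem eig_inf_eq_bot (h2 : (2 : F) ≠ 0) (X : Matrix (Fin n) (Fin n) F) {ν : F} (hν : ν ≠ 0) :
    eig X ν ⊓ eig X (-ν) = ⊥ := by
  rw [eq_bot_iff]
  rintro v ⟨h1, h1'⟩
  rw [SetLike.mem_coe, mem_eig] at h1 h1'
  rw [h1] at h1'
  have h3 : ((2 : F) * ν) • v = 0 := by
    rw [mul_smul, two_smul]
    have : ν • v + ν • v = ν • v - (-ν) • v := by rw [neg_smul, sub_neg_eq_add]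
    rw [this, ← h1', sub_self]
  rcases smul_eq_zero.mp h3 with h4 | h4
  · exact absurd h4 (mul_ne_zero h2 hν)
  · exact h4

end Cfsg.Agent.Helper44.PP
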