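import Mathlib
import Cfsg.Agent.Lib.Helper44.PPd

/-!
# Polar pairs inside nondegenerate subspaces; determinants of diagonalisable matrices
(helper44, for S5984)
-/

set_option autoImplicit false
set_option linter.unusedSectionVars false

namespace Cfsg.Agent.Helper44.PP

open Matrix Module Cfsg.Agent.Lead Cfsg.Agent.Helper19 Cfsg.Agent.Helper44

variable {F : Type*} [Field F] [Fintype F] {q : ℕ} {n : ℕ}

/-- Lemma Q: a nondegenerate subspace of even dimension is the sum of two totally singular
subspaces of half the dimension (`q` odd). -/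
theorem exists_polar_in (hF : Fintype.card F = q ^ 2) (h2 : (2 : F) ≠ 0) (hq : Odd q)
    (W : Submodule F (Fin n → F))
    (hW : ∀ u ∈ W, (∀ v ∈ W, Cfsg.hermForm n F q v u = 0) → u = 0) {k : ℕ}
    (hk : finrank F W = k + k) :
    ∃ P0 P1 : Submodule F (Fin n → F), P0 ≤ W ∧ P1 ≤ W ∧ TS q P0 ∧ TS q P1 ∧
      finrank F P0 ≤ k ∧ finrank F P1 ≤ k ∧ W ≤ P0 ⊔ P1 := by
  classical
  have hB : ((stdHerm hF n).restrict W).Nondeg :=
    fun u hu => Subtype.ext (hW u u.2 (fun v hv => hu ⟨v, hv⟩))
  obtain ⟨x, hx⟩ := exists_frame hF (k + k) W ((stdHerm hF n).restrict W) hB hk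
  have hxx : ∀ i j, Cfsg.hermForm n F q (x i : Fin n → F) (x j : Fin n → F)
      = if i = j then 1 else 0 := fun i j => hx i j
  obtain ⟨ε, hε⟩ := exists_zeta' hF
  have hne : ∀ a b : Fin k, Fin.castAdd k a ≠ Fin.natAdd k b := by
    intro a b h
    have := congrArg Fin.val h
    simp at this
    omega
  have hcc : ∀ a b : Fin k, (Fin.castAdd k a = Fin.castAdd k b) ↔ a = b :=
    fun a b => (Fin.castAdd_injective k k).eq_iff
  have hnn : ∀ a b : Fin k, (Fin.natAdd k a = Fin.natAdd k b) ↔ a = b :=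
    fun a b => (Fin.natAdd_injective k k).eq_iff
  have h00 : ∀ a b : Fin k, Cfsg.hermForm n F q (x (Fin.castAdd k a) : Fin n → F)
      (x (Fin.castAdd k b) : Fin n → F) = if a = b then 1 else 0 := by
    intro a b; rw [hxx]; simp only [hcc]
  have h11 : ∀ a b : Fin k, Cfsg.hermForm n F q (x (Fin.natAdd k a) : Fin n → F)
      (x (Fin.natAdd k b) : Fin n → F) = if a = b then 1 else 0 := by
    intro a b; rw [hxx]; simp only [hnn]
  have h01 : ∀ a b : Fin k, Cfsg.hermForm n F q (x (Fin.castAdd k a) : Fin n → F)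
      (x (Fin.natAdd k b) : Fin n → F) = 0 := by
    intro a b; rw [hxx, if_neg (hne a b)]
  have h10 : ∀ a b : Fin k, Cfsg.hermForm n F q (x (Fin.natAdd k a) : Fin n → F)
      (x (Fin.castAdd k b) : Fin n → F) = 0 := by
    intro a b; rw [hxx, if_neg (fun h => hne b a h.symm)]
  have hεq : (-ε) * (-ε) ^ q = -1 := by
    have he : Even (q + 1) := by
      obtain ⟨j, hj⟩ := hq
      exact ⟨j + 1, by omega⟩
    rw [← pow_succ', he.neg_pow, hε]
  have hεq' : ε * ε ^ q = -1 := by rw [← pow_succ', hε]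
  let e : Fin k → (Fin n → F) := fun a =>
    (x (Fin.castAdd k a) : Fin n → F) + ε • (x (Fin.natAdd k a) : Fin n → F)
  let f : Fin k → (Fin n → F) := fun a =>
    (2 : F)⁻¹ • ((x (Fin.castAdd k a) : Fin n → F) + (-ε) • (x (Fin.natAdd k a) : Fin n → F))
  have hee : ∀ a b, Cfsg.hermForm n F q (e a) (e b) = 0 := by
    intro a b
    simp only [e]
    rw [hH_add_left hF, hH_add_right hF, hH_add_right hF, hH_smul_left hF, hH_smul_left hF,
      hH_smul_right hF, hH_smul_right hF, h00, h01, h10, h11]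
    by_cases hab : a = b
    · rw [if_pos hab]; linear_combination hεq'
    · rw [if_neg hab]; ring
  have hff : ∀ a b, Cfsg.hermForm n F q (f a) (f b) = 0 := by
    intro a b
    simp only [f]
    rw [hH_smul_left hF, hH_smul_right hF, hH_add_left hF, hH_add_right hF, hH_add_right hF,
      hH_smul_left hF, hH_smul_left hF, hH_smul_right hF, hH_smul_right hF, h00, h01, h10, h11]
    by_cases hab : a = b
    · rw [if_pos hab]; linear_combination ((2 : F)⁻¹ * ((2 : F)⁻¹) ^ q) * hεq
    · rw [if_neg hab]; ring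
  have hfe : ∀ a b, Cfsg.hermForm n F q (f a) (e b) = if a = b then 1 else 0 := by
    intro a b
    simp only [f, e]
    rw [hH_smul_left hF, hH_add_left hF, hH_add_right hF, hH_add_right hF,
      hH_smul_left hF, hH_smul_left hF, hH_smul_right hF, hH_smul_right hF, h00, h01, h10, h11]
    by_cases hab : a = b
    · rw [if_pos hab]
      have : (2 : F)⁻¹ * (1 + ε ^ q * 0 + (-ε * 0 + -ε * (ε ^ q * 1))) = (2 : F)⁻¹ * (1 - ε * ε ^ q) := by
        ring
      rw [this, hεq']
      field_simp
      norm_num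
    · rw [if_neg hab]; ring
  have hyp : IsHyp q e f := ⟨hee, hff, hfe⟩
  have heW : ∀ a, e a ∈ W := fun a =>
    W.add_mem (x (Fin.castAdd k a)).2 (W.smul_mem _ (x (Fin.natAdd k a)).2)
  have hfW : ∀ a, f a ∈ W := fun a =>
    W.smul_mem _ (W.add_mem (x (Fin.castAdd k a)).2 (W.smul_mem _ (x (Fin.natAdd k a)).2))
  refine ⟨Submodule.span F (Set.range e), Submodule.span F (Set.range f), ?_, ?_,
    ts_span hF e hee, ts_span hF f hff, ?_, ?_, ?_⟩
  · rw [Submodule.span_le]; rintro _ ⟨a, rfl⟩; exact heW a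
  · rw [Submodule.span_le]; rintro _ ⟨a, rfl⟩; exact hfW a
  · have := finrank_span_le_card (R := F) (Set.range e)
    refine this.trans ?_
    rw [Set.toFinset_range]
    exact (Finset.card_image_le).trans (by simp)
  · have := finrank_span_le_card (R := F) (Set.range f)
    refine this.trans ?_
    rw [Set.toFinset_range]
    exact (Finset.card_image_le).trans (by simp)
  · have hli := hyp.li hF
    have hle : Submodule.span F (Set.range (Fin.append e f)) ≤ W := by
      rw [Submodule.span_le]
      rintro _ ⟨i, rfl⟩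
      refine Fin.addCases (fun a => ?_) (fun a => ?_) i
      · rw [Fin.append_left]; exact heW a
      · rw [Fin.append_right]; exact hfW a
    have heq : Submodule.span F (Set.range (Fin.append e f)) = W := by
      apply Submodule.eq_of_le_of_finrank_eq hle
      rw [finrank_span_eq_card hli, Fintype.card_fin, hk]
    rw [← heq, Submodule.span_le]
    rintro _ ⟨i, rfl⟩
    refine Fin.addCases (fun a => ?_) (fun a => ?_) i
    · rw [Fin.append_left]
      exact (le_sup_left : _ ≤ Submodule.span F (Set.range e) ⊔ Submodule.span F (Set.range f))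
        (Submodule.subset_span ⟨a, rfl⟩)
    · rw [Fin.append_right]
      exact (le_sup_right : _ ≤ Submodule.span F (Set.range e) ⊔ Submodule.span F (Set.range f))
        (Submodule.subset_span ⟨a, rfl⟩)

/-- determinant of a matrix acting by two scalars on complementary families -/
theorem det_of_scale_sum {a b : ℕ} (hab : a + b = n) (A : Matrix (Fin n) (Fin n) F)
    (x : Fin a → (Fin n → F)) (y : Fin b → (Fin n → F))
    (hLI : LinearIndependent F (Sum.elim x y)) (c d : F) (hx : ∀ i, A *ᵥ x i = c • x i)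
    (hy : ∀ j, A *ᵥ y j = d • y j) : A.det = c ^ a * d ^ b := by
  let e : Fin a ⊕ Fin b ≃ Fin n := finSumFinEquiv.trans (finCongr hab)
  have hLI' : LinearIndependent F (Sum.elim x y ∘ e.symm) :=
    hLI.comp e.symm e.symm.injective
  have hA : ∀ k, A *ᵥ (Sum.elim x y ∘ e.symm) k
      = ((Sum.elim (fun _ : Fin a => c) (fun _ : Fin b => d)) ∘ e.symm) k
        • (Sum.elim x y ∘ e.symm) k := by
    intro k
    simp only [Function.comp_apply]
    rcases e.symm k with i | j
    · exact hx i
    · exact hy j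
  rw [det_of_scale A _ hLI' _ hA]
  simp only [Function.comp_apply]
  rw [Equiv.prod_comp e.symm (Sum.elim (fun _ : Fin a => c) (fun _ : Fin b => d)),
    Fintype.prod_sum_type]
  simp

/-- parity from the 2-adic condition -/
theorem even_of_pow_eq (h2 : (2 : F) ≠ 0) {ν : F} (hν : ν ^ (q + 1) = 1) {N : ℕ}
    (hval : padicValNat 2 (q + 1) ≤ padicValNat 2 N) (b : ℕ) (h : ν ^ N * (-1) ^ b = 1) :
    Even b := by
  by_contra hodd
  rw [Nat.not_even_iff_odd] at hodd
  rw [hodd.neg_one_pow] at h
  have hνN : ν ^ N = -1 := by linear_combination -h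
  have hdvd : 2 ^ padicValNat 2 (q + 1) ∣ N :=
    (pow_dvd_pow 2 hval).trans pow_padicValNat_dvd
  obtain ⟨N₁, hN₁⟩ := hdvd
  have hq1 : q + 1 = 2 ^ padicValNat 2 (q + 1) * ordCompl[2] (q + 1) := by
    rw [← Nat.factorization_def _ Nat.prime_two]
    exact (Nat.ordProj_mul_ordCompl_eq_self (q + 1) 2).symm
  have hodd_t : Odd (ordCompl[2] (q + 1)) := by
    rw [← Nat.not_even_iff_odd, even_iff_two_dvd]
    exact Nat.not_dvd_ordCompl Nat.prime_two (by omega)
  have h3 : N * ordCompl[2] (q + 1) = N₁ * (q + 1) := by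
    rw [hN₁]
    conv_rhs => rw [hq1]
    ring
  have h4 : ν ^ (N * ordCompl[2] (q + 1)) = 1 := by
    rw [h3, mul_comm, pow_mul, hν, one_pow]
  rw [pow_mul, hνN, hodd_t.neg_one_pow] at h4
  apply h2
  linear_combination -h4

end Cfsg.Agent.Helper44.PP
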