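import Mathlib
import Cfsg.Agent.Lib.Helper44.PPe

/-!
# Involutions modulo scalars of `SU_{2m}(q)`, `q` odd, fix a polar pair when `(q+1)_2 ≤ (2m)_2`
(helper44, for S5984)
-/

set_option autoImplicit false
set_option linter.unusedSectionVars false

namespace Cfsg.Agent.Helper44.PP

open Matrix Module Cfsg.Agent.Lead Cfsg.Agent.Helper19 Cfsg.Agent.Helper44

variable {F : Type*} [Field F] [Fintype F] {q : ℕ} {n : ℕ}

theorem two_ne_zero_of_odd (hF : Fintype.card F = q ^ 2) (hq : Odd q) : (2 : F) ≠ 0 := by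
  intro h2
  have hchar : ringChar F = 2 := by
    have hdvd : ringChar F ∣ 2 := by
      have := (ringChar.spec F 2).mp (by exact_mod_cast h2)
      exact this
    rcases (Nat.dvd_prime Nat.prime_two).mp hdvd with h | h
    · exact absurd h (CharP.ringChar_ne_one)
    · exact h
  have h3 : (2 : ℕ) ∣ Fintype.card F := by
    obtain ⟨k, hk, hk'⟩ := FiniteField.card F (ringChar F)
    rw [hk', hchar]
    exact dvd_pow_self 2 k.ne_zero
  rw [hF] at h3
  have := hq.pow (n := 2)
  rw [← Nat.not_even_iff_odd, even_iff_two_dvd] at this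
  exact this h3

theorem ringChar_ne_two_of_odd (hF : Fintype.card F = q ^ 2) (hq : Odd q) : ringChar F ≠ 2 := by
  intro h
  apply two_ne_zero_of_odd hF hq
  have := (ringChar.spec F 2).mpr (by rw [h])
  exact_mod_cast this

/-- elements of norm one are squares (`q` odd) -/
theorem exists_sqrt_of_norm_one (hF : Fintype.card F = q ^ 2) (hq : Odd q) {z : F}
    (hz : z ^ (q + 1) = 1) : ∃ ν : F, ν * ν = z := by
  have hz0 : z ≠ 0 := by
    intro h0
    rw [h0, zero_pow (by omega)] at hz
    exact zero_ne_one hz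
  have hsq : IsSquare z := by
    rw [FiniteField.isSquare_iff (ringChar_ne_two_of_odd hF hq) hz0, hF]
    obtain ⟨j, hj⟩ := hq
    have h1 : q ^ 2 / 2 = (q + 1) * j := by
      subst hj
      have : (2 * j + 1) ^ 2 = 2 * ((2 * j + 1 + 1) * j) + 1 := by ring
      rw [this]
      omega
    rw [h1, pow_mul, hz, one_pow]
  obtain ⟨ν, hν⟩ := hsq
  exact ⟨ν, hν.symm⟩

/-- the core of the `⇐` direction -/
theorem exists_fixed_polar (hF : Fintype.card F = q ^ 2) (hq : Odd q) {m : ℕ} (hm : 1 ≤ m)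
    (hval : padicValNat 2 (q + 1) ≤ padicValNat 2 (m + m))
    (X : Matrix (Fin (m + m)) (Fin (m + m)) F)
    (hX : ∀ u v, Cfsg.hermForm (m + m) F q (X *ᵥ u) (X *ᵥ v) = Cfsg.hermForm (m + m) F q u v)
    (hdet : X.det = 1) (z : F) (hz : X * X = z • (1 : Matrix (Fin (m + m)) (Fin (m + m)) F)) :
    ∃ E0 E1 : Submodule F (Fin (m + m) → F), Polar q m E0 E1 ∧
      E0.map (Matrix.toLin' X) = E0 ∧ E1.map (Matrix.toLin' X) = E1 := by
  classical
  have h2 := two_ne_zero_of_odd hF hq
  have hq0 : q ≠ 0 := by have := herm_two_le hF; omega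
  have hqe : Even (q + 1) := by
    obtain ⟨j, hj⟩ := hq
    exact ⟨j + 1, by omega⟩
  -- `z` has norm one
  have hznorm : z ^ (q + 1) = 1 := by
    let i0 : Fin (m + m) := ⟨0, by omega⟩
    have h1 := hX (X *ᵥ Pi.single i0 1) (X *ᵥ Pi.single i0 1)
    have h3 : X *ᵥ (X *ᵥ Pi.single i0 1) = z • Pi.single i0 1 := by
      rw [Matrix.mulVec_mulVec, hz, Matrix.smul_mulVec, Matrix.one_mulVec]
    rw [h3, hX, hH_smul_left hF, hH_smul_right hF, hermForm_single_single hq0, if_pos rfl] at h1
    rw [pow_succ']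
    linear_combination h1
  obtain ⟨ν, hν⟩ := exists_sqrt_of_norm_one hF hq hznorm
  have hν0 : ν ≠ 0 := by
    rintro rfl
    rw [mul_zero] at hν
    rw [← hν, zero_pow (by omega)] at hznorm
    exact zero_ne_one hznorm
  have hXX : X * X = (ν * ν) • (1 : Matrix (Fin (m + m)) (Fin (m + m)) F) := by rw [hν]; exact hz
  have hνpm : ν ^ (q + 1) = 1 ∨ ν ^ (q + 1) = -1 := by
    apply mul_self_eq_one_iff.mp
    rw [← mul_pow, hν, hznorm]
  have hsup := eig_sup_eq_top h2 X hν0 hXX
  have hinf := eig_inf_eq_bot h2 X hν0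
  have hnegν : (-ν) ^ (q + 1) = ν ^ (q + 1) := hqe.neg_pow ν
  have hnegq : (-ν) ^ q = -(ν ^ q) := hq.neg_pow ν
  rcases hνpm with hν1 | hν1
  · -- orthogonal decomposition
    have horth : Orth q (eig X ν) (eig X (-ν)) := by
      apply eig_orth hF X hX
      rw [hnegq, mul_neg, ← pow_succ', hν1]
      intro h
      apply h2
      linear_combination -h
    have hnd : ∀ (W W' : Submodule F (Fin (m + m) → F)), W ⊔ W' = ⊤ → Orth q W' W →
        ∀ u ∈ W, (∀ v ∈ W, Cfsg.hermForm (m + m) F q v u = 0) → u = 0 := by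
      intro W W' hWW ho u hu hv
      apply eq_zero_of_forall_left hF
      intro w
      have hw : w ∈ W ⊔ W' := by rw [hWW]; trivial
      obtain ⟨w1, hw1, w2, hw2, rfl⟩ := Submodule.mem_sup.mp hw
      rw [hH_add_left hF, hv w1 hw1, ho w2 hw2 u hu, add_zero]
    have hnd0 := hnd _ _ hsup (horth.symm hF)
    have hnd1 := hnd _ _ (by rw [sup_comm]; exact hsup) horth
    -- dimensions
    have hsum := Submodule.finrank_sup_add_finrank_inf_eq (eig X ν) (eig X (-ν))
    rw [hsup, hinf, finrank_top, Module.finrank_fin_fun, finrank_bot, add_zero] at hsum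
    obtain ⟨x, hx, hxLI⟩ := exists_li_family (E := eig X ν) rfl
    obtain ⟨y, hy, hyLI⟩ := exists_li_family (E := eig X (-ν)) rfl
    have hLI : LinearIndependent F (Sum.elim x y) := by
      apply LinearIndependent.sum_type hxLI hyLI
      rw [span_eq_of_li rfl x hx hxLI, span_eq_of_li rfl y hy hyLI, disjoint_iff]
      exact hinf
    have hdetX := det_of_scale_sum hsum.symm X x y hLI ν (-ν)
      (fun i => (mem_eig X ν _).mp (hx i)) (fun j => (mem_eig X (-ν) _).mp (hy j))
    rw [hdet] at hdetX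
    have hpar : ν ^ (m + m) * (-1) ^ finrank F (eig X (-ν)) = 1 := by
      have h5 : (-ν) ^ finrank F (eig X (-ν))
          = (-1) ^ finrank F (eig X (-ν)) * ν ^ finrank F (eig X (-ν)) := neg_pow ν _
      have h6 : ν ^ (m + m) = ν ^ (finrank F (eig X ν) + finrank F (eig X (-ν))) :=
        congrArg (fun k => ν ^ k) hsum
      calc ν ^ (m + m) * (-1) ^ finrank F (eig X (-ν))
          = ν ^ finrank F (eig X ν)
            * ((-1) ^ finrank F (eig X (-ν)) * ν ^ finrank F (eig X (-ν))) := by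
            rw [h6, pow_add]; ring
        _ = 1 := by rw [← h5]; exact hdetX.symm
    have hb_even : Even (finrank F (eig X (-ν))) := even_of_pow_eq h2 hν1 hval _ hpar
    have ha_even : Even (finrank F (eig X ν)) := by
      have : Even (finrank F (eig X ν) + finrank F (eig X (-ν))) := by
        rw [← hsum]; exact ⟨m, rfl⟩
      exact (Nat.even_add.mp this).mpr hb_even
    obtain ⟨ka, hka⟩ := ha_even
    obtain ⟨kb, hkb⟩ := hb_even
    obtain ⟨P0, P1, hP0, hP1, hts0, hts1, hf0, hf1, hPW⟩ :=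
      exists_polar_in hF h2 hq (eig X ν) hnd0 hka
    obtain ⟨Q0, Q1, hQ0, hQ1, hts0', hts1', hf0', hf1', hQW⟩ :=
      exists_polar_in hF h2 hq (eig X (-ν)) hnd1 hkb
    have ho0 : Orth q P0 Q0 := fun u hu v hv => horth u (hP0 hu) v (hQ0 hv)
    have ho1 : Orth q P1 Q1 := fun u hu v hv => horth u (hP1 hu) v (hQ1 hv)
    have hE0 : TS q (P0 ⊔ Q0) := ts_sup hF hts0 hts0' ho0
    have hE1 : TS q (P1 ⊔ Q1) := ts_sup hF hts1 hts1' ho1
    have hEsup : (P0 ⊔ Q0) ⊔ (P1 ⊔ Q1) = ⊤ := by
      rw [eq_top_iff, ← hsup]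
      apply sup_le
      · refine hPW.trans (sup_le ?_ ?_)
        · exact le_sup_left.trans le_sup_left
        · exact le_sup_left.trans le_sup_right
      · refine hQW.trans (sup_le ?_ ?_)
        · exact le_sup_right.trans le_sup_left
        · exact le_sup_right.trans le_sup_right
    have hle0 := Submodule.finrank_add_le_finrank_add_finrank P0 Q0
    have hle1 := Submodule.finrank_add_le_finrank_add_finrank P1 Q1
    have hpolar : Polar q m (P0 ⊔ Q0) (P1 ⊔ Q1) :=
      polar_of_ts hF hE0 hE1 hEsup (by omega)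
    refine ⟨_, _, hpolar, ?_, ?_⟩
    · rw [Submodule.map_sup, map_eq_of_le_eig X hν0 hP0,
        map_eq_of_le_eig X (neg_ne_zero.mpr hν0) hQ0]
    · rw [Submodule.map_sup, map_eq_of_le_eig X hν0 hP1,
        map_eq_of_le_eig X (neg_ne_zero.mpr hν0) hQ1]
  · -- the eigenspaces are totally singular
    have hne : (-1 : F) ≠ 1 := by
      intro h
      apply h2
      linear_combination -h
    have hts0 : TS q (eig X ν) := by
      apply eig_orth hF X hX
      rw [← pow_succ', hν1]
      exact hne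
    have hts1 : TS q (eig X (-ν)) := by
      apply eig_orth hF X hX
      rw [← pow_succ', hnegν, hν1]
      exact hne
    have hsum := Submodule.finrank_sup_add_finrank_inf_eq (eig X ν) (eig X (-ν))
    rw [hsup, hinf, finrank_top, Module.finrank_fin_fun, finrank_bot, add_zero] at hsum
    have hpolar : Polar q m (eig X ν) (eig X (-ν)) := polar_of_ts hF hts0 hts1 hsup (by omega)
    exact ⟨_, _, hpolar, map_eq_of_le_eig X hν0 le_rfl,
      map_eq_of_le_eig X (neg_ne_zero.mpr hν0) le_rfl⟩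

end Cfsg.Agent.Helper44.PP
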