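import Mathlib
import Cfsg.Agent.Lib.Helper44.PPd
import Cfsg.Agent.Lib.Helper44.U43A

/-!
# Elements stabilising no polar pair (helper44, for S5984)
-/

set_option autoImplicit false
set_option linter.unusedSectionVars false

namespace Cfsg.Agent.Helper44.PP

open Matrix Module Cfsg.Agent.Lead Cfsg.Agent.Helper19 Cfsg.Agent.Helper44

variable {F : Type*} [Field F] [Fintype F] {q : ℕ} {n : ℕ}

/-- `X` fixes or swaps the pair -/
def Stab (X : Matrix (Fin n) (Fin n) F) (E0 E1 : Submodule F (Fin n → F)) : Prop :=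
  (E0.map (Matrix.toLin' X) = E0 ∧ E1.map (Matrix.toLin' X) = E1) ∨
    (E0.map (Matrix.toLin' X) = E1 ∧ E1.map (Matrix.toLin' X) = E0)

theorem mulVec_mem_of_map_eq {X : Matrix (Fin n) (Fin n) F} {E E' : Submodule F (Fin n → F)}
    (h : E.map (Matrix.toLin' X) = E') {u : Fin n → F} (hu : u ∈ E) : X *ᵥ u ∈ E' := by
  rw [← h]
  exact ⟨u, hu, Matrix.toLin'_apply X u⟩

/-- Lemma S: swap case.  If `X` acts as the scalar `c` on the kernel of a functional, it cannot
swap a polar pair of rank at least two. -/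
theorem not_swap_of_functional {m : ℕ} (hm : 2 ≤ m) {E0 E1 : Submodule F (Fin n → F)}
    (hE : Polar q m E0 E1) (X : Matrix (Fin n) (Fin n) F) (φ : (Fin n → F) →ₗ[F] F) {c : F}
    (hc : c ≠ 0) (hφ : ∀ u, φ u = 0 → X *ᵥ u = c • u)
    (h01 : E0.map (Matrix.toLin' X) = E1) : False := by
  obtain ⟨e, he, hLI⟩ := exists_li_family hE.fr0
  let i0 : Fin m := ⟨0, by omega⟩
  let i1 : Fin m := ⟨1, by omega⟩
  have hi : i0 ≠ i1 := by
    intro h
    have := congrArg Fin.val h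
    simp [i0, i1] at this
  have hker : ∀ w ∈ E0, φ w = 0 → w = 0 := by
    intro w hw hφw
    have h1 : X *ᵥ w ∈ E1 := mulVec_mem_of_map_eq h01 hw
    rw [hφ w hφw] at h1
    have h2 : w ∈ E1 := by
      have := E1.smul_mem c⁻¹ h1
      rwa [smul_smul, inv_mul_cancel₀ hc, one_smul] at this
    have h3 : w ∈ E0 ⊓ E1 := ⟨hw, h2⟩
    rw [hE.disj] at h3
    exact h3
  have hw0 := hker (φ (e i1) • e i0 - φ (e i0) • e i1)
    (E0.sub_mem (E0.smul_mem _ (he i0)) (E0.smul_mem _ (he i1)))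
    (by rw [map_sub, map_smul, map_smul, smul_eq_mul, smul_eq_mul, mul_comm, sub_self])
  have hpair : LinearIndependent F ![e i0, e i1] := by
    have := hLI.comp ![i0, i1] (by
      intro a b hab
      fin_cases a <;> fin_cases b <;> simp_all)
    convert this using 1
    funext a
    fin_cases a <;> rfl
  rw [LinearIndependent.pair_iff] at hpair
  have h4 := hpair (φ (e i1)) (-φ (e i0)) (by rw [neg_smul, ← sub_eq_add_neg]; exact hw0)
  have h5 : φ (e i0) = 0 := by simpa using h4.2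
  have h6 := hker (e i0) (he i0) h5
  exact hLI.ne_zero i0 h6

/-- Lemma E: fix case.  If some eigenspace of `X` is a non-isotropic line, `X` fixes no pair of
complementary totally singular subspaces. -/
theorem not_fix_of_eigenline (hF : Fintype.card F = q ^ 2) {m : ℕ}
    {E0 E1 : Submodule F (Fin n → F)} (hE : Polar q m E0 E1)
    (X : Matrix (Fin n) (Fin n) F) (lam : F) (w : Fin n → F)
    (hw : X *ᵥ w = lam • w) (hww : Cfsg.hermForm n F q w w ≠ 0)
    (hline : ∀ u, X *ᵥ u = lam • u → ∃ a : F, u = a • w)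
    (h0 : E0.map (Matrix.toLin' X) = E0) (h1 : E1.map (Matrix.toLin' X) = E1) : False := by
  have hwt : w ∈ E0 ⊔ E1 := by rw [hE.sup]; trivial
  obtain ⟨u0, hu0, u1, hu1, hsum⟩ := Submodule.mem_sup.mp hwt
  have hX0 : X *ᵥ u0 ∈ E0 := mulVec_mem_of_map_eq h0 hu0
  have hX1 : X *ᵥ u1 ∈ E1 := mulVec_mem_of_map_eq h1 hu1
  have hz : (X *ᵥ u0 - lam • u0) + (X *ᵥ u1 - lam • u1) = 0 := by
    have : X *ᵥ u0 + X *ᵥ u1 = lam • (u0 + u1) := by
      rw [← Matrix.mulVec_add, hsum, hw]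
    rw [smul_add] at this
    rw [sub_add_sub_comm, this, sub_self]
  have hA : X *ᵥ u0 - lam • u0 ∈ E0 := E0.sub_mem hX0 (E0.smul_mem _ hu0)
  have hB : X *ᵥ u1 - lam • u1 ∈ E1 := E1.sub_mem hX1 (E1.smul_mem _ hu1)
  have hA' : X *ᵥ u0 - lam • u0 ∈ E0 ⊓ E1 := by
    refine ⟨hA, ?_⟩
    have : X *ᵥ u0 - lam • u0 = -(X *ᵥ u1 - lam • u1) := eq_neg_of_add_eq_zero_left hz
    rw [this]
    exact E1.neg_mem hB
  rw [hE.disj, Submodule.mem_bot, sub_eq_zero] at hA'
  have hB' : X *ᵥ u1 = lam • u1 := by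
    rw [hA', sub_self, zero_add, sub_eq_zero] at hz
    exact hz
  obtain ⟨a, ha⟩ := hline u0 hA'
  obtain ⟨b, hb⟩ := hline u1 hB'
  have hw0 : w ≠ 0 := by
    rintro rfl
    exact hww (hH_zero_left hF 0)
  have hab : (a + b - 1) • w = 0 := by
    rw [sub_smul, add_smul, one_smul, ← ha, ← hb, hsum, sub_self]
  have hab1 : a + b = 1 := by
    rcases smul_eq_zero.mp hab with h | h
    · linear_combination h
    · exact absurd h hw0
  by_cases ha0 : a = 0
  · have hb0 : b ≠ 0 := by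
      rintro rfl
      rw [ha0, add_zero] at hab1
      exact zero_ne_one hab1
    have hwE : w ∈ E1 := by
      have := E1.smul_mem b⁻¹ hu1
      rwa [hb, smul_smul, inv_mul_cancel₀ hb0, one_smul] at this
    exact hww (hE.ts1 w hwE w hwE)
  · have hwE : w ∈ E0 := by
      have := E0.smul_mem a⁻¹ hu0
      rwa [ha, smul_smul, inv_mul_cancel₀ ha0, one_smul] at this
    exact hww (hE.ts0 w hwE w hwE)

/-- Lemma O: an element with `X^r` scalar, `r` odd, cannot swap a polar pair -/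
theorem not_swap_of_odd_pow {m : ℕ} (hm : 1 ≤ m) {E0 E1 : Submodule F (Fin n → F)}
    (hE : Polar q m E0 E1) (X : Matrix (Fin n) (Fin n) F) (r : ℕ) (hr : Odd r) (z : F)
    (hz : z ≠ 0) (hXr : X ^ r = z • (1 : Matrix (Fin n) (Fin n) F))
    (h01 : E0.map (Matrix.toLin' X) = E1) (h10 : E1.map (Matrix.toLin' X) = E0) : False := by
  have hsq : E0.map (Matrix.toLin' (X * X)) = E0 := by
    rw [Matrix.toLin'_mul, Submodule.map_comp, h01, h10]
  have heven : ∀ k : ℕ, E0.map (Matrix.toLin' (X ^ (2 * k))) = E0 := by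
    intro k
    induction k with
    | zero => rw [mul_zero, pow_zero, Matrix.toLin'_one, Submodule.map_id]
    | succ k ih =>
      have : X ^ (2 * (k + 1)) = X ^ (2 * k) * (X * X) := by
        rw [mul_add, mul_one, pow_add, pow_two]
      rw [this, Matrix.toLin'_mul, Submodule.map_comp, hsq, ih]
  obtain ⟨k, rfl⟩ := hr
  have h1 : E0.map (Matrix.toLin' (X ^ (2 * k + 1))) = E1 := by
    rw [pow_succ', Matrix.toLin'_mul, Submodule.map_comp, heven k, h01]
  have h2 : E0.map (Matrix.toLin' (X ^ (2 * k + 1))) = E0 := by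
    rw [hXr, map_smul, Submodule.map_smul _ _ z hz, Matrix.toLin'_one, Submodule.map_id]
  have h3 : E0 = E1 := h2.symm.trans h1
  have h4 := hE.disj
  rw [← h3, inf_idem] at h4
  have h5 := hE.fr0
  rw [h4, finrank_bot] at h5
  omega

theorem diag_eigenline (d : Fin n → F) (i0 : Fin n) (hd : ∀ i, i ≠ i0 → d i ≠ d i0)
    (u : Fin n → F) (hu : Matrix.diagonal d *ᵥ u = d i0 • u) :
    ∃ a : F, u = a • Pi.single i0 1 := by
  classical
  refine ⟨u i0, ?_⟩
  funext i
  by_cases hi : i = i0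
  · subst hi
    simp
  · have h1 := congrFun hu i
    rw [Matrix.mulVec_diagonal, Pi.smul_apply, smul_eq_mul] at h1
    have h2 : (d i - d i0) * u i = 0 := by linear_combination h1
    rcases mul_eq_zero.mp h2 with h3 | h3
    · exact absurd (sub_eq_zero.mp h3) (hd i hi)
    · rw [h3]
      simp [hi]

/-- fix case for a transvection -/
theorem not_fix_of_transvection (hF : Fintype.card F = q ^ 2) {m : ℕ}
    {E0 E1 : Submodule F (Fin n → F)} (hE : Polar q m E0 E1) (X : Matrix (Fin n) (Fin n) F)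
    (v : Fin n → F) (hv : v ≠ 0) (c : F) (hc : c ≠ 0)
    (hXu : ∀ u, X *ᵥ u = u + (c * Cfsg.hermForm n F q u v) • v)
    (h0 : E0.map (Matrix.toLin' X) = E0) (h1 : E1.map (Matrix.toLin' X) = E1) : False := by
  have key : ∀ E : Submodule F (Fin n → F), (∀ u ∈ E, ∀ w ∈ E, Cfsg.hermForm n F q u w = 0) →
      E.map (Matrix.toLin' X) = E → ∀ u ∈ E, Cfsg.hermForm n F q u v = 0 := by
    intro E hts hmap u hu
    by_contra hne
    have h2 : X *ᵥ u ∈ E := mulVec_mem_of_map_eq hmap hu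
    rw [hXu] at h2
    have h3 : (c * Cfsg.hermForm n F q u v) • v ∈ E := by
      have := E.sub_mem h2 hu
      rwa [add_sub_cancel_left] at this
    have h4 : v ∈ E := by
      have := E.smul_mem (c * Cfsg.hermForm n F q u v)⁻¹ h3
      rwa [smul_smul, inv_mul_cancel₀ (mul_ne_zero hc hne), one_smul] at this
    exact hne (hts u hu v h4)
  apply hv
  apply eq_zero_of_forall_left hF
  intro w
  have hw : w ∈ E0 ⊔ E1 := by rw [hE.sup]; trivial
  obtain ⟨u0, hu0, u1, hu1, rfl⟩ := Submodule.mem_sup.mp hw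
  rw [hH_add_left hF, key E0 hE.ts0 h0 u0 hu0, key E1 hE.ts1 h1 u1 hu1, add_zero]

/-- if a unitary element fixing a polar pair is trivial on one member, it is trivial on the other -/
theorem fixed_of_fixed (hF : Fintype.card F = q ^ 2) {m : ℕ}
    {E0 E1 : Submodule F (Fin n → F)} (hE : Polar q m E0 E1) (X : Matrix (Fin n) (Fin n) F)
    (hX : ∀ u v, Cfsg.hermForm n F q (X *ᵥ u) (X *ᵥ v) = Cfsg.hermForm n F q u v)
    (h1 : E1.map (Matrix.toLin' X) = E1) (h0C : ∀ u ∈ E0, X *ᵥ u = u) :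
    ∀ u ∈ E1, X *ᵥ u = u := by
  intro u hu
  have hXu : X *ᵥ u ∈ E1 := mulVec_mem_of_map_eq h1 hu
  have hw : X *ᵥ u - u ∈ E1 := E1.sub_mem hXu hu
  rw [← sub_eq_zero]
  apply eq_zero_of_forall_right hF
  intro w
  have hwt : w ∈ E0 ⊔ E1 := by rw [hE.sup]; trivial
  obtain ⟨w0, hw0, w1, hw1, rfl⟩ := Submodule.mem_sup.mp hwt
  rw [hH_add_right hF, hE.ts1 _ hw w1 hw1, add_zero, hH_sub_left hF]
  have := hX u w0
  rw [h0C w0 hw0] at this
  rw [this, sub_self]

/-- arithmetic of the fixed point congruence -/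
theorem eq_or_le_of_modEq {Q r m c i₀ : ℕ} (hr : r.Prime) (hrQ : ¬ r ∣ Q) (hcm : c ≤ m)
    (hP : ∀ k, 0 < k → k < i₀ → ¬ r ∣ Q ^ k - 1) (h : Q ^ m ≡ Q ^ c [MOD r]) :
    c = m ∨ i₀ + c ≤ m := by
  obtain ⟨t, rfl⟩ := Nat.exists_eq_add_of_le hcm
  have hcop : Nat.Coprime r (Q ^ c) :=
    Nat.Coprime.pow_right _ ((Nat.Prime.coprime_iff_not_dvd hr).mpr hrQ)
  have h1 : Q ^ c * Q ^ t ≡ Q ^ c * 1 [MOD r] := by
    rw [← pow_add, mul_one]; exact h
  have h2 : Q ^ t ≡ 1 [MOD r] := Nat.ModEq.cancel_left_of_coprime (by rw [Nat.gcd_comm]; exact hcop.symm) h1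
  have hQpos : 1 ≤ Q ^ t := Nat.one_le_pow _ _ (by
    rcases Nat.eq_zero_or_pos Q with h0 | h0
    · subst h0; exact absurd (dvd_zero r) hrQ
    · exact h0)
  have h3 : r ∣ Q ^ t - 1 := (Nat.modEq_iff_dvd' hQpos).mp h2.symm
  rcases Nat.eq_zero_or_pos t with ht | ht
  · left; omega
  · right
    by_contra hlt
    exact hP t ht (by omega) h3

/-- T2: a nontrivial unitary element of prime order `r` with large fixed space fixes no polar
pair -/
theorem not_fix_of_counting (hF : Fintype.card F = q ^ 2) {m : ℕ} (hn : n = m + m)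
    {E0 E1 : Submodule F (Fin n → F)} (hE : Polar q m E0 E1) (X : Matrix (Fin n) (Fin n) F)
    (hX : ∀ u v, Cfsg.hermForm n F q (X *ᵥ u) (X *ᵥ v) = Cfsg.hermForm n F q u v)
    (r : ℕ) [Fact r.Prime] (hrq : ¬ r ∣ q) (hXr : X ^ r = 1) (hX1 : X ≠ 1) (i₀ : ℕ)
    (hi₀ : 1 ≤ i₀) (hP : ∀ k, 0 < k → k < i₀ → ¬ r ∣ (q ^ 2) ^ k - 1)
    (hfix : n ≤ finrank F (LinearMap.ker (Matrix.mulVecLin (X - 1))) + i₀)
    (h0 : E0.map (Matrix.toLin' X) = E0) (h1 : E1.map (Matrix.toLin' X) = E1) : False := by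
  have hr : r.Prime := Fact.out
  have hrQ : ¬ r ∣ q ^ 2 := fun h => hrq (hr.dvd_of_dvd_pow h)
  set C := LinearMap.ker (Matrix.mulVecLin (X - 1)) with hC
  have hmemC : ∀ u, u ∈ C ↔ X *ᵥ u = u := fun u => U43.mem_ker_sub_one X u
  have hXr' : X ^ (r ^ 1) = 1 := by rw [pow_one]; exact hXr
  have hcount : ∀ E : Submodule F (Fin n → F), finrank F E = m → E.map (Matrix.toLin' X) = E →
      finrank F ↥(E ⊓ C) = m ∨ i₀ + finrank F ↥(E ⊓ C) ≤ m := by
    intro E hfr hmap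
    have h2 := U43.card_modEq_fixed r 1 X hXr' E (fun w hw => mulVec_mem_of_map_eq hmap hw)
    rw [U43.natCard_submodule, U43.natCard_submodule, hF, hfr] at h2
    have hle : finrank F ↥(E ⊓ C) ≤ m := by
      rw [← hfr]; exact Submodule.finrank_mono inf_le_left
    exact eq_or_le_of_modEq hr hrQ hle hP h2
  have hCle : C ≤ (E0 ⊓ C) ⊔ (E1 ⊓ C) := by
    intro v hv
    have hvt : v ∈ E0 ⊔ E1 := by rw [hE.sup]; trivial
    obtain ⟨u0, hu0, u1, hu1, rfl⟩ := Submodule.mem_sup.mp hvt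
    have hX0 : X *ᵥ u0 ∈ E0 := mulVec_mem_of_map_eq h0 hu0
    have hX1' : X *ᵥ u1 ∈ E1 := mulVec_mem_of_map_eq h1 hu1
    have hfixv : X *ᵥ u0 + X *ᵥ u1 = u0 + u1 := by
      rw [← Matrix.mulVec_add]; exact (hmemC _).mp hv
    have hA : X *ᵥ u0 - u0 ∈ E0 ⊓ E1 := by
      refine ⟨E0.sub_mem hX0 hu0, ?_⟩
      have : X *ᵥ u0 - u0 = u1 - X *ᵥ u1 := by
        rw [sub_eq_sub_iff_add_eq_add]
        rw [hfixv, add_comm]
      rw [this]
      exact E1.sub_mem hu1 hX1'
    rw [hE.disj, Submodule.mem_bot, sub_eq_zero] at hA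
    have hB : X *ᵥ u1 = u1 := by
      rw [hA] at hfixv
      exact add_left_cancel hfixv
    exact Submodule.add_mem_sup ⟨hu0, (hmemC _).mpr hA⟩ ⟨hu1, (hmemC _).mpr hB⟩
  have hdim : finrank F C ≤ finrank F ↥(E0 ⊓ C) + finrank F ↥(E1 ⊓ C) :=
    (Submodule.finrank_mono hCle).trans (Submodule.finrank_add_le_finrank_add_finrank _ _)
  have htriv : ∀ (E E' : Submodule F (Fin n → F)), Polar q m E E' →
      E'.map (Matrix.toLin' X) = E' → finrank F ↥(E ⊓ C) = m → False := by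
    intro E E' hEE hmap hfull
    have hEC : E ⊓ C = E := by
      apply Submodule.eq_of_le_of_finrank_eq inf_le_left
      rw [hfull, hEE.fr0]
    have hfixE : ∀ u ∈ E, X *ᵥ u = u := by
      intro u hu
      have : u ∈ E ⊓ C := by rw [hEC]; exact hu
      exact (hmemC u).mp this.2
    have hfixE' := fixed_of_fixed hF hEE X hX hmap hfixE
    apply hX1
    apply Matrix.toLin'.injective
    apply LinearMap.ext
    intro w
    have hwt : w ∈ E ⊔ E' := by rw [hEE.sup]; trivial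
    obtain ⟨w0, hw0, w1, hw1, rfl⟩ := Submodule.mem_sup.mp hwt
    rw [Matrix.toLin'_apply, Matrix.mulVec_add, hfixE w0 hw0, hfixE' w1 hw1, Matrix.toLin'_one]
    rfl
  rcases hcount E0 hE.fr0 h0 with hc0 | hc0
  · exact htriv E0 E1 hE h1 hc0
  · rcases hcount E1 hE.fr1 h1 with hc1 | hc1
    · exact htriv E1 E0 hE.symm h0 hc1
    · omega

end Cfsg.Agent.Helper44.PP
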