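import Mathlib
import Cfsg.Agent.Lib.Helper44.PPg
import Cfsg.Agent.Lib.Helper13.QuadMat

/-!
# Explicit elements of `SU_n(q)` stabilising no polar pair: transvections and diagonal elements
(helper44, for S5984)
-/

set_option autoImplicit false
set_option linter.unusedSectionVars false

namespace Cfsg.Agent.Helper44.PP

open Matrix Module Cfsg.Agent.Lead Cfsg.Agent.Helper19 Cfsg.Agent.Helper44

variable {F : Type*} [Field F] [Fintype F] {q : ℕ} {n : ℕ}

/-- a nonzero element of trace zero -/
theorem exists_trace_zero (hF : Fintype.card F = q ^ 2) : ∃ c : F, c ≠ 0 ∧ c + c ^ q = 0 := by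
  obtain ⟨c₀, hc₀⟩ : ∃ c₀ : F, c₀ ^ q ≠ c₀ := by
    by_contra hcon
    push Not at hcon
    apply Cfsg.Agent.Helper13.frobQ_ne_id hF
    apply RingHom.ext
    intro x
    exact hcon x
  refine ⟨c₀ - c₀ ^ q, sub_ne_zero.mpr (Ne.symm hc₀), ?_⟩
  rw [frob_sub' hF, frob_frob' hF]
  ring

/-- a nonzero isotropic vector -/
theorem exists_isotropic (hF : Fintype.card F = q ^ 2) (hn : 2 ≤ n) :
    ∃ v : Fin n → F, v ≠ 0 ∧ Cfsg.hermForm n F q v v = 0 := by
  classical
  have hq0 : q ≠ 0 := by have := herm_two_le hF; omega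
  obtain ⟨ε, hε⟩ := exists_zeta' hF
  let i0 : Fin n := ⟨0, by omega⟩
  let i1 : Fin n := ⟨1, by omega⟩
  have hi : i0 ≠ i1 := by
    intro h
    have := congrArg Fin.val h
    simp [i0, i1] at this
  refine ⟨Pi.single i0 1 + ε • Pi.single i1 1, ?_, ?_⟩
  · intro h
    have := congrFun h i0
    simp [hi] at this
  · rw [hH_add_left hF, hH_add_right hF, hH_add_right hF, hH_smul_left hF, hH_smul_left hF,
      hH_smul_right hF, hH_smul_right hF, hermForm_single_single hq0, hermForm_single_single hq0,
      hermForm_single_single hq0, hermForm_single_single hq0, if_pos rfl, if_pos rfl, if_neg hi,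
      if_neg (Ne.symm hi)]
    have : ε * ε ^ q = -1 := by rw [← pow_succ', hε]
    linear_combination this

section Transvection

variable (hF : Fintype.card F = q ^ 2) (v : Fin n → F) (c : F)

theorem tv_mulVec (u : Fin n → F) :
    (Cfsg.unitaryTransvection n q v c) *ᵥ u = u + (c * Cfsg.hermForm n F q u v) • v :=
  Cfsg.Agent.Helper13.unitaryTransvection_mulVec v c u

include hF in
theorem tv_unitary (hc : c + c ^ q = 0) (hvv : Cfsg.hermForm n F q v v = 0) (u w : Fin n → F) :
    Cfsg.hermForm n F q ((Cfsg.unitaryTransvection n q v c) *ᵥ u)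
      ((Cfsg.unitaryTransvection n q v c) *ᵥ w) = Cfsg.hermForm n F q u w := by
  rw [tv_mulVec, tv_mulVec, hH_add_left hF, hH_add_right hF, hH_add_right hF, hH_smul_left hF,
    hH_smul_left hF, hH_smul_right hF, hH_smul_right hF, hH_conj hF w v, mul_pow, hvv]
  linear_combination (Cfsg.hermForm n F q u v * Cfsg.hermForm n F q w v ^ q) * hc

theorem tv_det (hvv : Cfsg.hermForm n F q v v = 0) :
    (Cfsg.unitaryTransvection n q v c).det = 1 := by
  unfold Cfsg.unitaryTransvection
  rw [← Matrix.smul_vecMulVec, Cfsg.Agent.Helper13.det_one_add_vecMulVec]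
  have : (fun j => v j ^ q) ⬝ᵥ (c • v) = c * Cfsg.hermForm n F q v v := by
    unfold Cfsg.hermForm dotProduct
    rw [Finset.mul_sum]
    apply Finset.sum_congr rfl
    intro i _
    simp only [Pi.smul_apply, smul_eq_mul]
    ring
  rw [this, hvv, mul_zero, add_zero]

include hF in
theorem tv_pow_mulVec (hvv : Cfsg.hermForm n F q v v = 0) (k : ℕ) (u : Fin n → F) :
    (Cfsg.unitaryTransvection n q v c ^ k) *ᵥ u
      = u + ((k : F) * (c * Cfsg.hermForm n F q u v)) • v := by
  induction k generalizing u with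
  | zero => simp
  | succ k ih =>
    rw [pow_succ, ← Matrix.mulVec_mulVec, tv_mulVec, Matrix.mulVec_add, Matrix.mulVec_smul, ih, ih,
      hvv, mul_zero, mul_zero, zero_smul, add_zero, add_assoc, ← add_smul]
    congr 2
    push_cast
    ring

include hF in
theorem tv_pow_char (p : ℕ) [CharP F p] (hvv : Cfsg.hermForm n F q v v = 0) :
    Cfsg.unitaryTransvection n q v c ^ p = 1 := by
  apply Matrix.toLin'.injective
  apply LinearMap.ext
  intro u
  rw [Matrix.toLin'_apply, tv_pow_mulVec hF v c hvv, CharP.cast_eq_zero, zero_mul, zero_smul,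
    add_zero, Matrix.toLin'_one]
  rfl

include hF in
theorem tv_not_scalar (hv : v ≠ 0) (hc : c ≠ 0) (hvv : Cfsg.hermForm n F q v v = 0) (z : F) :
    Cfsg.unitaryTransvection n q v c ≠ z • (1 : Matrix (Fin n) (Fin n) F) := by
  intro h
  have h1 : ∀ u, u + (c * Cfsg.hermForm n F q u v) • v = z • u := by
    intro u
    rw [← tv_mulVec, h, Matrix.smul_mulVec, Matrix.one_mulVec]
  have hz : z = 1 := by
    have h2 := h1 v
    rw [hvv, mul_zero, zero_smul, add_zero] at h2
    have h3 : (z - 1) • v = 0 := by rw [sub_smul, one_smul, ← h2, sub_self]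
    rcases smul_eq_zero.mp h3 with h4 | h4
    · linear_combination h4
    · exact absurd h4 hv
  apply hv
  apply eq_zero_of_forall_left hF
  intro u
  have h2 := h1 u
  rw [hz, one_smul, add_eq_left] at h2
  rcases smul_eq_zero.mp h2 with h3 | h3
  · rcases mul_eq_zero.mp h3 with h4 | h4
    · exact absurd h4 hc
    · exact h4
  · exact absurd h3 hv

end Transvection

end Cfsg.Agent.Helper44.PP
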