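import Mathlib
import Cfsg.Agent.Lib.Helper44.PPh

/-!
# Diagonal elements of `SU_n(q)` stabilising no polar pair (helper44, for S5984)
-/

set_option autoImplicit false
set_option linter.unusedSectionVars false

namespace Cfsg.Agent.Helper44.PP

open Matrix Module Cfsg.Agent.Lead Cfsg.Agent.Helper19 Cfsg.Agent.Helper44

variable {F : Type*} [Field F] [Fintype F] {q : ℕ} {n : ℕ}

theorem card_units_eq (hF : Fintype.card F = q ^ 2) : Nat.card Fˣ = (q - 1) * (q + 1) := by
  have hq := herm_two_le hF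
  rw [Nat.card_units, Nat.card_eq_fintype_card, hF]
  obtain ⟨j, rfl⟩ : ∃ j, q = j + 1 := ⟨q - 1, by omega⟩
  simp only [Nat.add_sub_cancel]
  have : (j + 1) ^ 2 = j * (j + 1 + 1) + 1 := by ring
  omega

/-- `ν` of norm one with `ν^N = -1`, when `(N)_2 < (q+1)_2` -/
theorem exists_nu (hF : Fintype.card F = q ^ 2) {N : ℕ} (hN : N ≠ 0)
    (hval : padicValNat 2 N < padicValNat 2 (q + 1)) :
    ∃ ν : F, ν ^ (q + 1) = 1 ∧ ν ^ N = -1 := by
  classical
  have hq := herm_two_le hF
  set k := padicValNat 2 N with hk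
  have hdvd : 2 ^ (k + 1) ∣ q + 1 :=
    (pow_dvd_pow 2 (Nat.succ_le_of_lt hval)).trans pow_padicValNat_dvd
  obtain ⟨t, ht⟩ := hdvd
  have ht0 : 0 < t := by
    rcases Nat.eq_zero_or_pos t with h | h
    · rw [h, mul_zero] at ht; omega
    · exact h
  obtain ⟨ζ, hζ⟩ := IsCyclic.exists_generator (α := Fˣ)
  have hord : orderOf ζ = (q - 1) * (q + 1) := by
    rw [orderOf_eq_card_of_forall_mem_zpowers hζ, card_units_eq hF]
  have hζpow : ζ ^ ((q - 1) * (q + 1)) = 1 := by rw [← hord]; exact pow_orderOf_eq_one ζ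
  set e := (q - 1) * t * 2 ^ k with he
  have he0 : 0 < e := by
    have h1 : 0 < q - 1 := by omega
    have h2 : 0 < 2 ^ k := by positivity
    positivity
  have h2e : e * 2 = (q - 1) * (q + 1) := by
    rw [he, ht, pow_succ]; ring
  have hη2 : (ζ ^ e) ^ 2 = 1 := by rw [← pow_mul, h2e, hζpow]
  have hη1 : ζ ^ e ≠ 1 := by
    apply pow_ne_one_of_lt_orderOf he0.ne'
    rw [hord, ← h2e]; omega
  have hηF : ((ζ ^ e : Fˣ) : F) = -1 := by
    have h1 : ((ζ ^ e : Fˣ) : F) * ((ζ ^ e : Fˣ) : F) = 1 := by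
      rw [← Units.val_mul, ← pow_two, hη2, Units.val_one]
    rcases mul_self_eq_one_iff.mp h1 with h | h
    · exact absurd (Units.ext h) hη1
    · exact h
  refine ⟨((ζ ^ ((q - 1) * t) : Fˣ) : F), ?_, ?_⟩
  · rw [← Units.val_pow_eq_pow_val, ← pow_mul]
    have : (q - 1) * t * (q + 1) = (q - 1) * (q + 1) * t := by ring
    rw [this, pow_mul, hζpow, one_pow, Units.val_one]
  · have hN2 : N = 2 ^ k * ordCompl[2] N := by
      rw [hk, ← Nat.factorization_def _ Nat.prime_two]
      exact (Nat.ordProj_mul_ordCompl_eq_self N 2).symm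
    have hodd : Odd (ordCompl[2] N) := by
      rw [← Nat.not_even_iff_odd, even_iff_two_dvd]
      exact Nat.not_dvd_ordCompl Nat.prime_two hN
    rw [← Units.val_pow_eq_pow_val, ← pow_mul]
    have : (q - 1) * t * N = e * ordCompl[2] N := by
      rw [he]
      conv_lhs => rw [hN2]
      ring
    rw [this, pow_mul, Units.val_pow_eq_pow_val, hηF, hodd.neg_one_pow]

/-- an element of prime order `r ∣ q + 1` in `F` -/
theorem exists_order_r (hF : Fintype.card F = q ^ 2) (r : ℕ) [Fact r.Prime] (hr : r ∣ q + 1) :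
    ∃ lam : F, lam ≠ 1 ∧ lam ^ r = 1 ∧ lam ^ (q + 1) = 1 := by
  classical
  have hdvd : r ∣ Nat.card Fˣ := by
    rw [card_units_eq hF]; exact hr.mul_left _
  obtain ⟨x, hx⟩ := exists_prime_orderOf_dvd_card' r hdvd
  have hxr : x ^ r = 1 := by rw [← hx]; exact pow_orderOf_eq_one x
  refine ⟨(x : F), ?_, ?_, ?_⟩
  · intro h
    have : x = 1 := Units.ext h
    rw [this, orderOf_one] at hx
    exact (Fact.out : r.Prime).one_lt.ne hx
  · rw [← Units.val_pow_eq_pow_val, hxr, Units.val_one]
  · obtain ⟨s, hs⟩ := hr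
    rw [← Units.val_pow_eq_pow_val, hs, pow_mul, hxr, one_pow, Units.val_one]

theorem diag_unitary (d : Fin n → F) (hd : ∀ i, d i ^ (q + 1) = 1) (u v : Fin n → F) :
    Cfsg.hermForm n F q (Matrix.diagonal d *ᵥ u) (Matrix.diagonal d *ᵥ v)
      = Cfsg.hermForm n F q u v := by
  unfold Cfsg.hermForm
  apply Finset.sum_congr rfl
  intro i _
  rw [Matrix.mulVec_diagonal, Matrix.mulVec_diagonal, mul_pow]
  have : d i * u i * (d i ^ q * v i ^ q) = d i ^ (q + 1) * (u i * v i ^ q) := by ring
  rw [this, hd, one_mul]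

/-- T3: the reflection-type element `ν · diag(-1, 1, …, 1)` stabilises no polar pair -/
theorem refl_no_stab (hF : Fintype.card F = q ^ 2) (h2 : (2 : F) ≠ 0) {m : ℕ} (hm : 2 ≤ m)
    (i0 : Fin n) {ν : F} (hν0 : ν ≠ 0) {E0 E1 : Submodule F (Fin n → F)} (hE : Polar q m E0 E1)
    (hS : Stab (Matrix.diagonal (Function.update (fun _ => ν) i0 (-ν))) E0 E1) : False := by
  classical
  have hq0 : q ≠ 0 := by have := herm_two_le hF; omega
  set d : Fin n → F := Function.update (fun _ => ν) i0 (-ν) with hd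
  have hd0 : d i0 = -ν := by simp [hd]
  have hdi : ∀ i, i ≠ i0 → d i = ν := fun i hi => by simp [hd, Function.update_of_ne hi]
  have hνν : ν ≠ -ν := by
    intro h
    have : (2 : F) * ν = 0 := by linear_combination h
    rcases mul_eq_zero.mp this with h' | h'
    · exact h2 h'
    · exact hν0 h'
  rcases hS with ⟨h0, h1⟩ | ⟨h01, _⟩
  · refine not_fix_of_eigenline hF hE (Matrix.diagonal d) (d i0) (Pi.single i0 1) ?_ ?_ ?_ h0 h1
    · rw [Matrix.mulVec_single_one]
      funext i
      by_cases hi : i = i0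
      · subst hi; simp
      · simp [hi]
    · rw [hermForm_single_single hq0, if_pos rfl]
      exact one_ne_zero
    · intro u hu
      exact diag_eigenline d i0 (fun i hi => by rw [hdi i hi, hd0]; exact hνν) u hu
  · refine not_swap_of_functional hm hE (Matrix.diagonal d) (LinearMap.proj i0) hν0 ?_ h01
    intro u hu
    rw [LinearMap.proj_apply] at hu
    funext i
    rw [Matrix.mulVec_diagonal, Pi.smul_apply, smul_eq_mul]
    by_cases hi : i = i0
    · subst hi; rw [hu, mul_zero, mul_zero]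
    · rw [hdi i hi]

/-- the element `diag(λ, λ⁻¹, 1, …, 1)`, `λ` of odd order, stabilises no polar pair -/
theorem diag_r_no_stab (hF : Fintype.card F = q ^ 2) {m : ℕ} (hm : 1 ≤ m)
    (i0 i1 : Fin n) (hi : i0 ≠ i1) {lam : F} (hlam1 : lam ≠ 1) {r : ℕ} (hr : Odd r)
    (hlamr : lam ^ r = 1) {E0 E1 : Submodule F (Fin n → F)} (hE : Polar q m E0 E1)
    (hS : Stab (Matrix.diagonal
      (Function.update (Function.update (fun _ => (1 : F)) i1 lam⁻¹) i0 lam)) E0 E1) : False := by
  classical
  have hq0 : q ≠ 0 := by have := herm_two_le hF; omega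
  set d : Fin n → F := Function.update (Function.update (fun _ => (1 : F)) i1 lam⁻¹) i0 lam
    with hd
  have hlam0 : lam ≠ 0 := by
    rintro rfl
    obtain ⟨k, rfl⟩ := hr
    rw [zero_pow (by omega)] at hlamr
    exact zero_ne_one hlamr
  have hlaminv : lam⁻¹ ≠ lam := by
    intro h
    have h2 : lam * lam = 1 := by
      have := mul_inv_cancel₀ hlam0
      rwa [h] at this
    obtain ⟨k, rfl⟩ := hr
    rw [pow_succ, pow_mul, pow_two, h2, one_pow, one_mul] at hlamr
    exact hlam1 hlamr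
  have hd0 : d i0 = lam := by simp [hd]
  have hd1 : d i1 = lam⁻¹ := by simp [hd, Function.update_of_ne hi.symm]
  have hdi : ∀ i, i ≠ i0 → i ≠ i1 → d i = 1 := fun i h0 h1 => by
    simp [hd, Function.update_of_ne h0, Function.update_of_ne h1]
  have hdne : ∀ i, i ≠ i0 → d i ≠ d i0 := by
    intro i h0
    rw [hd0]
    by_cases h1 : i = i1
    · rw [h1, hd1]; exact hlaminv
    · rw [hdi i h0 h1]; exact Ne.symm hlam1
  rcases hS with ⟨h0, h1⟩ | ⟨h01, h10⟩
  · refine not_fix_of_eigenline hF hE (Matrix.diagonal d) (d i0) (Pi.single i0 1) ?_ ?_ ?_ h0 h1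
    · rw [Matrix.mulVec_single_one]
      funext i
      by_cases hi' : i = i0
      · subst hi'; simp
      · simp [hi']
    · rw [hermForm_single_single hq0, if_pos rfl]
      exact one_ne_zero
    · intro u hu
      exact diag_eigenline d i0 hdne u hu
  · refine not_swap_of_odd_pow hm hE (Matrix.diagonal d) r hr 1 one_ne_zero ?_ h01 h10
    rw [Matrix.diagonal_pow, one_smul, ← Matrix.diagonal_one]
    congr 1
    funext i
    rw [Pi.pow_apply]
    by_cases h0 : i = i0
    · rw [h0, hd0, hlamr]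
    · by_cases h1 : i = i1
      · rw [h1, hd1, inv_pow, hlamr, inv_one]
      · rw [hdi i h0 h1, one_pow]

theorem det_diag_update2 (i0 i1 : Fin n) (hi : i0 ≠ i1) (a b : F) :
    (Matrix.diagonal (Function.update (Function.update (fun _ => (1 : F)) i1 a) i0 b)).det
      = b * a := by
  classical
  rw [Matrix.det_diagonal, Finset.prod_update_of_mem (Finset.mem_univ i0),
    Finset.prod_update_of_mem (by simp [hi.symm])]
  simp

theorem det_diag_update1 (i0 : Fin n) (a b : F) :
    (Matrix.diagonal (Function.update (fun _ => a) i0 b)).det = b * a ^ (n - 1) := by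
  classical
  rw [Matrix.det_diagonal, Finset.prod_update_of_mem (Finset.mem_univ i0), Finset.prod_const]
  congr 2
  rw [Finset.card_sdiff_of_subset (by simp)]
  simp

end Cfsg.Agent.Helper44.PP
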