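import Mathlib
import Cfsg.Agent.Lib.Helper44.PPi

/-!
# Block embedding `GU_a → GU_n` and elements of prime order with a large fixed space
(helper44, for S5984)
-/

set_option autoImplicit false
set_option linter.unusedSectionVars false

namespace Cfsg.Agent.Helper44.PP

open Matrix Module Cfsg.Agent.Lead Cfsg.Agent.Helper19 Cfsg.Agent.Helper44

variable {F : Type*} [Field F] [Fintype F] {q : ℕ} {n a d : ℕ}

/-- block embedding -/
def emb (e : Fin a ⊕ Fin d ≃ Fin n) (M : Matrix (Fin a) (Fin a) F) : Matrix (Fin n) (Fin n) F :=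
  (Matrix.fromBlocks M 0 0 (1 : Matrix (Fin d) (Fin d) F)).submatrix e.symm e.symm

theorem emb_mul (e : Fin a ⊕ Fin d ≃ Fin n) (M N : Matrix (Fin a) (Fin a) F) :
    emb e (M * N) = emb e M * emb e N := by
  unfold emb
  rw [Matrix.submatrix_mul_equiv, Matrix.fromBlocks_multiply]
  simp

theorem emb_one (e : Fin a ⊕ Fin d ≃ Fin n) : emb e (1 : Matrix (Fin a) (Fin a) F) = 1 := by
  unfold emb
  rw [Matrix.fromBlocks_one, Matrix.submatrix_one_equiv]

theorem emb_pow (e : Fin a ⊕ Fin d ≃ Fin n) (M : Matrix (Fin a) (Fin a) F) (k : ℕ) :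
    emb e (M ^ k) = emb e M ^ k := by
  induction k with
  | zero => rw [pow_zero, pow_zero, emb_one]
  | succ k ih => rw [pow_succ, pow_succ, emb_mul, ih]

theorem emb_det (e : Fin a ⊕ Fin d ≃ Fin n) (M : Matrix (Fin a) (Fin a) F) :
    (emb e M).det = M.det := by
  unfold emb
  rw [Matrix.det_submatrix_equiv_self, Matrix.det_fromBlocks_zero₂₁, Matrix.det_one, mul_one]

theorem emb_apply_inl (e : Fin a ⊕ Fin d ≃ Fin n) (M : Matrix (Fin a) (Fin a) F) (i j : Fin a) :
    emb e M (e (Sum.inl i)) (e (Sum.inl j)) = M i j := by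
  unfold emb
  simp

theorem emb_injective (e : Fin a ⊕ Fin d ≃ Fin n) :
    Function.Injective (emb (F := F) e) := by
  intro M N h
  ext i j
  rw [← emb_apply_inl e M, ← emb_apply_inl e N, h]

theorem emb_mulVec (e : Fin a ⊕ Fin d ≃ Fin n) (M : Matrix (Fin a) (Fin a) F) (u : Fin n → F)
    (s : Fin a ⊕ Fin d) :
    (emb e M *ᵥ u) (e s) = Sum.elim (M *ᵥ (fun i => u (e (Sum.inl i))))
      (fun j => u (e (Sum.inr j))) s := by
  unfold emb
  rw [Matrix.submatrix_mulVec_equiv]
  have h1 : u ∘ ⇑e.symm.symm = Sum.elim (fun i => u (e (Sum.inl i))) (fun j => u (e (Sum.inr j))) := by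
    funext s
    cases s <;> rfl
  rw [h1, Matrix.fromBlocks_mulVec]
  simp only [Function.comp_apply, Equiv.symm_apply_apply]
  cases s <;> simp

theorem hermForm_split (e : Fin a ⊕ Fin d ≃ Fin n) (u v : Fin n → F) :
    Cfsg.hermForm n F q u v = Cfsg.hermForm a F q (fun i => u (e (Sum.inl i)))
      (fun i => v (e (Sum.inl i))) + Cfsg.hermForm d F q (fun j => u (e (Sum.inr j)))
      (fun j => v (e (Sum.inr j))) := by
  unfold Cfsg.hermForm
  rw [← Equiv.sum_comp e, Fintype.sum_sum_type]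

theorem emb_unitary (e : Fin a ⊕ Fin d ≃ Fin n) (M : Matrix (Fin a) (Fin a) F)
    (hM : ∀ u v, Cfsg.hermForm a F q (M *ᵥ u) (M *ᵥ v) = Cfsg.hermForm a F q u v)
    (u v : Fin n → F) :
    Cfsg.hermForm n F q (emb e M *ᵥ u) (emb e M *ᵥ v) = Cfsg.hermForm n F q u v := by
  rw [hermForm_split e, hermForm_split e u v]
  simp only [emb_mulVec, Sum.elim_inl, Sum.elim_inr]
  rw [hM]

/-- vectors supported on the second block are fixed -/
theorem emb_fix (e : Fin a ⊕ Fin d ≃ Fin n) (M : Matrix (Fin a) (Fin a) F) (u : Fin n → F)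
    (hu : ∀ i, u (e (Sum.inl i)) = 0) : emb e M *ᵥ u = u := by
  funext k
  obtain ⟨s, rfl⟩ := e.surjective k
  rw [emb_mulVec]
  cases s with
  | inl i =>
    simp only [Sum.elim_inl]
    have : (fun i => u (e (Sum.inl i))) = 0 := funext hu
    rw [this, Matrix.mulVec_zero, hu]
    rfl
  | inr j => rfl

theorem emb_fix_single (e : Fin a ⊕ Fin d ≃ Fin n) (M : Matrix (Fin a) (Fin a) F) (j : Fin d) :
    emb e M *ᵥ Pi.single (e (Sum.inr j)) 1 = Pi.single (e (Sum.inr j)) 1 := by
  apply emb_fix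
  intro i
  rw [Pi.single_apply, if_neg]
  intro h
  have := e.injective h
  exact Sum.inl_ne_inr this

/-- the fixed space of an embedded element is large -/
theorem emb_finrank_fixed (e : Fin a ⊕ Fin d ≃ Fin n) (M : Matrix (Fin a) (Fin a) F) :
    d ≤ finrank F (LinearMap.ker (Matrix.mulVecLin (emb e M - 1))) := by
  set C := LinearMap.ker (Matrix.mulVecLin (emb e M - 1)) with hC
  let w : Fin d → C := fun j => ⟨Pi.single (e (Sum.inr j)) 1,
    (U43.mem_ker_sub_one _ _).mpr (emb_fix_single e M j)⟩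
  have hli : LinearIndependent F w := by
    apply LinearIndependent.of_comp C.subtype
    have h1 : (C.subtype ∘ w) = (Pi.basisFun F (Fin n)) ∘ (fun j => e (Sum.inr j)) := by
      funext j
      simp [w]
    rw [h1]
    apply (Pi.basisFun F (Fin n)).linearIndependent.comp
    intro j j' h
    exact Sum.inr_injective (e.injective h)
  have := hli.fintype_card_le_finrank
  simpa using this

/-- T2 element: an element of prime order `r` of `SU_n`, supported on the first `a` coordinates -/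
theorem exists_T2 (hF : Fintype.card F = q ^ 2) (r : ℕ) [Fact r.Prime] (hand : a + d = n)
    (hd : 1 ≤ d) (hrdvd : r ∣ Nat.card (Cfsg.GU a F q)) (hcop : Nat.Coprime r (q + 1)) :
    ∃ X : Matrix (Fin n) (Fin n) F,
      (∀ u v, Cfsg.hermForm n F q (X *ᵥ u) (X *ᵥ v) = Cfsg.hermForm n F q u v) ∧
      X.det = 1 ∧ X ^ r = 1 ∧ X ≠ 1 ∧
      (∀ z : F, X ≠ z • (1 : Matrix (Fin n) (Fin n) F)) ∧
      n ≤ finrank F (LinearMap.ker (Matrix.mulVecLin (X - 1))) + a := by
  classical
  have hr : r.Prime := Fact.out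
  obtain ⟨g, hg⟩ := exists_prime_orderOf_dvd_card' r hrdvd
  have hgr : g ^ r = 1 := by rw [← hg]; exact pow_orderOf_eq_one g
  have hg1 : g ≠ 1 := by
    intro h
    rw [h, orderOf_one] at hg
    exact hr.one_lt.ne hg
  set y : Matrix (Fin a) (Fin a) F := ((g : GL (Fin a) F) : Matrix (Fin a) (Fin a) F) with hy
  have hyU : ∀ u v, Cfsg.hermForm a F q (y *ᵥ u) (y *ᵥ v) = Cfsg.hermForm a F q u v :=
    (mem_GU_iff g.1).mp g.2
  have hyr : y ^ r = 1 := by
    have h1 := congrArg (fun k : Cfsg.GU a F q => ((k : GL (Fin a) F) : Matrix (Fin a) (Fin a) F)) hgr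
    simpa using h1
  have hy1 : y ≠ 1 := by
    intro h
    apply hg1
    apply Subtype.ext
    apply Units.ext
    exact h
  have hdety : y.det = 1 := by
    have h1 : y.det ^ r = 1 := by rw [← Matrix.det_pow, hyr, Matrix.det_one]
    have h2 : y.det ^ (q + 1) = 1 := GU_det_pow hF g.1 g.2
    have h3 := pow_gcd_eq_one.mpr ⟨h1, h2⟩
    rw [Nat.Coprime] at hcop
    rwa [hcop, pow_one] at h3
  let e : Fin a ⊕ Fin d ≃ Fin n := finSumFinEquiv.trans (finCongr hand)
  have hX1 : emb e y ≠ 1 := by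
    intro h
    rw [← emb_one e] at h
    exact hy1 (emb_injective e h)
  refine ⟨emb e y, emb_unitary e y hyU, ?_, ?_, hX1, ?_, ?_⟩
  · rw [emb_det, hdety]
  · rw [← emb_pow, hyr, emb_one]
  · intro z hz
    let j0 : Fin d := ⟨0, by omega⟩
    have h1 := emb_fix_single e y j0
    rw [hz, Matrix.smul_mulVec, Matrix.one_mulVec] at h1
    have h2 := congrFun h1 (e (Sum.inr j0))
    rw [Pi.smul_apply, Pi.single_eq_same, smul_eq_mul, mul_one] at h2
    apply hX1
    rw [hz, h2, one_smul]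
  · have := emb_finrank_fixed e y
    omega

end Cfsg.Agent.Helper44.PP
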