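import Mathlib

/-!
# Two index lemmas for finite groups (helper44, for S5984)
-/

set_option autoImplicit false

namespace Cfsg.Agent.Helper44.PP

variable {G : Type*} [Group G]

theorem relIndex_mul_card_inf (X Y : Subgroup G) :
    X.relIndex Y * Nat.card ↥(X ⊓ Y) = Nat.card Y := by
  have h1 := Subgroup.card_mul_index (X.subgroupOf Y)
  have e : ↥(X.subgroupOf Y) ≃ ↥(X ⊓ Y) :=
    { toFun := fun y => ⟨y.1.1, Subgroup.mem_subgroupOf.mp y.2, y.1.2⟩
      invFun := fun g => ⟨⟨g.1, g.2.2⟩, Subgroup.mem_subgroupOf.mpr g.2.1⟩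
      left_inv := fun _ => rfl
      right_inv := fun _ => rfl }
  rw [Nat.card_congr e] at h1
  rw [Subgroup.relIndex, mul_comm]
  exact h1

/-- Lemma L: `[N : N ∩ B]` divides `[G : B]` for `N` normal -/
theorem relIndex_dvd_index_of_normal' [Finite G] (B N : Subgroup G) [N.Normal] :
    B.relIndex N ∣ B.index := by
  have h1 : N.relIndex (B ⊔ N) = N.relIndex B := Subgroup.relIndex_sup_right B N
  have e1 := relIndex_mul_card_inf B N
  have e2 := relIndex_mul_card_inf N B
  have e3 := relIndex_mul_card_inf N (B ⊔ N)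
  have e4 := relIndex_mul_card_inf B (B ⊔ N)
  rw [inf_eq_left.mpr (le_sup_right : N ≤ B ⊔ N), h1] at e3
  rw [inf_eq_left.mpr (le_sup_left : B ≤ B ⊔ N)] at e4
  rw [inf_comm] at e2
  have hpos1 : 0 < Nat.card ↥(B ⊓ N) := Nat.card_pos
  have hpos2 : 0 < N.relIndex B := by
    apply Nat.pos_of_ne_zero
    intro h0
    rw [h0, zero_mul] at e2
    exact (Nat.card_pos (α := B)).ne e2
  have h2 : B.relIndex (B ⊔ N) = B.relIndex N := by
    have h3 : B.relIndex (B ⊔ N) * (N.relIndex B * Nat.card ↥(B ⊓ N))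
        = B.relIndex N * (N.relIndex B * Nat.card ↥(B ⊓ N)) := by
      calc B.relIndex (B ⊔ N) * (N.relIndex B * Nat.card ↥(B ⊓ N))
          = B.relIndex (B ⊔ N) * Nat.card B := by rw [e2]
        _ = Nat.card ↥(B ⊔ N) := e4
        _ = N.relIndex B * Nat.card N := e3.symm
        _ = N.relIndex B * (B.relIndex N * Nat.card ↥(B ⊓ N)) := by rw [e1]
        _ = B.relIndex N * (N.relIndex B * Nat.card ↥(B ⊓ N)) := by ring
    exact Nat.eq_of_mul_eq_mul_right (Nat.mul_pos hpos2 hpos1) h3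
  rw [← h2]
  exact Dvd.intro _ (Subgroup.relIndex_mul_index (le_sup_left : B ≤ B ⊔ N))

end Cfsg.Agent.Helper44.PP
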