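import Mathlib
import Cfsg.Agent.Lib.Helper44.PPc

/-!
# The stabiliser in `GU` of both members of a polar pair has the order of `GL_m(q²)`
(helper44, for S5984)
-/

set_option autoImplicit false
set_option linter.unusedSectionVars false

namespace Cfsg.Agent.Helper44.PP

open Matrix Module Cfsg.Agent.Lead Cfsg.Agent.Helper19 Cfsg.Agent.Helper44

variable {F : Type*} [Field F] [Fintype F] {q : ℕ} {n : ℕ}

theorem map_inv_of_map_eq (g : GL (Fin n) F) {D : Submodule F (Fin n → F)}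
    (h : D.map (Matrix.toLin' (g : Matrix (Fin n) (Fin n) F)) = D) :
    D.map (Matrix.toLin' ((g⁻¹ : GL (Fin n) F) : Matrix (Fin n) (Fin n) F)) = D := by
  calc D.map (Matrix.toLin' ((g⁻¹ : GL (Fin n) F) : Matrix (Fin n) (Fin n) F))
      = (D.map (Matrix.toLin' (g : Matrix (Fin n) (Fin n) F))).map
          (Matrix.toLin' ((g⁻¹ : GL (Fin n) F) : Matrix (Fin n) (Fin n) F)) := by rw [h]
    _ = D := by
      rw [← Submodule.map_comp, ← Matrix.toLin'_mul, ← Units.val_mul, inv_mul_cancel,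
        Units.val_one, Matrix.toLin'_one, Submodule.map_id]

/-- the subgroup of `GL` fixing both subspaces -/
def Hplus (D0 D1 : Submodule F (Fin n → F)) : Subgroup (GL (Fin n) F) where
  carrier := {g | D0.map (Matrix.toLin' (g : Matrix (Fin n) (Fin n) F)) = D0 ∧
    D1.map (Matrix.toLin' (g : Matrix (Fin n) (Fin n) F)) = D1}
  mul_mem' {a b} ha hb := by
    refine ⟨?_, ?_⟩
    · rw [Units.val_mul, Matrix.toLin'_mul, Submodule.map_comp, hb.1, ha.1]
    · rw [Units.val_mul, Matrix.toLin'_mul, Submodule.map_comp, hb.2, ha.2]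
  one_mem' := by
    refine ⟨?_, ?_⟩ <;> simp
  inv_mem' {a} ha := ⟨map_inv_of_map_eq a ha.1, map_inv_of_map_eq a ha.2⟩

theorem mem_Hplus (D0 D1 : Submodule F (Fin n → F)) (g : GL (Fin n) F) :
    g ∈ Hplus D0 D1 ↔ D0.map (Matrix.toLin' (g : Matrix (Fin n) (Fin n) F)) = D0 ∧
      D1.map (Matrix.toLin' (g : Matrix (Fin n) (Fin n) F)) = D1 := Iff.rfl

theorem Hplus_le (D : Fin 2 → Submodule F (Fin n → F)) :
    Hplus (D 0) (D 1) ≤ Cfsg.Geo.decompositionStabilizer D := by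
  intro g hg
  refine ⟨1, ?_⟩
  intro i
  fin_cases i
  · exact hg.1
  · exact hg.2

theorem mulVec_mem_of_map_eq' {X : Matrix (Fin n) (Fin n) F} {E E' : Submodule F (Fin n → F)}
    (h : E.map (Matrix.toLin' X) = E') {u : Fin n → F} (hu : u ∈ E) : X *ᵥ u ∈ E' := by
  rw [← h]
  exact ⟨u, hu, Matrix.toLin'_apply X u⟩

theorem li_mulVec (g : GL (Fin n) F) {ι : Type*} {e : ι → (Fin n → F)}
    (hLI : LinearIndependent F e) :
    LinearIndependent F (fun a => (g : Matrix (Fin n) (Fin n) F) *ᵥ e a) := by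
  have hker : LinearMap.ker (Matrix.toLin' (g : Matrix (Fin n) (Fin n) F)) = ⊥ := by
    rw [LinearMap.ker_eq_bot]
    intro u v huv
    rw [Matrix.toLin'_apply, Matrix.toLin'_apply] at huv
    have := congrArg (fun w => ((g⁻¹ : GL (Fin n) F) : Matrix (Fin n) (Fin n) F) *ᵥ w) huv
    simpa [Matrix.mulVec_mulVec, ← Units.val_mul] using this
  have := hLI.map' (Matrix.toLin' (g : Matrix (Fin n) (Fin n) F)) hker
  exact this

section Count

variable (hF : Fintype.card F = q ^ 2) {m : ℕ} (hn : n = m + m)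
  {D0 D1 : Submodule F (Fin n → F)} (hD : Polar q m D0 D1)
  {e0 f0 : Fin m → (Fin n → F)} (he0 : ∀ a, e0 a ∈ D0) (hf0 : ∀ a, f0 a ∈ D1)
  (hyp0 : IsHyp q e0 f0)

/-- the orbit map on adapted bases -/
noncomputable def orbMap (D1 : Submodule F (Fin n → F)) (he0 : ∀ a, e0 a ∈ D0)
    (hyp0 : IsHyp q e0 f0) :
    ↥(Hplus D0 D1 ⊓ Cfsg.GU n F q) → {e : Fin m → ↥D0 // LinearIndependent F e} :=
  fun g => ⟨fun a => ⟨(g.1 : Matrix (Fin n) (Fin n) F) *ᵥ e0 a,
      mulVec_mem_of_map_eq' g.2.1.1 (he0 a)⟩, by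
    apply LinearIndependent.of_comp D0.subtype
    exact li_mulVec g.1 (hyp0.li_left hF)⟩

include hn hD hf0 in
theorem orbMap_injective : Function.Injective (orbMap hF D1 he0 hyp0) := by
  intro g g' hgg
  have hq0 : q ≠ 0 := by have := herm_two_le hF; omega
  have he : ∀ a, (g.1 : Matrix (Fin n) (Fin n) F) *ᵥ e0 a
      = (g'.1 : Matrix (Fin n) (Fin n) F) *ᵥ e0 a := by
    intro a
    have h1 := congrArg (fun x => ((x.1 a : ↥D0) : Fin n → F)) hgg
    exact h1
  -- `k = g⁻¹ g'` fixes the hyperbolic basis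
  set k : GL (Fin n) F := g.1⁻¹ * g'.1 with hk
  have hkH : k ∈ Hplus D0 D1 ⊓ Cfsg.GU n F q :=
    (Hplus D0 D1 ⊓ Cfsg.GU n F q).mul_mem ((Hplus D0 D1 ⊓ Cfsg.GU n F q).inv_mem g.2) g'.2
  have hke : ∀ a, (k : Matrix (Fin n) (Fin n) F) *ᵥ e0 a = e0 a := by
    intro a
    rw [hk, Units.val_mul, ← Matrix.mulVec_mulVec, ← he a, Matrix.mulVec_mulVec, ← Units.val_mul,
      inv_mul_cancel, Units.val_one, Matrix.one_mulVec]
  have hkU := (mem_GU_iff k).mp hkH.2
  have hkf : ∀ b, (k : Matrix (Fin n) (Fin n) F) *ᵥ f0 b = f0 b := by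
    intro b
    rw [← sub_eq_zero]
    have hmem : (k : Matrix (Fin n) (Fin n) F) *ᵥ f0 b - f0 b ∈ D1 :=
      D1.sub_mem (mulVec_mem_of_map_eq' hkH.1.2 (hf0 b)) (hf0 b)
    apply hD.eq_zero_of_orth hF hmem
    rw [← span_eq_of_li hD.fr0 e0 he0 (hyp0.li_left hF)]
    apply hH_span_right hF
    rintro _ ⟨a, rfl⟩
    rw [hH_sub_left hF]
    have := hkU (f0 b) (e0 a)
    rw [hke a] at this
    rw [this, sub_self]
  have hspan : Submodule.span F (Set.range (Fin.append e0 f0)) = ⊤ := by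
    apply (hyp0.li hF).span_eq_top_of_card_eq_finrank'
    rw [Fintype.card_fin, Module.finrank_fin_fun, hn]
  have hk1 : (k : Matrix (Fin n) (Fin n) F) = 1 := by
    apply Matrix.toLin'.injective
    apply LinearMap.ext_on_range hspan
    intro i
    rw [Matrix.toLin'_apply, Matrix.toLin'_one]
    refine Fin.addCases (fun a => ?_) (fun a => ?_) i
    · rw [Fin.append_left]; exact hke a
    · rw [Fin.append_right]; exact hkf a
  have hk1' : k = 1 := Units.ext hk1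
  apply Subtype.ext
  have : g.1⁻¹ * g'.1 = 1 := hk1'
  exact (inv_mul_eq_one.mp this)

include hD hf0 in
theorem orbMap_surjective : Function.Surjective (orbMap hF D1 he0 hyp0) := by
  rintro ⟨e, hLI⟩
  have hLI' : LinearIndependent F (fun a => ((e a : ↥D0) : Fin n → F)) :=
    hLI.map' D0.subtype (Submodule.ker_subtype D0)
  have he' : ∀ a, ((e a : ↥D0) : Fin n → F) ∈ D0 := fun a => (e a).2
  obtain ⟨f', hf', hfe'⟩ := exists_dual hF hD _ he' hLI'
  have hyp' : IsHyp q (fun a => ((e a : ↥D0) : Fin n → F)) f' :=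
    ⟨fun a b => hD.ts0 _ (he' a) _ (he' b), fun a b => hD.ts1 _ (hf' a) _ (hf' b), hfe'⟩
  obtain ⟨A, hA, hAe, hAf⟩ := exists_GU_hyp hF hyp0 hyp'
  have hAH : A ∈ Hplus D0 D1 := by
    refine ⟨?_, ?_⟩
    · exact map_eq_of_li hD.fr0 hD.fr0 _ e0 _ he0 (hyp0.li_left hF) he' hLI' hAe
    · exact map_eq_of_li hD.fr1 hD.fr1 _ f0 f' hf0 (hyp0.li_right hF) hf' (hyp'.li_right hF) hAf
  refine ⟨⟨A, hAH, hA⟩, ?_⟩
  apply Subtype.ext
  funext a
  apply Subtype.ext
  exact hAe a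

include hF hn hD he0 hf0 hyp0 in
theorem card_stab : Nat.card ↥(Hplus D0 D1 ⊓ Cfsg.GU n F q)
    = ∏ i : Fin m, ((q ^ 2) ^ m - (q ^ 2) ^ (i : ℕ)) := by
  have hbij : Function.Bijective (orbMap hF D1 he0 hyp0) :=
    ⟨orbMap_injective hF hn hD he0 hf0 hyp0, orbMap_surjective hF hD he0 hf0 hyp0⟩
  rw [Nat.card_congr (Equiv.ofBijective _ hbij)]
  have h1 := card_linearIndependent (K := F) (V := ↥D0) (k := m) (by rw [hD.fr0])
  rw [h1, hD.fr0, hF]

end Count

end Cfsg.Agent.Helper44.PP
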