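import Mathlib
import Cfsg.Agent.Lib.Helper44.PPl
import Cfsg.Agent.Lib.Helper44.PPk

/-!
# Primes dividing the index of the polar-pair stabiliser in `SU_{2m}(q)` (helper44, for S5984)
-/

set_option autoImplicit false
set_option linter.unusedSectionVars false

namespace Cfsg.Agent.Helper44.PP

open Matrix Module Cfsg.Agent.Lead Cfsg.Agent.Helper19 Cfsg.Agent.Helper44

/-! ### arithmetic -/

theorem prod_gu_split (q m : ℕ) :
    ∏ i ∈ Finset.range (m + m), (if Even i then q ^ (i + 1) + 1 else q ^ (i + 1) - 1)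
      = (∏ j ∈ Finset.range m, (q ^ (2 * j + 1) + 1))
        * ∏ j ∈ Finset.range m, (q ^ (2 * j + 2) - 1) := by
  induction m with
  | zero => simp
  | succ m ih =>
    have h1 : m + 1 + (m + 1) = (m + m) + 1 + 1 := by ring
    rw [h1, Finset.prod_range_succ, Finset.prod_range_succ, ih, Finset.prod_range_succ,
      Finset.prod_range_succ]
    have he : Even (m + m) := ⟨m, rfl⟩
    have ho : ¬ Even (m + m + 1) := by
      rw [Nat.not_even_iff_odd]; exact he.add_one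
    rw [if_pos he, if_neg ho]
    have e1 : m + m + 1 = 2 * m + 1 := by ring
    rw [e1]
    ring

theorem prod_gl_split (q m : ℕ) :
    ∃ B : ℕ, ∏ i : Fin m, ((q ^ 2) ^ m - (q ^ 2) ^ (i : ℕ))
      = q ^ B * ∏ j ∈ Finset.range m, (q ^ (2 * j + 2) - 1) := by
  rw [Fin.prod_univ_eq_prod_range (fun i => (q ^ 2) ^ m - (q ^ 2) ^ i) m]
  have h1 : ∀ i ∈ Finset.range m, (q ^ 2) ^ m - (q ^ 2) ^ i
      = (q ^ 2) ^ i * ((q ^ 2) ^ (m - 1 - i + 1) - 1) := by
    intro i hi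
    rw [Finset.mem_range] at hi
    have : m - 1 - i + 1 = m - i := by omega
    rw [this, Nat.mul_sub, mul_one, ← pow_add]
    congr 2
    omega
  rw [Finset.prod_congr rfl h1, Finset.prod_mul_distrib,
    Finset.prod_range_reflect (fun j => (q ^ 2) ^ (j + 1) - 1) m, Finset.prod_pow_eq_pow_sum,
    ← pow_mul]
  refine ⟨2 * ∑ i ∈ Finset.range m, i, ?_⟩
  congr 1
  apply Finset.prod_congr rfl
  intro j _
  rw [← pow_mul]
  congr 2

theorem prime_dvd_of_index_eq {q m r idx cK cGU A : ℕ} (hq : 2 ≤ q) (hr : r.Prime)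
    (hrq : ¬ r ∣ q) (hidx : idx * cK = cGU)
    (hK : cK = ∏ i : Fin m, ((q ^ 2) ^ m - (q ^ 2) ^ (i : ℕ)))
    (hGU : cGU = q ^ A * ∏ i ∈ Finset.range (m + m),
      (if Even i then q ^ (i + 1) + 1 else q ^ (i + 1) - 1))
    (hdvd : r ∣ idx) : ∃ j, j < m ∧ r ∣ q ^ (2 * j + 1) + 1 := by
  obtain ⟨B, hB⟩ := prod_gl_split q m
  rw [hK, hB, hGU, prod_gu_split] at hidx
  have hpos : 0 < ∏ j ∈ Finset.range m, (q ^ (2 * j + 2) - 1) := by
    apply Finset.prod_pos
    intro j _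
    have : 1 < q ^ (2 * j + 2) := Nat.one_lt_pow (by omega) (by omega)
    omega
  have h1 : idx * q ^ B = q ^ A * ∏ j ∈ Finset.range m, (q ^ (2 * j + 1) + 1) := by
    apply Nat.eq_of_mul_eq_mul_right hpos
    rw [mul_assoc, hidx]
    ring
  have h2 : r ∣ q ^ A * ∏ j ∈ Finset.range m, (q ^ (2 * j + 1) + 1) := by
    rw [← h1]; exact hdvd.mul_right _
  rcases (Nat.Prime.dvd_mul hr).mp h2 with h3 | h3
  · exact absurd (hr.dvd_of_dvd_pow h3) hrq
  · obtain ⟨j, hj, hjd⟩ := (Prime.dvd_finsetProd_iff hr.prime _).mp h3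
    exact ⟨j, Finset.mem_range.mp hj, hjd⟩

/-! ### the index -/

variable {F : Type*} [Field F] [Fintype F] {q : ℕ} {n : ℕ}

theorem index_prime_dvd (hF : Fintype.card F = q ^ 2) {m : ℕ} (hn : n = m + m)
    (D : Fin 2 → Submodule F (Fin n → F)) (hD : Polar q m (D 0) (D 1)) (r : ℕ) (hr : r.Prime)
    (hrq : ¬ r ∣ q)
    (hΩ : r ∣ (Cfsg.Geo.decompositionStabilizer D).relIndex
      (Cfsg.GU n F q ⊓ Cfsg.Geo.specialLinear (Fin n) F)) :
    ∃ j, j < m ∧ r ∣ q ^ (2 * j + 1) + 1 := by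
  classical
  have hq := herm_two_le hF
  obtain ⟨e0, f0, he0, hf0, hyp0⟩ := hD.exists_hyp hF
  have hcard := card_stab hF hn hD he0 hf0 hyp0
  have hGU := card_GU hF n (F := F) (q := q)
  have hidx := relIndex_mul_card_inf (Hplus (D 0) (D 1)) (Cfsg.GU n F q)
  -- the chain of divisibilities
  have h1 : (Cfsg.Geo.decompositionStabilizer D).relIndex
      (Cfsg.GU n F q ⊓ Cfsg.Geo.specialLinear (Fin n) F) ∣
      (Hplus (D 0) (D 1)).relIndex (Cfsg.GU n F q ⊓ Cfsg.Geo.specialLinear (Fin n) F) :=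
    Subgroup.relIndex_dvd_of_le_left _ (Hplus_le D)
  have hSle : Cfsg.GU n F q ⊓ Cfsg.Geo.specialLinear (Fin n) F ≤ Cfsg.GU n F q := inf_le_left
  have h2 : (Hplus (D 0) (D 1)).relIndex (Cfsg.GU n F q ⊓ Cfsg.Geo.specialLinear (Fin n) F) ∣
      (Hplus (D 0) (D 1)).relIndex (Cfsg.GU n F q) := by
    rw [← Subgroup.relIndex_subgroupOf hSle]
    have : (Cfsg.Geo.specialLinear (Fin n) F).Normal := by
      unfold Cfsg.Geo.specialLinear
      infer_instance
    have : ((Cfsg.GU n F q ⊓ Cfsg.Geo.specialLinear (Fin n) F).subgroupOf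
        (Cfsg.GU n F q)).Normal := by
      rw [Subgroup.inf_subgroupOf_left]
      infer_instance
    exact relIndex_dvd_index_of_normal' _ _
  have h3 : r ∣ (Hplus (D 0) (D 1)).relIndex (Cfsg.GU n F q) := (hΩ.trans h1).trans h2
  have hGU' : Nat.card ↥(Cfsg.GU n F q) = q ^ (n * (n - 1) / 2) *
      ∏ i ∈ Finset.range (m + m), (if Even i then q ^ (i + 1) + 1 else q ^ (i + 1) - 1) := by
    rw [hGU, hn]
  exact prime_dvd_of_index_eq hq hr hrq hidx hcard hGU' h3

end Cfsg.Agent.Helper44.PP
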