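import Mathlib
import Cfsg.Agent.Lib.Helper44.PPf
import Cfsg.Agent.Lib.Helper44.PPj
import Cfsg.Agent.Lib.Helper44.PPm

/-!
# Glue lemmas for S5984 (helper44)
-/

set_option autoImplicit false
set_option linter.unusedSectionVars false

namespace Cfsg.Agent.Helper44.PP

open Matrix Module Cfsg.Agent.Lead Cfsg.Agent.Helper19 Cfsg.Agent.Helper44

variable {F : Type*} [Field F] [Fintype F] {q : ℕ} {n : ℕ}

theorem polar_of_decomp {m : ℕ} (D : Fin 2 → Submodule F (Fin n → F))
    (hD : Cfsg.Geo.IsMDecomposition m D)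
    (hDs : ∀ i, Cfsg.Geo.IsTotallySingularFor (Cfsg.hermForm n F q) (D i)) :
    Polar q m (D 0) (D 1) := by
  refine ⟨hDs 0, hDs 1, hD.finrank_eq 0, hD.finrank_eq 1, ?_, ?_⟩
  · have h := hD.indep.pairwiseDisjoint (show (0 : Fin 2) ≠ 1 by decide)
    exact disjoint_iff.mp h
  · rw [← hD.iSup_eq_top]
    apply le_antisymm
    · exact sup_le (le_iSup D 0) (le_iSup D 1)
    · apply iSup_le
      intro i
      fin_cases i
      · exact le_sup_left
      · exact le_sup_right

theorem mem_S_iff (x : GL (Fin n) F) :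
    x ∈ Cfsg.GU n F q ⊓ Cfsg.Geo.specialLinear (Fin n) F ↔
      (∀ u v, Cfsg.hermForm n F q ((x : Matrix (Fin n) (Fin n) F) *ᵥ u)
        ((x : Matrix (Fin n) (Fin n) F) *ᵥ v) = Cfsg.hermForm n F q u v) ∧
      (x : Matrix (Fin n) (Fin n) F).det = 1 := by
  rw [Subgroup.mem_inf, mem_GU_iff]
  unfold Cfsg.Geo.specialLinear
  rw [MonoidHom.mem_ker]
  constructor
  · rintro ⟨h1, h2⟩
    refine ⟨h1, ?_⟩
    have := congrArg Units.val h2
    rwa [Matrix.GeneralLinearGroup.val_det_apply, Units.val_one] at this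
  · rintro ⟨h1, h2⟩
    refine ⟨h1, ?_⟩
    apply Units.ext
    rw [Matrix.GeneralLinearGroup.val_det_apply, Units.val_one, h2]

/-- an element of `S` from a matrix -/
theorem exists_S_of_matrix (X : Matrix (Fin n) (Fin n) F)
    (hX : ∀ u v, Cfsg.hermForm n F q (X *ᵥ u) (X *ᵥ v) = Cfsg.hermForm n F q u v)
    (hdet : X.det = 1) :
    ∃ x : GL (Fin n) F, x ∈ Cfsg.GU n F q ⊓ Cfsg.Geo.specialLinear (Fin n) F ∧
      (x : Matrix (Fin n) (Fin n) F) = X := by
  refine ⟨Matrix.GeneralLinearGroup.mkOfDetNeZero X (by rw [hdet]; exact one_ne_zero), ?_, rfl⟩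
  rw [mem_S_iff]
  exact ⟨hX, hdet⟩

theorem conj_mem_stab (D : Fin 2 → Submodule F (Fin n → F)) (A x : GL (Fin n) F)
    {E0 E1 : Submodule F (Fin n → F)}
    (hA0 : (D 0).map (Matrix.toLin' (A : Matrix (Fin n) (Fin n) F)) = E0)
    (hA1 : (D 1).map (Matrix.toLin' (A : Matrix (Fin n) (Fin n) F)) = E1)
    (hx0 : E0.map (Matrix.toLin' (x : Matrix (Fin n) (Fin n) F)) = E0)
    (hx1 : E1.map (Matrix.toLin' (x : Matrix (Fin n) (Fin n) F)) = E1) :
    A⁻¹ * x * A ∈ Cfsg.Geo.decompositionStabilizer D := by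
  have key : ∀ (W E : Submodule F (Fin n → F)),
      W.map (Matrix.toLin' (A : Matrix (Fin n) (Fin n) F)) = E →
      E.map (Matrix.toLin' (x : Matrix (Fin n) (Fin n) F)) = E →
      W.map (Matrix.toLin' ((A⁻¹ * x * A : GL (Fin n) F) : Matrix (Fin n) (Fin n) F)) = W := by
    intro W E hA hx
    rw [Units.val_mul, Units.val_mul, Matrix.toLin'_mul, Matrix.toLin'_mul, Submodule.map_comp,
      Submodule.map_comp, hA, hx, ← hA, ← Submodule.map_comp, ← Matrix.toLin'_mul,
      ← Units.val_mul, inv_mul_cancel, Units.val_one, Matrix.toLin'_one, Submodule.map_id]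
  refine ⟨1, ?_⟩
  intro i
  fin_cases i
  · exact key _ _ hA0 hx0
  · exact key _ _ hA1 hx1

theorem toLin'_GL_injective (g : GL (Fin n) F) :
    Function.Injective (Matrix.toLin' (g : Matrix (Fin n) (Fin n) F)) := by
  intro u v huv
  rw [Matrix.toLin'_apply, Matrix.toLin'_apply] at huv
  have := congrArg (fun w => ((g⁻¹ : GL (Fin n) F) : Matrix (Fin n) (Fin n) F) *ᵥ w) huv
  simpa [Matrix.mulVec_mulVec, ← Units.val_mul] using this

theorem toLin'_GL_surjective (g : GL (Fin n) F) :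
    Function.Surjective (Matrix.toLin' (g : Matrix (Fin n) (Fin n) F)) := by
  intro w
  refine ⟨((g⁻¹ : GL (Fin n) F) : Matrix (Fin n) (Fin n) F) *ᵥ w, ?_⟩
  rw [Matrix.toLin'_apply, Matrix.mulVec_mulVec, ← Units.val_mul, mul_inv_cancel, Units.val_one,
    Matrix.one_mulVec]

/-- the image of a polar pair under an element of `GU` -/
theorem Polar.map_GU {m : ℕ} {D0 D1 : Submodule F (Fin n → F)} (hD : Polar q m D0 D1)
    (g : GL (Fin n) F) (hg : g ∈ Cfsg.GU n F q) :
    Polar q m (D0.map (Matrix.toLin' (g : Matrix (Fin n) (Fin n) F)))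
      (D1.map (Matrix.toLin' (g : Matrix (Fin n) (Fin n) F))) := by
  have hU := (mem_GU_iff g).mp hg
  have hinj := toLin'_GL_injective g
  refine ⟨?_, ?_, ?_, ?_, ?_, ?_⟩
  · rintro _ ⟨u, hu, rfl⟩ _ ⟨v, hv, rfl⟩
    rw [Matrix.toLin'_apply, Matrix.toLin'_apply, hU]
    exact hD.ts0 u hu v hv
  · rintro _ ⟨u, hu, rfl⟩ _ ⟨v, hv, rfl⟩
    rw [Matrix.toLin'_apply, Matrix.toLin'_apply, hU]
    exact hD.ts1 u hu v hv
  · rw [← hD.fr0]
    exact (Submodule.equivMapOfInjective _ hinj D0).finrank_eq.symm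
  · rw [← hD.fr1]
    exact (Submodule.equivMapOfInjective _ hinj D1).finrank_eq.symm
  · rw [← Submodule.map_inf _ hinj, hD.disj, Submodule.map_bot]
  · rw [← Submodule.map_sup, hD.sup, Submodule.map_top, LinearMap.range_eq_top]
    exact toLin'_GL_surjective g

/-- if a conjugate of `x` by `g ∈ GU` stabilises `D`, then `x` stabilises a polar pair -/
theorem stab_of_conj {m : ℕ} (D : Fin 2 → Submodule F (Fin n → F))
    (hD : Polar q m (D 0) (D 1)) (g x : GL (Fin n) F) (hg : g ∈ Cfsg.GU n F q)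
    (h : g⁻¹ * x * g ∈ Cfsg.Geo.decompositionStabilizer D) :
    ∃ E0 E1 : Submodule F (Fin n → F), Polar q m E0 E1 ∧
      Stab (x : Matrix (Fin n) (Fin n) F) E0 E1 := by
  obtain ⟨σ, hσ⟩ := h
  refine ⟨_, _, hD.map_GU g hg, ?_⟩
  have key : ∀ i, ((D i).map (Matrix.toLin' (g : Matrix (Fin n) (Fin n) F))).map
      (Matrix.toLin' (x : Matrix (Fin n) (Fin n) F))
      = (D (σ i)).map (Matrix.toLin' (g : Matrix (Fin n) (Fin n) F)) := by
    intro i
    rw [← hσ i, ← Submodule.map_comp, ← Submodule.map_comp, ← Matrix.toLin'_mul,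
      ← Matrix.toLin'_mul, ← Units.val_mul, ← Units.val_mul]
    congr 3
    group
  have h01 : σ 0 = 0 ∨ σ 0 = 1 := by
    have := (σ 0).2
    rcases h0 : σ 0 with ⟨v, hv⟩
    have : v = 0 ∨ v = 1 := by omega
    rcases this with rfl | rfl
    · left; rfl
    · right; rfl
  rcases h01 with h0 | h0
  · have h1 : σ 1 = 1 := by
      have hne : σ 1 ≠ σ 0 := fun h => by
        have := σ.injective h
        exact absurd this (by decide)
      rw [h0] at hne
      rcases h1 : σ 1 with ⟨v, hv⟩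
      have : v = 0 ∨ v = 1 := by omega
      rcases this with rfl | rfl
      · rw [h1] at hne; exact absurd rfl hne
      · rfl
    left
    refine ⟨?_, ?_⟩
    · have := key 0; rwa [h0] at this
    · have := key 1; rwa [h1] at this
  · have h1 : σ 1 = 0 := by
      have hne : σ 1 ≠ σ 0 := fun h => by
        have := σ.injective h
        exact absurd this (by decide)
      rw [h0] at hne
      rcases h1 : σ 1 with ⟨v, hv⟩
      have : v = 0 ∨ v = 1 := by omega
      rcases this with rfl | rfl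
      · rfl
      · rw [h1] at hne; exact absurd rfl hne
    right
    refine ⟨?_, ?_⟩
    · have := key 0; rwa [h0] at this
    · have := key 1; rwa [h1] at this

end Cfsg.Agent.Helper44.PP
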