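import Mathlib
import Cfsg.Agent.Lib.Helper44.PPn

/-!
# Number theory for S5984: the minimal odd exponent (helper44)
-/

set_option autoImplicit false
set_option linter.unusedSectionVars false

namespace Cfsg.Agent.Helper44.PP

open Matrix Module Cfsg.Agent.Lead Cfsg.Agent.Helper19 Cfsg.Agent.Helper44

theorem dvd_pow_add_one_iff (r q g : ℕ) : r ∣ q ^ g + 1 ↔ ((q : ZMod r)) ^ g = -1 := by
  rw [← ZMod.natCast_eq_zero_iff]
  push_cast
  constructor
  · intro h; linear_combination h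
  · intro h; linear_combination h

theorem dvd_pow_sub_one_iff (r q g : ℕ) (hq : 1 ≤ q) : r ∣ q ^ g - 1 ↔ ((q : ZMod r)) ^ g = 1 := by
  have h1 : 1 ≤ q ^ g := Nat.one_le_pow _ _ hq
  rw [← ZMod.natCast_eq_zero_iff, Nat.cast_sub h1]
  push_cast
  constructor
  · intro h; linear_combination h
  · intro h; linear_combination h

/-- minimality of the odd exponent controls the order of `q²` modulo `r` -/
theorem not_dvd_of_minimal {r q i₀ : ℕ} [Fact r.Prime] (hr2 : r ≠ 2) (hq : 1 ≤ q)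
    (hi₀odd : Odd i₀) (hi₀ : r ∣ q ^ i₀ + 1)
    (hmin : ∀ i, Odd i → r ∣ q ^ i + 1 → i₀ ≤ i) :
    ∀ k, 0 < k → k < i₀ → ¬ r ∣ (q ^ 2) ^ k - 1 := by
  intro k hk0 hki hdvd
  have hr : r.Prime := Fact.out
  set x : ZMod r := (q : ZMod r) with hx
  have h1 : x ^ i₀ = -1 := (dvd_pow_add_one_iff r q i₀).mp hi₀
  have h2 : x ^ (2 * k) = 1 := by
    have := (dvd_pow_sub_one_iff r (q ^ 2) k (Nat.one_le_pow _ _ hq)).mp hdvd
    rw [Nat.cast_pow, ← pow_mul] at this
    exact this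
  have h3 : x ^ (2 * i₀) = 1 := by
    rw [mul_comm, pow_mul, h1]; norm_num
  set g := Nat.gcd k i₀ with hg
  have hgdvd : g ∣ i₀ := Nat.gcd_dvd_right k i₀
  have hgk : g ∣ k := Nat.gcd_dvd_left k i₀
  have hgpos : 0 < g := Nat.gcd_pos_of_pos_left _ hk0
  have hgle : g ≤ k := Nat.le_of_dvd hk0 hgk
  have hgodd : Odd g := by
    obtain ⟨c, hc⟩ := hgdvd
    rw [hc] at hi₀odd
    exact (Nat.odd_mul.mp hi₀odd).1
  have h4 : x ^ (2 * g) = 1 := by
    have ho1 : orderOf x ∣ 2 * k := orderOf_dvd_of_pow_eq_one h2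
    have ho2 : orderOf x ∣ 2 * i₀ := orderOf_dvd_of_pow_eq_one h3
    have ho3 : orderOf x ∣ Nat.gcd (2 * k) (2 * i₀) := Nat.dvd_gcd ho1 ho2
    rw [Nat.gcd_mul_left] at ho3
    exact orderOf_dvd_iff_pow_eq_one.mp ho3
  have h5 : x ^ g * x ^ g = 1 := by rw [← pow_add, ← two_mul, h4]
  have hne : (1 : ZMod r) ≠ -1 := by
    intro h
    have h6 : ((2 : ℕ) : ZMod r) = 0 := by
      push_cast
      linear_combination h
    rw [ZMod.natCast_eq_zero_iff] at h6
    have := (Nat.prime_dvd_prime_iff_eq hr Nat.prime_two).mp h6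
    exact hr2 this
  rcases mul_self_eq_one_iff.mp h5 with h6 | h6
  · obtain ⟨c, hc⟩ := hgdvd
    rw [hc, pow_mul, h6, one_pow] at h1
    exact hne h1
  · have h7 : r ∣ q ^ g + 1 := (dvd_pow_add_one_iff r q g).mpr h6
    have := hmin g hgodd h7
    omega

variable {F : Type*} [Field F] [Fintype F] {q : ℕ}

theorem pow_add_one_dvd_card_GU (hF : Fintype.card F = q ^ 2) {a : ℕ} (ha : Odd a) :
    q ^ a + 1 ∣ Nat.card (Cfsg.GU a F q) := by
  rw [card_GU hF a]
  apply Dvd.dvd.mul_left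
  obtain ⟨k, hk⟩ := ha
  have hmem : a - 1 ∈ Finset.range a := Finset.mem_range.mpr (by omega)
  refine Dvd.dvd.trans ?_ (Finset.dvd_prod_of_mem _ hmem)
  have he : Even (a - 1) := ⟨k, by omega⟩
  rw [if_pos he]
  have : a - 1 + 1 = a := by omega
  rw [this]

end Cfsg.Agent.Helper44.PP
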