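import Mathlib
import Cfsg.Agent.Lib.Helper44.PPo

/-!
# S5984: elements of prime order of `PSU_n(q)` and stabilisers of polar pairs (helper44)
-/

set_option autoImplicit false
set_option linter.unusedSectionVars false
set_option maxHeartbeats 800000

namespace Cfsg.Agent.Helper44.PP

open Matrix Module Cfsg.Agent.Lead Cfsg.Agent.Helper19 Cfsg.Agent.Helper44

theorem main {F : Type*} [Field F] [Fintype F] {p : ℕ} [Fact p.Prime] [CharP F p] {q : ℕ}
    (hq : Fintype.card F = q ^ 2) (n : ℕ) (hn : 4 ≤ n) (he : Even n)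
    (D : Fin 2 → Submodule F (Fin n → F)) (hD : Cfsg.Geo.IsMDecomposition (n / 2) D)
    (hDs : ∀ i, Cfsg.Geo.IsTotallySingularFor (Cfsg.hermForm n F q) (D i))
    (r : ℕ) [Fact r.Prime]
    (hΩ : r ∣ (Cfsg.Geo.decompositionStabilizer D).relIndex
      (Cfsg.GU n F q ⊓ Cfsg.Geo.specialLinear (Fin n) F)) :
    (∀ x ∈ Cfsg.GU n F q ⊓ Cfsg.Geo.specialLinear (Fin n) F,
      (∃ z : F, ((x ^ r : GL (Fin n) F) : Matrix (Fin n) (Fin n) F)
        = z • (1 : Matrix (Fin n) (Fin n) F)) →
      (∀ z : F, (x : Matrix (Fin n) (Fin n) F) ≠ z • (1 : Matrix (Fin n) (Fin n) F)) →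
      ∃ g ∈ Cfsg.GU n F q ⊓ Cfsg.Geo.specialLinear (Fin n) F,
        g⁻¹ * x * g ∈ Cfsg.Geo.decompositionStabilizer D) ↔
    (r = 2 ∧ Odd q ∧ padicValNat 2 (q + 1) ≤ padicValNat 2 n) := by
  classical
  obtain ⟨m, rfl⟩ := he
  have hm : 2 ≤ m := by omega
  have hdiv : (m + m) / 2 = m := by omega
  rw [hdiv] at hD
  have hP : Polar q m (D 0) (D 1) := polar_of_decomp D hD hDs
  have hq2 := herm_two_le hq
  have hrp : r.Prime := Fact.out
  have hpp : p.Prime := Fact.out
  let i0 : Fin (m + m) := ⟨0, by omega⟩
  let i1 : Fin (m + m) := ⟨1, by omega⟩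
  let i2 : Fin (m + m) := ⟨2, by omega⟩
  have hi01 : i0 ≠ i1 := by
    intro h; have := congrArg Fin.val h; simp [i0, i1] at this
  have hi20 : i2 ≠ i0 := by
    intro h; have := congrArg Fin.val h; simp [i0, i2] at this
  have hi21 : i2 ≠ i1 := by
    intro h; have := congrArg Fin.val h; simp [i1, i2] at this
  constructor
  · intro hL
    have key : ∀ X : Matrix (Fin (m + m)) (Fin (m + m)) F,
        (∀ u v, Cfsg.hermForm (m + m) F q (X *ᵥ u) (X *ᵥ v) = Cfsg.hermForm (m + m) F q u v) →
        X.det = 1 → (∃ z : F, X ^ r = z • (1 : Matrix (Fin (m + m)) (Fin (m + m)) F)) →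
        (∀ z : F, X ≠ z • (1 : Matrix (Fin (m + m)) (Fin (m + m)) F)) →
        (∀ E0 E1 : Submodule F (Fin (m + m) → F), Polar q m E0 E1 → ¬ Stab X E0 E1) → False := by
      intro X hXU hXdet hXr hXns hXno
      obtain ⟨x, hxS, hxX⟩ := exists_S_of_matrix X hXU hXdet
      obtain ⟨g, hgS, hg⟩ := hL x hxS
        (by obtain ⟨z, hz⟩ := hXr; exact ⟨z, by rw [Units.val_pow_eq_pow_val, hxX, hz]⟩)
        (by rw [hxX]; exact hXns)
      obtain ⟨E0, E1, hE, hS⟩ := stab_of_conj D hP g x hgS.1 hg
      rw [hxX] at hS
      exact hXno E0 E1 hE hS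
    by_cases hrp' : r = p
    · exfalso
      subst hrp'
      obtain ⟨v, hv0, hvv⟩ := exists_isotropic hq (by omega : 2 ≤ m + m)
      obtain ⟨c, hc0, hc⟩ := exists_trace_zero hq
      apply key (Cfsg.unitaryTransvection (m + m) q v c) (tv_unitary hq v c hc hvv)
        (tv_det v c hvv) ⟨1, by rw [one_smul]; exact tv_pow_char hq v c r hvv⟩
        (tv_not_scalar hq v c hv0 hc0 hvv)
      intro E0 E1 hE hS
      rcases hS with ⟨h0, h1⟩ | ⟨h01, _⟩
      · exact not_fix_of_transvection hq hE _ v hv0 c hc0 (tv_mulVec v c) h0 h1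
      · refine not_swap_of_functional hm hE _ ((stdHerm hq (m + m)).lin v) one_ne_zero ?_ h01
        intro u hu
        rw [HermForm.lin_apply, stdHerm_apply] at hu
        rw [tv_mulVec, hu, mul_zero, zero_smul, add_zero, one_smul]
    · have hrq : ¬ r ∣ q := by
        intro h
        obtain ⟨k, _, hk⟩ := FiniteField.card F p
        have h1 : r ∣ p ^ (k : ℕ) := by
          rw [← hk, hq]; exact h.trans (dvd_pow_self q (by omega))
        have h2 := hrp.dvd_of_dvd_pow h1
        exact hrp' ((Nat.prime_dvd_prime_iff_eq hrp hpp).mp h2)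
      by_cases hr2 : r = 2
      · subst hr2
        have hqodd : Odd q := Nat.odd_iff.mpr (Nat.two_dvd_ne_zero.mp hrq)
        refine ⟨rfl, hqodd, ?_⟩
        by_contra hval
        push Not at hval
        obtain ⟨ν, hν1, hνN⟩ := exists_nu hq (N := m + m) (by omega) hval
        have hν0 : ν ≠ 0 := by
          rintro rfl
          rw [zero_pow (by omega)] at hν1
          exact zero_ne_one hν1
        have h2 : (2 : F) ≠ 0 := two_ne_zero_of_odd hq hqodd
        have hqe : Even (q + 1) := by
          obtain ⟨j, hj⟩ := hqodd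
          exact ⟨j + 1, by omega⟩
        set d : Fin (m + m) → F := Function.update (fun _ => ν) i0 (-ν) with hd
        have hd0 : d i0 = -ν := by simp [hd]
        have hdi : ∀ i, i ≠ i0 → d i = ν := fun i hi => by simp [hd, Function.update_of_ne hi]
        apply key (Matrix.diagonal d)
        · apply diag_unitary
          intro i
          by_cases hi : i = i0
          · rw [hi, hd0, hqe.neg_pow, hν1]
          · rw [hdi i hi, hν1]
        · rw [hd, det_diag_update1]
          have : ν * ν ^ (m + m - 1) = ν ^ (m + m) := by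
            rw [← pow_succ']
            congr 1
            omega
          rw [neg_mul, this, hνN, neg_neg]
        · refine ⟨ν ^ 2, ?_⟩
          rw [Matrix.diagonal_pow, Matrix.smul_one_eq_diagonal]
          congr 1
          funext i
          rw [Pi.pow_apply]
          by_cases hi : i = i0
          · rw [hi, hd0, neg_sq]
          · rw [hdi i hi]
        · intro z hz
          have h0 := congrFun (congrFun hz i0) i0
          have h1 := congrFun (congrFun hz i1) i1
          simp only [Matrix.diagonal_apply_eq, Matrix.smul_apply, Matrix.one_apply_eq, smul_eq_mul,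
            mul_one] at h0 h1
          rw [hd0] at h0
          rw [hdi i1 (Ne.symm hi01)] at h1
          have : (2 : F) * ν = 0 := by linear_combination h1 - h0
          rcases mul_eq_zero.mp this with h | h
          · exact h2 h
          · exact hν0 h
        · intro E0 E1 hE hS
          exact refl_no_stab hq h2 hm i0 hν0 hE hS
      · exfalso
        have hrodd : Odd r := hrp.odd_of_ne_two hr2
        obtain ⟨j, hjm, hjd⟩ := index_prime_dvd hq rfl D hP r hrp hrq hΩ
        have hex : ∃ i, Odd i ∧ r ∣ q ^ i + 1 := ⟨2 * j + 1, ⟨j, rfl⟩, hjd⟩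
        set i₀ := Nat.find hex with hi₀def
        have hi₀ : Odd i₀ ∧ r ∣ q ^ i₀ + 1 := Nat.find_spec hex
        have hmin : ∀ i, Odd i → r ∣ q ^ i + 1 → i₀ ≤ i := fun i ho hd => Nat.find_min' hex ⟨ho, hd⟩
        have hi₀le : i₀ ≤ 2 * j + 1 := hmin _ ⟨j, rfl⟩ hjd
        have hi₀pos : 1 ≤ i₀ := by
          obtain ⟨k, hk⟩ := hi₀.1
          omega
        by_cases h1 : i₀ = 1
        · have hr1 : r ∣ q + 1 := by
            have := hi₀.2
            rwa [h1, pow_one] at this
          obtain ⟨lam, hlam1, hlamr, hlamq⟩ := exists_order_r hq r hr1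
          have hlam0 : lam ≠ 0 := by
            rintro rfl
            rw [zero_pow (by omega)] at hlamq
            exact zero_ne_one hlamq
          set d : Fin (m + m) → F :=
            Function.update (Function.update (fun _ => (1 : F)) i1 lam⁻¹) i0 lam with hd
          have hd0 : d i0 = lam := by simp [hd]
          have hd1 : d i1 = lam⁻¹ := by simp [hd, Function.update_of_ne hi01.symm]
          have hdi : ∀ i, i ≠ i0 → i ≠ i1 → d i = 1 := fun i h0 h1 => by
            simp [hd, Function.update_of_ne h0, Function.update_of_ne h1]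
          apply key (Matrix.diagonal d)
          · apply diag_unitary
            intro i
            by_cases h0 : i = i0
            · rw [h0, hd0, hlamq]
            · by_cases h1' : i = i1
              · rw [h1', hd1, inv_pow, hlamq, inv_one]
              · rw [hdi i h0 h1', one_pow]
          · rw [hd, det_diag_update2 i0 i1 hi01, mul_inv_cancel₀ hlam0]
          · refine ⟨1, ?_⟩
            rw [Matrix.diagonal_pow, one_smul, ← Matrix.diagonal_one]
            congr 1
            funext i
            rw [Pi.pow_apply]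
            by_cases h0 : i = i0
            · rw [h0, hd0, hlamr]
            · by_cases h1' : i = i1
              · rw [h1', hd1, inv_pow, hlamr, inv_one]
              · rw [hdi i h0 h1', one_pow]
          · intro z hz
            have h0 := congrFun (congrFun hz i0) i0
            have h2' := congrFun (congrFun hz i2) i2
            simp only [Matrix.diagonal_apply_eq, Matrix.smul_apply, Matrix.one_apply_eq,
              smul_eq_mul, mul_one] at h0 h2'
            rw [hd0] at h0
            rw [hdi i2 hi20 hi21] at h2'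
            exact hlam1 (h0.trans h2'.symm)
          · intro E0 E1 hE hS
            exact diag_r_no_stab hq (by omega : 1 ≤ m) i0 i1 hi01 hlam1 hrodd hlamr hE hS
        · have hi₀3 : 3 ≤ i₀ := by
            obtain ⟨k, hk⟩ := hi₀.1
            omega
          have hand : i₀ + (m + m - i₀) = m + m := by omega
          have hd : 1 ≤ m + m - i₀ := by omega
          have hrdvd : r ∣ Nat.card (Cfsg.GU i₀ F q) :=
            hi₀.2.trans (pow_add_one_dvd_card_GU hq hi₀.1)
          have hcop : Nat.Coprime r (q + 1) := by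
            rw [Nat.Prime.coprime_iff_not_dvd hrp]
            intro h
            have := hmin 1 odd_one (by rwa [pow_one])
            omega
          obtain ⟨X, hXU, hXdet, hXr, hX1, hXns, hXfix⟩ := exists_T2 hq r hand hd hrdvd hcop
          apply key X hXU hXdet ⟨1, by rw [one_smul]; exact hXr⟩ hXns
          intro E0 E1 hE hS
          rcases hS with ⟨h0, h1'⟩ | ⟨h01, h10⟩
          · exact not_fix_of_counting hq rfl hE X hXU r hrq hXr hX1 i₀ hi₀pos
              (not_dvd_of_minimal hr2 (by omega) hi₀.1 hi₀.2 hmin) hXfix h0 h1'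
          · exact not_swap_of_odd_pow (by omega) hE X r hrodd 1 one_ne_zero
              (by rw [one_smul]; exact hXr) h01 h10
  · rintro ⟨hr2, hqodd, hval⟩
    subst hr2
    intro x hxS hxr _
    rw [mem_S_iff] at hxS
    obtain ⟨z, hz⟩ := hxr
    have hz' : (x : Matrix (Fin (m + m)) (Fin (m + m)) F) * (x : Matrix (Fin (m + m)) (Fin (m + m)) F)
        = z • (1 : Matrix (Fin (m + m)) (Fin (m + m)) F) := by
      rw [← pow_two, ← Units.val_pow_eq_pow_val]; exact hz
    obtain ⟨E0, E1, hE, hx0, hx1⟩ :=
      exists_fixed_polar hq hqodd (by omega) hval _ hxS.1 hxS.2 z hz'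
    obtain ⟨A, hA, hAdet, hA0, hA1⟩ := exists_SU_map_polar hq (by omega) hP hE
    exact ⟨A, (mem_S_iff A).mpr ⟨(mem_GU_iff A).mp hA, hAdet⟩,
      conj_mem_stab D A x hA0 hA1 hx0 hx1⟩

end Cfsg.Agent.Helper44.PP
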