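import Mathlib
set_option autoImplicit false

/-! Shared helpers (helper44): quadratic extensions of finite fields, restriction of scalars of
matrices along an `F`-linear coordinate system, symplectic group as form-preserving matrices. -/

namespace Cfsg.Agent.Helper44


theorem exists_algebra_of_card {K F : Type*} [Field K] [Fintype K] [Field F] [Fintype F] {q : ℕ}
    (hK : Fintype.card K = q ^ 2) (hF : Fintype.card F = q) :
    ∃ _ : Algebra F K, Module.finrank F K = 2 := by
  classical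
  obtain ⟨p, hp⟩ := CharP.exists F
  haveI : Fact p.Prime := ⟨CharP.char_is_prime F p⟩
  obtain ⟨k, hk⟩ := FiniteField.card F p
  -- characteristic of K is p
  have hq2 : 2 ≤ q := by rw [← hF]; exact Fintype.one_lt_card
  haveI : CharP K p := by
    obtain ⟨p', hp'⟩ := CharP.exists K
    haveI : Fact p'.Prime := ⟨CharP.char_is_prime K p'⟩
    obtain ⟨k', hk'⟩ := FiniteField.card K p'
    have h1 : p' ∣ q ^ 2 := by rw [← hK, hk'.2]; exact dvd_pow_self _ k'.ne_zero
    have h2 : p' ∣ p ^ (k : ℕ) := by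
      rw [← hk.2, hF]
      exact (Nat.Prime.dvd_of_dvd_pow (Fact.out) h1)
    have h3 : p' = p := (Nat.prime_dvd_prime_iff_eq Fact.out Fact.out).mp
      (Nat.Prime.dvd_of_dvd_pow Fact.out h2)
    rw [← h3]; exact hp'
  letI : Algebra (ZMod p) F := ZMod.algebra F p
  letI : Algebra (ZMod p) K := ZMod.algebra K p
  have hfF : p ^ Module.finrank (ZMod p) F = q := by rw [FiniteField.pow_finrank_eq_card, hF]
  have hfK : p ^ Module.finrank (ZMod p) K = q ^ 2 := by rw [FiniteField.pow_finrank_eq_card, hK]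
  have hdvd : Module.finrank (ZMod p) F ∣ Module.finrank (ZMod p) K := by
    have : p ^ Module.finrank (ZMod p) K = p ^ (2 * Module.finrank (ZMod p) F) := by
      rw [hfK, ← hfF, ← pow_mul, mul_comm]
    have := Nat.pow_right_injective (Fact.out : p.Prime).two_le this
    rw [this]; exact dvd_mul_left _ _
  obtain ⟨f⟩ := FiniteField.nonempty_algHom_of_finrank_dvd hdvd
  letI : Algebra F K := f.toRingHom.toAlgebra
  refine ⟨inferInstance, ?_⟩
  have h1 : Fintype.card K = Fintype.card F ^ Module.finrank F K := Module.card_eq_pow_finrank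
  rw [hK, hF] at h1
  exact (Nat.pow_right_injective hq2 h1).symm



open Matrix

section Restrict
variable {K F : Type*} [Field K] [Field F] [Algebra F K]
variable {ι κ : Type*} [Fintype ι] [DecidableEq ι] [Fintype κ] [DecidableEq κ]

/-- matrix of `Φ ∘ A ∘ Φ⁻¹` over the small field -/
noncomputable def restrictHom (Φ : (ι → K) ≃ₗ[F] (κ → F)) : Matrix ι ι K →* Matrix κ κ F where
  toFun A := LinearMap.toMatrix' ((Φ : (ι → K) →ₗ[F] (κ → F)) ∘ₗ
    ((Matrix.toLin' A).restrictScalars F) ∘ₗ (Φ.symm : (κ → F) →ₗ[F] (ι → K)))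
  map_one' := by
    have : ((Φ : (ι → K) →ₗ[F] (κ → F)) ∘ₗ
        ((Matrix.toLin' (1 : Matrix ι ι K)).restrictScalars F) ∘ₗ (Φ.symm : (κ → F) →ₗ[F] (ι → K)))
        = LinearMap.id := LinearMap.ext fun v => by simp
    rw [this, LinearMap.toMatrix'_id]
  map_mul' A B := by
    rw [← LinearMap.toMatrix'_mul]
    congr 1
    refine LinearMap.ext fun v => ?_
    simp [Matrix.toLin'_mul, Module.End.mul_apply]

theorem restrictHom_mulVec (Φ : (ι → K) ≃ₗ[F] (κ → F)) (A : Matrix ι ι K) (u : ι → K) :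
    restrictHom Φ A *ᵥ (Φ u) = Φ (A *ᵥ u) := by
  change (LinearMap.toMatrix' _) *ᵥ (Φ u) = _
  rw [← Matrix.toLin'_apply, Matrix.toLin'_toMatrix']
  simp

theorem restrictHom_mulVec' (Φ : (ι → K) ≃ₗ[F] (κ → F)) (A : Matrix ι ι K) (w : κ → F) :
    restrictHom Φ A *ᵥ w = Φ (A *ᵥ (Φ.symm w)) := by
  rw [← restrictHom_mulVec, LinearEquiv.apply_symm_apply]

theorem restrictHom_injective (Φ : (ι → K) ≃ₗ[F] (κ → F)) :
    Function.Injective (restrictHom Φ : Matrix ι ι K → Matrix κ κ F) := by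
  intro A B h
  have h1 : ∀ u : ι → K, A *ᵥ u = B *ᵥ u := by
    intro u
    apply Φ.injective
    rw [← restrictHom_mulVec, ← restrictHom_mulVec, h]
  ext i j
  have := congrFun (h1 (Pi.single j 1)) i
  simpa using this

end Restrict




section SpForm
variable {l : Type*} [Fintype l] [DecidableEq l] {R : Type*} [CommRing R]

theorem bilin_ext {n : Type*} [Fintype n] [DecidableEq n] (A B : Matrix n n R)
    (h : ∀ u v : n → R, u ⬝ᵥ (A *ᵥ v) = u ⬝ᵥ (B *ᵥ v)) : A = B := by
  ext i j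
  have := h (Pi.single i 1) (Pi.single j 1)
  simpa using this

theorem sp_mem_iff_form (A : Matrix (l ⊕ l) (l ⊕ l) R) :
    A ∈ Matrix.symplecticGroup l R ↔
      ∀ u v : l ⊕ l → R, (A *ᵥ u) ⬝ᵥ (Matrix.J l R *ᵥ (A *ᵥ v)) = u ⬝ᵥ (Matrix.J l R *ᵥ v) := by
  rw [SymplecticGroup.mem_iff']
  have key : ∀ u v : l ⊕ l → R, (A *ᵥ u) ⬝ᵥ (Matrix.J l R *ᵥ (A *ᵥ v)) =
      u ⬝ᵥ ((Aᵀ * Matrix.J l R * A) *ᵥ v) := by
    intro u v
    rw [← Matrix.vecMul_transpose, ← Matrix.dotProduct_mulVec, Matrix.mulVec_mulVec,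
      Matrix.mulVec_mulVec, Matrix.mul_assoc]
  constructor
  · intro h u v
    rw [key, h]
  · intro h
    apply bilin_ext
    intro u v
    rw [← key, h]

end SpForm


end Cfsg.Agent.Helper44
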