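import Mathlib
import Cfsg.Agent.Lib.Helper35.RJ0
import Cfsg.Agent.Lib.Helper82.RUA

/-!
# RJ (R1a) (helper35's server for S2279): the abstract seed identity
`[[s₁,s₀],s₀] = 1 + λ³ a₁ φₘᵀ` for `s₀ = (1 + λ aₘφₘᵀ)(1 + λ a₀φ₀ᵀ)⁻¹`, `s₁ = (1 + λ a₀φ₀ᵀ)(1 + λ a₁φ₁ᵀ)⁻¹`.

Method: every matrix involved is `1 + A M Φ` with `A` the `n × 3` matrix of columns `aₘ, a₀, a₁`, `Φ` the
`3 × n` matrix of rows `φₘ, φ₀, φ₁` and `M` a `3 × 3` matrix; `(1 + A M Φ)(1 + A M' Φ) = 1 + A (M + M' + M G M') Φ`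
with the Gram matrix `G = Φ A`, so everything is a computation with explicit `3 × 3` matrices.
-/

set_option autoImplicit false
set_option linter.style.haveILetI false

namespace Cfsg.Agent.Helper44.RJ

open Matrix Cfsg.Agent.Helper93.RU Cfsg.Agent.Helper35.RJ

variable {F : Type*} [Field F] {m : ℕ}

/-- the `n × 3` matrix with columns `am, a0, a1` -/
def h44A (am a0 a1 : Fin (m + 3) → F) : Matrix (Fin (m + 3)) (Fin 3) F :=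
  Matrix.of fun i k => ![am, a0, a1] k i

/-- the `3 × n` matrix with rows `φm, φ0, φ1` -/
def h44P (φm φ0 φ1 : Fin (m + 3) → F) : Matrix (Fin 3) (Fin (m + 3)) F :=
  Matrix.of ![φm, φ0, φ1]

/-- `1 + A M Φ` -/
def h44E (A : Matrix (Fin (m + 3)) (Fin 3) F) (P : Matrix (Fin 3) (Fin (m + 3)) F)
    (M : Matrix (Fin 3) (Fin 3) F) : Matrix (Fin (m + 3)) (Fin (m + 3)) F :=
  1 + A * M * P

/-- the Gram matrix -/
def h44G (ε ν : F) : Matrix (Fin 3) (Fin 3) F := !![0, 0, 0; ε, 0, 0; ν, ε, 0]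

/-- the twisted product on `3 × 3` matrices -/
def h44star (ε ν : F) (M M' : Matrix (Fin 3) (Fin 3) F) : Matrix (Fin 3) (Fin 3) F :=
  M + M' + M * h44G ε ν * M'

theorem h44E_mul (A : Matrix (Fin (m + 3)) (Fin 3) F) (P : Matrix (Fin 3) (Fin (m + 3)) F)
    (ε ν : F) (hG : P * A = h44G ε ν) (M M' : Matrix (Fin 3) (Fin 3) F) :
    h44E A P M * h44E A P M' = h44E A P (h44star ε ν M M') := by
  unfold h44E h44star
  rw [← hG]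
  simp only [Matrix.mul_add, Matrix.add_mul, Matrix.mul_one, Matrix.one_mul, Matrix.mul_assoc]
  abel

theorem h44_gram (am a0 a1 φm φ0 φ1 : Fin (m + 3) → F) (ε ν : F)
    (hmm : φm ⬝ᵥ am = 0) (hm0 : φm ⬝ᵥ a0 = 0) (hm1 : φm ⬝ᵥ a1 = 0)
    (h0m : φ0 ⬝ᵥ am = ε) (h00 : φ0 ⬝ᵥ a0 = 0) (h01 : φ0 ⬝ᵥ a1 = 0)
    (h1m : φ1 ⬝ᵥ am = ν) (h10 : φ1 ⬝ᵥ a0 = ε) (h11 : φ1 ⬝ᵥ a1 = 0) :
    h44P φm φ0 φ1 * h44A am a0 a1 = h44G ε ν := by
  ext i j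
  have key : (h44P φm φ0 φ1 * h44A am a0 a1) i j = (![φm, φ0, φ1] i) ⬝ᵥ (![am, a0, a1] j) := by
    rw [Matrix.mul_apply]
    rfl
  rw [key]
  fin_cases i <;> fin_cases j <;> simp [h44G, hmm, hm0, hm1, h0m, h00, h01, h1m, h10, h11]

/-- diagonal unit matrices -/
def h44D0 (c : F) : Matrix (Fin 3) (Fin 3) F := !![c, 0, 0; 0, 0, 0; 0, 0, 0]
def h44D1 (c : F) : Matrix (Fin 3) (Fin 3) F := !![0, 0, 0; 0, c, 0; 0, 0, 0]
def h44D2 (c : F) : Matrix (Fin 3) (Fin 3) F := !![0, 0, 0; 0, 0, 0; 0, 0, c]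
/-- the target unit matrix (row `a1`, column `φm`) -/
def h44T (c : F) : Matrix (Fin 3) (Fin 3) F := !![0, 0, 0; 0, 0, 0; c, 0, 0]

theorem h44_tvM0 (am a0 a1 φm φ0 φ1 : Fin (m + 3) → F) (c : F) :
    tvM am (c • φm) = h44E (h44A am a0 a1) (h44P φm φ0 φ1) (h44D0 c) := by
  ext i j
  simp [tvM, h44E, h44A, h44P, h44D0, Matrix.mul_apply, Fin.sum_univ_three, Matrix.vecMulVec_apply,
    Matrix.add_apply]
  ring

theorem h44_tvM1 (am a0 a1 φm φ0 φ1 : Fin (m + 3) → F) (c : F) :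
    tvM a0 (c • φ0) = h44E (h44A am a0 a1) (h44P φm φ0 φ1) (h44D1 c) := by
  ext i j
  simp [tvM, h44E, h44A, h44P, h44D1, Matrix.mul_apply, Fin.sum_univ_three, Matrix.vecMulVec_apply,
    Matrix.add_apply]
  ring

theorem h44_tvM2 (am a0 a1 φm φ0 φ1 : Fin (m + 3) → F) (c : F) :
    tvM a1 (c • φ1) = h44E (h44A am a0 a1) (h44P φm φ0 φ1) (h44D2 c) := by
  ext i j
  simp [tvM, h44E, h44A, h44P, h44D2, Matrix.mul_apply, Fin.sum_univ_three, Matrix.vecMulVec_apply,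
    Matrix.add_apply]
  ring

theorem h44_tvMT (am a0 a1 φm φ0 φ1 : Fin (m + 3) → F) (c : F) :
    tvM a1 (c • φm) = h44E (h44A am a0 a1) (h44P φm φ0 φ1) (h44T c) := by
  ext i j
  simp [tvM, h44E, h44A, h44P, h44T, Matrix.mul_apply, Fin.sum_univ_three, Matrix.vecMulVec_apply,
    Matrix.add_apply]
  ring

/-! ### the explicit `3 × 3` computation -/

def h44S0 (lam : F) : Matrix (Fin 3) (Fin 3) F := !![lam, 0, 0; 0, -lam, 0; 0, 0, 0]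
def h44S0i (lam ε : F) : Matrix (Fin 3) (Fin 3) F := !![-lam, 0, 0; -lam ^ 2 * ε, lam, 0; 0, 0, 0]
def h44S1 (lam : F) : Matrix (Fin 3) (Fin 3) F := !![0, 0, 0; 0, lam, 0; 0, 0, -lam]
def h44S1i (lam ε : F) : Matrix (Fin 3) (Fin 3) F := !![0, 0, 0; 0, -lam, 0; 0, -lam ^ 2 * ε, lam]
def h44A1 (lam ε ν : F) : Matrix (Fin 3) (Fin 3) F :=
  !![lam, 0, 0; lam ^ 2 * ε, 0, 0; -lam ^ 2 * ν, lam ^ 2 * ε, -lam]
def h44A2 (lam ε ν : F) : Matrix (Fin 3) (Fin 3) F :=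
  !![lam, 0, 0; lam ^ 2 * ε, -lam, 0; -lam ^ 2 * ν, lam ^ 2 * ε, 0]
def h44C (lam ε ν : F) : Matrix (Fin 3) (Fin 3) F :=
  !![0, 0, 0; lam ^ 2 * ε, 0, 0; -lam ^ 2 * ν - lam ^ 3 * ε ^ 2, lam ^ 2 * ε, 0]
def h44B1 (lam : F) : Matrix (Fin 3) (Fin 3) F := !![lam, 0, 0; 0, 0, 0; 0, 0, -lam]
def h44B2 (lam ε ν : F) : Matrix (Fin 3) (Fin 3) F :=
  !![0, 0, 0; -lam ^ 2 * ε, lam, 0; lam ^ 2 * ν + lam ^ 3 * ε ^ 2, -lam ^ 2 * ε, -lam]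
def h44Ci (lam ε ν : F) : Matrix (Fin 3) (Fin 3) F :=
  !![0, 0, 0; -lam ^ 2 * ε, 0, 0; lam ^ 2 * ν + lam ^ 3 * ε ^ 2, -lam ^ 2 * ε, 0]
def h44F1 (lam ε ν : F) : Matrix (Fin 3) (Fin 3) F :=
  !![lam, 0, 0; lam ^ 2 * ε, -lam, 0; -lam ^ 2 * ν, lam ^ 2 * ε, 0]
def h44F2 (lam ε : F) : Matrix (Fin 3) (Fin 3) F :=
  !![lam, 0, 0; 0, -lam, 0; lam ^ 3 * ε ^ 2, 0, 0]

theorem h44_st_S0 (lam ε ν : F) : h44star ε ν (h44D0 lam) (h44D1 (-lam)) = h44S0 lam := by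
  ext i j
  fin_cases i <;> fin_cases j <;>
    simp [h44star, h44G, h44D0, h44D1, h44S0, Matrix.mul_apply, Fin.sum_univ_three]

theorem h44_st_S0i (lam ε ν : F) : h44star ε ν (h44D1 lam) (h44D0 (-lam)) = h44S0i lam ε := by
  ext i j
  fin_cases i <;> fin_cases j <;>
    simp [h44star, h44G, h44D0, h44D1, h44S0i, Matrix.mul_apply, Fin.sum_univ_three] <;> ring

theorem h44_st_S1 (lam ε ν : F) : h44star ε ν (h44D1 lam) (h44D2 (-lam)) = h44S1 lam := by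
  ext i j
  fin_cases i <;> fin_cases j <;>
    simp [h44star, h44G, h44D1, h44D2, h44S1, Matrix.mul_apply, Fin.sum_univ_three]

theorem h44_st_S1i (lam ε ν : F) : h44star ε ν (h44D2 lam) (h44D1 (-lam)) = h44S1i lam ε := by
  ext i j
  fin_cases i <;> fin_cases j <;>
    simp [h44star, h44G, h44D1, h44D2, h44S1i, Matrix.mul_apply, Fin.sum_univ_three] <;> ring

theorem h44_st_A1 (lam ε ν : F) : h44star ε ν (h44S1 lam) (h44S0 lam) = h44A1 lam ε ν := by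
  ext i j
  fin_cases i <;> fin_cases j <;>
    simp [h44star, h44G, h44S1, h44S0, h44A1, Matrix.mul_apply, Fin.sum_univ_three] <;> ring

theorem h44_st_A2 (lam ε ν : F) : h44star ε ν (h44A1 lam ε ν) (h44S1i lam ε) = h44A2 lam ε ν := by
  ext i j
  fin_cases i <;> fin_cases j <;>
    simp [h44star, h44G, h44A1, h44S1i, h44A2, Matrix.mul_apply, Fin.sum_univ_three] <;> ring

theorem h44_st_C (lam ε ν : F) : h44star ε ν (h44A2 lam ε ν) (h44S0i lam ε) = h44C lam ε ν := by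
  ext i j
  fin_cases i <;> fin_cases j <;>
    simp [h44star, h44G, h44A2, h44S0i, h44C, Matrix.mul_apply, Fin.sum_univ_three] <;> ring

theorem h44_st_B1 (lam ε ν : F) : h44star ε ν (h44S0 lam) (h44S1 lam) = h44B1 lam := by
  ext i j
  fin_cases i <;> fin_cases j <;>
    simp [h44star, h44G, h44S1, h44S0, h44B1, Matrix.mul_apply, Fin.sum_univ_three] <;> ring

theorem h44_st_B2 (lam ε ν : F) : h44star ε ν (h44B1 lam) (h44S0i lam ε) = h44B2 lam ε ν := by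
  ext i j
  fin_cases i <;> fin_cases j <;>
    simp [h44star, h44G, h44B1, h44S0i, h44B2, Matrix.mul_apply, Fin.sum_univ_three] <;> ring

theorem h44_st_Ci (lam ε ν : F) : h44star ε ν (h44B2 lam ε ν) (h44S1i lam ε) = h44Ci lam ε ν := by
  ext i j
  fin_cases i <;> fin_cases j <;>
    simp [h44star, h44G, h44B2, h44S1i, h44Ci, Matrix.mul_apply, Fin.sum_univ_three] <;> ring

theorem h44_st_F1 (lam ε ν : F) : h44star ε ν (h44C lam ε ν) (h44S0 lam) = h44F1 lam ε ν := by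
  ext i j
  fin_cases i <;> fin_cases j <;>
    simp [h44star, h44G, h44C, h44S0, h44F1, Matrix.mul_apply, Fin.sum_univ_three] <;> ring

theorem h44_st_F2 (lam ε ν : F) : h44star ε ν (h44F1 lam ε ν) (h44Ci lam ε ν) = h44F2 lam ε := by
  ext i j
  fin_cases i <;> fin_cases j <;>
    simp [h44star, h44G, h44F1, h44Ci, h44F2, Matrix.mul_apply, Fin.sum_univ_three] <;> ring

theorem h44_st_F3 (lam ε ν : F) :
    h44star ε ν (h44F2 lam ε) (h44S0i lam ε) = h44T (lam ^ 3 * ε ^ 2) := by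
  ext i j
  fin_cases i <;> fin_cases j <;>
    simp [h44star, h44G, h44F2, h44S0i, h44T, Matrix.mul_apply, Fin.sum_univ_three] <;> ring

/-- (R1a) LONG POLE, abstract seed.  With `X_i = λ a_i φ_iᵀ`, `Y_ij = a_i φ_jᵀ`: the only nonzero products are
`X_1 X_0 = λ²ε Y_10`, `X_0 X_m = λ²ε Y_0m`, `X_1 X_m = λ²ν Y_1m`, `Y_10 X_m = λε Y_1m`, `X_1 Y_0m = λε Y_1m`.
`s0 = 1 + X_m - X_0`, `s0⁻¹ = 1 + X_0 - X_m - λ²ε Y_0m`, `s1 = 1 + X_0 - X_1`, `s1⁻¹ = 1 + X_1 - X_0 - λ²ε Y_10`,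
`s1 s0 = s0 s1 + Δ`, `Δ = λ²(ε Y_0m + ε Y_10 - ν Y_1m)`, `(s0 s1)⁻¹ = 1 - X_m + X_1 - λ²ν Y_1m`,
`c = 1 + Δ (s0 s1)⁻¹ = 1 + C`, `C = λ²ε Y_10 + λ²ε Y_0m - (λ²ν + λ³) Y_1m`, `C² = 0`, `c⁻¹ = 1 - C`,
`c s0 c⁻¹ = s0 + C S - S C = s0 + λ³ Y_1m` (`S = X_m - X_0`, `C S = λ³ Y_1m`, `S C = 0`), `(s0 + λ³ Y_1m) s0⁻¹ = 1 + λ³ Y_1m`. -/
theorem seed_abs (am a0 a1 φm φ0 φ1 : Fin (m + 3) → F) (lam ε ν : F) (hε : ε * ε = 1)
    (hmm : φm ⬝ᵥ am = 0) (hm0 : φm ⬝ᵥ a0 = 0) (hm1 : φm ⬝ᵥ a1 = 0)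
    (h0m : φ0 ⬝ᵥ am = ε) (h00 : φ0 ⬝ᵥ a0 = 0) (h01 : φ0 ⬝ᵥ a1 = 0)
    (h1m : φ1 ⬝ᵥ am = ν) (h10 : φ1 ⬝ᵥ a0 = ε) (h11 : φ1 ⬝ᵥ a1 = 0) :
    let s0 := tvS am (lam • φm) * (tvS a0 (lam • φ0))⁻¹
    let s1 := tvS a0 (lam • φ0) * (tvS a1 (lam • φ1))⁻¹
    let c := s1 * s0 * s1⁻¹ * s0⁻¹
    c * s0 * c⁻¹ * s0⁻¹ = tvS a1 (lam ^ 3 • φm) := by
  intro s0 s1 c
  -- dot products
  have dm : ∀ x : F, (x • φm) ⬝ᵥ am = 0 := fun x => by rw [smul_dotProduct, hmm, smul_zero]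
  have d0 : ∀ x : F, (x • φ0) ⬝ᵥ a0 = 0 := fun x => by rw [smul_dotProduct, h00, smul_zero]
  have d1 : ∀ x : F, (x • φ1) ⬝ᵥ a1 = 0 := fun x => by rw [smul_dotProduct, h11, smul_zero]
  have dT : ∀ x : F, (x • φm) ⬝ᵥ a1 = 0 := fun x => by rw [smul_dotProduct, hm1, smul_zero]
  have hG := h44_gram am a0 a1 φm φ0 φ1 ε ν hmm hm0 hm1 h0m h00 h01 h1m h10 h11
  set A := h44A am a0 a1 with hA
  set P := h44P φm φ0 φ1 with hP
  have hmul := h44E_mul A P ε ν hG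
  -- the six basic elements
  have vTm : ∀ x : F, (tvS am (x • φm)).1 = h44E A P (h44D0 x) := fun x => by
    rw [Cfsg.Agent.Helper82.RU.tvS_val _ _ (dm x)]; exact h44_tvM0 am a0 a1 φm φ0 φ1 x
  have vT0 : ∀ x : F, (tvS a0 (x • φ0)).1 = h44E A P (h44D1 x) := fun x => by
    rw [Cfsg.Agent.Helper82.RU.tvS_val _ _ (d0 x)]; exact h44_tvM1 am a0 a1 φm φ0 φ1 x
  have vT1 : ∀ x : F, (tvS a1 (x • φ1)).1 = h44E A P (h44D2 x) := fun x => by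
    rw [Cfsg.Agent.Helper82.RU.tvS_val _ _ (d1 x)]; exact h44_tvM2 am a0 a1 φm φ0 φ1 x
  have vTT : ∀ x : F, (tvS a1 (x • φm)).1 = h44E A P (h44T x) := fun x => by
    rw [Cfsg.Agent.Helper82.RU.tvS_val _ _ (dT x)]; exact h44_tvMT am a0 a1 φm φ0 φ1 x
  -- inverses
  have im : (tvS am (lam • φm))⁻¹ = tvS am ((-lam) • φm) := by
    rw [Cfsg.Agent.Helper82.RU.tvS_inv _ _ (dm lam), neg_smul]
  have i0 : (tvS a0 (lam • φ0))⁻¹ = tvS a0 ((-lam) • φ0) := by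
    rw [Cfsg.Agent.Helper82.RU.tvS_inv _ _ (d0 lam), neg_smul]
  have i1 : (tvS a1 (lam • φ1))⁻¹ = tvS a1 ((-lam) • φ1) := by
    rw [Cfsg.Agent.Helper82.RU.tvS_inv _ _ (d1 lam), neg_smul]
  have im' : (tvS am ((-lam) • φm))⁻¹ = tvS am (lam • φm) := by rw [← im, inv_inv]
  have i0' : (tvS a0 ((-lam) • φ0))⁻¹ = tvS a0 (lam • φ0) := by rw [← i0, inv_inv]
  have i1' : (tvS a1 ((-lam) • φ1))⁻¹ = tvS a1 (lam • φ1) := by rw [← i1, inv_inv]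
  -- s0, s1 and their inverses
  have hs0 : s0 = tvS am (lam • φm) * tvS a0 ((-lam) • φ0) := by simp only [s0, i0]
  have hs1 : s1 = tvS a0 (lam • φ0) * tvS a1 ((-lam) • φ1) := by simp only [s1, i1]
  have hs0i : s0⁻¹ = tvS a0 (lam • φ0) * tvS am ((-lam) • φm) := by
    rw [hs0, _root_.mul_inv_rev, i0', im]
  have hs1i : s1⁻¹ = tvS a1 (lam • φ1) * tvS a0 ((-lam) • φ0) := by
    rw [hs1, _root_.mul_inv_rev, i1', i0]
  have ws0 : s0.1 = h44E A P (h44S0 lam) := by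
    rw [hs0, Matrix.SpecialLinearGroup.coe_mul, vTm, vT0, hmul, h44_st_S0]
  have ws0i : (s0⁻¹).1 = h44E A P (h44S0i lam ε) := by
    rw [hs0i, Matrix.SpecialLinearGroup.coe_mul, vTm, vT0, hmul, h44_st_S0i]
  have ws1 : s1.1 = h44E A P (h44S1 lam) := by
    rw [hs1, Matrix.SpecialLinearGroup.coe_mul, vT0, vT1, hmul, h44_st_S1]
  have ws1i : (s1⁻¹).1 = h44E A P (h44S1i lam ε) := by
    rw [hs1i, Matrix.SpecialLinearGroup.coe_mul, vT0, vT1, hmul, h44_st_S1i]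
  have wc : c.1 = h44E A P (h44C lam ε ν) := by
    have : c = s1 * s0 * s1⁻¹ * s0⁻¹ := rfl
    rw [this, Matrix.SpecialLinearGroup.coe_mul, Matrix.SpecialLinearGroup.coe_mul,
      Matrix.SpecialLinearGroup.coe_mul, ws0, ws1, ws0i, ws1i, hmul, h44_st_A1, hmul, h44_st_A2,
      hmul, h44_st_C]
  have hci : c⁻¹ = s0 * s1 * s0⁻¹ * s1⁻¹ := by
    have : c = s1 * s0 * s1⁻¹ * s0⁻¹ := rfl
    rw [this]
    group
  have wci : (c⁻¹).1 = h44E A P (h44Ci lam ε ν) := by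
    rw [hci, Matrix.SpecialLinearGroup.coe_mul, Matrix.SpecialLinearGroup.coe_mul,
      Matrix.SpecialLinearGroup.coe_mul, ws0, ws1, ws0i, ws1i, hmul, h44_st_B1, hmul, h44_st_B2,
      hmul, h44_st_Ci]
  have hε2 : ε ^ 2 = 1 := by rw [pow_two]; exact hε
  apply Subtype.ext
  rw [Matrix.SpecialLinearGroup.coe_mul, Matrix.SpecialLinearGroup.coe_mul,
    Matrix.SpecialLinearGroup.coe_mul, wc, ws0, wci, ws0i, hmul, h44_st_F1, hmul, h44_st_F2,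
    hmul, h44_st_F3, vTT, hε2, mul_one]

end Cfsg.Agent.Helper44.RJ
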