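import Mathlib
import Cfsg.Agent.Lib.Helper98.RT0

/-!
# RT project (helper98 server, S2278): piece (J5) `param_nondeg`
-/

set_option autoImplicit false

namespace Cfsg.Agent.Helper44.RT

open Matrix Cfsg.Agent.Helper93.RU Cfsg.Agent.Helper98.RT

variable {F : Type*} [Field F]

/-- (J5) -/
theorem param_nondeg (ζ : F) (hζ3 : ζ ^ 3 ≠ 1) :
    ∃ c : F, rhoP ζ c ≠ 0 ∧ nP ζ c * wP ζ c + 1 ≠ 0 := by
  have hζ1 : (1 : F) - ζ ≠ 0 := by
    intro h
    apply hζ3
    have : ζ = 1 := (sub_eq_zero.mp h).symm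
    rw [this, one_pow]
  by_cases h3 : (3 : F) = 0
  · refine ⟨-1, ?_, ?_⟩
    · unfold rhoP
      have : (1 - ζ) * (3 - -1 * (1 + ζ + ζ ^ 2)) = 1 - ζ ^ 3 := by
        rw [h3]; ring
      rw [this]
      intro h
      exact hζ3 (sub_eq_zero.mp h).symm
    · unfold nP wP
      rw [h3, zero_mul, zero_div, sub_zero]
      have : (-1 : F) ^ 2 * ζ * (-1 * ζ ^ 2) + 1 = 1 - ζ ^ 3 := by ring
      rw [this]
      intro h
      exact hζ3 (sub_eq_zero.mp h).symm
  · refine ⟨0, ?_, ?_⟩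
    · unfold rhoP
      rw [zero_mul, sub_zero]
      exact mul_ne_zero hζ1 h3
    · unfold wP
      rw [zero_mul, mul_zero, zero_add]
      exact one_ne_zero

end Cfsg.Agent.Helper44.RT
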