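import Mathlib
import Cfsg.Agent.Lib.Helper93.RU0
import Cfsg.Agent.Lib.Helper44.RUD2

/-!
# RU project (helper93 server, S2280): the whole (A) block, statements verbatim
-/

set_option autoImplicit false

namespace Cfsg.Agent.Helper44.RU

open Matrix Cfsg.Agent.Helper93.RU

variable {F : Type*} [Field F] {m : ℕ}

/-- (A1) -/
theorem tvS_val (v φ : Fin (m + 3) → F) (h : φ ⬝ᵥ v = 0) : (tvS v φ).1 = tvM v φ :=
  h44_tvS_val v φ h

/-- (A2) -/
theorem tvS_mul (v φ ψ : Fin (m + 3) → F) (hφ : φ ⬝ᵥ v = 0) (hψ : ψ ⬝ᵥ v = 0) :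
    tvS v φ * tvS v ψ = tvS v (φ + ψ) := by
  have hs : (φ + ψ) ⬝ᵥ v = 0 := by rw [add_dotProduct, hφ, hψ, add_zero]
  apply Subtype.ext
  rw [Matrix.SpecialLinearGroup.coe_mul, h44_tvS_val v φ hφ, h44_tvS_val v ψ hψ,
    h44_tvS_val v _ hs]
  unfold tvM
  rw [Matrix.mul_add, Matrix.add_mul, Matrix.add_mul, Matrix.one_mul, Matrix.mul_one,
    Matrix.one_mul, Matrix.vecMulVec_mul_vecMulVec, hφ, zero_smul, Matrix.vecMulVec_zero,
    add_zero, Matrix.vecMulVec_add, add_assoc]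

theorem h44_tvS_zero (v : Fin (m + 3) → F) : tvS v (0 : Fin (m + 3) → F) = 1 := by
  apply Subtype.ext
  rw [h44_tvS_val v 0 (zero_dotProduct v), Matrix.SpecialLinearGroup.coe_one]
  unfold tvM
  rw [Matrix.vecMulVec_zero, add_zero]

/-- (A3) -/
theorem tvS_inv (v φ : Fin (m + 3) → F) (hφ : φ ⬝ᵥ v = 0) : (tvS v φ)⁻¹ = tvS v (-φ) := by
  have hn : (-φ) ⬝ᵥ v = 0 := by rw [neg_dotProduct, hφ, neg_zero]
  apply inv_eq_of_mul_eq_one_right
  rw [tvS_mul v φ (-φ) hφ hn, add_neg_cancel, h44_tvS_zero]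

/-- (A4) conjugation: `g (1 + v φᵀ) g⁻¹ = 1 + (g v)(φ g⁻¹)ᵀ`. -/
theorem tvS_conj (g : SLm m F) (v φ : Fin (m + 3) → F) (hφ : φ ⬝ᵥ v = 0) :
    (φ ᵥ* (g⁻¹).1) ⬝ᵥ (g.1 *ᵥ v) = 0 ∧ g * tvS v φ * g⁻¹ = tvS (g.1 *ᵥ v) (φ ᵥ* (g⁻¹).1) :=
  h44_tvS_conj g v φ hφ

/-- (A5) -/
theorem tvS_smul (a : F) (v φ : Fin (m + 3) → F) : tvS (a • v) φ = tvS v (a • φ) :=
  h44_tvS_smul a v φ

/-- (A6) Mathlib's elementary transvections are `tvS`. -/
theorem transvection_eq (i j : Fin (m + 3)) (hij : i ≠ j) (c : F) :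
    (Matrix.SpecialLinearGroup.transvection hij c : SLm m F) = tvS (eV i) (c • eV j) := by
  have h0 : (c • eV j : Fin (m + 3) → F) ⬝ᵥ eV i = 0 := by
    unfold eV
    rw [smul_dotProduct, dotProduct_single, mul_one, Pi.single_eq_of_ne hij, smul_zero]
  apply Subtype.ext
  rw [h44_tvS_val _ _ h0, Matrix.SpecialLinearGroup.transvection_coe]
  unfold tvM eV
  congr 1
  ext a b
  rw [Matrix.vecMulVec_apply, Matrix.single_apply]
  simp only [Pi.smul_apply, Pi.single_apply, smul_eq_mul]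
  by_cases h1 : a = i
  · by_cases h2 : b = j
    · subst h1 h2; simp
    · have h2' : ¬ j = b := fun h => h2 h.symm
      subst h1; simp [h2, h2']
  · have h1' : ¬ i = a := fun h => h1 h.symm
    simp [h1, h1']

end Cfsg.Agent.Helper44.RU
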