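import Mathlib
import Cfsg.Agent.Lib.Helper98.RT0
import Cfsg.Agent.Lib.Helper44.RUA

/-!
# RT project (helper98 server, S2278): piece (K1) `tvS_add_centre`
-/

set_option autoImplicit false

namespace Cfsg.Agent.Helper44.RT

open Matrix Cfsg.Agent.Helper93.RU Cfsg.Agent.Helper98.RT

variable {F : Type*} [Field F]

/-- (K1) -/
theorem tvS_add_centre (v v' φ : Fin (0 + 3) → F) (h : φ ⬝ᵥ v = 0) (h' : φ ⬝ᵥ v' = 0) :
    tvS v φ * tvS v' φ = tvS (v + v') φ := by
  have hs : φ ⬝ᵥ (v + v') = 0 := by rw [dotProduct_add, h, h', add_zero]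
  apply Subtype.ext
  rw [Matrix.SpecialLinearGroup.coe_mul, Cfsg.Agent.Helper44.RU.tvS_val v φ h,
    Cfsg.Agent.Helper44.RU.tvS_val v' φ h', Cfsg.Agent.Helper44.RU.tvS_val _ φ hs]
  unfold tvM
  rw [Matrix.mul_add, Matrix.add_mul, Matrix.add_mul, Matrix.one_mul, Matrix.mul_one,
    Matrix.one_mul, Matrix.vecMulVec_mul_vecMulVec, h', zero_smul, Matrix.vecMulVec_zero,
    add_zero, Matrix.add_vecMulVec, add_assoc]

end Cfsg.Agent.Helper44.RT
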