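import Mathlib
import Cfsg.Agent.Lib.Helper98.RT0

/-!
# RT project (helper98 server, S2278): pieces (V1)-(V4) and (U1)
-/

set_option autoImplicit false

namespace Cfsg.Agent.Helper44.RT

open Matrix Cfsg.Agent.Helper93.RU Cfsg.Agent.Helper98.RT

variable {F : Type*} [Field F]

theorem h44_det_Ymat (n w : F) : (Ymat n w).det = 1 := by
  unfold Ymat
  rw [Matrix.det_fin_three]
  simp
  try ring

theorem h44_det_Smat (ζ ρ : F) (hζ : ζ ≠ 0) : (Smat ζ ρ).det = 1 := by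
  unfold Smat
  rw [Matrix.det_fin_three]
  simp
  field_simp

theorem h44_det_Zmat (ζ : F) (hζ : ζ ≠ 0) : (Zmat ζ).det = 1 := by
  unfold Zmat
  rw [Matrix.det_fin_three]
  simp
  field_simp

theorem h44_det_Dmat (ζ : F) (hζ : ζ ≠ 0) : (Dmat ζ).det = 1 := by
  unfold Dmat
  rw [Matrix.det_fin_three]
  simp
  field_simp

/-- (V1) -/
theorem yEl_val (n w : F) : (yEl n w).1 = Ymat n w := by
  have h : yEl n w = ⟨Ymat n w, h44_det_Ymat n w⟩ := by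
    unfold yEl; exact dif_pos (h44_det_Ymat n w)
  rw [h]

/-- (V2) -/
theorem sEl_val (ζ ρ : F) (hζ : ζ ≠ 0) : (sEl ζ ρ).1 = Smat ζ ρ := by
  have h : sEl ζ ρ = ⟨Smat ζ ρ, h44_det_Smat ζ ρ hζ⟩ := by
    unfold sEl; exact dif_pos (h44_det_Smat ζ ρ hζ)
  rw [h]

/-- (V3) -/
theorem zEl_val (ζ : F) (hζ : ζ ≠ 0) : (zEl ζ).1 = Zmat ζ := by
  have h : zEl ζ = ⟨Zmat ζ, h44_det_Zmat ζ hζ⟩ := by
    unfold zEl; exact dif_pos (h44_det_Zmat ζ hζ)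
  rw [h]

/-- (V4) -/
theorem dEl_val (ζ : F) (hζ : ζ ≠ 0) : (dEl ζ).1 = Dmat ζ := by
  have h : dEl ζ = ⟨Dmat ζ, h44_det_Dmat ζ hζ⟩ := by
    unfold dEl; exact dif_pos (h44_det_Dmat ζ hζ)
  rw [h]

theorem h44_Y_cube (n w : F) : (Ymat n w - 1) ^ 3 = 0 := by
  rw [pow_succ, pow_two]
  ext i j
  fin_cases i <;> fin_cases j <;>
    simp [Ymat, Matrix.mul_apply, Fin.sum_univ_three, Matrix.one_apply] <;> ring

theorem h44_Y_sq_entry (n w : F) :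
    ((Ymat n w - 1) ^ 2 : Matrix (Fin (0 + 3)) (Fin (0 + 3)) F) 0 2 = 1 := by
  rw [pow_two]
  simp [Ymat, Matrix.mul_apply, Fin.sum_univ_three, Matrix.one_apply]

/-- (U1) -/
theorem yEl_regular (n w : F) :
    IsNilpotent ((yEl n w).1 - 1) ∧ ((yEl n w).1 - 1) ^ (3 - 1) ≠ 0 := by
  rw [yEl_val]
  refine ⟨⟨3, h44_Y_cube n w⟩, ?_⟩
  intro h
  have h1 := h44_Y_sq_entry n w
  have h2 : (3 - 1 : ℕ) = 2 := rfl
  rw [h2] at h
  rw [h] at h1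
  simp at h1

end Cfsg.Agent.Helper44.RT
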