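import Mathlib
import Cfsg.Agent.Lib.Helper98.RT0
import Cfsg.Agent.Lib.Helper44.RUA
import Cfsg.Agent.Lib.Helper44.RTV

/-!
# RT project (helper98 server, S2278): piece (K2) `sEl_eq`
-/

set_option autoImplicit false

namespace Cfsg.Agent.Helper44.RT

open Matrix Cfsg.Agent.Helper93.RU Cfsg.Agent.Helper98.RT

variable {F : Type*} [Field F]

theorem h44_t_dot (κ : F) : ((κ • eV 0 : Fin (0 + 3) → F)) ⬝ᵥ (eV 1 : Fin (0 + 3) → F) = 0 := by
  simp [eV, dotProduct, Fin.sum_univ_three]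

/-- (K2) -/
theorem sEl_eq (ζ ρ : F) (hζ : ζ ≠ 0) :
    sEl ζ ρ = zEl ζ * tvS (eV 1) ((ρ / ζ) • eV 0) ∧
    zEl ζ * tvS (eV 1) ((ρ / ζ) • eV 0) = tvS (eV 1) ((ρ / ζ) • eV 0) * zEl ζ := by
  constructor
  · apply Subtype.ext
    rw [Matrix.SpecialLinearGroup.coe_mul, sEl_val ζ ρ hζ, zEl_val ζ hζ,
      Cfsg.Agent.Helper44.RU.tvS_val _ _ (h44_t_dot (ρ / ζ))]
    ext i j
    fin_cases i <;> fin_cases j <;>
      simp [Zmat, Smat, tvM, eV, Matrix.mul_apply, Fin.sum_univ_three, Matrix.vecMulVec_apply,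
        Matrix.one_apply] <;> field_simp
  · apply Subtype.ext
    rw [Matrix.SpecialLinearGroup.coe_mul, Matrix.SpecialLinearGroup.coe_mul, zEl_val ζ hζ,
      Cfsg.Agent.Helper44.RU.tvS_val _ _ (h44_t_dot (ρ / ζ))]
    ext i j
    fin_cases i <;> fin_cases j <;>
      simp [Zmat, tvM, eV, Matrix.mul_apply, Fin.sum_univ_three, Matrix.vecMulVec_apply,
        Matrix.one_apply] <;> ring

end Cfsg.Agent.Helper44.RT
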