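import Mathlib
import Cfsg.Agent.Lib.Helper62.SLN0
import Cfsg.Agent.Lib.Helper32.SLCDefs

/-!
# SLC piece (SIG) `exists_sigma` (helper44, for helper32's SLC sub-server, TOP-C of SLN, S2332)
`σ g = P (g⁻¹)ᵀ P⁻¹`, `P = T_{ab}(-1) T_{ba}(1) T_{ab}(-1)` the signed swap of `a = inl ()`, `b = inr jn`.
-/

set_option autoImplicit false
set_option linter.style.haveILetI false
set_option linter.unusedSimpArgs false

namespace Cfsg.Agent.Helper44.SLC

open Matrix Module Cfsg.Agent.Helper93.U2 Cfsg.Agent.Helper62.SLN Cfsg.Agent.Helper32.SLC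

section Gen

variable {ι F : Type*} [DecidableEq ι] [Fintype ι] [Field F]

/-- the signed swap `P e_a = e_b`, `P e_b = - e_a` as a matrix -/
def h44_Pmat (F : Type*) [Field F] (a b : ι) : Matrix ι ι F :=
  Matrix.transvection a b (-1 : F) * Matrix.transvection b a 1 * Matrix.transvection a b (-1)

theorem h44_W1 {a b : ι} (hab : a ≠ b) (s : F) :
    h44_Pmat F a b * Matrix.transvection b a (-s) = Matrix.transvection a b s * h44_Pmat F a b := by
  unfold h44_Pmat
  simp only [Matrix.transvection]
  simp [mul_add, add_mul, single_mul_single_same, single_mul_single_of_ne, hab, hab.symm]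
  simp only [← single_neg]
  abel

theorem h44_W2 {a b k : ι} (hab : a ≠ b) (hka : k ≠ a) (hkb : k ≠ b) (s : F) :
    h44_Pmat F a b * Matrix.transvection k a (-s) = Matrix.transvection k b (-s) * h44_Pmat F a b := by
  unfold h44_Pmat
  simp only [Matrix.transvection]
  simp [mul_add, add_mul, single_mul_single_same, single_mul_single_of_ne, hab, hab.symm, hka,
    hka.symm, hkb, hkb.symm]
  simp only [← single_neg]
  abel

theorem h44_W3 {a b i : ι} (hab : a ≠ b) (hia : i ≠ a) (hib : i ≠ b) (s : F) :
    h44_Pmat F a b * Matrix.transvection b i (-s) = Matrix.transvection a i s * h44_Pmat F a b := by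
  unfold h44_Pmat
  simp only [Matrix.transvection]
  simp [mul_add, add_mul, single_mul_single_same, single_mul_single_of_ne, hab, hab.symm, hia,
    hia.symm, hib, hib.symm]
  simp only [← single_neg]
  abel

theorem h44_W4 {a b i k : ι} (hab : a ≠ b) (hia : i ≠ a) (hib : i ≠ b) (hka : k ≠ a)
    (hkb : k ≠ b) (s : F) :
    h44_Pmat F a b * Matrix.transvection k i (-s) = Matrix.transvection k i (-s) * h44_Pmat F a b := by
  unfold h44_Pmat
  simp only [Matrix.transvection]
  simp [mul_add, add_mul, single_mul_single_same, single_mul_single_of_ne, hab, hab.symm, hia,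
    hia.symm, hib, hib.symm, hka, hka.symm, hkb, hkb.symm]
  simp only [← single_neg]
  abel

/-- the signed swap as an element of `SL` -/
def h44_Pel (F : Type*) [Field F] {a b : ι} (hab : a ≠ b) : SpecialLinearGroup ι F :=
  SpecialLinearGroup.transvection hab (-1) * SpecialLinearGroup.transvection hab.symm 1 *
    SpecialLinearGroup.transvection hab (-1)

theorem h44_Pel_val {a b : ι} (hab : a ≠ b) :
    (h44_Pel F hab : Matrix ι ι F) = h44_Pmat F a b := rfl

/-- transpose is an anti-automorphism of `SL` -/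
theorem h44_transpose_mul (A B : SpecialLinearGroup ι F) :
    (A * B).transpose = B.transpose * A.transpose := by
  apply Subtype.ext
  exact Matrix.transpose_mul A.1 B.1

theorem h44_transpose_transpose (A : SpecialLinearGroup ι F) : A.transpose.transpose = A := by
  apply Subtype.ext
  show ((A : Matrix ι ι F)ᵀ)ᵀ = _
  rw [Matrix.transpose_transpose]

theorem h44_transpose_one : (1 : SpecialLinearGroup ι F).transpose = 1 := by
  apply Subtype.ext
  exact Matrix.transpose_one

theorem h44_transpose_inv (A : SpecialLinearGroup ι F) : (A⁻¹).transpose = (A.transpose)⁻¹ := by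
  symm
  apply inv_eq_of_mul_eq_one_right
  rw [← h44_transpose_mul, inv_mul_cancel, h44_transpose_one]

/-- the inverse-transpose automorphism -/
def h44_invT (ι F : Type*) [DecidableEq ι] [Fintype ι] [Field F] :
    SpecialLinearGroup ι F ≃* SpecialLinearGroup ι F where
  toFun g := (g⁻¹).transpose
  invFun g := (g⁻¹).transpose
  left_inv g := by
    show (((g⁻¹).transpose)⁻¹).transpose = g
    rw [← h44_transpose_inv, inv_inv, h44_transpose_transpose]
  right_inv g := by
    show (((g⁻¹).transpose)⁻¹).transpose = g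
    rw [← h44_transpose_inv, inv_inv, h44_transpose_transpose]
  map_mul' g h := by
    show ((g * h)⁻¹).transpose = (g⁻¹).transpose * (h⁻¹).transpose
    rw [_root_.mul_inv_rev, h44_transpose_mul]

theorem h44_invT_transvection {x y : ι} (hxy : x ≠ y) (s : F) :
    h44_invT ι F (SpecialLinearGroup.transvection hxy s) =
      SpecialLinearGroup.transvection hxy.symm (-s) := by
  show ((SpecialLinearGroup.transvection hxy s)⁻¹).transpose = _
  rw [SpecialLinearGroup.transvection_inv]
  apply Subtype.ext
  show (Matrix.transvection x y (-s))ᵀ = Matrix.transvection y x (-s)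
  unfold Matrix.transvection
  rw [Matrix.transpose_add, Matrix.transpose_one, Matrix.transpose_single]

/-- the automorphism `σ g = P (g⁻¹)ᵀ P⁻¹` -/
def h44_sigma (F : Type*) [Field F] {a b : ι} (hab : a ≠ b) :
    SpecialLinearGroup ι F ≃* SpecialLinearGroup ι F :=
  (h44_invT ι F).trans (MulAut.conj (h44_Pel F hab))

theorem h44_sigma_apply {a b : ι} (hab : a ≠ b) (g : SpecialLinearGroup ι F) :
    h44_sigma F hab g = h44_Pel F hab * h44_invT ι F g * (h44_Pel F hab)⁻¹ := rfl

/-- general principle: `σ (T_{xy}(s)) = Y` as soon as `P * T_{yx}(-s) = Y * P` as matrices -/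
theorem h44_sigma_transvection {a b : ι} (hab : a ≠ b) {x y : ι} (hxy : x ≠ y) (s : F)
    (Y : SpecialLinearGroup ι F)
    (h : h44_Pmat F a b * Matrix.transvection y x (-s) = (Y : Matrix ι ι F) * h44_Pmat F a b) :
    h44_sigma F hab (SpecialLinearGroup.transvection hxy s) = Y := by
  rw [h44_sigma_apply, h44_invT_transvection, mul_inv_eq_iff_eq_mul]
  apply Subtype.ext
  exact h

end Gen

section SL

variable {F : Type*} [Field F] {κ : Type} [Fintype κ] [DecidableEq κ]

theorem h44_uEl_smul_single (b : κ) (s : F) :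
    (uEl (s • Pi.single b 1) : SpecialLinearGroup (Unit ⊕ κ) F) =
      SpecialLinearGroup.transvection (Sum.inl_ne_inr : (Sum.inl () : Unit ⊕ κ) ≠ Sum.inr b) s := by
  apply Subtype.ext
  show fromBlocks 1 (replicateRow Unit (s • Pi.single b 1)) 0 1 =
    Matrix.transvection (Sum.inl ()) (Sum.inr b) s
  ext x y
  rcases x with ⟨⟩ | x <;> rcases y with ⟨⟩ | y <;>
    simp [Matrix.transvection, Matrix.single_apply, Matrix.one_apply, Pi.single_apply, eq_comm]

theorem h44_qEl_smul_single {i b : κ} (hib : i ≠ b) (s : F) :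
    (qEl i (s • Pi.single b 1) : SpecialLinearGroup (Unit ⊕ κ) F) =
      SpecialLinearGroup.transvection
        (fun h => hib (Sum.inr.inj h) : (Sum.inr i : Unit ⊕ κ) ≠ Sum.inr b) s := by
  apply Subtype.ext
  show fromBlocks 1 0 0
      (1 + vecMulVec (Pi.single i 1) (Function.update (s • Pi.single b (1 : F)) i 0)) =
    Matrix.transvection (Sum.inr i) (Sum.inr b) s
  ext x y
  rcases x with ⟨⟩ | x <;> rcases y with ⟨⟩ | y
  · simp [Matrix.transvection, Matrix.single_apply, Matrix.one_apply]
  · simp [Matrix.transvection, Matrix.single_apply, Matrix.one_apply]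
  · simp [Matrix.transvection, Matrix.single_apply, Matrix.one_apply]
  · simp only [Matrix.fromBlocks_apply₂₂, Matrix.add_apply, Matrix.one_apply, vecMulVec_apply,
      Matrix.transvection, Matrix.single_apply, Pi.single_apply, Function.update_apply,
      Pi.smul_apply, smul_eq_mul, Sum.inr.injEq]
    by_cases hx : x = i
    · subst hx
      by_cases hy : y = b
      · subst hy
        have : ¬ (y = x) := fun h => hib h.symm
        simp [this]
      · have hy' : ¬ (b = y) := fun h => hy h.symm
        have hbx : ¬ (b = x) := fun h => hib h.symm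
        by_cases hyx : y = x
        · simp [hyx, hy', hbx]
        · simp [hyx, hy, hy']
    · have hx' : ¬ (i = x) := fun h => hx h.symm
      simp [hx, hx']

/-- piece SIG -/
theorem exists_sigma (F : Type*) [Field F] (κ : Type) [Fintype κ] [DecidableEq κ] (jn : κ) :
    ∃ σ : SpecialLinearGroup (Unit ⊕ κ) F ≃* SpecialLinearGroup (Unit ⊕ κ) F, IsSig jn σ := by
  have hab : (Sum.inl () : Unit ⊕ κ) ≠ Sum.inr jn := Sum.inl_ne_inr
  refine ⟨h44_sigma F hab, ⟨?_, ?_, ?_, ?_⟩⟩
  · -- a
    intro s
    rw [h44_uEl_smul_single]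
    exact h44_sigma_transvection hab _ s _ (h44_W1 hab s)
  · -- b
    intro b s hb
    rw [h44_uEl_smul_single, h44_qEl_smul_single hb]
    have hka : (Sum.inr b : Unit ⊕ κ) ≠ Sum.inl () := Sum.inr_ne_inl
    have hkb : (Sum.inr b : Unit ⊕ κ) ≠ Sum.inr jn := fun h => hb (Sum.inr.inj h)
    exact h44_sigma_transvection hab _ s _ (h44_W2 hab hka hkb s)
  · -- c
    intro i s hi
    rw [h44_qEl_smul_single hi, h44_uEl_smul_single]
    have hia : (Sum.inr i : Unit ⊕ κ) ≠ Sum.inl () := Sum.inr_ne_inl
    have hib : (Sum.inr i : Unit ⊕ κ) ≠ Sum.inr jn := fun h => hi (Sum.inr.inj h)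
    exact h44_sigma_transvection hab _ s _ (h44_W3 hab hia hib s)
  · -- d
    intro i b s hib hi hb
    rw [h44_qEl_smul_single hib, h44_qEl_smul_single hib.symm]
    have hia : (Sum.inr i : Unit ⊕ κ) ≠ Sum.inl () := Sum.inr_ne_inl
    have hib' : (Sum.inr i : Unit ⊕ κ) ≠ Sum.inr jn := fun h => hi (Sum.inr.inj h)
    have hka : (Sum.inr b : Unit ⊕ κ) ≠ Sum.inl () := Sum.inr_ne_inl
    have hkb : (Sum.inr b : Unit ⊕ κ) ≠ Sum.inr jn := fun h => hb (Sum.inr.inj h)
    exact h44_sigma_transvection hab _ s _ (h44_W4 hab hia hib' hka hkb s)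

end SL

end Cfsg.Agent.Helper44.SLC
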