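import Mathlib
import Cfsg.Agent.Lib.Helper98.SPE0

/-!
# SPE project (S2333), pieces G1, G2, G3, G4 (helper44): block matrices in `Sp_{2n}(F)`.
-/

set_option autoImplicit false

namespace Cfsg.Agent.Helper44.SPE

open Matrix Cfsg.Agent.Helper93.U2 Cfsg.Agent.Helper98.SPE

section GRP

variable {F : Type*} [Field F] {n : ℕ}

/-- piece G1 -/
theorem aMat_mem (S : Matrix (Fin n) (Fin n) F) (hS : Sᵀ = S) :
    aMat S ∈ Matrix.symplecticGroup (Fin n) F := by
  rw [SymplecticGroup.mem_iff]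
  unfold Cfsg.Agent.Helper98.SPE.aMat Matrix.J
  rw [Matrix.fromBlocks_transpose, Matrix.fromBlocks_multiply, Matrix.fromBlocks_multiply]
  simp only [Matrix.transpose_one, Matrix.transpose_zero, hS, Matrix.one_mul, Matrix.mul_one,
    Matrix.mul_zero, Matrix.zero_mul, Matrix.mul_neg, Matrix.neg_mul, zero_add, add_zero,
    neg_zero]
  have h0 : S + -S = 0 := add_neg_cancel S
  have h1 : -S + S = 0 := neg_add_cancel S
  simp [h0, h1]

/-- piece G2 -/
theorem aMat_add (S T : Matrix (Fin n) (Fin n) F) : aMat (S + T) = aMat S * aMat T := by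
  unfold Cfsg.Agent.Helper98.SPE.aMat
  rw [Matrix.fromBlocks_multiply]
  simp only [Matrix.one_mul, Matrix.mul_one, Matrix.mul_zero, Matrix.zero_mul, add_zero, zero_add]
  rw [add_comm]

/-- piece G3 -/
theorem lMat_mem (g g' : Matrix (Fin n) (Fin n) F) (h : g * g' = 1) :
    lMat g g' ∈ Matrix.symplecticGroup (Fin n) F := by
  have h' : g'ᵀ * gᵀ = 1 := by
    rw [← Matrix.transpose_mul, h, Matrix.transpose_one]
  rw [SymplecticGroup.mem_iff]
  unfold Cfsg.Agent.Helper98.SPE.lMat Matrix.J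
  rw [Matrix.fromBlocks_transpose, Matrix.fromBlocks_multiply, Matrix.fromBlocks_multiply]
  simp only [Matrix.transpose_zero, Matrix.transpose_transpose, Matrix.one_mul, Matrix.mul_one,
    Matrix.mul_zero, Matrix.zero_mul, Matrix.mul_neg, Matrix.neg_mul, zero_add, add_zero,
    neg_zero, h, h']

/-- piece G4 -/
theorem lMat_mul_aMat (g g' S : Matrix (Fin n) (Fin n) F) (h : g * g' = 1) :
    lMat g g' * aMat S = aMat (g * S * gᵀ) * lMat g g' := by
  have h2 : g' * g = 1 := mul_eq_one_comm.mp h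
  have h' : gᵀ * g'ᵀ = 1 := by
    rw [← Matrix.transpose_mul, h2, Matrix.transpose_one]
  unfold Cfsg.Agent.Helper98.SPE.lMat Cfsg.Agent.Helper98.SPE.aMat
  rw [Matrix.fromBlocks_multiply, Matrix.fromBlocks_multiply]
  simp only [Matrix.one_mul, Matrix.mul_one, Matrix.mul_zero, Matrix.zero_mul, add_zero, zero_add]
  rw [Matrix.mul_assoc (g * S), h', Matrix.mul_one]

end GRP

end Cfsg.Agent.Helper44.SPE
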