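import Mathlib
import Cfsg.Agent.S2582

/-!
# Symplectic classes inside a `GL`-class versus orbits on invariant alternating forms
-/

set_option autoImplicit false

namespace Cfsg.Agent.Helper44.SPU

open Matrix

/-- count the target of a surjection through a complete invariant -/
theorem card_eq_card_range {Y Z I : Type*} (Γ : Y → Z) (hΓ : Function.Surjective Γ) (f : Y → I)
    (h : ∀ y y', Γ y = Γ y' ↔ f y = f y') : Nat.card Z = Nat.card (Set.range f) := by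
  apply Nat.card_congr
  refine Equiv.ofBijective (fun z => ⟨f (Classical.choose (hΓ z)), _, rfl⟩) ⟨?_, ?_⟩
  · intro z z' hzz
    have h1 : f (Classical.choose (hΓ z)) = f (Classical.choose (hΓ z')) :=
      congrArg Subtype.val hzz
    rw [← h] at h1
    rw [← Classical.choose_spec (hΓ z), ← Classical.choose_spec (hΓ z'), h1]
  · rintro ⟨i, y, rfl⟩
    refine ⟨Γ y, Subtype.ext ?_⟩
    show f (Classical.choose (hΓ (Γ y))) = f y
    rw [← h]
    exact Classical.choose_spec (hΓ (Γ y))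

section Forms

variable {F : Type*} [Field F] {κ : Type*} [Fintype κ] [DecidableEq κ]

/-- invertible skew-symmetric forms invariant under `U` -/
def AltInv (U : Matrix κ κ F) : Set (Matrix κ κ F) :=
  {Ψ | IsUnit Ψ ∧ Ψᵀ = -Ψ ∧ Uᵀ * Ψ * U = Ψ}

/-- equivalence of forms under the centraliser of `U` -/
def Rel (U Ψ Ψ' : Matrix κ κ F) : Prop :=
  ∃ g : Matrix κ κ F, IsUnit g ∧ g * U = U * g ∧ gᵀ * Ψ * g = Ψ'

theorem Rel.symm {U Ψ Ψ' : Matrix κ κ F} (h : Rel U Ψ Ψ') : Rel U Ψ' Ψ := by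
  obtain ⟨g, hg, hgU, hgΨ⟩ := h
  obtain ⟨gu, rfl⟩ := hg
  set gi : Matrix κ κ F := ((gu⁻¹ : (Matrix κ κ F)ˣ) : Matrix κ κ F) with hgi
  have h1 : (gu : Matrix κ κ F) * gi = 1 := Units.mul_inv _
  have h2 : gi * (gu : Matrix κ κ F) = 1 := Units.inv_mul _
  have h3 : giᵀ * (gu : Matrix κ κ F)ᵀ = 1 := by rw [← transpose_mul, h1, transpose_one]
  refine ⟨gi, (gu⁻¹).isUnit, ?_, ?_⟩
  · calc gi * U = gi * (U * (gu : Matrix κ κ F)) * gi := by
          rw [mul_assoc, mul_assoc, h1, mul_one]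
      _ = gi * ((gu : Matrix κ κ F) * U) * gi := by rw [hgU]
      _ = U * gi := by rw [← mul_assoc, h2, one_mul]
  · rw [← hgΨ]
    calc giᵀ * ((gu : Matrix κ κ F)ᵀ * Ψ * (gu : Matrix κ κ F)) * gi
        = (giᵀ * (gu : Matrix κ κ F)ᵀ) * Ψ * ((gu : Matrix κ κ F) * gi) := by
          simp only [mul_assoc]
      _ = Ψ := by rw [h3, h1, one_mul, mul_one]

end Forms

section Sp

universe u

variable {F : Type u} [Field F] {m : ℕ}

theorem isConj_sp_iff (a b : ↥(symplecticGroup (Fin m) F)) :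
    IsConj a b ↔ ∃ s : Matrix (Fin m ⊕ Fin m) (Fin m ⊕ Fin m) F,
      s ∈ symplecticGroup (Fin m) F ∧ s * a.1 = b.1 * s := by
  rw [isConj_iff]
  constructor
  · rintro ⟨c, hc⟩
    refine ⟨c.1, c.2, ?_⟩
    rw [mul_inv_eq_iff_eq_mul] at hc
    exact congrArg Subtype.val hc
  · rintro ⟨s, hs, hsa⟩
    refine ⟨⟨s, hs⟩, ?_⟩
    rw [mul_inv_eq_iff_eq_mul]
    apply Subtype.ext
    exact hsa

/-- every invertible skew form is congruent to the standard one -/
theorem exists_std_cong [Finite F] (h2 : (2 : F) ≠ 0)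
    (Ψ : Matrix (Fin m ⊕ Fin m) (Fin m ⊕ Fin m) F) (hU : IsUnit Ψ) (hs : Ψᵀ = -Ψ) :
    ∃ Q : GL (Fin m ⊕ Fin m) F, (Q : Matrix (Fin m ⊕ Fin m) (Fin m ⊕ Fin m) F)ᵀ * J (Fin m) F *
      (Q : Matrix (Fin m ⊕ Fin m) (Fin m ⊕ Fin m) F) = Ψ := by
  classical
  set B : LinearMap.BilinForm F (Fin m ⊕ Fin m → F) := Matrix.toBilin' Ψ with hB
  have hdet : Ψ.det ≠ 0 := ((Matrix.isUnit_iff_isUnit_det _).1 hU).ne_zero
  have hN : B.Nondegenerate := LinearMap.BilinForm.nondegenerate_toBilin'_of_det_ne_zero' Ψ hdet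
  have hBapp : ∀ x y, B x y = x ⬝ᵥ Ψ *ᵥ y := fun x y => Matrix.toBilin'_apply' Ψ x y
  have hskew : ∀ x y, B x y = -B y x := by
    intro x y
    rw [hBapp, hBapp, Matrix.dotProduct_mulVec, ← Matrix.mulVec_transpose, hs, Matrix.neg_mulVec,
      neg_dotProduct, dotProduct_comm]
  have hAlt : B.IsAlt := by
    intro x
    have h := hskew x x
    have h3 : (2 : F) * B x x = 0 := by linear_combination h
    rcases mul_eq_zero.mp h3 with h4 | h4
    · exact absurd h4 h2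
    · exact h4
  have hdim : Module.finrank F (Fin m ⊕ Fin m → F) = 2 * m := by
    rw [Module.finrank_fintype_fun_eq_card]; simp; ring
  obtain ⟨φ, hφ⟩ := Cfsg.Agent.S2582.exists_std_equiv (Fin m ⊕ Fin m → F) B hN hAlt hdim
  set P : Matrix (Fin m ⊕ Fin m) (Fin m ⊕ Fin m) F :=
    LinearMap.toMatrix' (φ : (Fin m ⊕ Fin m → F) →ₗ[F] (Fin m ⊕ Fin m → F)) with hP
  set Pi : Matrix (Fin m ⊕ Fin m) (Fin m ⊕ Fin m) F :=
    LinearMap.toMatrix' (φ.symm : (Fin m ⊕ Fin m → F) →ₗ[F] (Fin m ⊕ Fin m → F)) with hPi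
  have h1 : P * Pi = 1 := by
    rw [hP, hPi, ← LinearMap.toMatrix'_comp, LinearEquiv.comp_coe, LinearEquiv.symm_trans_self,
      LinearEquiv.refl_toLinearMap, LinearMap.toMatrix'_id]
  have h2' : Pi * P = 1 := by
    rw [hP, hPi, ← LinearMap.toMatrix'_comp, LinearEquiv.comp_coe, LinearEquiv.self_trans_symm,
      LinearEquiv.refl_toLinearMap, LinearMap.toMatrix'_id]
  have hkey : Pᵀ * Ψ * P = J (Fin m) F := by
    apply Matrix.toBilin'.injective
    rw [← Matrix.toBilin'_comp]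
    apply LinearMap.ext; intro x
    apply LinearMap.ext; intro y
    have := hφ x y
    rw [Cfsg.Agent.Lead.stdForm] at this
    rw [← this]
    simp only [LinearMap.BilinForm.comp_apply, hP, Matrix.toLin'_toMatrix', LinearEquiv.coe_coe]
    rfl
  refine ⟨⟨Pi, P, h2', h1⟩, ?_⟩
  show Piᵀ * J (Fin m) F * Pi = Ψ
  have h3 : Piᵀ * Pᵀ = 1 := by rw [← transpose_mul, h1, transpose_one]
  rw [← hkey]
  calc Piᵀ * (Pᵀ * Ψ * P) * Pi = (Piᵀ * Pᵀ) * Ψ * (P * Pi) := by simp only [mul_assoc]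
    _ = Ψ := by rw [h3, h1, one_mul, mul_one]

end Sp

end Cfsg.Agent.Helper44.SPU
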