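import Mathlib
import Cfsg.Agent.Lib.Helper44.SPUa

/-!
# The transfer theorem: symplectic classes in a `GL`-class are counted by a complete invariant of
invariant alternating forms
-/

set_option autoImplicit false

namespace Cfsg.Agent.Helper44.SPU

open Matrix

universe u

variable {F : Type u} [Field F] {m : ℕ}

theorem isUnit_of_mem_symp {s : Matrix (Fin m ⊕ Fin m) (Fin m ⊕ Fin m) F}
    (hs : s ∈ symplecticGroup (Fin m) F) : IsUnit s := by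
  rw [Matrix.isUnit_iff_isUnit_det]
  exact SymplecticGroup.symplectic_det hs

theorem isUnit_J : IsUnit (J (Fin m) F) := by
  rw [Matrix.isUnit_iff_isUnit_det]
  exact isUnit_det_J (Fin m) F

theorem conj_iff_rel (U Q Qi Q' Qi' : Matrix (Fin m ⊕ Fin m) (Fin m ⊕ Fin m) F)
    (hQ : Q * Qi = 1) (hQi : Qi * Q = 1) (hQ' : Q' * Qi' = 1) (hQi' : Qi' * Q' = 1) :
    (∃ s : Matrix (Fin m ⊕ Fin m) (Fin m ⊕ Fin m) F, s ∈ symplecticGroup (Fin m) F ∧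
      s * (Q * U * Qi) = (Q' * U * Qi') * s) ↔
    Rel U (Qᵀ * J (Fin m) F * Q) (Q'ᵀ * J (Fin m) F * Q') := by
  have hQT : Qiᵀ * Qᵀ = 1 := by rw [← transpose_mul, hQ, transpose_one]
  have hQT' : Qi'ᵀ * Q'ᵀ = 1 := by rw [← transpose_mul, hQ', transpose_one]
  constructor
  · rintro ⟨s, hs, hsg⟩
    apply Rel.symm
    have hsJ : sᵀ * J (Fin m) F * s = J (Fin m) F := SymplecticGroup.mem_iff'.1 hs
    refine ⟨Qi' * s * Q, ?_, ?_, ?_⟩
    · exact ((IsUnit.of_mul_eq_one _ hQi').mul (isUnit_of_mem_symp hs)).mul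
        (IsUnit.of_mul_eq_one _ hQ)
    · calc Qi' * s * Q * U = Qi' * (s * (Q * U * Qi)) * Q := by
            simp only [mul_assoc]; rw [hQi, mul_one]
        _ = Qi' * ((Q' * U * Qi') * s) * Q := by rw [hsg]
        _ = (Qi' * Q') * U * (Qi' * s * Q) := by simp only [mul_assoc]
        _ = U * (Qi' * s * Q) := by rw [hQi', one_mul]
    · calc (Qi' * s * Q)ᵀ * (Q'ᵀ * J (Fin m) F * Q') * (Qi' * s * Q)
          = Qᵀ * sᵀ * (Qi'ᵀ * Q'ᵀ) * J (Fin m) F * (Q' * Qi') * s * Q := by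
            simp only [transpose_mul, mul_assoc]
        _ = Qᵀ * (sᵀ * J (Fin m) F * s) * Q := by
            rw [hQT', hQ']; simp only [mul_one, mul_assoc]
        _ = Qᵀ * J (Fin m) F * Q := by rw [hsJ]
  · rintro ⟨h, hh, hhU, hhΨ⟩
    obtain ⟨hu, rfl⟩ := hh
    set hi : Matrix (Fin m ⊕ Fin m) (Fin m ⊕ Fin m) F :=
      ((hu⁻¹ : (Matrix (Fin m ⊕ Fin m) (Fin m ⊕ Fin m) F)ˣ) :
        Matrix (Fin m ⊕ Fin m) (Fin m ⊕ Fin m) F) with hhi
    set h : Matrix (Fin m ⊕ Fin m) (Fin m ⊕ Fin m) F :=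
      ((hu : (Matrix (Fin m ⊕ Fin m) (Fin m ⊕ Fin m) F)ˣ) :
        Matrix (Fin m ⊕ Fin m) (Fin m ⊕ Fin m) F) with hh
    have h1 : h * hi = 1 := Units.mul_inv _
    have h2 : hi * h = 1 := Units.inv_mul _
    have h3 : hiᵀ * hᵀ = 1 := by rw [← transpose_mul, h1, transpose_one]
    have hiU : hi * U = U * hi := by
      calc hi * U = hi * (U * h) * hi := by rw [mul_assoc, mul_assoc, h1, mul_one]
        _ = hi * (h * U) * hi := by rw [hhU]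
        _ = U * hi := by rw [← mul_assoc, h2, one_mul]
    refine ⟨Q' * hi * Qi, ?_, ?_⟩
    · rw [SymplecticGroup.mem_iff']
      calc (Q' * hi * Qi)ᵀ * J (Fin m) F * (Q' * hi * Qi)
          = Qiᵀ * hiᵀ * (Q'ᵀ * J (Fin m) F * Q') * hi * Qi := by
            simp only [transpose_mul, mul_assoc]
        _ = Qiᵀ * hiᵀ * (hᵀ * (Qᵀ * J (Fin m) F * Q) * h) * hi * Qi := by rw [hhΨ]
        _ = (Qiᵀ * ((hiᵀ * hᵀ) * Qᵀ)) * J (Fin m) F * (Q * ((h * hi) * Qi)) := by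
            simp only [mul_assoc]
        _ = J (Fin m) F := by
            rw [h3, h1, one_mul, one_mul, hQT, hQ, one_mul, mul_one]
    · calc Q' * hi * Qi * (Q * U * Qi) = Q' * hi * ((Qi * Q) * U) * Qi := by
            simp only [mul_assoc]
        _ = Q' * (hi * U) * Qi := by rw [hQi, one_mul]; simp only [mul_assoc]
        _ = Q' * U * ((Qi' * Q') * hi) * Qi := by
            rw [hiU, hQi', one_mul]; simp only [mul_assoc]
        _ = Q' * U * Qi' * (Q' * hi * Qi) := by simp only [mul_assoc]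

theorem mem_symp_conj_iff (U Q Qi : Matrix (Fin m ⊕ Fin m) (Fin m ⊕ Fin m) F)
    (hQ : Q * Qi = 1) (hQi : Qi * Q = 1) :
    Q * U * Qi ∈ symplecticGroup (Fin m) F ↔
      Uᵀ * (Qᵀ * J (Fin m) F * Q) * U = Qᵀ * J (Fin m) F * Q := by
  have hQT : Qiᵀ * Qᵀ = 1 := by rw [← transpose_mul, hQ, transpose_one]
  have hQT' : Qᵀ * Qiᵀ = 1 := by rw [← transpose_mul, hQi, transpose_one]
  rw [SymplecticGroup.mem_iff']
  have e : (Q * U * Qi)ᵀ * J (Fin m) F * (Q * U * Qi) =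
      Qiᵀ * (Uᵀ * (Qᵀ * J (Fin m) F * Q) * U) * Qi := by
    simp only [transpose_mul, mul_assoc]
  rw [e]
  constructor
  · intro h
    calc Uᵀ * (Qᵀ * J (Fin m) F * Q) * U
        = (Qᵀ * Qiᵀ) * (Uᵀ * (Qᵀ * J (Fin m) F * Q) * U) * (Qi * Q) := by
          rw [hQT', hQi, one_mul, mul_one]
      _ = Qᵀ * (Qiᵀ * (Uᵀ * (Qᵀ * J (Fin m) F * Q) * U) * Qi) * Q := by simp only [mul_assoc]
      _ = Qᵀ * J (Fin m) F * Q := by rw [h]
  · intro h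
    rw [h]
    calc Qiᵀ * (Qᵀ * J (Fin m) F * Q) * Qi = (Qiᵀ * Qᵀ) * J (Fin m) F * (Q * Qi) := by
          simp only [mul_assoc]
      _ = J (Fin m) F := by rw [hQT, hQ, one_mul, mul_one]

theorem card_classes_eq [Finite F] (h2 : (2 : F) ≠ 0)
    (U : Matrix (Fin m ⊕ Fin m) (Fin m ⊕ Fin m) F) {I : Type*}
    (inv : ↥(AltInv U) → I) (hinv : ∀ Ψ Ψ' : ↥(AltInv U), inv Ψ = inv Ψ' ↔ Rel U Ψ.1 Ψ'.1) :
    Nat.card {C : ConjClasses ↥(symplecticGroup (Fin m) F) //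
      ∃ g : ↥(symplecticGroup (Fin m) F), ConjClasses.mk g = C ∧
        IsConj U (g : Matrix (Fin m ⊕ Fin m) (Fin m ⊕ Fin m) F)} =
      Nat.card (Set.range inv) := by
  classical
  let Y := {Q : GL (Fin m ⊕ Fin m) F // (Q : Matrix (Fin m ⊕ Fin m) (Fin m ⊕ Fin m) F) * U *
    ((Q⁻¹ : GL (Fin m ⊕ Fin m) F) : Matrix (Fin m ⊕ Fin m) (Fin m ⊕ Fin m) F) ∈
      symplecticGroup (Fin m) F}
  have hinvs : ∀ Q : GL (Fin m ⊕ Fin m) F,
      (Q : Matrix (Fin m ⊕ Fin m) (Fin m ⊕ Fin m) F) *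
        ((Q⁻¹ : GL (Fin m ⊕ Fin m) F) : Matrix (Fin m ⊕ Fin m) (Fin m ⊕ Fin m) F) = 1 ∧
      ((Q⁻¹ : GL (Fin m ⊕ Fin m) F) : Matrix (Fin m ⊕ Fin m) (Fin m ⊕ Fin m) F) *
        (Q : Matrix (Fin m ⊕ Fin m) (Fin m ⊕ Fin m) F) = 1 :=
    fun Q => ⟨Units.mul_inv _, Units.inv_mul _⟩
  let gY : Y → ↥(symplecticGroup (Fin m) F) := fun y => ⟨_, y.2⟩
  have hgY : ∀ y : Y, IsConj U ((gY y : ↥(symplecticGroup (Fin m) F)) :
      Matrix (Fin m ⊕ Fin m) (Fin m ⊕ Fin m) F) := by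
    intro y
    refine ⟨y.1, ?_⟩
    show (y.1 : Matrix (Fin m ⊕ Fin m) (Fin m ⊕ Fin m) F) * U =
      (y.1 : Matrix (Fin m ⊕ Fin m) (Fin m ⊕ Fin m) F) * U *
        ((y.1⁻¹ : GL (Fin m ⊕ Fin m) F) : Matrix (Fin m ⊕ Fin m) (Fin m ⊕ Fin m) F) *
        (y.1 : Matrix (Fin m ⊕ Fin m) (Fin m ⊕ Fin m) F)
    rw [mul_assoc, mul_assoc, (hinvs y.1).2, mul_one]
  have hΨY : ∀ y : Y, (y.1 : Matrix (Fin m ⊕ Fin m) (Fin m ⊕ Fin m) F)ᵀ * J (Fin m) F *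
      (y.1 : Matrix (Fin m ⊕ Fin m) (Fin m ⊕ Fin m) F) ∈ AltInv U := by
    intro y
    refine ⟨?_, ?_, ?_⟩
    · have hQ : IsUnit (y.1 : Matrix (Fin m ⊕ Fin m) (Fin m ⊕ Fin m) F) := y.1.isUnit
      have hQT : IsUnit (y.1 : Matrix (Fin m ⊕ Fin m) (Fin m ⊕ Fin m) F)ᵀ := by
        rw [Matrix.isUnit_iff_isUnit_det] at hQ ⊢
        rw [Matrix.det_transpose]; exact hQ
      exact (hQT.mul isUnit_J).mul hQ
    · rw [transpose_mul, transpose_mul, transpose_transpose, J_transpose]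
      simp only [mul_assoc, Matrix.neg_mul, Matrix.mul_neg]
    · exact (mem_symp_conj_iff U _ _ (hinvs y.1).1 (hinvs y.1).2).1 y.2
  let Γ : Y → {C : ConjClasses ↥(symplecticGroup (Fin m) F) //
      ∃ g : ↥(symplecticGroup (Fin m) F), ConjClasses.mk g = C ∧
        IsConj U (g : Matrix (Fin m ⊕ Fin m) (Fin m ⊕ Fin m) F)} :=
    fun y => ⟨ConjClasses.mk (gY y), gY y, rfl, hgY y⟩
  let Φ : Y → ↥(AltInv U) := fun y => ⟨_, hΨY y⟩
  have hΓ : Function.Surjective Γ := by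
    rintro ⟨C, g, rfl, ⟨c, hc⟩⟩
    have hc' : (c : Matrix (Fin m ⊕ Fin m) (Fin m ⊕ Fin m) F) * U =
        (g : Matrix (Fin m ⊕ Fin m) (Fin m ⊕ Fin m) F) * c := hc
    have hval : (c : Matrix (Fin m ⊕ Fin m) (Fin m ⊕ Fin m) F) * U *
        ((c⁻¹ : GL (Fin m ⊕ Fin m) F) : Matrix (Fin m ⊕ Fin m) (Fin m ⊕ Fin m) F) =
        (g : Matrix (Fin m ⊕ Fin m) (Fin m ⊕ Fin m) F) := by
      rw [hc', mul_assoc, (hinvs c).1, mul_one]
    refine ⟨⟨c, by rw [hval]; exact g.2⟩, ?_⟩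
    apply Subtype.ext
    show ConjClasses.mk _ = ConjClasses.mk g
    congr 1
    apply Subtype.ext
    exact hval
  have hΦ : Function.Surjective Φ := by
    rintro ⟨Ψ, hΨ⟩
    obtain ⟨Q, hQ⟩ := exists_std_cong h2 Ψ hΨ.1 hΨ.2.1
    refine ⟨⟨Q, ?_⟩, Subtype.ext hQ⟩
    rw [mem_symp_conj_iff U _ _ (hinvs Q).1 (hinvs Q).2, hQ]
    exact hΨ.2.2
  have hkey : ∀ y y' : Y, Γ y = Γ y' ↔ inv (Φ y) = inv (Φ y') := by
    intro y y'
    rw [hinv]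
    have h1 : Γ y = Γ y' ↔ IsConj (gY y) (gY y') := by
      rw [← ConjClasses.mk_eq_mk_iff_isConj]
      constructor
      · intro h; exact congrArg Subtype.val h
      · intro h; exact Subtype.ext h
    rw [h1, isConj_sp_iff]
    exact conj_iff_rel U _ _ _ _ (hinvs y.1).1 (hinvs y.1).2 (hinvs y'.1).1 (hinvs y'.1).2
  rw [card_eq_card_range Γ hΓ (fun y => inv (Φ y)) hkey]
  have : Set.range (fun y => inv (Φ y)) = Set.range inv := hΦ.range_comp inv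
  rw [this]

end Cfsg.Agent.Helper44.SPU
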