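import Mathlib
import Cfsg.Agent.Lib.Helper44.SPUb

/-!
# Reindexing invariant forms; the transfer theorem for a matrix on another index type
-/

set_option autoImplicit false
set_option linter.unusedSectionVars false

namespace Cfsg.Agent.Helper44.SPU

open Matrix

section Reindex

variable {F : Type*} [Field F] {κ κ' : Type*} [Fintype κ] [DecidableEq κ] [Fintype κ']
  [DecidableEq κ']

theorem reindex_mul' (e : κ ≃ κ') (A B : Matrix κ κ F) :
    Matrix.reindex e e A * Matrix.reindex e e B = Matrix.reindex e e (A * B) := by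
  simp only [Matrix.reindex_apply, Matrix.submatrix_mul_equiv]

theorem reindex_transpose' (e : κ ≃ κ') (A : Matrix κ κ F) :
    (Matrix.reindex e e A)ᵀ = Matrix.reindex e e Aᵀ := by
  ext i j
  simp [Matrix.reindex_apply]

theorem reindex_neg' (e : κ ≃ κ') (A : Matrix κ κ F) :
    Matrix.reindex e e (-A) = -Matrix.reindex e e A := by
  ext i j
  simp [Matrix.reindex_apply]

theorem isUnit_reindex (e : κ ≃ κ') (A : Matrix κ κ F) :
    IsUnit (Matrix.reindex e e A) ↔ IsUnit A := by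
  rw [Matrix.isUnit_iff_isUnit_det, Matrix.isUnit_iff_isUnit_det, Matrix.det_reindex_self]

theorem reindex_symm_reindex (e : κ ≃ κ') (A : Matrix κ κ F) :
    Matrix.reindex e.symm e.symm (Matrix.reindex e e A) = A := by
  ext i j
  simp [Matrix.reindex_apply]

theorem reindex_reindex_symm (e : κ ≃ κ') (A : Matrix κ' κ' F) :
    Matrix.reindex e e (Matrix.reindex e.symm e.symm A) = A := by
  ext i j
  simp [Matrix.reindex_apply]

theorem reindex_mem_altInv (e : κ ≃ κ') {U Ψ : Matrix κ κ F} (h : Ψ ∈ AltInv U) :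
    Matrix.reindex e e Ψ ∈ AltInv (Matrix.reindex e e U) := by
  obtain ⟨h1, h2, h3⟩ := h
  refine ⟨(isUnit_reindex e Ψ).2 h1, ?_, ?_⟩
  · rw [reindex_transpose', h2, reindex_neg']
  · rw [reindex_transpose', reindex_mul', reindex_mul', h3]

theorem rel_reindex (e : κ ≃ κ') {U Ψ Ψ' : Matrix κ κ F} (h : Rel U Ψ Ψ') :
    Rel (Matrix.reindex e e U) (Matrix.reindex e e Ψ) (Matrix.reindex e e Ψ') := by
  obtain ⟨g, h1, h2, h3⟩ := h
  refine ⟨Matrix.reindex e e g, (isUnit_reindex e g).2 h1, ?_, ?_⟩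
  · rw [reindex_mul', reindex_mul', h2]
  · rw [reindex_transpose', reindex_mul', reindex_mul', h3]

end Reindex

universe u

variable {F : Type u} [Field F] {m : ℕ}

theorem card_classes_reindex [Finite F] (h2 : (2 : F) ≠ 0) {κ : Type*} [Fintype κ]
    [DecidableEq κ] (e : κ ≃ Fin m ⊕ Fin m) (U : Matrix κ κ F) {I : Type*}
    (inv : ↥(AltInv U) → I) (hinv : ∀ Ψ Ψ' : ↥(AltInv U), inv Ψ = inv Ψ' ↔ Rel U Ψ.1 Ψ'.1) :
    Nat.card {C : ConjClasses ↥(symplecticGroup (Fin m) F) //
      ∃ g : ↥(symplecticGroup (Fin m) F), ConjClasses.mk g = C ∧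
        IsConj (Matrix.reindex e e U) (g : Matrix (Fin m ⊕ Fin m) (Fin m ⊕ Fin m) F)} =
      Nat.card (Set.range inv) := by
  have hback : ∀ Ψ : ↥(AltInv (Matrix.reindex e e U)),
      Matrix.reindex e.symm e.symm Ψ.1 ∈ AltInv U := by
    intro Ψ
    have := reindex_mem_altInv e.symm Ψ.2
    rwa [reindex_symm_reindex] at this
  let inv' : ↥(AltInv (Matrix.reindex e e U)) → I := fun Ψ => inv ⟨_, hback Ψ⟩
  have hinv' : ∀ Ψ Ψ' : ↥(AltInv (Matrix.reindex e e U)),
      inv' Ψ = inv' Ψ' ↔ Rel (Matrix.reindex e e U) Ψ.1 Ψ'.1 := by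
    intro Ψ Ψ'
    show inv ⟨_, hback Ψ⟩ = inv ⟨_, hback Ψ'⟩ ↔ _
    rw [hinv]
    constructor
    · intro h
      have := rel_reindex e h
      simpa only [reindex_reindex_symm] using this
    · intro h
      have := rel_reindex e.symm h
      simpa only [reindex_symm_reindex] using this
  rw [card_classes_eq h2 (Matrix.reindex e e U) inv' hinv']
  have hrange : Set.range inv' = Set.range inv := by
    ext i
    constructor
    · rintro ⟨Ψ, rfl⟩
      exact ⟨_, rfl⟩
    · rintro ⟨Ψ, rfl⟩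
      refine ⟨⟨_, reindex_mem_altInv e Ψ.2⟩, ?_⟩
      show inv ⟨_, _⟩ = inv Ψ
      congr 1
      apply Subtype.ext
      exact reindex_symm_reindex e Ψ.1
  rw [hrange]

end Cfsg.Agent.Helper44.SPU
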