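import Mathlib
import Cfsg.Agent.Lib.Helper43.JordanCent
import Cfsg.Agent.Lib.Helper44.GUCd

/-!
# The commutant of the standard nilpotent Jordan matrix: reduction to diagonal blocks,
the adjoint for the standard skew form, nilpotency of the radical
-/

set_option autoImplicit false
set_option linter.unusedSectionVars false

namespace Cfsg.Agent.Helper44.SPU

open Matrix Cfsg.Agent.Helper43 Cfsg.Agent.Helper44.GUC

variable {K : Type*} [Field K] {t : ℕ} (d : Fin t → ℕ)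

/-- membership in the commutant of `N` -/
def Comm (g : Matrix (JC.Idx d) (JC.Idx d) K) : Prop := g * JC.Nm d K = JC.Nm d K * g

variable {d}

theorem Comm.mul {g h : Matrix (JC.Idx d) (JC.Idx d) K} (hg : Comm d g) (hh : Comm d h) :
    Comm d (g * h) := by
  unfold Comm at *
  rw [mul_assoc, hh, ← mul_assoc, hg, mul_assoc]

theorem Comm.one : Comm d (1 : Matrix (JC.Idx d) (JC.Idx d) K) := by
  unfold Comm
  rw [one_mul, mul_one]

theorem Comm.pow {g : Matrix (JC.Idx d) (JC.Idx d) K} (hg : Comm d g) (n : ℕ) :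
    Comm d (g ^ n) := by
  induction n with
  | zero => rw [pow_zero]; exact Comm.one
  | succ n ih => rw [pow_succ]; exact ih.mul hg

theorem Comm.sub {g h : Matrix (JC.Idx d) (JC.Idx d) K} (hg : Comm d g) (hh : Comm d h) :
    Comm d (g - h) := by
  unfold Comm at *
  rw [sub_mul, mul_sub, hg, hh]

theorem Comm.of_inv {g gi : Matrix (JC.Idx d) (JC.Idx d) K} (hg : Comm d g) (h1 : g * gi = 1)
    (h2 : gi * g = 1) : Comm d gi := by
  unfold Comm at *
  calc gi * JC.Nm d K = gi * (JC.Nm d K * g) * gi := by rw [mul_assoc, mul_assoc, h1, mul_one]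
    _ = gi * (g * JC.Nm d K) * gi := by rw [hg]
    _ = JC.Nm d K * gi := by rw [← mul_assoc, h2, one_mul]

variable (d)

theorem gbar_mul (hd : ∀ k, 1 ≤ d k) {g h : Matrix (JC.Idx d) (JC.Idx d) K} (hg : Comm d g)
    (hh : Comm d h) : JC.gbar d (g * h) = JC.gbar d g * JC.gbar d h := by
  have hgh : Comm d (g * h) := hg.mul hh
  apply Matrix.mulVec_injective
  funext y
  show JC.gbar d (g * h) *ᵥ y = (JC.gbar d g * JC.gbar d h) *ᵥ y
  rw [← Matrix.mulVec_mulVec]
  conv_lhs => rw [← JC.pi0_lift0 d hd y]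
  rw [← JC.pi0_mulVec d hd hgh, ← Matrix.mulVec_mulVec, JC.pi0_mulVec d hd hg,
    JC.pi0_mulVec d hd hh, JC.pi0_lift0]

theorem gbar_one (hd : ∀ k, 1 ≤ d k) : JC.gbar d (1 : Matrix (JC.Idx d) (JC.Idx d) K) = 1 := by
  ext k l
  simp only [JC.gbar, Matrix.of_apply]
  rw [JC.ent_of_lt d _ k 0 l 0 (hd k) (hd l), Matrix.one_apply, Matrix.one_apply]
  by_cases h : k = l
  · subst h; simp
  · rw [if_neg h, if_neg]
    intro h'
    exact h (congrArg Sigma.fst h')

theorem gbar_pow (hd : ∀ k, 1 ≤ d k) {g : Matrix (JC.Idx d) (JC.Idx d) K} (hg : Comm d g)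
    (n : ℕ) : JC.gbar d (g ^ n) = JC.gbar d g ^ n := by
  induction n with
  | zero => rw [pow_zero, pow_zero, gbar_one d hd]
  | succ n ih => rw [pow_succ, pow_succ, gbar_mul d hd (hg.pow n) hg, ih]

/-- the diagonal blocks -/
def blk (i : Fin (Finset.univ.sup d + 1)) (g : Matrix (JC.Idx d) (JC.Idx d) K) :
    Matrix {k // JC.dF d k = i} {k // JC.dF d k = i} K :=
  (JC.gbar d g).toSquareBlock (JC.dF d) i

theorem blk_apply (i : Fin (Finset.univ.sup d + 1)) (g : Matrix (JC.Idx d) (JC.Idx d) K)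
    (k l : {k // JC.dF d k = i}) : blk d i g k l = JC.gbar d g k.1 l.1 := rfl

theorem blk_mul (hd : ∀ k, 1 ≤ d k) (i : Fin (Finset.univ.sup d + 1))
    {g h : Matrix (JC.Idx d) (JC.Idx d) K} (hg : Comm d g) (hh : Comm d h) :
    blk d i (g * h) = blk d i g * blk d i h := by
  classical
  ext ⟨k, hk⟩ ⟨l, hl⟩
  rw [blk_apply, gbar_mul d hd hg hh, Matrix.mul_apply, Matrix.mul_apply]
  have hgT := JC.gbar_blockTriangular d hd hg
  have hhT := JC.gbar_blockTriangular d hd hh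
  show ∑ j : Fin t, JC.gbar d g k j * JC.gbar d h j l =
    ∑ j : {k // JC.dF d k = i}, JC.gbar d g k j.1 * JC.gbar d h j.1 l
  rw [← Finset.sum_subtype (Finset.univ.filter (fun k' : Fin t => JC.dF d k' = i))
    (by intro x; simp) (fun k' => JC.gbar d g k k' * JC.gbar d h k' l)]
  symm
  apply Finset.sum_filter_of_ne
  intro k' _ hne
  by_contra hk'
  rcases lt_or_gt_of_ne hk' with h1 | h1
  · apply hne
    have : JC.gbar d g k k' = 0 := hgT (by rw [hk]; exact h1)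
    rw [this, zero_mul]
  · apply hne
    have : JC.gbar d h k' l = 0 := hhT (by rw [hl]; exact h1)
    rw [this, mul_zero]

theorem blk_one (hd : ∀ k, 1 ≤ d k) (i : Fin (Finset.univ.sup d + 1)) :
    blk d i (1 : Matrix (JC.Idx d) (JC.Idx d) K) = 1 := by
  ext k l
  rw [blk_apply, gbar_one d hd, Matrix.one_apply, Matrix.one_apply]
  by_cases h : k = l
  · subst h; simp
  · rw [if_neg h, if_neg]
    intro h'
    exact h (Subtype.ext h')

theorem blk_sub (i : Fin (Finset.univ.sup d + 1)) (g h : Matrix (JC.Idx d) (JC.Idx d) K) :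
    blk d i (g - h) = blk d i g - blk d i h := by
  ext k l
  simp only [blk_apply, JC.gbar, Matrix.of_apply, Matrix.sub_apply, JC.ent]
  split_ifs <;> simp

theorem isUnit_blk (hd : ∀ k, 1 ≤ d k) (i : Fin (Finset.univ.sup d + 1))
    {g : Matrix (JC.Idx d) (JC.Idx d) K} (hg : Comm d g) (hu : IsUnit g) :
    IsUnit (blk d i g) := by
  rw [Matrix.isUnit_iff_isUnit_det]
  exact (JC.isUnit_gbar_iff d hd hg).1 ((JC.isUnit_iff_gbar d hd hg).1 hu) i

theorem blk_Mc (hd : ∀ k, 1 ≤ d k) (i : Fin (Finset.univ.sup d + 1)) (c : JC.Pos d → K) :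
    blk d i (JC.Mc d c) = Matrix.of fun (k l : {k // JC.dF d k = i}) =>
      c (JC.emb d hd ⟨i, (k, l)⟩) := by
  ext ⟨k, hk⟩ ⟨l, hl⟩
  simp only [blk, Matrix.toSquareBlock_def, Matrix.of_apply, JC.gbar, JC.emb]
  have h1 : d k = d l := by
    have := hk.trans hl.symm
    simpa [JC.dF] using congrArg Fin.val this
  have := hd k
  have := hd l
  rw [JC.ent_Mc, if_pos ⟨by omega, by omega, by omega⟩]
  have e : 0 - 0 - (d k - d l) = 0 := by omega
  rw [e, JC.cent, dif_pos (by omega)]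

/-! ### the adjoint for the standard skew form -/

/-- the `G₀`-adjoint -/
def gs (g : Matrix (JC.Idx d) (JC.Idx d) K) : Matrix (JC.Idx d) (JC.Idx d) K :=
  G0' d K * gᵀ * G0 d K

theorem G0_mul_gs (g : Matrix (JC.Idx d) (JC.Idx d) K) : G0 d K * gs d g = gᵀ * G0 d K := by
  unfold gs
  rw [← mul_assoc, ← mul_assoc, G0_mul_G0', one_mul]

theorem mul_G0_apply (M : Matrix (JC.Idx d) (JC.Idx d) K) (x z : JC.Idx d) :
    (M * G0 d K) x z = M x (GUC.flip d z) * (-1) ^ ((GUC.flip d z).2 : ℕ) := by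
  rw [Matrix.mul_apply, Finset.sum_eq_single (GUC.flip d z)]
  · simp [G0_apply, GUC.flip_flip]
  · intro y _ hy
    rw [G0_apply, if_neg, mul_zero]
    intro h
    apply hy
    rw [h, GUC.flip_flip]
  · simp

theorem gs_apply (g : Matrix (JC.Idx d) (JC.Idx d) K) (x z : JC.Idx d) :
    gs d g x z = (-1) ^ ((GUC.flip d x).2 : ℕ) * (g (GUC.flip d z) (GUC.flip d x) *
      (-1) ^ ((GUC.flip d z).2 : ℕ)) := by
  unfold gs
  rw [mul_assoc, G0'_mul_apply, mul_G0_apply, Matrix.transpose_apply]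

theorem transpose_Nm_mul_G0 : (JC.Nm d K)ᵀ * G0 d K = -(G0 d K * JC.Nm d K) := by
  have := skew_G0 d (RingHom.id K)
  rwa [starM_Nm] at this

theorem gs_comm {g : Matrix (JC.Idx d) (JC.Idx d) K} (hg : Comm d g) : Comm d (gs d g) := by
  unfold Comm at *
  have h1 := transpose_Nm_mul_G0 (K := K) d
  -- G0' Nᵀ = - N G0'
  have h2 : G0' d K * (JC.Nm d K)ᵀ = -(JC.Nm d K * G0' d K) := by
    calc G0' d K * (JC.Nm d K)ᵀ = G0' d K * ((JC.Nm d K)ᵀ * G0 d K) * G0' d K := by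
          rw [mul_assoc, mul_assoc, G0_mul_G0', mul_one]
      _ = -(G0' d K * G0 d K * JC.Nm d K * G0' d K) := by
          rw [h1]; simp only [mul_neg, neg_mul, mul_assoc]
      _ = -(JC.Nm d K * G0' d K) := by rw [G0'_mul_G0, one_mul]
  unfold gs
  calc G0' d K * gᵀ * G0 d K * JC.Nm d K = G0' d K * gᵀ * (G0 d K * JC.Nm d K) := by
        simp only [mul_assoc]
    _ = -(G0' d K * (gᵀ * (JC.Nm d K)ᵀ) * G0 d K) := by
        rw [← neg_eq_iff_eq_neg.2 h1]; simp only [mul_neg, neg_mul, mul_assoc, neg_neg]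
    _ = -(G0' d K * ((JC.Nm d K)ᵀ * gᵀ) * G0 d K) := by
        rw [← transpose_mul, ← transpose_mul, hg]
    _ = -((G0' d K * (JC.Nm d K)ᵀ) * gᵀ * G0 d K) := by simp only [mul_assoc]
    _ = JC.Nm d K * (G0' d K * gᵀ * G0 d K) := by
        rw [h2]; simp only [neg_mul, neg_neg, mul_assoc]

theorem blk_gs (hd : ∀ k, 1 ≤ d k) (i : Fin (Finset.univ.sup d + 1))
    {g : Matrix (JC.Idx d) (JC.Idx d) K} (hg : Comm d g) :
    blk d i (gs d g) = (blk d i g)ᵀ := by
  ext ⟨k, hk⟩ ⟨l, hl⟩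
  rw [Matrix.transpose_apply, blk_apply, blk_apply]
  simp only [JC.gbar, Matrix.of_apply]
  have h1 : d k = d l := by
    have := hk.trans hl.symm
    simpa [JC.dF] using congrArg Fin.val this
  have hk1 := hd k
  have hl1 := hd l
  rw [JC.ent_of_lt d _ k 0 l 0 hk1 hl1, gs_apply]
  have e1 : ((GUC.flip d ⟨k, ⟨0, hk1⟩⟩).2 : ℕ) = d k - 1 := by simp [GUC.flip]
  have e2 : ((GUC.flip d ⟨l, ⟨0, hl1⟩⟩).2 : ℕ) = d l - 1 := by simp [GUC.flip]
  rw [e1, e2]
  have e3 : g (GUC.flip d ⟨l, ⟨0, hl1⟩⟩) (GUC.flip d ⟨k, ⟨0, hk1⟩⟩) =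
      JC.ent d g l (d l - 1) k (d k - 1) := by
    rw [JC.ent_of_lt d g l (d l - 1) k (d k - 1) (by omega) (by omega)]
    rfl
  rw [e3, JC.toeplitz hg l k (d k - 1) (d l - 1) (by omega) (by omega), if_pos (by omega)]
  have e4 : d l - 1 - (d k - 1) = 0 := by omega
  rw [e4, h1, ← mul_assoc, mul_comm, ← mul_assoc, ← pow_add, ← two_mul, pow_mul]
  simp

/-! ### nilpotency of the radical -/

theorem isNilpotent_of_blk_eq_zero (hd : ∀ k, 1 ≤ d k) {x : Matrix (JC.Idx d) (JC.Idx d) K}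
    (hx : Comm d x) (h : ∀ i, blk d i x = 0) : IsNilpotent x := by
  classical
  -- step 1: `gbar x` is nilpotent
  have hT := JC.gbar_blockTriangular d hd hx
  have hchar : (JC.gbar d x).charpoly = ∏ a ∈ Finset.image (JC.dF d) Finset.univ,
      (Polynomial.X : Polynomial K) ^ Fintype.card {k // JC.dF d k = a} := by
    rw [hT.charpoly]
    apply Finset.prod_congr rfl
    intro a _
    have : (JC.gbar d x).toSquareBlock (JC.dF d) a = 0 := h a
    rw [this, Matrix.charpoly_zero]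
  obtain ⟨s, hs⟩ : ∃ s : ℕ, (JC.gbar d x).charpoly = Polynomial.X ^ s := by
    rw [hchar, Finset.prod_pow_eq_pow_sum]
    exact ⟨_, rfl⟩
  have h1 : JC.gbar d x ^ s = 0 := by
    have := Matrix.aeval_self_charpoly (JC.gbar d x)
    rwa [hs, map_pow, Polynomial.aeval_X] at this
  -- step 2
  set y := x ^ s with hy
  have hyC : Comm d y := hx.pow s
  have hy0 : JC.gbar d y = 0 := by rw [hy, gbar_pow d hd hx, h1]
  -- step 3
  have hrange : ∀ v, ∃ w, y *ᵥ v = JC.Nm d K *ᵥ w := by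
    intro v
    apply JC.exists_of_pi0_eq_zero d hd
    rw [JC.pi0_mulVec d hd hyC, hy0, Matrix.zero_mulVec]
  have hpow : ∀ (j : ℕ) v, ∃ w, (y ^ j) *ᵥ v = (JC.Nm d K ^ j) *ᵥ w := by
    intro j
    induction j with
    | zero => intro v; exact ⟨v, by simp⟩
    | succ j ih =>
      intro v
      obtain ⟨w, hw⟩ := ih v
      obtain ⟨w', hw'⟩ := hrange w
      refine ⟨w', ?_⟩
      have hc : y * JC.Nm d K ^ j = JC.Nm d K ^ j * y := (Commute.pow_right hyC j)
      rw [pow_succ', ← Matrix.mulVec_mulVec, hw, Matrix.mulVec_mulVec, hc,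
        ← Matrix.mulVec_mulVec, hw', Matrix.mulVec_mulVec, ← pow_succ]
  refine ⟨s * Finset.univ.sup d, ?_⟩
  rw [pow_mul, ← hy]
  apply Matrix.mulVec_injective
  funext v
  show (y ^ Finset.univ.sup d) *ᵥ v = (0 : Matrix (JC.Idx d) (JC.Idx d) K) *ᵥ v
  obtain ⟨w, hw⟩ := hpow (Finset.univ.sup d) v
  rw [hw, JC.Nm_pow_sup_mulVec, Matrix.zero_mulVec]

end Cfsg.Agent.Helper44.SPU
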