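import Mathlib
import Cfsg.Agent.Lib.Helper43.JordanCent
import Cfsg.Agent.Lib.Helper44.GUCd
import Cfsg.Agent.Lib.Helper44.SPUd

/-!
# Orbits of the commutant on invariant skew forms: reduction to the diagonal blocks
-/

set_option autoImplicit false
set_option linter.unusedSectionVars false

namespace Cfsg.Agent.Helper44.SPU

open Matrix Cfsg.Agent.Helper43 Cfsg.Agent.Helper44.GUC

variable {K : Type*} [Field K] {t : ℕ} (d : Fin t → ℕ)

/-- parameters of the transposed form -/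
def tauP (c : JC.Pos d → K) : JC.Pos d → K := fun p => epsP d K p * c (swapP d p)

theorem transpose_Psi (c : JC.Pos d → K) : (Psi d c)ᵀ = Psi d (tauP d c) := by
  ext ⟨k, ⟨a, ha⟩⟩ ⟨l, ⟨b, hb⟩⟩
  rw [Matrix.transpose_apply, Psi_apply, Psi_apply]
  by_cases h1 : a + b + 1 ≤ min (d k) (d l)
  · rw [if_pos (by omega), if_pos h1]
    have hj : min (d k) (d l) - 1 - (a + b) < min (d k) (d l) := by omega
    have e1 : min (d l) (d k) - 1 - (b + a) = min (d k) (d l) - 1 - (a + b) := by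
      rw [min_comm, add_comm]
    rw [e1, JC.cent, dif_pos (by omega), JC.cent, dif_pos hj]
    show _ = (-1 : K) ^ a * (epsP d K ⟨l, k, ⟨min (d k) (d l) - 1 - (a + b), hj⟩⟩ *
      c (swapP d ⟨l, k, ⟨min (d k) (d l) - 1 - (a + b), hj⟩⟩))
    have h3 : epsP d K ⟨l, k, ⟨min (d k) (d l) - 1 - (a + b), hj⟩⟩ = (-1) ^ (a + b) := by
      unfold epsP
      simp only
      congr 1
      omega
    have h4 : c (swapP d ⟨l, k, ⟨min (d k) (d l) - 1 - (a + b), hj⟩⟩) =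
        c ⟨k, l, ⟨min (d k) (d l) - 1 - (a + b), by omega⟩⟩ := rfl
    rw [h3, h4, ← mul_assoc, pow_add, ← mul_assoc, ← pow_add, ← two_mul, pow_mul]
    simp
  · rw [if_neg (by omega), if_neg h1]

theorem par_neg (g : Matrix (JC.Idx d) (JC.Idx d) K) : JC.par d (-g) = -JC.par d g := by
  funext p
  simp only [JC.par, JC.ent, Pi.neg_apply, Matrix.neg_apply]
  split_ifs <;> simp

theorem par_G0'_Psi (c : JC.Pos d → K) : JC.par d (G0' d K * Psi d c) = c := by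
  unfold Psi
  rw [← mul_assoc, G0'_mul_G0, one_mul, JC.par_Mc]

theorem skew_Psi_iff (c : JC.Pos d → K) :
    (Psi d c)ᵀ = -Psi d c ↔ ∀ p, epsP d K p * c (swapP d p) = -c p := by
  rw [transpose_Psi]
  constructor
  · intro h p
    have h1 := congrArg (fun M => JC.par d (G0' d K * M)) h
    simp only [Matrix.mul_neg, par_neg, par_G0'_Psi] at h1
    exact congrFun h1 p
  · intro h
    have h1 : tauP d c = -c := funext h
    rw [h1]
    unfold Psi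
    have : JC.Mc d (-c) = -JC.Mc d c := by
      ext x y
      simp only [JC.Mc, Matrix.of_apply, Matrix.neg_apply, JC.cent, Pi.neg_apply]
      split_ifs <;> simp
    rw [this, Matrix.mul_neg]

/-- symmetry type of the diagonal blocks of a skew form -/
theorem blk_transpose (hd : ∀ k, 1 ≤ d k) (c : JC.Pos d → K) (hs : (Psi d c)ᵀ = -Psi d c)
    (i : Fin (Finset.univ.sup d + 1)) :
    (blk d i (JC.Mc d c))ᵀ = (-(-1 : K) ^ ((i : ℕ) - 1)) • blk d i (JC.Mc d c) := by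
  rw [blk_Mc d hd]
  ext ⟨k, hk⟩ ⟨l, hl⟩
  simp only [Matrix.transpose_apply, Matrix.of_apply, Matrix.smul_apply, smul_eq_mul]
  have h1 := (skew_Psi_iff d c).1 hs (JC.emb d hd ⟨i, (⟨k, hk⟩, ⟨l, hl⟩)⟩)
  have hdk : d k = i := by rw [← hk]; rfl
  have hdl : d l = i := by rw [← hl]; rfl
  have h2 : epsP d K (JC.emb d hd ⟨i, (⟨k, hk⟩, ⟨l, hl⟩)⟩) = (-1) ^ ((i : ℕ) - 1) := by
    show (-1 : K) ^ (min (d k) (d l) - 1 - 0) = _
    rw [hdk, hdl, min_self, Nat.sub_zero]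
  have h3 : swapP d (JC.emb d hd ⟨i, (⟨k, hk⟩, ⟨l, hl⟩)⟩) =
      JC.emb d hd ⟨i, (⟨l, hl⟩, ⟨k, hk⟩)⟩ := rfl
  rw [h2, h3] at h1
  have h4 : ((-1 : K) ^ ((i : ℕ) - 1)) * (-1) ^ ((i : ℕ) - 1) = 1 := by
    rw [← pow_add, ← two_mul, pow_mul]; simp
  calc c (JC.emb d hd ⟨i, (⟨l, hl⟩, ⟨k, hk⟩)⟩)
      = ((-1 : K) ^ ((i : ℕ) - 1) * (-1) ^ ((i : ℕ) - 1)) *
        c (JC.emb d hd ⟨i, (⟨l, hl⟩, ⟨k, hk⟩)⟩) := by rw [h4, one_mul]
    _ = (-1 : K) ^ ((i : ℕ) - 1) * ((-1) ^ ((i : ℕ) - 1) *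
        c (JC.emb d hd ⟨i, (⟨l, hl⟩, ⟨k, hk⟩)⟩)) := by ring
    _ = -(-1 : K) ^ ((i : ℕ) - 1) * c (JC.emb d hd ⟨i, (⟨k, hk⟩, ⟨l, hl⟩)⟩) := by
        rw [h1]; ring

/-- equivalent forms have congruent diagonal blocks -/
theorem blk_of_rel (hd : ∀ k, 1 ≤ d k) {g y y' : Matrix (JC.Idx d) (JC.Idx d) K}
    (hg : Comm d g) (hy : Comm d y)
    (h : gᵀ * (G0 d K * y) * g = G0 d K * y') (i : Fin (Finset.univ.sup d + 1)) :
    (blk d i g)ᵀ * blk d i y * blk d i g = blk d i y' := by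
  have h1 : G0 d K * (gs d g * y * g) = G0 d K * y' := by
    rw [← h, ← mul_assoc, ← mul_assoc, G0_mul_gs]
    simp only [mul_assoc]
  have h2 : gs d g * y * g = y' := by
    have := congrArg (fun M => G0' d K * M) h1
    simp only [← mul_assoc, G0'_mul_G0, one_mul] at this
    exact this
  rw [← h2, blk_mul d hd i ((gs_comm d hg).mul hy) hg, blk_mul d hd i (gs_comm d hg) hy,
    blk_gs d hd i hg]

section Lift

variable (p : ℕ) [Fact p.Prime] [CharP K p]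

theorem pow_char_eq_one_of_nilpotent {ι : Type*} [Fintype ι] [DecidableEq ι]
    (z : Matrix ι ι K) (hz : IsNilpotent (z - 1)) : ∃ k : ℕ, z ^ (p ^ k) = 1 := by
  rcases isEmpty_or_nonempty ι with hι | hι
  · exact ⟨0, Subsingleton.elim _ _⟩
  · have hp : p.Prime := Fact.out
    obtain ⟨n, hn⟩ := hz
    have hle : n ≤ p ^ n := (Nat.lt_pow_self hp.one_lt).le
    have h1 : (z - 1) ^ p ^ n = 0 := by
      obtain ⟨e, he⟩ := Nat.exists_eq_add_of_le hle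
      rw [he, pow_add, hn, zero_mul]
    rw [sub_pow_char_pow_of_commute p n (Commute.one_right _), one_pow, sub_eq_zero] at h1
    exact ⟨n, h1⟩

/-- congruent diagonal blocks give equivalent forms (odd characteristic) -/
theorem exists_rel_of_blk (hp2 : p ≠ 2) (hd : ∀ k, 1 ≤ d k)
    {y y' : Matrix (JC.Idx d) (JC.Idx d) K} (hy : Comm d y) (hy' : Comm d y')
    (hyU : IsUnit y) (hyU' : IsUnit y') (hs : (G0 d K * y)ᵀ = -(G0 d K * y))
    (hs' : (G0 d K * y')ᵀ = -(G0 d K * y'))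
    (h : ∀ i : Fin (Finset.univ.sup d + 1),
      ∃ hh : Matrix {k // JC.dF d k = i} {k // JC.dF d k = i} K,
        IsUnit hh ∧ hhᵀ * blk d i y * hh = blk d i y') :
    ∃ g : Matrix (JC.Idx d) (JC.Idx d) K, IsUnit g ∧ Comm d g ∧
      gᵀ * (G0 d K * y) * g = G0 d K * y' := by
  classical
  have hp : p.Prime := Fact.out
  choose hh hhU hhE using h
  -- step 1: the lift of the block matrices
  let c₀ : JC.Pos d → K := fun q =>
    if hq : ∃ x, JC.emb d hd x = q then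
      hh (Classical.choose hq).1 (Classical.choose hq).2.1 (Classical.choose hq).2.2 else 0
  have hc₀ : ∀ x, c₀ (JC.emb d hd x) = hh x.1 x.2.1 x.2.2 := by
    intro x
    have hq : ∃ x', JC.emb d hd x' = JC.emb d hd x := ⟨x, rfl⟩
    have hx : Classical.choose hq = x := JC.emb_injective d hd (Classical.choose_spec hq)
    show (if hq : ∃ x', JC.emb d hd x' = JC.emb d hd x then
      hh (Classical.choose hq).1 (Classical.choose hq).2.1 (Classical.choose hq).2.2 else 0) = _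
    rw [dif_pos hq, hx]
  set g₀ := JC.Mc d c₀ with hg₀
  have hg₀C : Comm d g₀ := JC.Mc_comm d c₀
  have hblk₀ : ∀ i, blk d i g₀ = hh i := by
    intro i
    rw [hg₀, blk_Mc d hd]
    ext k l
    exact hc₀ ⟨i, (k, l)⟩
  have hg₀U : IsUnit g₀ := by
    rw [hg₀, JC.isUnit_Mc_iff d hd]
    intro i
    have : (Matrix.of fun (k l : {k // JC.dF d k = i}) => c₀ (JC.emb d hd ⟨i, (k, l)⟩)) = hh i := by
      ext k l
      exact hc₀ ⟨i, (k, l)⟩
    rw [this]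
    exact (Matrix.isUnit_iff_isUnit_det _).1 (hhU i)
  -- step 2
  set y₁ := gs d g₀ * y * g₀ with hy₁
  have hy₁C : Comm d y₁ := ((gs_comm d hg₀C).mul hy).mul hg₀C
  have hG0y₁ : G0 d K * y₁ = g₀ᵀ * (G0 d K * y) * g₀ := by
    rw [hy₁, ← mul_assoc, ← mul_assoc, G0_mul_gs]
    simp only [mul_assoc]
  have hgsU : IsUnit (gs d g₀) := by
    unfold gs
    have hG' : IsUnit (G0' d K) := ⟨⟨G0' d K, G0 d K, G0'_mul_G0 d, G0_mul_G0' d⟩, rfl⟩
    have hT : IsUnit g₀ᵀ := by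
      rw [Matrix.isUnit_iff_isUnit_det] at hg₀U ⊢
      rw [Matrix.det_transpose]; exact hg₀U
    exact (hG'.mul hT).mul (isUnit_G0 d)
  have hy₁U : IsUnit y₁ := (hgsU.mul hyU).mul hg₀U
  have hblk₁ : ∀ i, blk d i y₁ = blk d i y' := by
    intro i
    rw [hy₁, blk_mul d hd i ((gs_comm d hg₀C).mul hy) hg₀C, blk_mul d hd i (gs_comm d hg₀C) hy,
      blk_gs d hd i hg₀C, hblk₀, hhE]
  -- step 3
  obtain ⟨y₁u, hy₁u⟩ := hy₁U
  set y₁i : Matrix (JC.Idx d) (JC.Idx d) K :=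
    ((y₁u⁻¹ : (Matrix (JC.Idx d) (JC.Idx d) K)ˣ) : Matrix (JC.Idx d) (JC.Idx d) K) with hy₁i
  have h11 : y₁ * y₁i = 1 := by rw [← hy₁u]; exact Units.mul_inv _
  have h12 : y₁i * y₁ = 1 := by rw [← hy₁u]; exact Units.inv_mul _
  have hy₁iC : Comm d y₁i := hy₁C.of_inv h11 h12
  set z := y₁i * y' with hz
  have hzC : Comm d z := hy₁iC.mul hy'
  have hzU : IsUnit z := (IsUnit.of_mul_eq_one _ h12).mul hyU'
  have hblkz : ∀ i, blk d i (z - 1) = 0 := by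
    intro i
    rw [blk_sub, hz, blk_mul d hd i hy₁iC hy', ← hblk₁ i, ← blk_mul d hd i hy₁iC hy₁C, h12,
      sub_self]
  have hnil : IsNilpotent (z - 1) :=
    isNilpotent_of_blk_eq_zero d hd (hzC.sub Comm.one) hblkz
  obtain ⟨k, hk⟩ := pow_char_eq_one_of_nilpotent p z hnil
  have hodd : Odd (p ^ k) := (hp.odd_of_ne_two hp2).pow
  obtain ⟨r, hr⟩ := hodd
  -- step 4
  set g₁ := z ^ (r + 1) with hg₁
  have hg₁sq : g₁ * g₁ = z := by
    rw [hg₁, ← pow_add]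
    have : r + 1 + (r + 1) = p ^ k + 1 := by omega
    rw [this, pow_succ, hk, one_mul]
  set Ψ₁ := G0 d K * y₁ with hΨ₁
  have hΨ₁z : Ψ₁ * z = G0 d K * y' := by
    rw [hΨ₁, hz, mul_assoc, ← mul_assoc y₁, h11, one_mul]
  have hΨ₁s : Ψ₁ᵀ = -Ψ₁ := by
    rw [hG0y₁, transpose_mul, transpose_mul, transpose_transpose, hs]
    simp only [mul_assoc, Matrix.neg_mul, Matrix.mul_neg]
  have hzΨ : zᵀ * Ψ₁ = Ψ₁ * z := by
    have h1 : (Ψ₁ * z)ᵀ = -(Ψ₁ * z) := by rw [hΨ₁z]; exact hs'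
    rw [transpose_mul, hΨ₁s, Matrix.mul_neg, neg_inj] at h1
    exact h1
  have hpowΨ : ∀ j : ℕ, (z ^ j)ᵀ * Ψ₁ = Ψ₁ * z ^ j := by
    intro j
    induction j with
    | zero => simp
    | succ j ih =>
      calc (z ^ (j + 1))ᵀ * Ψ₁ = (z ^ j)ᵀ * (zᵀ * Ψ₁) := by
            rw [pow_succ', transpose_mul, mul_assoc]
        _ = ((z ^ j)ᵀ * Ψ₁) * z := by rw [hzΨ, ← mul_assoc]
        _ = Ψ₁ * z ^ (j + 1) := by rw [ih, mul_assoc, ← pow_succ]
  refine ⟨g₀ * g₁, hg₀U.mul (hzU.pow _), hg₀C.mul (hzC.pow _), ?_⟩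
  calc (g₀ * g₁)ᵀ * (G0 d K * y) * (g₀ * g₁)
      = g₁ᵀ * (g₀ᵀ * (G0 d K * y) * g₀) * g₁ := by
        simp only [transpose_mul, mul_assoc]
    _ = g₁ᵀ * Ψ₁ * g₁ := by rw [← hG0y₁]
    _ = Ψ₁ * (g₁ * g₁) := by rw [hg₁, hpowΨ]; simp only [mul_assoc]
    _ = G0 d K * y' := by rw [hg₁sq, hΨ₁z]

end Lift

end Cfsg.Agent.Helper44.SPU
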