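import Mathlib
import Cfsg.Agent.Lib.Helper13.SymCong

/-!
# Congruence of invertible skew / symmetric matrices on an arbitrary finite index type
-/

set_option autoImplicit false
set_option linter.unusedSectionVars false

namespace Cfsg.Agent.Helper44.SPU

open Matrix

variable {F : Type*} [Field F] {κ : Type*} [Fintype κ] [DecidableEq κ]

/-- transporting a congruence on `Fin n` back to `κ` -/
theorem cong_of_reindex {n : ℕ} (ε : κ ≃ Fin n) (B B' : Matrix κ κ F)
    (h : ∃ h : Matrix (Fin n) (Fin n) F, h.det ≠ 0 ∧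
      h * Matrix.reindex ε ε B * hᵀ = Matrix.reindex ε ε B') :
    ∃ hh : Matrix κ κ F, IsUnit hh ∧ hhᵀ * B * hh = B' := by
  obtain ⟨h, hdet, he⟩ := h
  refine ⟨(Matrix.reindex ε.symm ε.symm h)ᵀ, ?_, ?_⟩
  · rw [Matrix.isUnit_iff_isUnit_det, Matrix.det_transpose, Matrix.det_reindex_self]
    exact isUnit_iff_ne_zero.2 hdet
  · rw [Matrix.transpose_transpose]
    have h1 := congrArg (Matrix.reindex ε.symm ε.symm) he
    have e1 : Matrix.reindex ε.symm ε.symm (h * Matrix.reindex ε ε B * hᵀ) =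
        Matrix.reindex ε.symm ε.symm h * B * (Matrix.reindex ε.symm ε.symm h)ᵀ := by
      simp only [Matrix.reindex_apply, Equiv.symm_symm]
      rw [← Matrix.submatrix_mul_equiv _ _ ε ε ε, ← Matrix.submatrix_mul_equiv _ _ ε ε ε,
        Matrix.transpose_submatrix]
      congr 2
      ext i j
      simp
    have e2 : Matrix.reindex ε.symm ε.symm (Matrix.reindex ε ε B') = B' := by
      ext i j
      simp [Matrix.reindex_apply]
    rw [e1, e2] at h1
    exact h1

theorem even_card_of_skew (h2 : (2 : F) ≠ 0) (B : Matrix κ κ F) (hB : Bᵀ = -B)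
    (hU : IsUnit B) : Even (Fintype.card κ) := by
  have hdet : B.det ≠ 0 := ((Matrix.isUnit_iff_isUnit_det _).1 hU).ne_zero
  have h1 : B.det = (-1) ^ Fintype.card κ * B.det := by
    conv_lhs => rw [← Matrix.det_transpose, hB, Matrix.det_neg]
  by_contra hodd
  rw [Nat.not_even_iff_odd] at hodd
  rw [hodd.neg_one_pow] at h1
  have h3 : (2 : F) * B.det = 0 := by linear_combination h1
  rcases mul_eq_zero.1 h3 with h4 | h4
  · exact h2 h4
  · exact hdet h4

/-- any two invertible skew matrices are congruent -/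
theorem skew_cong (h2 : (2 : F) ≠ 0) (B B' : Matrix κ κ F) (hB : Bᵀ = -B) (hB' : B'ᵀ = -B')
    (hU : IsUnit B) (hU' : IsUnit B') :
    ∃ hh : Matrix κ κ F, IsUnit hh ∧ hhᵀ * B * hh = B' := by
  classical
  obtain ⟨m', hm'⟩ := even_card_of_skew h2 B hB hU
  set n := Fintype.card κ with hn
  let ε : κ ≃ Fin n := Fintype.equivFin κ
  have σ : Fin n ≃ Fin m' ⊕ Fin m' := by
    apply Fintype.equivOfCardEq
    rw [Fintype.card_sum, Fintype.card_fin, Fintype.card_fin, hm']
  have hskew : ∀ M : Matrix κ κ F, Mᵀ = -M → (Matrix.reindex ε ε M)ᵀ = -Matrix.reindex ε ε M := by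
    intro M hM
    ext i j
    have := congrFun (congrFun hM (ε.symm i)) (ε.symm j)
    simpa [Matrix.reindex_apply] using this
  have hdet : ∀ M : Matrix κ κ F, IsUnit M → (Matrix.reindex ε ε M).det ≠ 0 := by
    intro M hM
    rw [Matrix.det_reindex_self]
    exact ((Matrix.isUnit_iff_isUnit_det _).1 hM).ne_zero
  obtain ⟨h₁, hd₁, e₁⟩ := Cfsg.Agent.Helper13.SymCong.skew_normal_form h2 σ _ (hskew B hB)
    (hdet B hU)
  obtain ⟨h₂, hd₂, e₂⟩ := Cfsg.Agent.Helper13.SymCong.skew_normal_form h2 σ _ (hskew B' hB')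
    (hdet B' hU')
  apply cong_of_reindex ε
  have hu : IsUnit h₂.det := isUnit_iff_ne_zero.mpr hd₂
  have hinv : h₂⁻¹ * h₂ = 1 := Matrix.nonsing_inv_mul _ hu
  have hinvT : h₂ᵀ * (h₂⁻¹)ᵀ = 1 := by rw [← Matrix.transpose_mul, hinv, Matrix.transpose_one]
  refine ⟨h₂⁻¹ * h₁, ?_, ?_⟩
  · rw [Matrix.det_mul]
    apply mul_ne_zero _ hd₁
    rw [Matrix.det_nonsing_inv, Ring.inverse_eq_inv']
    exact inv_ne_zero hd₂
  · calc h₂⁻¹ * h₁ * Matrix.reindex ε ε B * (h₂⁻¹ * h₁)ᵀ
        = h₂⁻¹ * (h₁ * Matrix.reindex ε ε B * h₁ᵀ) * (h₂⁻¹)ᵀ := by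
          simp only [Matrix.transpose_mul, Matrix.mul_assoc]
      _ = h₂⁻¹ * (h₂ * Matrix.reindex ε ε B' * h₂ᵀ) * (h₂⁻¹)ᵀ := by rw [e₁, e₂]
      _ = (h₂⁻¹ * h₂) * Matrix.reindex ε ε B' * (h₂ᵀ * (h₂⁻¹)ᵀ) := by
          simp only [Matrix.mul_assoc]
      _ = Matrix.reindex ε ε B' := by rw [hinv, hinvT, Matrix.one_mul, Matrix.mul_one]

/-- invertible symmetric matrices with determinants in the same square class are congruent -/
theorem sym_cong' [Fintype F] (hodd : Odd (Fintype.card F)) (h2 : (2 : F) ≠ 0)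
    (B B' : Matrix κ κ F) (hB : Bᵀ = B) (hB' : B'ᵀ = B') (hU : IsUnit B) (hU' : IsUnit B')
    (hsq : IsSquare (B.det * B'.det)) :
    ∃ hh : Matrix κ κ F, IsUnit hh ∧ hhᵀ * B * hh = B' := by
  classical
  rcases Nat.eq_zero_or_pos (Fintype.card κ) with h0 | hpos
  · have : IsEmpty κ := Fintype.card_eq_zero_iff.1 h0
    exact ⟨1, isUnit_one, Subsingleton.elim _ _⟩
  · obtain ⟨k, hk⟩ : ∃ k, Fintype.card κ = k + 1 := ⟨Fintype.card κ - 1, by omega⟩
    let ε : κ ≃ Fin (k + 1) := (Fintype.equivFin κ).trans (finCongr hk)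
    apply cong_of_reindex ε
    have hsym : ∀ M : Matrix κ κ F, Mᵀ = M → (Matrix.reindex ε ε M)ᵀ = Matrix.reindex ε ε M := by
      intro M hM
      ext i j
      have := congrFun (congrFun hM (ε.symm i)) (ε.symm j)
      simpa [Matrix.reindex_apply] using this
    have hdet : ∀ M : Matrix κ κ F, IsUnit M → (Matrix.reindex ε ε M).det ≠ 0 := by
      intro M hM
      rw [Matrix.det_reindex_self]
      exact ((Matrix.isUnit_iff_isUnit_det _).1 hM).ne_zero
    exact Cfsg.Agent.Helper13.SymCong.sym_cong hodd h2 k _ _ (hsym B hB) (hsym B' hB')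
      (hdet B hU) (hdet B' hU') (by rw [Matrix.det_reindex_self, Matrix.det_reindex_self]; exact hsq)

/-- congruent matrices have determinants in the same square class -/
theorem isSquare_det_of_cong {B B' hh : Matrix κ κ F} (hU : IsUnit hh)
    (h : hhᵀ * B * hh = B') : IsSquare B'.det ↔ IsSquare B.det := by
  have hd : hh.det ≠ 0 := ((Matrix.isUnit_iff_isUnit_det _).1 hU).ne_zero
  have e : B'.det = hh.det * hh.det * B.det := by
    rw [← h, Matrix.det_mul, Matrix.det_mul, Matrix.det_transpose]; ring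
  rw [e]
  constructor
  · rintro ⟨r, hr⟩
    refine ⟨r / hh.det, ?_⟩
    field_simp
    linear_combination hr
  · rintro ⟨r, hr⟩
    exact ⟨hh.det * r, by rw [hr]; ring⟩

end Cfsg.Agent.Helper44.SPU
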