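import Mathlib
import Cfsg.Agent.Lib.Helper44.GUCc
import Cfsg.Agent.Lib.Helper44.SPUc
import Cfsg.Agent.Lib.Helper44.SPUe
import Cfsg.Agent.Lib.Helper44.SPUf

/-!
# Invariant skew forms of the Cayley representative and their classification
-/

set_option autoImplicit false
set_option linter.unusedSectionVars false

namespace Cfsg.Agent.Helper44.SPU

open Matrix Cfsg.Agent.Helper43 Cfsg.Agent.Helper44.GUC

universe u

variable {F : Type u} [Field F] {t : ℕ} (d : Fin t → ℕ)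

theorem starM_id {ι : Type*} (M : Matrix ι ι F) : UnitaryConj.starM (RingHom.id F) M = Mᵀ := by
  ext i j
  simp [UnitaryConj.starM]

/-- the Cayley representative with `λ = μ = 1/2` -/
noncomputable def cayH : Matrix (JC.Idx d) (JC.Idx d) F := cay d (2 : F)⁻¹ (2 : F)⁻¹

theorem half_add_half (h2 : (2 : F) ≠ 0) : (2 : F)⁻¹ + (2 : F)⁻¹ = 1 := by
  field_simp
  norm_num

theorem cayH_invariant_iff (h2 : (2 : F) ≠ 0) (Ψ : Matrix (JC.Idx d) (JC.Idx d) F) :
    (cayH d)ᵀ * Ψ * cayH d = Ψ ↔ Comm d (G0' d F * Ψ) := by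
  have h := cay_invariant_iff d (RingHom.id F) (fun _ => rfl) (2 : F)⁻¹ (half_add_half h2) Ψ
  rw [starM_id, starM_id] at h
  have h' := skew_iff d (RingHom.id F) Ψ
  rw [starM_id] at h'
  exact h.trans h'

theorem comm_cayH_iff (h2 : (2 : F) ≠ 0) (g : Matrix (JC.Idx d) (JC.Idx d) F) :
    g * cayH d = cayH d * g ↔ Comm d g := by
  set N := JC.Nm d F with hN
  set B : Matrix (JC.Idx d) (JC.Idx d) F := ((cayB d (2 : F)⁻¹ :
    (Matrix (JC.Idx d) (JC.Idx d) F)ˣ) : Matrix (JC.Idx d) (JC.Idx d) F) with hB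
  set Bi : Matrix (JC.Idx d) (JC.Idx d) F := (((cayB d (2 : F)⁻¹)⁻¹ :
    (Matrix (JC.Idx d) (JC.Idx d) F)ˣ) : Matrix (JC.Idx d) (JC.Idx d) F) with hBi
  have hBBi : B * Bi = 1 := Units.mul_inv _
  have hBv : B = 1 - (2 : F)⁻¹ • N := cayB_val d _
  have hcay : cayH d = (1 + (2 : F)⁻¹ • N) * Bi := rfl
  constructor
  · intro h
    have hc : Commute g (cayH d) := h
    -- Bi = 2⁻¹ cay + 2⁻¹
    have hBi' : Bi = (2 : F)⁻¹ • cayH d + (2 : F)⁻¹ • (1 : Matrix (JC.Idx d) (JC.Idx d) F) := by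
      have e1 : (2 : F)⁻¹ • (1 + (2 : F)⁻¹ • N) + (2 : F)⁻¹ • B = 1 := by
        rw [hBv, smul_add, smul_sub]
        calc (2 : F)⁻¹ • (1 : Matrix (JC.Idx d) (JC.Idx d) F) + (2 : F)⁻¹ • (2 : F)⁻¹ • N +
              ((2 : F)⁻¹ • (1 : Matrix (JC.Idx d) (JC.Idx d) F) - (2 : F)⁻¹ • (2 : F)⁻¹ • N)
            = ((2 : F)⁻¹ + (2 : F)⁻¹) • (1 : Matrix (JC.Idx d) (JC.Idx d) F) := by
              rw [add_smul]; abel
          _ = 1 := by rw [half_add_half h2, one_smul]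
      calc Bi = ((2 : F)⁻¹ • (1 + (2 : F)⁻¹ • N) + (2 : F)⁻¹ • B) * Bi := by rw [e1, one_mul]
        _ = (2 : F)⁻¹ • cayH d + (2 : F)⁻¹ • 1 := by
            rw [add_mul, smul_mul_assoc, smul_mul_assoc, hBBi, hcay]
    have hcBi : Commute g Bi := by
      rw [hBi']
      exact (hc.smul_right _).add_right ((Commute.one_right g).smul_right _)
    have hcB : Commute g B := by
      have := hcBi.units_inv_right (u := (cayB d (2 : F)⁻¹)⁻¹)
      rwa [inv_inv] at this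
    have hNe : N = (2 : F) • (1 - B) := by
      rw [hBv, sub_sub_cancel, smul_smul, mul_inv_cancel₀ h2, one_smul]
    show g * N = N * g
    have : Commute g N := by
      rw [hNe]
      exact ((Commute.one_right g).sub_right hcB).smul_right _
    exact this
  · intro h
    have hc : Commute g N := h
    have hcA : Commute g (1 + (2 : F)⁻¹ • N) :=
      (Commute.one_right g).add_right (hc.smul_right _)
    have hcB : Commute g B := by
      rw [hBv]
      exact (Commute.one_right g).sub_right (hc.smul_right _)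
    have hcBi : Commute g Bi := hcB.units_inv_right
    show Commute g (cayH d)
    rw [hcay]
    exact hcA.mul_right hcBi

theorem mem_altInv_cayH_iff (h2 : (2 : F) ≠ 0) (Ψ : Matrix (JC.Idx d) (JC.Idx d) F) :
    Ψ ∈ AltInv (cayH d) ↔ IsUnit Ψ ∧ Ψᵀ = -Ψ ∧ Comm d (G0' d F * Ψ) := by
  unfold AltInv
  show IsUnit Ψ ∧ Ψᵀ = -Ψ ∧ (cayH d)ᵀ * Ψ * cayH d = Ψ ↔ _
  rw [cayH_invariant_iff d h2]

theorem rel_cayH_iff (h2 : (2 : F) ≠ 0) (Ψ Ψ' : Matrix (JC.Idx d) (JC.Idx d) F) :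
    Rel (cayH d) Ψ Ψ' ↔ ∃ g : Matrix (JC.Idx d) (JC.Idx d) F, IsUnit g ∧ Comm d g ∧
      gᵀ * Ψ * g = Ψ' := by
  unfold Rel
  constructor
  · rintro ⟨g, h1, h2', h3⟩
    exact ⟨g, h1, (comm_cayH_iff d h2 g).1 h2', h3⟩
  · rintro ⟨g, h1, h2', h3⟩
    exact ⟨g, h1, (comm_cayH_iff d h2 g).2 h2', h3⟩

end Cfsg.Agent.Helper44.SPU
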