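import Mathlib
import Cfsg.Agent.Lib.Helper44.SPUg

/-!
# The discriminant invariant of an invariant skew form and the count of symplectic classes of a
given Jordan type
-/

set_option autoImplicit false
set_option linter.unusedSectionVars false

namespace Cfsg.Agent.Helper44.SPU

open Matrix Cfsg.Agent.Helper43 Cfsg.Agent.Helper44.GUC

universe u

variable {F : Type u} [Field F] {t : ℕ} (d : Fin t → ℕ)

/-- even block sizes that occur -/
abbrev EvenIdx : Type :=
  {i : Fin (Finset.univ.sup d + 1) // Even (i : ℕ) ∧ Nonempty {k // JC.dF d k = i}}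

open Classical in
/-- the discriminant invariant -/
noncomputable def invH (Ψ : ↥(AltInv (cayH (F := F) d))) : EvenIdx d → Bool :=
  fun i => decide (IsSquare (blk d i.1 (G0' d F * Ψ.1)).det)

/-- data attached to an invariant form -/
theorem altInv_data (h2 : (2 : F) ≠ 0) {Ψ : Matrix (JC.Idx d) (JC.Idx d) F}
    (hΨ : Ψ ∈ AltInv (cayH d)) :
    Comm d (G0' d F * Ψ) ∧ IsUnit (G0' d F * Ψ) ∧ G0 d F * (G0' d F * Ψ) = Ψ ∧
      (G0 d F * (G0' d F * Ψ))ᵀ = -(G0 d F * (G0' d F * Ψ)) := by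
  obtain ⟨h1, h2', h3⟩ := (mem_altInv_cayH_iff d h2 Ψ).1 hΨ
  have hG : IsUnit (G0' d F) := ⟨⟨G0' d F, G0 d F, G0'_mul_G0 d, G0_mul_G0' d⟩, rfl⟩
  have e : G0 d F * (G0' d F * Ψ) = Ψ := by rw [← mul_assoc, G0_mul_G0', one_mul]
  exact ⟨h3, hG.mul h1, e, by rw [e]; exact h2'⟩

/-- symmetry type of the blocks of an invariant form -/
theorem blk_type (h2 : (2 : F) ≠ 0) (hd : ∀ k, 1 ≤ d k) {Ψ : Matrix (JC.Idx d) (JC.Idx d) F}
    (hΨ : Ψ ∈ AltInv (cayH d)) (i : Fin (Finset.univ.sup d + 1)) :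
    (blk d i (G0' d F * Ψ))ᵀ = (-(-1 : F) ^ ((i : ℕ) - 1)) • blk d i (G0' d F * Ψ) := by
  obtain ⟨hC, hU, he, hs⟩ := altInv_data d h2 hΨ
  have hMc : JC.Mc d (JC.par d (G0' d F * Ψ)) = G0' d F * Ψ := JC.Mc_par d hC
  have hPsi : Psi d (JC.par d (G0' d F * Ψ)) = G0 d F * (G0' d F * Ψ) := by
    unfold Psi; rw [hMc]
  have := blk_transpose d hd (JC.par d (G0' d F * Ψ)) (by rw [hPsi]; exact hs) i
  rwa [hMc] at this

section Complete

variable (p : ℕ) [Fact p.Prime] [CharP F p] [Fintype F]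

theorem invH_eq_iff (hp2 : p ≠ 2) (hd : ∀ k, 1 ≤ d k) (Ψ Ψ' : ↥(AltInv (cayH (F := F) d))) :
    invH d Ψ = invH d Ψ' ↔ Rel (cayH d) Ψ.1 Ψ'.1 := by
  classical
  have hp : p.Prime := Fact.out
  have h2 : (2 : F) ≠ 0 := by
    intro h
    have h' : ((2 : ℕ) : F) = 0 := by exact_mod_cast h
    rw [CharP.cast_eq_zero_iff F p] at h'
    have := (Nat.prime_dvd_prime_iff_eq hp Nat.prime_two).1 h'
    exact hp2 this
  have hodd : Odd (Fintype.card F) := by
    obtain ⟨n, _, hn⟩ := FiniteField.card F p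
    rw [hn]
    exact (hp.odd_of_ne_two hp2).pow
  obtain ⟨hC, hU, he, hs⟩ := altInv_data d h2 Ψ.2
  obtain ⟨hC', hU', he', hs'⟩ := altInv_data d h2 Ψ'.2
  rw [rel_cayH_iff d h2]
  constructor
  · intro h
    have hblocks : ∀ i : Fin (Finset.univ.sup d + 1),
        ∃ hh : Matrix {k // JC.dF d k = i} {k // JC.dF d k = i} F,
          IsUnit hh ∧ hhᵀ * blk d i (G0' d F * Ψ.1) * hh = blk d i (G0' d F * Ψ'.1) := by
      intro i
      have hB := blk_type d h2 hd Ψ.2 i
      have hB' := blk_type d h2 hd Ψ'.2 i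
      have hBU := isUnit_blk d hd i hC hU
      have hBU' := isUnit_blk d hd i hC' hU'
      rcases isEmpty_or_nonempty {k // JC.dF d k = i} with hemp | hne
      · exact ⟨1, isUnit_one, Subsingleton.elim _ _⟩
      · have hi1 : 1 ≤ (i : ℕ) := by
          obtain ⟨⟨k, hk⟩⟩ := hne
          have : d k = i := by rw [← hk]; rfl
          rw [← this]; exact hd k
        rcases Nat.even_or_odd (i : ℕ) with hev | hod
        · have hsign : (-(-1 : F) ^ ((i : ℕ) - 1)) = 1 := by
            have : Odd ((i : ℕ) - 1) := by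
              obtain ⟨r, hr⟩ := hev
              exact ⟨r - 1, by omega⟩
            rw [this.neg_one_pow, neg_neg]
          rw [hsign, one_smul] at hB hB'
          have hsq : IsSquare ((blk d i (G0' d F * Ψ.1)).det * (blk d i (G0' d F * Ψ'.1)).det) := by
            have h1 := congrFun h ⟨i, hev, hne⟩
            simp only [invH, decide_eq_decide] at h1
            by_cases hsq1 : IsSquare (blk d i (G0' d F * Ψ.1)).det
            · exact hsq1.mul (h1.1 hsq1)
            · exact Cfsg.Agent.Helper13.SymCong.isSquare_mul_of_not hsq1 (fun h' => hsq1 (h1.2 h'))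
          exact sym_cong' hodd h2 _ _ hB hB' hBU hBU' hsq
        · have hsign : (-(-1 : F) ^ ((i : ℕ) - 1)) = -1 := by
            have : Even ((i : ℕ) - 1) := by
              obtain ⟨r, hr⟩ := hod
              exact ⟨r, by omega⟩
            rw [this.neg_one_pow]
          rw [hsign, neg_one_smul] at hB hB'
          exact skew_cong h2 _ _ hB hB' hBU hBU'
    obtain ⟨g, hgU, hgC, hg⟩ := exists_rel_of_blk d p hp2 hd hC hC' hU hU' hs hs' hblocks
    rw [he, he'] at hg
    exact ⟨g, hgU, hgC, hg⟩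
  · rintro ⟨g, hgU, hgC, hg⟩
    funext ⟨i, hev, hne⟩
    simp only [invH, decide_eq_decide]
    have h1 : gᵀ * (G0 d F * (G0' d F * Ψ.1)) * g = G0 d F * (G0' d F * Ψ'.1) := by
      rw [he, he']; exact hg
    have h3 := blk_of_rel d hd hgC hC h1 i
    exact (isSquare_det_of_cong (isUnit_blk d hd i hgC hgU) h3).symm

end Complete

end Cfsg.Agent.Helper44.SPU
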