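import Mathlib
import Cfsg.Agent.Lib.Helper44.SPUh

/-!
# All discriminant patterns occur; the number of symplectic classes of a given Jordan type
-/

set_option autoImplicit false
set_option linter.unusedSectionVars false

namespace Cfsg.Agent.Helper44.SPU

open Matrix Cfsg.Agent.Helper43 Cfsg.Agent.Helper44.GUC

universe u

variable {F : Type u} [Field F] {t : ℕ} (d : Fin t → ℕ)

theorem exists_block (hd : ∀ k, 1 ≤ d k) (ν : F) (hν : ¬ IsSquare ν)
    (i : Fin (Finset.univ.sup d + 1)) (b : Bool)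
    (hpar : Odd (i : ℕ) → Even (Fintype.card {k // JC.dF d k = i})) :
    ∃ B : Matrix {k // JC.dF d k = i} {k // JC.dF d k = i} F, IsUnit B ∧
      Bᵀ = (-(-1 : F) ^ ((i : ℕ) - 1)) • B ∧
      (Even (i : ℕ) → Nonempty {k // JC.dF d k = i} → (IsSquare B.det ↔ b = true)) := by
  classical
  have hν0 : ν ≠ 0 := by
    rintro rfl
    exact hν ⟨0, by simp⟩
  rcases isEmpty_or_nonempty {k // JC.dF d k = i} with hemp | hne
  · exact ⟨1, isUnit_one, Subsingleton.elim _ _, fun _ h => absurd h (not_nonempty_iff.2 hemp)⟩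
  · obtain ⟨k₀⟩ := hne
    have hi1 : 1 ≤ (i : ℕ) := by
      have : d k₀.1 = (i : ℕ) := congrArg Fin.val k₀.2
      rw [← this]; exact hd k₀.1
    rcases Nat.even_or_odd (i : ℕ) with hev | hod
    · have hsign : (-(-1 : F) ^ ((i : ℕ) - 1)) = 1 := by
        have : Odd ((i : ℕ) - 1) := by
          obtain ⟨r, hr⟩ := hev
          exact ⟨r - 1, by omega⟩
        rw [this.neg_one_pow, neg_neg]
      set δ : F := if b = true then 1 else ν with hδ
      have hδ0 : δ ≠ 0 := by
        rw [hδ]; split_ifs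
        · exact one_ne_zero
        · exact hν0
      have hdet : (Matrix.diagonal (fun k : {k // JC.dF d k = i} =>
          if k = k₀ then δ else 1)).det = δ := by
        rw [Matrix.det_diagonal, Finset.prod_ite_eq' Finset.univ k₀ (fun _ => δ)]
        simp
      refine ⟨Matrix.diagonal (fun k => if k = k₀ then δ else 1), ?_, ?_, ?_⟩
      · rw [Matrix.isUnit_iff_isUnit_det, hdet]
        exact isUnit_iff_ne_zero.2 hδ0
      · rw [hsign, one_smul, Matrix.diagonal_transpose]
      · intro _ _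
        rw [hdet, hδ]
        by_cases hb : b = true
        · rw [if_pos hb]
          exact ⟨fun _ => hb, fun _ => ⟨1, by simp⟩⟩
        · rw [if_neg hb]
          exact ⟨fun h => absurd h hν, fun h => absurd h hb⟩
    · have hsign : (-(-1 : F) ^ ((i : ℕ) - 1)) = -1 := by
        have : Even ((i : ℕ) - 1) := by
          obtain ⟨r, hr⟩ := hod
          exact ⟨r, by omega⟩
        rw [this.neg_one_pow]
      obtain ⟨m', hm'⟩ := hpar hod
      have σ : {k // JC.dF d k = i} ≃ Fin m' ⊕ Fin m' := by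
        apply Fintype.equivOfCardEq
        rw [Fintype.card_sum, Fintype.card_fin, hm']
      refine ⟨(J (Fin m') F).submatrix σ σ, ?_, ?_, ?_⟩
      · rw [Matrix.isUnit_iff_isUnit_det, Matrix.det_submatrix_equiv_self]
        exact isUnit_det_J (Fin m') F
      · rw [hsign, neg_one_smul, Matrix.transpose_submatrix, J_transpose]
        rfl
      · intro hev
        exact absurd hev (Nat.not_even_iff_odd.2 hod)

section Range

variable (p : ℕ) [Fact p.Prime] [CharP F p] [Fintype F]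

theorem range_invH (hp2 : p ≠ 2) (hd : ∀ k, 1 ≤ d k)
    (hpar : ∀ i : Fin (Finset.univ.sup d + 1), Odd (i : ℕ) →
      Even (Fintype.card {k // JC.dF d k = i})) :
    Set.range (invH (F := F) d) = Set.univ := by
  classical
  have hp : p.Prime := Fact.out
  have h2 : (2 : F) ≠ 0 := by
    intro h
    have h' : ((2 : ℕ) : F) = 0 := by exact_mod_cast h
    rw [CharP.cast_eq_zero_iff F p] at h'
    have := (Nat.prime_dvd_prime_iff_eq hp Nat.prime_two).1 h'
    exact hp2 this
  have hchar : ringChar F ≠ 2 := by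
    rw [ringChar.eq F p]; exact hp2
  obtain ⟨ν, hν⟩ := FiniteField.exists_nonsquare hchar
  rw [Set.eq_univ_iff_forall]
  intro b
  let bb : Fin (Finset.univ.sup d + 1) → Bool := fun i =>
    if h : Even (i : ℕ) ∧ Nonempty {k // JC.dF d k = i} then b ⟨i, h⟩ else true
  choose Bsel hBU hBT hBsq using fun i => exists_block d hd ν hν i (bb i) (hpar i)
  let c : JC.Pos d → F := fun q =>
    if hq : ∃ x, JC.emb d hd x = q then
      Bsel (Classical.choose hq).1 (Classical.choose hq).2.1 (Classical.choose hq).2.2 else 0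
  have hc : ∀ x, c (JC.emb d hd x) = Bsel x.1 x.2.1 x.2.2 := by
    intro x
    have hq : ∃ x', JC.emb d hd x' = JC.emb d hd x := ⟨x, rfl⟩
    have hx : Classical.choose hq = x := JC.emb_injective d hd (Classical.choose_spec hq)
    show (if hq : ∃ x', JC.emb d hd x' = JC.emb d hd x then
      Bsel (Classical.choose hq).1 (Classical.choose hq).2.1 (Classical.choose hq).2.2 else 0) = _
    rw [dif_pos hq, hx]
  have hc0 : ∀ q, (¬ ∃ x, JC.emb d hd x = q) → c q = 0 := by
    intro q hq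
    show (if hq : ∃ x, JC.emb d hd x = q then _ else 0) = _
    rw [dif_neg hq]
  have hblkc : ∀ i, (Matrix.of fun (k l : {k // JC.dF d k = i}) => c (JC.emb d hd ⟨i, (k, l)⟩)) =
      Bsel i := by
    intro i
    ext k l
    exact hc ⟨i, (k, l)⟩
  have hMcU : IsUnit (JC.Mc d c) := by
    rw [JC.isUnit_Mc_iff d hd]
    intro i
    rw [hblkc]
    exact (Matrix.isUnit_iff_isUnit_det _).1 (hBU i)
  have hG : G0' d F * Psi d c = JC.Mc d c := by
    unfold Psi
    rw [← mul_assoc, G0'_mul_G0, one_mul]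
  have hskew : (Psi d c)ᵀ = -Psi d c := by
    rw [skew_Psi_iff]
    intro q
    by_cases hq : ∃ x, JC.emb d hd x = q
    · obtain ⟨⟨i, ⟨k, hk⟩, ⟨l, hl⟩⟩, rfl⟩ := hq
      have hdk : d k = i := by rw [← hk]; rfl
      have hdl : d l = i := by rw [← hl]; rfl
      have e1 : epsP d F (JC.emb d hd ⟨i, (⟨k, hk⟩, ⟨l, hl⟩)⟩) = (-1) ^ ((i : ℕ) - 1) := by
        show (-1 : F) ^ (min (d k) (d l) - 1 - 0) = _
        rw [hdk, hdl, min_self, Nat.sub_zero]
      have e2 : swapP d (JC.emb d hd ⟨i, (⟨k, hk⟩, ⟨l, hl⟩)⟩) =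
          JC.emb d hd ⟨i, (⟨l, hl⟩, ⟨k, hk⟩)⟩ := rfl
      rw [e1, e2, hc, hc]
      have h3 := congrFun (congrFun (hBT i) ⟨k, hk⟩) ⟨l, hl⟩
      simp only [Matrix.transpose_apply, Matrix.smul_apply, smul_eq_mul] at h3
      show (-1 : F) ^ ((i : ℕ) - 1) * Bsel i ⟨l, hl⟩ ⟨k, hk⟩ = -Bsel i ⟨k, hk⟩ ⟨l, hl⟩
      rw [h3]
      have h4 : ((-1 : F) ^ ((i : ℕ) - 1)) * (-1) ^ ((i : ℕ) - 1) = 1 := by
        rw [← pow_add, ← two_mul, pow_mul]; simp
      linear_combination (-Bsel i ⟨k, hk⟩ ⟨l, hl⟩) * h4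
    · have hq' : ¬ ∃ x, JC.emb d hd x = swapP d q := by
        rintro ⟨⟨i, k, l⟩, hx⟩
        apply hq
        refine ⟨⟨i, (l, k)⟩, ?_⟩
        have : swapP d (JC.emb d hd ⟨i, (k, l)⟩) = JC.emb d hd ⟨i, (l, k)⟩ := rfl
        rw [← this, hx, swapP_swapP]
      rw [hc0 q hq, hc0 _ hq', mul_zero, neg_zero]
  have hmem : Psi d c ∈ AltInv (cayH (F := F) d) := by
    rw [mem_altInv_cayH_iff d h2]
    refine ⟨?_, hskew, ?_⟩
    · unfold Psi
      exact (isUnit_G0 d).mul hMcU
    · rw [hG]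
      exact JC.Mc_comm d c
  refine ⟨⟨Psi d c, hmem⟩, ?_⟩
  funext ⟨i, hi⟩
  simp only [invH]
  rw [hG, blk_Mc d hd, hblkc]
  have h5 := hBsq i hi.1 hi.2
  have h6 : bb i = b ⟨i, hi⟩ := dif_pos hi
  rw [h6] at h5
  by_cases hb : b ⟨i, hi⟩ = true
  · rw [hb]
    by_contra hcon
    rw [Bool.not_eq_true, decide_eq_false_iff_not] at hcon
    exact hcon (h5.2 hb)
  · have hb' : b ⟨i, hi⟩ = false := by simpa using hb
    rw [hb', decide_eq_false_iff_not]
    exact fun h => hb (h5.1 h)

end Range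

section Count

variable (p : ℕ) [Fact p.Prime] [CharP F p] [Fintype F] {m : ℕ}

theorem card_classes_type (hp2 : p ≠ 2) (hd : ∀ k, 1 ≤ d k)
    (hpar : ∀ i : Fin (Finset.univ.sup d + 1), Odd (i : ℕ) →
      Even (Fintype.card {k // JC.dF d k = i}))
    (e : JC.Idx d ≃ Fin m ⊕ Fin m) :
    Nat.card {C : ConjClasses ↥(symplecticGroup (Fin m) F) //
      ∃ g : ↥(symplecticGroup (Fin m) F), ConjClasses.mk g = C ∧
        IsConj (Matrix.reindex e e (Cfsg.jordanTypeMatrix d F))
          (g : Matrix (Fin m ⊕ Fin m) (Fin m ⊕ Fin m) F)} =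
      2 ^ Nat.card (EvenIdx d) := by
  classical
  have hp : p.Prime := Fact.out
  have h2 : (2 : F) ≠ 0 := by
    intro h
    have h' : ((2 : ℕ) : F) = 0 := by exact_mod_cast h
    rw [CharP.cast_eq_zero_iff F p] at h'
    have := (Nat.prime_dvd_prime_iff_eq hp Nat.prime_two).1 h'
    exact hp2 this
  have hconj : IsConj (Cfsg.jordanTypeMatrix d F) (cayH d) :=
    isConj_jordan_cay d _ _ (half_add_half h2)
  have hconj' : IsConj (Matrix.reindex e e (Cfsg.jordanTypeMatrix d F))
      (Matrix.reindex e e (cayH d)) := by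
    have := (MulEquiv.toMonoidHom (Matrix.reindexAlgEquiv F F e).toMulEquiv).map_isConj hconj
    exact this
  have e1 : Nat.card {C : ConjClasses ↥(symplecticGroup (Fin m) F) //
      ∃ g : ↥(symplecticGroup (Fin m) F), ConjClasses.mk g = C ∧
        IsConj (Matrix.reindex e e (Cfsg.jordanTypeMatrix d F))
          (g : Matrix (Fin m ⊕ Fin m) (Fin m ⊕ Fin m) F)} =
      Nat.card {C : ConjClasses ↥(symplecticGroup (Fin m) F) //
      ∃ g : ↥(symplecticGroup (Fin m) F), ConjClasses.mk g = C ∧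
        IsConj (Matrix.reindex e e (cayH d))
          (g : Matrix (Fin m ⊕ Fin m) (Fin m ⊕ Fin m) F)} := by
    apply Nat.card_congr
    apply Equiv.subtypeEquivRight
    intro C
    constructor
    · rintro ⟨g, h1, h3⟩
      exact ⟨g, h1, hconj'.symm.trans h3⟩
    · rintro ⟨g, h1, h3⟩
      exact ⟨g, h1, hconj'.trans h3⟩
  rw [e1, card_classes_reindex h2 e (cayH d) (invH d) (invH_eq_iff d p hp2 hd),
    range_invH d p hp2 hd hpar, Nat.card_congr (Equiv.Set.univ _), Nat.card_fun,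
    Nat.card_eq_fintype_card (α := Bool), Fintype.card_bool]

end Count

end Cfsg.Agent.Helper44.SPU
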