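import Mathlib
import Cfsg.Agent.Lib.Helper14.UnipConj
import Cfsg.Agent.Lib.Helper14.JType

/-!
# Jordan types of matrices through rank sequences; elements of order `p`
-/

set_option autoImplicit false
set_option linter.unusedSectionVars false

namespace Cfsg.Agent.Helper44.SPU

open Matrix Module Cfsg.Agent.Helper42.Jordan Cfsg.Agent.Helper14.JordanRk
  Cfsg.Agent.Helper14.UnipConj Cfsg.Agent.Helper14.JType

universe u

variable {F : Type u} [Field F]

/-- the parts of a partition, as a function on `Fin` -/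
noncomputable def partFn {n : ℕ} (μ : Nat.Partition n) : Fin μ.parts.toList.length → ℕ :=
  μ.parts.toList.get

theorem partFn_map {n : ℕ} (μ : Nat.Partition n) :
    Finset.univ.val.map (partFn μ) = μ.parts := by
  rw [Fin.univ_val_map, partFn, List.ofFn_get, Multiset.coe_toList]

theorem partFn_pos {n : ℕ} (μ : Nat.Partition n) (k : Fin μ.parts.toList.length) :
    1 ≤ partFn μ k := by
  apply μ.parts_pos
  rw [← Multiset.mem_toList]
  exact List.get_mem _ _

theorem partFn_sum {n : ℕ} (μ : Nat.Partition n) : ∑ k, partFn μ k = n := by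
  have h : (Finset.univ.val.map (partFn μ)).sum = n := by rw [partFn_map, μ.parts_sum]
  exact h

theorem rsum_eq_zero_iff (μ : Multiset ℕ) (k : ℕ) : rsum μ k = 0 ↔ ∀ e ∈ μ, e ≤ k := by
  constructor
  · intro h e he
    rw [rsum, Multiset.sum_eq_zero_iff] at h
    have := h (e - k) (Multiset.mem_map.mpr ⟨e, he, rfl⟩)
    omega
  · exact rsum_eq_zero_of_le μ k

section Types

variable {ι : Type*} [Fintype ι] [DecidableEq ι] {t : ℕ} (d : Fin t → ℕ)
  (e : ((k : Fin t) × Fin (d k)) ≃ ι)

theorem isConj_jordan_iff (X : Matrix ι ι F) :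
    IsConj (Matrix.reindex e e (Cfsg.jordanTypeMatrix d F)) X ↔
      ∀ i, rk (Matrix.toLin' (X - 1)) i = rsum (Finset.univ.val.map d) i := by
  constructor
  · rintro ⟨c, hc⟩ i
    rw [← rk_of_semiconj c _ _ hc i, rk_jordan_reindex, rsum, sum_map_sub]
  · intro h
    apply isConj_of_rk_eq _ _ (isNilpotent_jordan_reindex d e)
    intro i
    rw [rk_jordan_reindex, h i, rsum, sum_map_sub]

end Types

section Rank

variable {ι : Type*} [Fintype ι] [DecidableEq ι]

theorem rk_eq_zero_iff_pow (N : Matrix ι ι F) (k : ℕ) :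
    rk (Matrix.toLin' N) k = 0 ↔ N ^ k = 0 := by
  rw [rk_eq_zero_iff, ← Matrix.toLin'_pow]
  constructor
  · intro h
    apply Matrix.toLin'.injective
    rw [h, map_zero]
  · intro h
    rw [h, map_zero]

theorem exists_partition_of_nilpotent {n : ℕ} (hn : Fintype.card ι = n) (N : Matrix ι ι F)
    (hN : IsNilpotent N) :
    ∃ μ : Nat.Partition n, ∀ i, rk (Matrix.toLin' N) i = rsum μ.parts i := by
  have hT : IsNilpotent (Matrix.toLin' N) := by
    obtain ⟨k, hk⟩ := hN
    exact ⟨k, by rw [← Matrix.toLin'_pow, hk, map_zero]⟩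
  obtain ⟨ν, hpos, hsum, hrk⟩ := exists_jtype (Matrix.toLin' N) hT
  rw [Module.finrank_fintype_fun_eq_card, hn] at hsum
  exact ⟨⟨ν, fun {i} hi => hpos i hi, hsum⟩, hrk⟩

variable (p : ℕ) [Fact p.Prime] [CharP F p]

theorem sub_one_pow_char' (X : Matrix ι ι F) : (X - 1) ^ p = X ^ p - 1 := by
  rcases isEmpty_or_nonempty ι with hι | hι
  · exact Subsingleton.elim _ _
  · rw [sub_pow_char_of_commute p (Commute.one_right _), one_pow]

end Rank

end Cfsg.Agent.Helper44.SPU
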