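import Mathlib
import Cfsg.Agent.Lib.Helper44.SPUi
import Cfsg.Agent.Lib.Helper44.SPUj

/-!
# Jordan types of symplectic elements and of their conjugacy classes
-/

set_option autoImplicit false
set_option linter.unusedSectionVars false

namespace Cfsg.Agent.Helper44.SPU

open Matrix Module Cfsg.Agent.Helper42.Jordan Cfsg.Agent.Helper14.JordanRk
  Cfsg.Agent.Helper14.UnipConj Cfsg.Agent.Helper14.JType Cfsg.Agent.Helper43

universe u

variable {F : Type u} [Field F] {m : ℕ}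

/-- `g` has Jordan type `μ` -/
def HasType (g : ↥(symplecticGroup (Fin m) F)) (μ : Nat.Partition (2 * m)) : Prop :=
  ∀ i, rk (Matrix.toLin' ((g : Matrix (Fin m ⊕ Fin m) (Fin m ⊕ Fin m) F) - 1)) i =
    rsum μ.parts i

theorem card_idx : Fintype.card (Fin m ⊕ Fin m) = 2 * m := by
  rw [Fintype.card_sum, Fintype.card_fin]; ring

theorem HasType.unique {g : ↥(symplecticGroup (Fin m) F)} {μ ν : Nat.Partition (2 * m)}
    (h : HasType g μ) (h' : HasType g ν) : μ = ν := by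
  apply Nat.Partition.ext
  apply eq_of_rsum_eq _ _ (fun e he => μ.parts_pos he) (fun e he => ν.parts_pos he)
  intro k
  rw [← h k, ← h' k]

theorem rk_conj_sp {g g' : ↥(symplecticGroup (Fin m) F)} (h : IsConj g g') (i : ℕ) :
    rk (Matrix.toLin' ((g : Matrix (Fin m ⊕ Fin m) (Fin m ⊕ Fin m) F) - 1)) i =
      rk (Matrix.toLin' ((g' : Matrix (Fin m ⊕ Fin m) (Fin m ⊕ Fin m) F) - 1)) i := by
  obtain ⟨s, hs, hsg⟩ := (isConj_sp_iff g g').1 h
  obtain ⟨su, hsu⟩ := isUnit_of_mem_symp hs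
  apply rk_of_semiconj su
  rw [hsu]
  exact hsg

theorem HasType.conj {g g' : ↥(symplecticGroup (Fin m) F)} {μ : Nat.Partition (2 * m)}
    (h : HasType g μ) (hc : IsConj g g') : HasType g' μ := by
  intro i
  rw [← rk_conj_sp hc i]
  exact h i

theorem hasType_iff_isConj (g : ↥(symplecticGroup (Fin m) F)) (μ : Nat.Partition (2 * m))
    (e : ((k : Fin μ.parts.toList.length) × Fin (partFn μ k)) ≃ Fin m ⊕ Fin m) :
    HasType g μ ↔ IsConj (Matrix.reindex e e (Cfsg.jordanTypeMatrix (partFn μ) F))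
      (g : Matrix (Fin m ⊕ Fin m) (Fin m ⊕ Fin m) F) := by
  rw [isConj_jordan_iff, partFn_map]
  rfl

theorem nilpotent_of_hasType {g : ↥(symplecticGroup (Fin m) F)} {μ : Nat.Partition (2 * m)}
    (h : HasType g μ) :
    IsNilpotent ((g : Matrix (Fin m ⊕ Fin m) (Fin m ⊕ Fin m) F) - 1) := by
  refine ⟨2 * m, ?_⟩
  rw [← rk_eq_zero_iff_pow, h, rsum_eq_zero_iff]
  intro e he
  exact Nat.Partition.le_of_mem_parts he

theorem exists_hasType {g : ↥(symplecticGroup (Fin m) F)}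
    (h : IsNilpotent ((g : Matrix (Fin m ⊕ Fin m) (Fin m ⊕ Fin m) F) - 1)) :
    ∃ μ, HasType g μ :=
  exists_partition_of_nilpotent card_idx _ h

section Order

variable (p : ℕ) [Fact p.Prime] [CharP F p]

theorem orderOf_eq_iff (g : ↥(symplecticGroup (Fin m) F)) :
    orderOf g = p ↔
      ((g : Matrix (Fin m ⊕ Fin m) (Fin m ⊕ Fin m) F) - 1) ^ p = 0 ∧
      ((g : Matrix (Fin m ⊕ Fin m) (Fin m ⊕ Fin m) F) - 1) ^ 1 ≠ 0 := by
  rw [orderOf_eq_prime_iff, sub_one_pow_char' p, pow_one, sub_eq_zero, sub_ne_zero]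
  constructor
  · rintro ⟨h1, h2⟩
    refine ⟨?_, fun h => h2 (Subtype.ext h)⟩
    have := congrArg Subtype.val h1
    simpa using this
  · rintro ⟨h1, h2⟩
    refine ⟨Subtype.ext ?_, fun h => h2 (congrArg Subtype.val h)⟩
    simpa using h1

theorem orderOf_eq_iff_type (g : ↥(symplecticGroup (Fin m) F)) :
    orderOf g = p ↔ ∃ μ, HasType g μ ∧ (∀ a ∈ μ.parts, a ≤ p) ∧ ¬ ∀ a ∈ μ.parts, a ≤ 1 := by
  rw [orderOf_eq_iff]
  constructor
  · rintro ⟨h1, h2⟩
    obtain ⟨μ, hμ⟩ := exists_hasType (g := g) ⟨p, h1⟩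
    refine ⟨μ, hμ, ?_, ?_⟩
    · rw [← rsum_eq_zero_iff, ← hμ, rk_eq_zero_iff_pow]
      exact h1
    · rw [← rsum_eq_zero_iff, ← hμ, rk_eq_zero_iff_pow]
      exact h2
  · rintro ⟨μ, hμ, h1, h2⟩
    constructor
    · rw [← rk_eq_zero_iff_pow, hμ, rsum_eq_zero_iff]
      exact h1
    · rw [Ne, ← rk_eq_zero_iff_pow, hμ, rsum_eq_zero_iff]
      exact h2

end Order

/-! ### the type of a class -/

open Classical in
/-- the Jordan type of an element (junk if not unipotent) -/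
noncomputable def typeOf (g : ↥(symplecticGroup (Fin m) F)) : Nat.Partition (2 * m) :=
  if h : IsNilpotent ((g : Matrix (Fin m ⊕ Fin m) (Fin m ⊕ Fin m) F) - 1) then
    Classical.choose (exists_hasType h) else default

theorem typeOf_spec {g : ↥(symplecticGroup (Fin m) F)}
    (h : IsNilpotent ((g : Matrix (Fin m ⊕ Fin m) (Fin m ⊕ Fin m) F) - 1)) :
    HasType g (typeOf g) := by
  rw [typeOf, dif_pos h]
  exact Classical.choose_spec (exists_hasType h)

theorem typeOf_eq {g : ↥(symplecticGroup (Fin m) F)} {μ : Nat.Partition (2 * m)}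
    (h : HasType g μ) : typeOf g = μ :=
  (typeOf_spec (nilpotent_of_hasType h)).unique h

theorem nilpotent_conj {g g' : ↥(symplecticGroup (Fin m) F)} (hc : IsConj g g')
    (h : IsNilpotent ((g : Matrix (Fin m ⊕ Fin m) (Fin m ⊕ Fin m) F) - 1)) :
    IsNilpotent ((g' : Matrix (Fin m ⊕ Fin m) (Fin m ⊕ Fin m) F) - 1) := by
  obtain ⟨k, hk⟩ := h
  refine ⟨k, ?_⟩
  rw [← rk_eq_zero_iff_pow, ← rk_conj_sp hc, rk_eq_zero_iff_pow]
  exact hk

theorem typeOf_conj {g g' : ↥(symplecticGroup (Fin m) F)} (hc : IsConj g g') :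
    typeOf g = typeOf g' := by
  classical
  by_cases h : IsNilpotent ((g : Matrix (Fin m ⊕ Fin m) (Fin m ⊕ Fin m) F) - 1)
  · exact ((typeOf_spec (nilpotent_conj hc h)).unique ((typeOf_spec h).conj hc)).symm
  · have h' : ¬ IsNilpotent ((g' : Matrix (Fin m ⊕ Fin m) (Fin m ⊕ Fin m) F) - 1) :=
      fun h' => h (nilpotent_conj hc.symm h')
    rw [typeOf, dif_neg h, typeOf, dif_neg h']

/-- the Jordan type of a conjugacy class -/
noncomputable def typeC (C : ConjClasses ↥(symplecticGroup (Fin m) F)) : Nat.Partition (2 * m) :=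
  Quotient.lift typeOf (fun _ _ h => typeOf_conj h) C

theorem typeC_mk (g : ↥(symplecticGroup (Fin m) F)) : typeC (ConjClasses.mk g) = typeOf g := rfl

end Cfsg.Agent.Helper44.SPU
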