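import Mathlib
import Cfsg.Agent.Lib.Helper44.SPUk
import Cfsg.Agent.S2582

/-!
# The number of classes of elements of order `p` in `Sp_2m(q)`, `q` odd
-/

set_option autoImplicit false
set_option linter.unusedSectionVars false

namespace Cfsg.Agent.Helper44.SPU

open Matrix Module Cfsg.Agent.Helper42.Jordan Cfsg.Agent.Helper14.JordanRk
  Cfsg.Agent.Helper14.UnipConj Cfsg.Agent.Helper14.JType Cfsg.Agent.Helper43

universe u

variable {F : Type u} [Field F] {m : ℕ}

theorem mem_parts_iff {n : ℕ} (μ : Nat.Partition n) (j : ℕ) :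
    j ∈ μ.parts ↔ ∃ k, partFn μ k = j := by
  have h : j ∈ Finset.univ.val.map (partFn μ) ↔ ∃ k, partFn μ k = j := by
    rw [Multiset.mem_map]
    exact ⟨fun ⟨k, _, hk⟩ => ⟨k, hk⟩, fun ⟨k, hk⟩ => ⟨k, Finset.mem_univ k, hk⟩⟩
  rw [partFn_map] at h
  exact h

theorem card_filter_partFn {n : ℕ} (μ : Nat.Partition n) (j : ℕ) :
    (Finset.univ.filter (fun k => partFn μ k = j)).card = μ.parts.count j := by
  rw [← count_map_eq, partFn_map]

theorem card_fiber_partFn {n : ℕ} (μ : Nat.Partition n)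
    (i : Fin (Finset.univ.sup (partFn μ) + 1)) [Fintype {k // JC.dF (partFn μ) k = i}] :
    Fintype.card {k // JC.dF (partFn μ) k = i} = μ.parts.count (i : ℕ) := by
  classical
  rw [← Nat.card_eq_fintype_card, Nat.card_eq_fintype_card, Fintype.card_subtype,
    ← card_filter_partFn]
  congr 1
  apply Finset.filter_congr
  intro k _
  rw [Fin.ext_iff]
  rfl

theorem card_evenIdx {n : ℕ} (μ : Nat.Partition n) [DecidablePred (fun j : ℕ => Even j)] :
    Nat.card (EvenIdx (partFn μ)) = (μ.parts.toFinset.filter (fun j : ℕ => Even j)).card := by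
  classical
  rw [Nat.card_eq_fintype_card, Fintype.card_subtype, ← Finset.card_map Fin.valEmbedding]
  congr 1
  ext j
  simp only [Finset.mem_map, Finset.mem_filter, Finset.mem_univ, true_and,
    Fin.valEmbedding_apply, Multiset.mem_toFinset]
  constructor
  · rintro ⟨i, ⟨hi, ⟨k, hk⟩⟩, rfl⟩
    refine ⟨(mem_parts_iff μ _).2 ⟨k, ?_⟩, hi⟩
    exact congrArg Fin.val hk
  · rintro ⟨hj, hev⟩
    obtain ⟨k, hk⟩ := (mem_parts_iff μ j).1 hj
    refine ⟨JC.dF (partFn μ) k, ⟨?_, ⟨⟨k, rfl⟩⟩⟩, hk⟩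
    show Even (partFn μ k)
    rw [hk]
    exact hev

/-- index equivalence for a partition of `2 * m` -/
noncomputable def idxEquiv (μ : Nat.Partition (2 * m)) :
    JC.Idx (partFn μ) ≃ Fin m ⊕ Fin m :=
  Fintype.equivOfCardEq (by
    rw [Fintype.card_sigma, card_idx]
    simp only [Fintype.card_fin]
    exact partFn_sum μ)

section Main

variable [Fintype F] (p : ℕ) [Fact p.Prime] [CharP F p]

theorem card_type_classes (hp2 : p ≠ 2) (μ : Nat.Partition (2 * m))
    [DecidablePred (fun j : ℕ => Even j)]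
    (hpar : ∀ j : ℕ, Odd j → Even (μ.parts.count j)) :
    Nat.card {C : ConjClasses ↥(symplecticGroup (Fin m) F) //
      ∃ g : ↥(symplecticGroup (Fin m) F), ConjClasses.mk g = C ∧ HasType g μ} =
      2 ^ (μ.parts.toFinset.filter (fun j : ℕ => Even j)).card := by
  classical
  have hpar' : ∀ i : Fin (Finset.univ.sup (partFn μ) + 1), Odd (i : ℕ) →
      Even (Fintype.card {k // JC.dF (partFn μ) k = i}) := by
    intro i hi
    rw [card_fiber_partFn]
    exact hpar _ hi
  rw [← card_evenIdx μ, ← card_classes_type (F := F) (partFn μ) p hp2 (partFn_pos μ) hpar'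
    (idxEquiv μ)]
  apply Nat.card_congr
  apply Equiv.subtypeEquivRight
  intro C
  constructor
  · rintro ⟨g, h1, h2⟩
    exact ⟨g, h1, (hasType_iff_isConj g μ (idxEquiv μ)).1 h2⟩
  · rintro ⟨g, h1, h2⟩
    exact ⟨g, h1, (hasType_iff_isConj g μ (idxEquiv μ)).2 h2⟩

theorem isEmpty_type_classes (μ : Nat.Partition (2 * m))
    (hpar : ¬ ∀ j : ℕ, Odd j → Even (μ.parts.count j)) :
    IsEmpty {C : ConjClasses ↥(symplecticGroup (Fin m) F) //
      ∃ g : ↥(symplecticGroup (Fin m) F), ConjClasses.mk g = C ∧ HasType g μ} := by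
  constructor
  rintro ⟨C, g, -, h2⟩
  apply hpar
  intro j hj
  have := Cfsg.Agent.S2582.only_if (partFn μ) (idxEquiv μ) g
    ((hasType_iff_isConj g μ (idxEquiv μ)).1 h2) j hj
  rwa [card_filter_partFn] at this

/-- the fibre of the type map over `μ` among the classes of elements of order `p` -/
theorem fiber_iff (μ : Nat.Partition (2 * m))
    (hgood : (∀ a ∈ μ.parts, a ≤ p) ∧ ¬ ∀ a ∈ μ.parts, a ≤ 1)
    (C : ConjClasses ↥(symplecticGroup (Fin m) F)) :
    ((∃ g : ↥(symplecticGroup (Fin m) F), ConjClasses.mk g = C ∧ orderOf g = p) ∧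
      typeC C = μ) ↔
      ∃ g : ↥(symplecticGroup (Fin m) F), ConjClasses.mk g = C ∧ HasType g μ := by
  constructor
  · rintro ⟨⟨g, rfl, ho⟩, ht⟩
    obtain ⟨ν, hν, -⟩ := (orderOf_eq_iff_type p g).1 ho
    rw [typeC_mk, typeOf_eq hν] at ht
    subst ht
    exact ⟨g, rfl, hν⟩
  · rintro ⟨g, rfl, hT⟩
    refine ⟨⟨g, rfl, (orderOf_eq_iff_type p g).2 ⟨μ, hT, hgood⟩⟩, ?_⟩
    rw [typeC_mk, typeOf_eq hT]

theorem fiber_empty (μ : Nat.Partition (2 * m))
    (hgood : ¬ ((∀ a ∈ μ.parts, a ≤ p) ∧ ¬ ∀ a ∈ μ.parts, a ≤ 1))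
    (C : ConjClasses ↥(symplecticGroup (Fin m) F)) :
    ¬ ((∃ g : ↥(symplecticGroup (Fin m) F), ConjClasses.mk g = C ∧ orderOf g = p) ∧
      typeC C = μ) := by
  rintro ⟨⟨g, rfl, ho⟩, ht⟩
  obtain ⟨ν, hν, hν'⟩ := (orderOf_eq_iff_type p g).1 ho
  rw [typeC_mk, typeOf_eq hν] at ht
  subst ht
  exact hgood hν'

theorem card_fiber (hp2 : p ≠ 2) (μ : Nat.Partition (2 * m))
    [DecidablePred (fun j : ℕ => Even j)]
    [Decidable (((∀ a ∈ μ.parts, a ≤ p) ∧ ¬ ∀ a ∈ μ.parts, a ≤ 1) ∧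
      ∀ j : ℕ, Odd j → Even (μ.parts.count j))] :
    Nat.card {x : {C : ConjClasses ↥(symplecticGroup (Fin m) F) //
      ∃ g : ↥(symplecticGroup (Fin m) F), ConjClasses.mk g = C ∧ orderOf g = p} //
        typeC x.1 = μ} =
      if ((∀ a ∈ μ.parts, a ≤ p) ∧ ¬ ∀ a ∈ μ.parts, a ≤ 1) ∧
        ∀ j : ℕ, Odd j → Even (μ.parts.count j) then
        2 ^ (μ.parts.toFinset.filter (fun j : ℕ => Even j)).card else 0 := by
  rw [Nat.card_congr (Equiv.subtypeSubtypeEquivSubtypeInter
    (fun C : ConjClasses ↥(symplecticGroup (Fin m) F) =>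
      ∃ g : ↥(symplecticGroup (Fin m) F), ConjClasses.mk g = C ∧ orderOf g = p)
    (fun C => typeC C = μ))]
  by_cases hgood : (∀ a ∈ μ.parts, a ≤ p) ∧ ¬ ∀ a ∈ μ.parts, a ≤ 1
  · rw [Nat.card_congr (Equiv.subtypeEquivRight (fiber_iff p μ hgood))]
    by_cases hpar : ∀ j : ℕ, Odd j → Even (μ.parts.count j)
    · rw [if_pos ⟨hgood, hpar⟩]
      exact card_type_classes p hp2 μ hpar
    · rw [if_neg (fun h => hpar h.2)]
      have := isEmpty_type_classes (F := F) μ hpar
      exact Nat.card_of_isEmpty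
  · rw [if_neg (fun h => hgood h.1)]
    have : IsEmpty {C : ConjClasses ↥(symplecticGroup (Fin m) F) //
        (∃ g : ↥(symplecticGroup (Fin m) F), ConjClasses.mk g = C ∧ orderOf g = p) ∧
          typeC C = μ} :=
      ⟨fun x => fiber_empty p μ hgood x.1 x.2⟩
    exact Nat.card_of_isEmpty

theorem ones_parity (n : ℕ) (j : ℕ) : Even ((onesPartition (2 * n)).parts.count j) := by
  show Even ((Multiset.replicate (2 * n) 1).count j)
  rw [Multiset.count_replicate]
  split_ifs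
  · exact even_two_mul n
  · exact Even.zero

theorem ones_even_card (n : ℕ) [DecidablePred (fun j : ℕ => Even j)] :
    ((onesPartition n).parts.toFinset.filter (fun j : ℕ => Even j)).card = 0 := by
  rw [Finset.card_eq_zero, Finset.filter_eq_empty_iff]
  intro j hj hev
  rw [Multiset.mem_toFinset] at hj
  have : j = 1 := Multiset.eq_of_mem_replicate hj
  subst this
  exact absurd hev Nat.not_even_one

theorem card_classes_order_p (hp2 : p ≠ 2) (m : ℕ)
    [DecidablePred (fun μ : Nat.Partition (2 * m) =>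
      (∀ a ∈ μ.parts, a ≤ p) ∧ ∀ j : ℕ, Odd j → Even (μ.parts.count j))]
    [DecidablePred (fun j : ℕ => Even j)] :
    Nat.card {C : ConjClasses ↥(symplecticGroup (Fin m) F) //
      ∃ g : ↥(symplecticGroup (Fin m) F), ConjClasses.mk g = C ∧ orderOf g = p} =
      (∑ μ ∈ Finset.univ.filter (fun μ : Nat.Partition (2 * m) =>
        (∀ a ∈ μ.parts, a ≤ p) ∧ ∀ j : ℕ, Odd j → Even (μ.parts.count j)),
        2 ^ ((μ.parts.toFinset.filter (fun j : ℕ => Even j)).card)) - 1 := by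
  classical
  have hp : p.Prime := Fact.out
  rw [Nat.card_congr (Equiv.sigmaFiberEquiv (fun x : {C : ConjClasses
    ↥(symplecticGroup (Fin m) F) // ∃ g : ↥(symplecticGroup (Fin m) F),
      ConjClasses.mk g = C ∧ orderOf g = p} => typeC x.1)).symm, Nat.card_sigma]
  simp only [card_fiber p hp2]
  rw [← Finset.sum_filter]
  have hmem : onesPartition (2 * m) ∈ Finset.univ.filter (fun μ : Nat.Partition (2 * m) =>
      (∀ a ∈ μ.parts, a ≤ p) ∧ ∀ j : ℕ, Odd j → Even (μ.parts.count j)) := by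
    rw [Finset.mem_filter]
    refine ⟨Finset.mem_univ _, ?_, fun j _ => ones_parity m j⟩
    intro a ha
    have := (forall_le_one_iff (onesPartition (2 * m))).mpr rfl a ha
    have := hp.two_le
    omega
  have hfil : Finset.univ.filter (fun μ : Nat.Partition (2 * m) =>
      ((∀ a ∈ μ.parts, a ≤ p) ∧ ¬ ∀ a ∈ μ.parts, a ≤ 1) ∧
        ∀ j : ℕ, Odd j → Even (μ.parts.count j)) =
      (Finset.univ.filter (fun μ : Nat.Partition (2 * m) =>
      (∀ a ∈ μ.parts, a ≤ p) ∧ ∀ j : ℕ, Odd j → Even (μ.parts.count j))).erase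
        (onesPartition (2 * m)) := by
    ext μ
    simp only [Finset.mem_filter, Finset.mem_univ, true_and, Finset.mem_erase]
    rw [forall_le_one_iff]
    constructor
    · rintro ⟨⟨h1, h2⟩, h3⟩
      exact ⟨h2, h1, h3⟩
    · rintro ⟨h2, h1, h3⟩
      exact ⟨⟨h1, h2⟩, h3⟩
  rw [hfil]
  have := Finset.add_sum_erase _ (fun μ : Nat.Partition (2 * m) =>
    2 ^ ((μ.parts.toFinset.filter (fun j : ℕ => Even j)).card)) hmem
  rw [← this]
  simp only [ones_even_card, pow_zero]
  omega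

end Main

end Cfsg.Agent.Helper44.SPU
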