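import Mathlib
import Cfsg.Agent.Lib.Helper44.SQd
import Cfsg.Agent.Lib.Helper44.SpTransfer

/-!
# Elements of odd prime order of `Sp_2d(q)`, `q` even, that are not conjugate into an orthogonal
group
-/

set_option autoImplicit false
set_option linter.unusedSectionVars false

namespace Cfsg.Agent.Helper44.SQ

open Module QuadraticMap Matrix Polynomial Cfsg.Agent.Helper44.QF
open Cfsg.Agent.Helper42.SemiConj Cfsg.Agent.Helper44.StarInv Cfsg.Agent.Helper44.SpBlocks
open scoped Classical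

universe u

variable {F : Type u} [Field F] [Fintype F] [CharP F 2] {d : ℕ}

/-- fixed-point-free symplectic elements of odd prime order -/
theorem exists_fpf (r : ℕ) (hr : r.Prime) (hr2 : r ≠ 2) (hd : 1 ≤ d)
    (hpow : ((Fintype.card F : ℕ) : ZMod r) ^ (2 * d) = 1) :
    ∃ A : Matrix.symplecticGroup (Fin d) F, A ^ r = 1 ∧
      ∀ v : Fin d ⊕ Fin d → F,
        (A : Matrix (Fin d ⊕ Fin d) (Fin d ⊕ Fin d) F) *ᵥ v = v → v = 0 := by
  have : Fact (Nat.Prime 2) := ⟨Nat.prime_two⟩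
  obtain ⟨i, hi⟩ : ∃ i, i = orderOf ((Fintype.card F : ℕ) : ZMod r) := ⟨_, rfl⟩
  have hidvd : i ∣ 2 * d := by rw [hi]; exact orderOf_dvd_of_pow_eq_one hpow
  have hipos : 0 < i := Nat.pos_of_dvd_of_pos hidvd (by omega)
  have hcard := cyc_card (F := F) (p := 2) r hr hr2
  rw [← hi] at hcard
  have hr3 : 3 ≤ r := by
    have := hr.two_le
    omega
  have hne : (cycFactors F r).Nonempty := by
    rw [← Finset.card_pos]
    by_contra h
    have h0 : (cycFactors F r).card = 0 := by omega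
    rw [h0, zero_mul] at hcard
    omega
  obtain ⟨f, hf⟩ := hne
  have hfp := mem_pow_of_mem_cyc r f hf
  have hdeg : f.natDegree = i := by
    rw [hi]
    exact cyc_natDegree (p := 2) r hr hr2 f hf
  have hx1 : (X - 1 : F[X]) ≠ f := fun h =>
    X_sub_one_notMem_cyc (F := F) (p := 2) r hr hr2 (h ▸ hf)
  have hx2 : (X - 1 : F[X]) ≠ star r f := fun h =>
    X_sub_one_notMem_cyc (F := F) (p := 2) r hr hr2
      (h ▸ star_mem_cyc (p := 2) r hr hr2 f hf)
  obtain ⟨dv, hreal, hsum, hdv0⟩ : ∃ dv : F[X] → ℕ, SpReal (powFactors F r) r dv ∧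
      ∑ g ∈ powFactors F r, dv g = 2 * d ∧ dv (X - 1) = 0 := by
    rcases Nat.even_or_odd i with hev | hod
    · refine ⟨fun h => (2 * d / i) * (if h = f then f.natDegree else 0),
        spReal_nsmul _ r _ (spReal_self (p := 2) r hr hr2 hr2 f hf
          (star_eq_self_of_even (p := 2) r hr hr2 f hf (hi ▸ hev))) _, ?_, ?_⟩
      · rw [← Finset.mul_sum, Finset.sum_ite_eq' (powFactors F r) f (fun _ => f.natDegree),
          if_pos hfp, hdeg]
        exact Nat.div_mul_cancel hidvd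
      · show (2 * d / i) * (if (X - 1 : F[X]) = f then f.natDegree else 0) = 0
        rw [if_neg hx1, mul_zero]
    · have hid : i ∣ d :=
        Nat.Coprime.dvd_of_dvd_mul_left (Nat.coprime_two_right.2 hod) hidvd
      refine ⟨fun h => (d / i) * ((if h = f then f.natDegree else 0) +
          (if h = star r f then f.natDegree else 0)),
        spReal_nsmul _ r _ (spReal_pair (p := 2) r hr hr2 f hfp) _, ?_, ?_⟩
      · rw [← Finset.mul_sum, Finset.sum_add_distrib,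
          Finset.sum_ite_eq' (powFactors F r) f (fun _ => f.natDegree),
          Finset.sum_ite_eq' (powFactors F r) (star r f) (fun _ => f.natDegree),
          if_pos hfp, if_pos (star_mem (p := 2) r hr hr2 f hfp), hdeg, ← two_mul,
          ← mul_assoc, mul_comm (d / i) 2, mul_assoc, Nat.div_mul_cancel hid]
      · show (d / i) * ((if (X - 1 : F[X]) = f then f.natDegree else 0) +
          (if (X - 1 : F[X]) = star r f then f.natDegree else 0)) = 0
        rw [if_neg hx1, if_neg hx2, add_zero, mul_zero]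
  obtain ⟨A, hA1, hA2⟩ := exists_sp_of_real (p := 2) d r hr hr2 dv hreal hsum
  refine ⟨A, hA1, ?_⟩
  intro v hv
  have hk : kdi (A : Matrix (Fin d ⊕ Fin d) (Fin d ⊕ Fin d) F) (X - 1) = 0 := by
    rw [hA2 _ (X_sub_one_mem_pow r), hdv0]
  unfold kdi at hk
  have hbot : LinearMap.ker (aeval (Matrix.toLin'
      (A : Matrix (Fin d ⊕ Fin d) (Fin d ⊕ Fin d) F)) (X - 1 : F[X])) = ⊥ :=
    Submodule.finrank_eq_zero.1 hk
  have hmem : v ∈ LinearMap.ker (aeval (Matrix.toLin'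
      (A : Matrix (Fin d ⊕ Fin d) (Fin d ⊕ Fin d) F)) (X - 1 : F[X])) := by
    rw [LinearMap.mem_ker, map_sub, aeval_X, map_one, LinearMap.sub_apply, Matrix.toLin'_apply,
      hv]
    simp
  rw [hbot] at hmem
  exact (Submodule.mem_bot F).1 hmem

/-- the permutation of vectors given by an invertible matrix -/
noncomputable def permHom {ι : Type} [Fintype ι] [DecidableEq ι] :
    GL ι F →* Equiv.Perm (ι → F) where
  toFun g := (toLE g).toEquiv
  map_one' := by
    apply Equiv.ext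
    intro v
    show ((1 : GL ι F) : Matrix ι ι F) *ᵥ v = v
    rw [Units.val_one, Matrix.one_mulVec]
  map_mul' g h := by
    apply Equiv.ext
    intro v
    exact gl_mul_mulVec g h v

theorem permHom_apply {ι : Type} [Fintype ι] [DecidableEq ι] (g : GL ι F) (v : ι → F) :
    permHom g v = (g : Matrix ι ι F) *ᵥ v := rfl

theorem not_dvd_card_of_odd (r : ℕ) (hr : r.Prime) (hr2 : r ≠ 2) : ¬ r ∣ Fintype.card F := by
  have : Fact (Nat.Prime 2) := ⟨Nat.prime_two⟩
  obtain ⟨n, -, hn⟩ := FiniteField.card F 2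
  rw [hn]
  intro h
  have h2 := hr.dvd_of_dvd_pow h
  exact hr2 ((Nat.prime_dvd_prime_iff_eq hr Nat.prime_two).1 h2)

/-- the congruence forced by `r` dividing the index -/
theorem pow_eq_neg_sign (hd : 1 ≤ d) (Q : (Fin d ⊕ Fin d → F) → F)
    (hQ : Cfsg.Geo.IsNondegenerateQuadraticForm Q)
    (hQf : ∀ u v, QuadraticMap.polar Q u v = Cfsg.sympForm d F u v)
    (r : ℕ) (hr : r.Prime) (hr2 : r ≠ 2)
    (hΩ : r ∣ (Cfsg.Geo.quadSimilarityGroup Q).relIndex (Cfsg.spGL d F))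
    (ε : ℤ) (hε : ε = 1 ∨ ε = -1) (hT : HasType (⇑(mkQF Q hQ)) d ε) :
    ((Fintype.card F : ℕ) : ZMod r) ^ d = -(ε : ZMod r) := by
  have : Fact r.Prime := ⟨hr⟩
  have hidx : (((Cfsg.Geo.quadSimilarityGroup Q).relIndex (Cfsg.spGL d F) : ℕ) : ZMod r) = 0 :=
    (ZMod.natCast_eq_zero_iff _ _).2 hΩ
  have hq0 : ((Fintype.card F : ℕ) : ZMod r) ^ d ≠ 0 := by
    apply pow_ne_zero
    intro h
    exact not_dvd_card_of_odd r hr hr2 ((ZMod.natCast_eq_zero_iff _ _).1 h)
  rcases hε with rfl | rfl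
  · have h := two_mul_index_plus hd Q hQ hQf hT
    have hc := congrArg (Nat.cast : ℕ → ZMod r) h
    push_cast at hc
    rw [hidx, mul_zero] at hc
    rcases mul_eq_zero.1 hc.symm with h1 | h1
    · exact absurd h1 hq0
    · push_cast
      exact eq_neg_of_add_eq_zero_left h1
  · have h := two_mul_index_minus hd Q hQ hQf hT
    have hc := congrArg (Nat.cast : ℕ → ZMod r) h
    push_cast at hc
    rw [hidx, mul_zero, zero_add] at hc
    have h1 : ((Fintype.card F : ℕ) : ZMod r) ^ d *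
        (((Fintype.card F : ℕ) : ZMod r) ^ d - 1) = 0 := by
      push_cast
      linear_combination -hc
    rcases mul_eq_zero.1 h1 with h2 | h2
    · exact absurd h2 hq0
    · push_cast
      rw [neg_neg]
      exact sub_eq_zero.1 h2

/-- for an odd prime `r` dividing the index some element of order `r` is not conjugate into the
orthogonal group -/
theorem not_all_conj_of_odd (hd : 1 ≤ d) (Q : (Fin d ⊕ Fin d → F) → F)
    (hQ : Cfsg.Geo.IsNondegenerateQuadraticForm Q)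
    (hQf : ∀ u v, QuadraticMap.polar Q u v = Cfsg.sympForm d F u v)
    (r : ℕ) (hr : r.Prime) (hr2 : r ≠ 2)
    (hΩ : r ∣ (Cfsg.Geo.quadSimilarityGroup Q).relIndex (Cfsg.spGL d F)) :
    ¬ (∀ x ∈ Cfsg.spGL d F,
      (∃ z : F, ((x ^ r : GL (Fin d ⊕ Fin d) F) : Matrix (Fin d ⊕ Fin d) (Fin d ⊕ Fin d) F) =
        z • (1 : Matrix (Fin d ⊕ Fin d) (Fin d ⊕ Fin d) F)) →
      (∀ z : F, (x : Matrix (Fin d ⊕ Fin d) (Fin d ⊕ Fin d) F) ≠
        z • (1 : Matrix (Fin d ⊕ Fin d) (Fin d ⊕ Fin d) F)) →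
      ∃ g ∈ Cfsg.spGL d F, g⁻¹ * x * g ∈ Cfsg.Geo.quadSimilarityGroup Q) := by
  intro hall
  have : Fact r.Prime := ⟨hr⟩
  have hnd := mkQF_nd Q hQ
  have hfr := finrank_V' (F := F) (d := d)
  obtain ⟨ε, hε, hT⟩ : ∃ ε : ℤ, (ε = 1 ∨ ε = -1) ∧ HasType (⇑(mkQF Q hQ)) d ε := by
    rcases hasType_or (mkQF Q hQ) hnd d hfr with h | h
    · exact ⟨1, Or.inl rfl, h⟩
    · exact ⟨-1, Or.inr rfl, h⟩
  have hkey := pow_eq_neg_sign hd Q hQ hQf r hr hr2 hΩ ε hε hT
  have hpow : ((Fintype.card F : ℕ) : ZMod r) ^ (2 * d) = 1 := by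
    rw [mul_comm, pow_mul, hkey]
    rcases hε with rfl | rfl <;> simp
  obtain ⟨A, hA1, hA2⟩ := exists_fpf (F := F) r hr hr2 hd hpow
  obtain ⟨x, hxdef⟩ : ∃ x : ↥(Cfsg.spGL d F), x = Cfsg.Agent.Helper13.toSpGL A := ⟨_, rfl⟩
  have hxval : ((x : GL (Fin d ⊕ Fin d) F) : Matrix (Fin d ⊕ Fin d) (Fin d ⊕ Fin d) F) =
      (A : Matrix (Fin d ⊕ Fin d) (Fin d ⊕ Fin d) F) := by
    rw [hxdef]
    rfl
  have hxr : (x : GL (Fin d ⊕ Fin d) F) ^ r = 1 := by
    apply Units.ext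
    rw [Units.val_pow_eq_pow_val, hxval, Units.val_one]
    have := congrArg (fun B : Matrix.symplecticGroup (Fin d) F =>
      (B : Matrix (Fin d ⊕ Fin d) (Fin d ⊕ Fin d) F)) hA1
    simpa using this
  obtain ⟨u, w, huw⟩ := exists_sympForm_ne_zero (F := F) hd
  have hns : ∀ z : F, ((x : GL (Fin d ⊕ Fin d) F) :
      Matrix (Fin d ⊕ Fin d) (Fin d ⊕ Fin d) F) ≠ z • 1 := by
    intro z hz
    have h1 := x.2 u w
    have h1' : Cfsg.sympForm d F
        (((x : GL (Fin d ⊕ Fin d) F) : Matrix (Fin d ⊕ Fin d) (Fin d ⊕ Fin d) F) *ᵥ u)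
        (((x : GL (Fin d ⊕ Fin d) F) : Matrix (Fin d ⊕ Fin d) (Fin d ⊕ Fin d) F) *ᵥ w) =
        Cfsg.sympForm d F u w := h1
    rw [hz, Matrix.smul_mulVec, Matrix.smul_mulVec, Matrix.one_mulVec, Matrix.one_mulVec,
      (Cfsg.Agent.Helper93.sympForm_bilinear d).smul_left,
      (Cfsg.Agent.Helper93.sympForm_bilinear d).smul_right] at h1'
    have hz2 : z ^ 2 = 1 ^ 2 := by
      have : (z ^ 2 - 1) * Cfsg.sympForm d F u w = 0 := by linear_combination h1'
      rcases mul_eq_zero.1 this with h | h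
      · rw [one_pow]
        exact sub_eq_zero.1 h
      · exact absurd h huw
    have hz1 : z = 1 := sq_inj hz2
    have hu : u = 0 := by
      apply hA2 u
      rw [← hxval, hz, hz1, one_smul, Matrix.one_mulVec]
    apply huw
    rw [hu]
    have := (Cfsg.Agent.Helper93.sympForm_bilinear (F := F) d).smul_left 0 0 w
    simpa using this
  obtain ⟨g, hg, hconj⟩ := hall x x.2 ⟨1, by rw [hxr, Units.val_one, one_smul]⟩ hns
  have hy : g⁻¹ * (x : GL (Fin d ⊕ Fin d) F) * g ∈ Cfsg.spGL d F :=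
    Subgroup.mul_mem _ (Subgroup.mul_mem _ (Subgroup.inv_mem _ hg) x.2) hg
  have hyQ := isometry_of_mem hd Q hQf _ hy hconj
  have hyr : (g⁻¹ * (x : GL (Fin d ⊕ Fin d) F) * g) ^ r = 1 := by
    have e1 : g⁻¹ * (x : GL (Fin d ⊕ Fin d) F) * g =
        g⁻¹ * (x : GL (Fin d ⊕ Fin d) F) * (g⁻¹)⁻¹ := by rw [inv_inv]
    rw [e1, conj_pow, hxr, mul_one, mul_inv_cancel]
  have hσr : (permHom (g⁻¹ * (x : GL (Fin d ⊕ Fin d) F) * g)) ^ r = 1 := by
    rw [← map_pow, hyr, map_one]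
  have hQ0 : Q 0 = 0 := by
    have := hQ.smul 0 0
    simpa using this
  have hfix : ∀ v, permHom (g⁻¹ * (x : GL (Fin d ⊕ Fin d) F) * g) v = v →
      (mkQF Q hQ) v = 0 := by
    intro v hv
    rw [permHom_apply, gl_mul_mulVec, gl_mul_mulVec] at hv
    have h1 : ((x : GL (Fin d ⊕ Fin d) F) : Matrix (Fin d ⊕ Fin d) (Fin d ⊕ Fin d) F) *ᵥ
        ((g : Matrix (Fin d ⊕ Fin d) (Fin d ⊕ Fin d) F) *ᵥ v) =
        (g : Matrix (Fin d ⊕ Fin d) (Fin d ⊕ Fin d) F) *ᵥ v := by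
      have := gl_mulVec_inv_mulVec g (((x : GL (Fin d ⊕ Fin d) F) :
        Matrix (Fin d ⊕ Fin d) (Fin d ⊕ Fin d) F) *ᵥ
          ((g : Matrix (Fin d ⊕ Fin d) (Fin d ⊕ Fin d) F) *ᵥ v))
      rw [hv] at this
      exact this.symm
    rw [hxval] at h1
    have h2 := hA2 _ h1
    have h3 : v = 0 := by
      have := gl_inv_mulVec_mulVec g v
      rw [h2, Matrix.mulVec_zero] at this
      exact this.symm
    rw [h3]
    exact hQ0
  have h5 := pow_eq_sign_of_free (⇑(mkQF Q hQ)) d ε hT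
    (permHom (g⁻¹ * (x : GL (Fin d ⊕ Fin d) F) * g)) (fun v => hyQ v) r hr
    (not_dvd_card_of_odd r hr hr2) hσr hfix
  rw [hkey] at h5
  have h6 : ((2 : ℕ) : ZMod r) = 0 := by
    rcases hε with rfl | rfl
    · push_cast at h5 ⊢
      linear_combination -h5
    · push_cast at h5 ⊢
      linear_combination h5
  have h7 := (ZMod.natCast_eq_zero_iff _ _).1 h6
  exact hr2 ((Nat.prime_dvd_prime_iff_eq hr Nat.prime_two).1 h7)

end Cfsg.Agent.Helper44.SQ
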