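import Mathlib
import Cfsg.Agent.Lib.Helper44.SQe

/-!
# The alternating involution of maximal rank and the main theorem on `Sp_2d(q)`, `q` even, acting
on the cosets of an orthogonal group
-/

set_option autoImplicit false
set_option linter.unusedSectionVars false

namespace Cfsg.Agent.Helper44.SQ

open Module QuadraticMap Matrix Cfsg.Agent.Helper44.QF

universe u

variable {F : Type u} [Field F] [Fintype F] [CharP F 2] {d : ℕ}

/-- the sum of the second half of the coordinates -/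
def sumR (v : Fin d ⊕ Fin d → F) : F := ∑ j, v (Sum.inr j)

omit [Fintype F] [CharP F 2] in
theorem sumR_add (u v : Fin d ⊕ Fin d → F) : sumR (u + v) = sumR u + sumR v := by
  unfold sumR
  rw [← Finset.sum_add_distrib]
  rfl

omit [Fintype F] [CharP F 2] in
theorem sumR_smul (c : F) (v : Fin d ⊕ Fin d → F) : sumR (c • v) = c * sumR v := by
  unfold sumR
  rw [Finset.mul_sum]
  rfl

/-- the alternating involution of maximal rank -/
def altInvol (d : ℕ) (F : Type u) [Field F] :
    (Fin d ⊕ Fin d → F) →ₗ[F] (Fin d ⊕ Fin d → F) where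
  toFun v := Sum.elim (fun i => v (Sum.inl i) + sumR v + v (Sum.inr i)) (fun i => v (Sum.inr i))
  map_add' u v := by
    funext x
    rcases x with i | i
    · simp only [Sum.elim_inl, Pi.add_apply, sumR_add]
      ring
    · simp only [Sum.elim_inr, Pi.add_apply]
  map_smul' c v := by
    funext x
    rcases x with i | i
    · simp only [Sum.elim_inl, Pi.smul_apply, sumR_smul, smul_eq_mul, RingHom.id_apply]
      ring
    · simp only [Sum.elim_inr, Pi.smul_apply, RingHom.id_apply]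

omit [Fintype F] [CharP F 2] in
theorem altInvol_inl (v : Fin d ⊕ Fin d → F) (i : Fin d) :
    altInvol d F v (Sum.inl i) = v (Sum.inl i) + sumR v + v (Sum.inr i) := rfl

omit [Fintype F] [CharP F 2] in
theorem altInvol_inr (v : Fin d ⊕ Fin d → F) (i : Fin d) :
    altInvol d F v (Sum.inr i) = v (Sum.inr i) := rfl

omit [Fintype F] [CharP F 2] in
theorem sumR_altInvol (v : Fin d ⊕ Fin d → F) : sumR (altInvol d F v) = sumR v := rfl

omit [Fintype F] in
theorem altInvol_invol (v : Fin d ⊕ Fin d → F) : altInvol d F (altInvol d F v) = v := by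
  funext x
  rcases x with i | i
  · rw [altInvol_inl, sumR_altInvol, altInvol_inl, altInvol_inr]
    linear_combination (sumR v + v (Sum.inr i)) * (CharTwo.two_eq_zero : (2 : F) = 0)
  · rfl

omit [Fintype F] [CharP F 2] in
theorem altInvol_symp (u v : Fin d ⊕ Fin d → F) :
    Cfsg.sympForm d F (altInvol d F u) (altInvol d F v) = Cfsg.sympForm d F u v := by
  rw [Cfsg.Agent.Helper93.sympForm_explicit, Cfsg.Agent.Helper93.sympForm_explicit]
  simp only [altInvol_inl, altInvol_inr]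
  have h1 : ∀ i : Fin d, u (Sum.inr i) * (v (Sum.inl i) + sumR v + v (Sum.inr i)) -
      (u (Sum.inl i) + sumR u + u (Sum.inr i)) * v (Sum.inr i) =
      (u (Sum.inr i) * v (Sum.inl i) - u (Sum.inl i) * v (Sum.inr i)) +
        (u (Sum.inr i) * sumR v - sumR u * v (Sum.inr i)) := by
    intro i
    ring
  rw [Finset.sum_congr rfl (fun i _ => h1 i), Finset.sum_add_distrib]
  have : ∑ i, (u (Sum.inr i) * sumR v - sumR u * v (Sum.inr i)) = 0 := by
    rw [Finset.sum_sub_distrib, ← Finset.sum_mul, ← Finset.mul_sum]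
    unfold sumR
    ring
  rw [this, add_zero]

omit [Fintype F] in
theorem altInvol_alt (v : Fin d ⊕ Fin d → F) :
    Cfsg.sympForm d F v (altInvol d F v) = 0 := by
  rw [Cfsg.Agent.Helper93.sympForm_explicit]
  simp only [altInvol_inl, altInvol_inr]
  have h1 : ∀ i : Fin d, v (Sum.inr i) * (v (Sum.inl i) + sumR v + v (Sum.inr i)) -
      v (Sum.inl i) * v (Sum.inr i) = v (Sum.inr i) * sumR v + v (Sum.inr i) ^ 2 := by
    intro i
    ring
  rw [Finset.sum_congr rfl (fun i _ => h1 i), Finset.sum_add_distrib, ← Finset.sum_mul]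
  have h2 : ∑ i, v (Sum.inr i) ^ 2 = (sumR v) ^ 2 := by
    unfold sumR
    exact (sum_pow_char 2 Finset.univ (fun i => v (Sum.inr i))).symm
  rw [h2]
  show sumR v * sumR v + sumR v ^ 2 = 0
  linear_combination (sumR v ^ 2) * (CharTwo.two_eq_zero : (2 : F) = 0)

omit [Fintype F] in
/-- the fixed space of the alternating involution, `d` even -/
theorem altInvol_fixed_iff (hev : Even d) (v : Fin d ⊕ Fin d → F) :
    altInvol d F v = v ↔ ∀ j, v (Sum.inr j) = 0 := by
  constructor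
  · intro h
    have h1 : ∀ i, v (Sum.inr i) = sumR v := by
      intro i
      have := congrFun h (Sum.inl i)
      rw [altInvol_inl] at this
      have h2 : sumR v + v (Sum.inr i) = 0 := by linear_combination this
      exact (CharTwo.add_eq_zero.1 h2).symm
    have h3 : sumR v = 0 := by
      have : sumR v = ∑ _j : Fin d, sumR v := by
        conv_lhs => rw [sumR]
        exact Finset.sum_congr rfl (fun j _ => h1 j)
      rw [Finset.sum_const, Finset.card_univ, Fintype.card_fin, nsmul_eq_mul] at this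
      obtain ⟨k, hk⟩ := hev
      have hd0 : ((d : ℕ) : F) = 0 := by
        rw [hk]
        push_cast
        exact CharTwo.add_self_eq_zero _
      rw [hd0, zero_mul] at this
      exact this
    intro j
    rw [h1 j, h3]
  · intro h
    have hs : sumR v = 0 := by
      unfold sumR
      exact Finset.sum_eq_zero (fun j _ => h j)
    funext x
    rcases x with i | i
    · rw [altInvol_inl, hs, h i, add_zero, add_zero]
    · rfl

omit [Fintype F] [CharP F 2] in
theorem ker_add_id_eq (X : (Fin d ⊕ Fin d → F) →ₗ[F] (Fin d ⊕ Fin d → F)) [CharP F 2]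
    (hfix : ∀ v, X v = v ↔ ∀ j, v (Sum.inr j) = 0) :
    LinearMap.ker (X + LinearMap.id) = Cfsg.Agent.S0831.stdL d F := by
  ext v
  rw [LinearMap.mem_ker, Cfsg.Agent.S0831.mem_stdL, ← hfix]
  show X v + v = 0 ↔ X v = v
  constructor
  · intro h
    exact eq_of_add_eq_zero' F h
  · intro h
    rw [h]
    exact mod_add_self F v

/-- the alternating involution as an invertible matrix -/
noncomputable def altGL (d : ℕ) (F : Type u) [Field F] [CharP F 2] : GL (Fin d ⊕ Fin d) F :=
  glOf (LinearEquiv.ofInvolutive (altInvol d F) altInvol_invol)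

omit [Fintype F] in
theorem altGL_mulVec (v : Fin d ⊕ Fin d → F) :
    ((altGL d F : GL (Fin d ⊕ Fin d) F) : Matrix (Fin d ⊕ Fin d) (Fin d ⊕ Fin d) F) *ᵥ v =
      altInvol d F v := by
  unfold altGL
  rw [glOf_mulVec]
  rfl

omit [Fintype F] in
theorem altGL_mem : altGL d F ∈ Cfsg.spGL d F := by
  intro u v
  show Cfsg.sympForm d F (((altGL d F : GL _ F) : Matrix _ _ F) *ᵥ u)
    (((altGL d F : GL _ F) : Matrix _ _ F) *ᵥ v) = Cfsg.sympForm d F u v
  rw [altGL_mulVec, altGL_mulVec, altInvol_symp]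

omit [Fintype F] in
theorem altGL_sq : altGL d F * altGL d F = 1 := by
  apply Units.ext
  apply Matrix.mulVec_injective
  funext v
  rw [Units.val_mul, ← Matrix.mulVec_mulVec, altGL_mulVec, altGL_mulVec, altInvol_invol,
    Units.val_one, Matrix.one_mulVec]

omit [Fintype F] in
theorem altGL_not_scalar (hd : 2 ≤ d) (z : F) :
    ((altGL d F : GL (Fin d ⊕ Fin d) F) : Matrix (Fin d ⊕ Fin d) (Fin d ⊕ Fin d) F) ≠
      z • (1 : Matrix (Fin d ⊕ Fin d) (Fin d ⊕ Fin d) F) := by
  classical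
  intro h
  have h1 := congrArg (fun M : Matrix (Fin d ⊕ Fin d) (Fin d ⊕ Fin d) F =>
    (M *ᵥ (Pi.single (Sum.inr ⟨0, by omega⟩) 1 : Fin d ⊕ Fin d → F)) (Sum.inl ⟨1, by omega⟩)) h
  beta_reduce at h1
  rw [altGL_mulVec, altInvol_inl, Matrix.smul_mulVec, Matrix.one_mulVec] at h1
  have hs : sumR (Pi.single (Sum.inr ⟨0, by omega⟩) 1 : Fin d ⊕ Fin d → F) = 1 := by
    unfold sumR
    rw [Finset.sum_eq_single (⟨0, by omega⟩ : Fin d)]
    · simp
    · intro j _ hj
      rw [Pi.single_apply, if_neg]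
      intro hj'
      exact hj (Sum.inr_injective hj')
    · intro h0
      exact absurd (Finset.mem_univ _) h0
  rw [hs] at h1
  have e1 : (Pi.single (Sum.inr ⟨0, by omega⟩) 1 : Fin d ⊕ Fin d → F) (Sum.inl ⟨1, by omega⟩) = 0 := by
    rw [Pi.single_apply, if_neg]
    intro hh
    exact Sum.inl_ne_inr hh
  have e2 : (Pi.single (Sum.inr ⟨0, by omega⟩) 1 : Fin d ⊕ Fin d → F) (Sum.inr ⟨1, by omega⟩) = 0 := by
    rw [Pi.single_apply, if_neg]
    intro hh
    have := Sum.inr_injective hh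
    have := congrArg Fin.val this
    simp at this
  rw [Pi.smul_apply, e1, e2] at h1
  simp at h1

/-- if every involution is conjugate into the orthogonal group and `d` is even, `Q` is of plus
type -/
theorem plus_of_all_conj (hd : 2 ≤ d) (hev : Even d) (Q : (Fin d ⊕ Fin d → F) → F)
    (hQ : Cfsg.Geo.IsNondegenerateQuadraticForm Q)
    (hQf : ∀ u v, QuadraticMap.polar Q u v = Cfsg.sympForm d F u v)
    (hall : ∀ x ∈ Cfsg.spGL d F,
      (∃ z : F, ((x ^ 2 : GL (Fin d ⊕ Fin d) F) : Matrix (Fin d ⊕ Fin d) (Fin d ⊕ Fin d) F) =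
        z • (1 : Matrix (Fin d ⊕ Fin d) (Fin d ⊕ Fin d) F)) →
      (∀ z : F, (x : Matrix (Fin d ⊕ Fin d) (Fin d ⊕ Fin d) F) ≠
        z • (1 : Matrix (Fin d ⊕ Fin d) (Fin d ⊕ Fin d) F)) →
      ∃ g ∈ Cfsg.spGL d F, g⁻¹ * x * g ∈ Cfsg.Geo.quadSimilarityGroup Q) :
    Cfsg.Geo.IsPlusTypeOn Q ⊤ := by
  obtain ⟨g, hg, hconj⟩ := hall (altGL d F) altGL_mem
    ⟨1, by rw [pow_two, altGL_sq, Units.val_one, one_smul]⟩ (altGL_not_scalar hd)
  have hy : g⁻¹ * altGL d F * g ∈ Cfsg.spGL d F :=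
    Subgroup.mul_mem _ (Subgroup.mul_mem _ (Subgroup.inv_mem _ hg) altGL_mem) hg
  have hyQ := isometry_of_mem (by omega) Q hQf _ hy hconj
  have hginv : g⁻¹ ∈ Cfsg.spGL d F := Subgroup.inv_mem _ hg
  have hfr := finrank_V' (F := F) (d := d)
  -- the range of `altInvol + id`
  have hker := ker_add_id_eq (altInvol d F) (altInvol_fixed_iff hev)
  have hrange := LinearMap.finrank_range_add_finrank_ker (altInvol d F + LinearMap.id)
  rw [hker, (Cfsg.Agent.S0831.stdL_mts (F := F) (m := d)).1, hfr] at hrange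
  refine ⟨Submodule.map (toLE g⁻¹).toLinearMap (LinearMap.range (altInvol d F + LinearMap.id)),
    le_top, ?_, ?_⟩
  · rintro _ ⟨_, ⟨w, rfl⟩, rfl⟩
    show Q ((toLE g⁻¹) (altInvol d F w + w)) = 0
    rw [map_add, toLE_apply, toLE_apply]
    have e1 : Q (((g⁻¹ : GL _ F) : Matrix _ _ F) *ᵥ altInvol d F w +
        ((g⁻¹ : GL _ F) : Matrix _ _ F) *ᵥ w) =
        Q (((g⁻¹ : GL _ F) : Matrix _ _ F) *ᵥ altInvol d F w) +
          Q (((g⁻¹ : GL _ F) : Matrix _ _ F) *ᵥ w) +
          QuadraticMap.polar Q (((g⁻¹ : GL _ F) : Matrix _ _ F) *ᵥ altInvol d F w)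
            (((g⁻¹ : GL _ F) : Matrix _ _ F) *ᵥ w) := by
      unfold QuadraticMap.polar
      ring
    have e2 : Q (((g⁻¹ : GL _ F) : Matrix _ _ F) *ᵥ altInvol d F w) =
        Q (((g⁻¹ : GL _ F) : Matrix _ _ F) *ᵥ w) := by
      have := hyQ (((g⁻¹ : GL _ F) : Matrix _ _ F) *ᵥ w)
      rw [gl_mul_mulVec, gl_mul_mulVec, gl_mulVec_inv_mulVec, altGL_mulVec] at this
      exact this
    have e3 : QuadraticMap.polar Q (((g⁻¹ : GL _ F) : Matrix _ _ F) *ᵥ altInvol d F w)
        (((g⁻¹ : GL _ F) : Matrix _ _ F) *ᵥ w) = 0 := by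
      rw [hQf]
      have := hginv (altInvol d F w) w
      have h' : Cfsg.sympForm d F (((g⁻¹ : GL _ F) : Matrix _ _ F) *ᵥ altInvol d F w)
          (((g⁻¹ : GL _ F) : Matrix _ _ F) *ᵥ w) = Cfsg.sympForm d F (altInvol d F w) w := this
      rw [h', Cfsg.Agent.Helper93.sympForm_skew, altInvol_alt, neg_zero]
    rw [e1, e2, e3, add_zero]
    exact CharTwo.add_self_eq_zero _
  · rw [LinearEquiv.finrank_map_eq, finrank_top, hfr]
    omega

/-- the main theorem -/
theorem main (hd : 2 ≤ d) (Q : (Fin d ⊕ Fin d → F) → F)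
    (hQ : Cfsg.Geo.IsNondegenerateQuadraticForm Q)
    (hQf : ∀ u v, QuadraticMap.polar Q u v = Cfsg.sympForm d F u v)
    (r : ℕ) (hr : r.Prime)
    (hΩ : r ∣ (Cfsg.Geo.quadSimilarityGroup Q).relIndex (Cfsg.spGL d F)) :
    (∀ x ∈ Cfsg.spGL d F,
      (∃ z : F, ((x ^ r : GL (Fin d ⊕ Fin d) F) : Matrix (Fin d ⊕ Fin d) (Fin d ⊕ Fin d) F) =
        z • (1 : Matrix (Fin d ⊕ Fin d) (Fin d ⊕ Fin d) F)) →
      (∀ z : F, (x : Matrix (Fin d ⊕ Fin d) (Fin d ⊕ Fin d) F) ≠
        z • (1 : Matrix (Fin d ⊕ Fin d) (Fin d ⊕ Fin d) F)) →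
      ∃ g ∈ Cfsg.spGL d F, g⁻¹ * x * g ∈ Cfsg.Geo.quadSimilarityGroup Q) ↔
    (r = 2 ∧ (Cfsg.Geo.IsPlusTypeOn Q ⊤ ∨ Odd d)) := by
  constructor
  · intro hall
    by_cases hr2 : r = 2
    · refine ⟨hr2, ?_⟩
      subst hr2
      by_contra hcon
      have h1 : ¬ Cfsg.Geo.IsPlusTypeOn Q ⊤ := fun h => hcon (Or.inl h)
      have h2 : Even d := by
        rcases Nat.even_or_odd d with h | h
        · exact h
        · exact absurd (Or.inr h) hcon
      exact h1 (plus_of_all_conj hd h2 Q hQ hQf hall)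
    · exact absurd hall (not_all_conj_of_odd (by omega) Q hQ hQf r hr hr2 hΩ)
  · rintro ⟨rfl, hplus⟩ x hx ⟨z, hz⟩ _
    have hxx : x * x = 1 := by
      obtain ⟨u, w, huw⟩ := exists_sympForm_ne_zero (F := F) (d := d) (by omega)
      have hx2 : x ^ 2 ∈ Cfsg.spGL d F := Subgroup.pow_mem _ hx 2
      have h1 : Cfsg.sympForm d F
          (((x ^ 2 : GL (Fin d ⊕ Fin d) F) : Matrix (Fin d ⊕ Fin d) (Fin d ⊕ Fin d) F) *ᵥ u)
          (((x ^ 2 : GL (Fin d ⊕ Fin d) F) : Matrix (Fin d ⊕ Fin d) (Fin d ⊕ Fin d) F) *ᵥ w) =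
          Cfsg.sympForm d F u w := hx2 u w
      rw [hz, Matrix.smul_mulVec, Matrix.smul_mulVec, Matrix.one_mulVec, Matrix.one_mulVec,
        (Cfsg.Agent.Helper93.sympForm_bilinear d).smul_left,
        (Cfsg.Agent.Helper93.sympForm_bilinear d).smul_right] at h1
      have hz2 : z ^ 2 = 1 ^ 2 := by
        have : (z ^ 2 - 1) * Cfsg.sympForm d F u w = 0 := by linear_combination h1
        rcases mul_eq_zero.1 this with h | h
        · rw [one_pow]
          exact sub_eq_zero.1 h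
        · exact absurd h huw
      have hz1 : z = 1 := sq_inj hz2
      rw [← pow_two]
      apply Units.ext
      rw [hz, hz1, one_smul, Units.val_one]
    exact conj_mem_of_involution (by omega) Q hQ hQf hplus x hx hxx

end Cfsg.Agent.Helper44.SQ
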