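import Mathlib
import Cfsg.Agent.Lib.Helper2.SR0
import Cfsg.Agent.Lib.Helper2.SRC0
import Cfsg.Agent.Lib.Helper79.SRC1
import Cfsg.Agent.Lib.Helper79.SRC2

/-!
# SR piece (C13) `exists_g_ge3` (helper44, for helper2's SR server, S2281)
`g = [[1, Z], [0, 1]]`, `Z = -c (E_11 - E_02 - E_20)`, `P Z Pᵀ + c E_00 = Z`.
-/

set_option autoImplicit false
set_option linter.style.haveILetI false

namespace Cfsg.Agent.Helper44.SR

open Matrix Cfsg Cfsg.Agent.Helper13 Cfsg.Agent.Helper84.SpRoot Cfsg.Agent.Helper5.SpAut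
open Cfsg.Agent.Helper2.SR

section C
variable {F : Type*} [Field F] {m : ℕ}

/-- entries of `Z` as a function of the natural number indices -/
def h44_zf (c : F) (a b : ℕ) : F :=
  if a = 1 ∧ b = 1 then -c else if (a = 0 ∧ b = 2) ∨ (a = 2 ∧ b = 0) then c else 0

/-- `Z = -c (E_11 - E_02 - E_20)` -/
def h44_Z (m : ℕ) (c : F) : Matrix (Fin (m + 2)) (Fin (m + 2)) F :=
  Matrix.of fun i j => h44_zf c i.val j.val

/-- `E_00` -/
def h44_E (m : ℕ) (F : Type*) [Field F] : Matrix (Fin (m + 2)) (Fin (m + 2)) F :=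
  Matrix.of fun i j => if i.val = 0 ∧ j.val = 0 then 1 else 0

theorem h44_zf_symm (c : F) (a b : ℕ) : h44_zf c a b = h44_zf c b a := by
  unfold h44_zf
  split_ifs <;> first | rfl | omega

theorem h44_zf_big (c : F) (a b : ℕ) (h : 3 ≤ a ∨ 3 ≤ b) : h44_zf c a b = 0 := by
  unfold h44_zf
  split_ifs <;> first | rfl | omega

theorem h44_Z_transpose (c : F) : (h44_Z m c)ᵀ = h44_Z m c := by
  ext i j
  simp only [Matrix.transpose_apply, h44_Z, Matrix.of_apply]
  exact h44_zf_symm c _ _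

theorem h44_N_mul (A : Matrix (Fin (m + 2)) (Fin (m + 2)) F) (i j : Fin (m + 2)) :
    (Nm m F * A) i j = if h : i.val + 1 < m + 2 then A ⟨i.val + 1, h⟩ j else 0 := by
  rw [Matrix.mul_apply]
  by_cases h : i.val + 1 < m + 2
  · rw [dif_pos h, Finset.sum_eq_single ⟨i.val + 1, h⟩]
    · simp [Nm]
    · intro b _ hb
      have : ¬ (i.val + 1 = b.val) := fun hh => hb (Fin.ext hh.symm)
      simp [Nm, this]
    · intro hh; exact absurd (Finset.mem_univ _) hh
  · rw [dif_neg h]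
    apply Finset.sum_eq_zero
    intro b _
    have : ¬ (i.val + 1 = b.val) := by have := b.2; omega
    simp [Nm, this]

theorem h44_mul_NT (A : Matrix (Fin (m + 2)) (Fin (m + 2)) F) (i j : Fin (m + 2)) :
    (A * (Nm m F)ᵀ) i j = if h : j.val + 1 < m + 2 then A i ⟨j.val + 1, h⟩ else 0 := by
  rw [Matrix.mul_apply]
  by_cases h : j.val + 1 < m + 2
  · rw [dif_pos h, Finset.sum_eq_single ⟨j.val + 1, h⟩]
    · simp [Nm]
    · intro b _ hb
      have : ¬ (j.val + 1 = b.val) := fun hh => hb (Fin.ext hh.symm)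
      simp [Nm, this]
    · intro hh; exact absurd (Finset.mem_univ _) hh
  · rw [dif_neg h]
    apply Finset.sum_eq_zero
    intro b _
    have : ¬ (j.val + 1 = b.val) := by have := b.2; omega
    simp [Nm, this]

/-- the three shifted copies of `Z`, as functions of the natural number indices -/
theorem h44_NZ (hm : 1 ≤ m) (c : F) (i j : Fin (m + 2)) :
    (Nm m F * h44_Z m c) i j = h44_zf c (i.val + 1) j.val := by
  rw [h44_N_mul]
  by_cases h : i.val + 1 < m + 2
  · rw [dif_pos h]; rfl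
  · rw [dif_neg h, h44_zf_big c _ _ (Or.inl (by omega))]

theorem h44_ZNT (hm : 1 ≤ m) (c : F) (i j : Fin (m + 2)) :
    (h44_Z m c * (Nm m F)ᵀ) i j = h44_zf c i.val (j.val + 1) := by
  rw [h44_mul_NT]
  by_cases h : j.val + 1 < m + 2
  · rw [dif_pos h]; rfl
  · rw [dif_neg h, h44_zf_big c _ _ (Or.inr (by omega))]

theorem h44_NZNT (hm : 1 ≤ m) (c : F) (i j : Fin (m + 2)) :
    (Nm m F * h44_Z m c * (Nm m F)ᵀ) i j = h44_zf c (i.val + 1) (j.val + 1) := by
  rw [h44_mul_NT]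
  by_cases h : j.val + 1 < m + 2
  · rw [dif_pos h, h44_N_mul]
    by_cases h' : i.val + 1 < m + 2
    · rw [dif_pos h']; rfl
    · rw [dif_neg h', h44_zf_big c _ _ (Or.inl (by omega))]
  · rw [dif_neg h, h44_zf_big c _ _ (Or.inr (by omega))]

theorem h44_zf_sum (c : F) (a b : ℕ) (h : a + b ≠ 2) : h44_zf c a b = 0 := by
  unfold h44_zf
  rw [if_neg (by omega), if_neg (by omega)]

theorem h44_zf_id (c : F) (a b : ℕ) :
    h44_zf c (a + 1) b + h44_zf c a (b + 1) + h44_zf c (a + 1) (b + 1)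
      + c * (if a = 0 ∧ b = 0 then 1 else 0) = 0 := by
  by_cases h00 : a = 0 ∧ b = 0
  · obtain ⟨rfl, rfl⟩ := h00
    simp [h44_zf]
  by_cases h01 : a = 0 ∧ b = 1
  · obtain ⟨rfl, rfl⟩ := h01
    simp [h44_zf]
  by_cases h10 : a = 1 ∧ b = 0
  · obtain ⟨rfl, rfl⟩ := h10
    simp [h44_zf]
  rw [h44_zf_sum c (a + 1) b (by omega), h44_zf_sum c a (b + 1) (by omega),
    h44_zf_sum c (a + 1) (b + 1) (by omega), if_neg h00]
  ring

/-- the key identity `P Z Pᵀ + c E_00 = Z` -/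
theorem h44_PZPT (hm : 1 ≤ m) (c : F) :
    Pm m F * h44_Z m c * (Pm m F)ᵀ + c • h44_E m F = h44_Z m c := by
  have hexp : Pm m F * h44_Z m c * (Pm m F)ᵀ =
      h44_Z m c + Nm m F * h44_Z m c + h44_Z m c * (Nm m F)ᵀ
        + Nm m F * h44_Z m c * (Nm m F)ᵀ := by
    unfold Pm
    simp only [Matrix.transpose_add, Matrix.transpose_one, Matrix.add_mul, Matrix.mul_add,
      Matrix.one_mul, Matrix.mul_one]
    abel
  rw [hexp]
  ext i j
  simp only [Matrix.add_apply, Matrix.smul_apply, smul_eq_mul, h44_NZ hm, h44_ZNT hm,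
    h44_NZNT hm]
  have h := h44_zf_id c i.val j.val
  have hE : h44_E m F i j = if i.val = 0 ∧ j.val = 0 then 1 else 0 := rfl
  rw [hE]
  have hZ : h44_Z m c i j = h44_zf c i.val j.val := rfl
  rw [hZ]
  linear_combination h

/-- `Z P⁻ᵀ = P Z + c E_00 P⁻ᵀ` -/
theorem h44_ZPinvT (hm : 1 ≤ m) (c : F) :
    h44_Z m c * (Pinv m F)ᵀ = Pm m F * h44_Z m c + c • h44_E m F * (Pinv m F)ᵀ := by
  have h1 : (Pm m F)ᵀ * (Pinv m F)ᵀ = 1 := by
    rw [← Matrix.transpose_mul, (Cfsg.Agent.Helper79.SR.P_mul_Pinv (m := m) (F := F)).2,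
      Matrix.transpose_one]
  calc h44_Z m c * (Pinv m F)ᵀ
      = (Pm m F * h44_Z m c * (Pm m F)ᵀ + c • h44_E m F) * (Pinv m F)ᵀ := by
        rw [h44_PZPT hm c]
    _ = Pm m F * h44_Z m c * ((Pm m F)ᵀ * (Pinv m F)ᵀ) + c • h44_E m F * (Pinv m F)ᵀ := by
        rw [Matrix.add_mul, Matrix.mul_assoc]
    _ = Pm m F * h44_Z m c + c • h44_E m F * (Pinv m F)ᵀ := by
        rw [h1, Matrix.mul_one]

/-- the matrix of `g` -/
def h44_gM (m : ℕ) (c : F) : Matrix (Fin (m + 2) ⊕ Fin (m + 2)) (Fin (m + 2) ⊕ Fin (m + 2)) F :=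
  Matrix.fromBlocks 1 (h44_Z m c) 0 1

theorem h44_gM_mem (c : F) : h44_gM m c ∈ Matrix.symplecticGroup (Fin (m + 2)) F := by
  rw [SymplecticGroup.mem_iff]
  unfold h44_gM Matrix.J
  rw [Matrix.fromBlocks_transpose, Matrix.fromBlocks_multiply, Matrix.fromBlocks_multiply]
  simp [h44_Z_transpose]

/-- the matrix of the transvection `T_{e_0}(c)` -/
theorem h44_sympT_val (c : F) :
    (sympT (be (m := m) (F := F) 0) c).val = Matrix.fromBlocks 1 (c • h44_E m F) 0 1 := by
  apply Matrix.mulVec_injective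
  funext v
  rw [sympT_act, (Cfsg.Agent.Helper2.SR.form_basis v 0).1, Matrix.fromBlocks_mulVec]
  funext k
  rcases k with k | k
  · simp only [Pi.add_apply, Pi.smul_apply, smul_eq_mul, Sum.elim_inl, Matrix.one_mulVec,
      Function.comp_apply, Matrix.smul_mulVec]
    have hE : (h44_E m F *ᵥ (v ∘ Sum.inr)) k = if k.val = 0 then v (Sum.inr 0) else 0 := by
      show ∑ j, h44_E m F k j * (v ∘ Sum.inr) j = _
      rw [Finset.sum_eq_single (0 : Fin (m + 2))]
      · simp [h44_E]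
      · intro b _ hb
        have hb' : ¬ (k.val = 0 ∧ b.val = 0) := fun hh => hb (Fin.ext hh.2)
        show h44_E m F k b * (v ∘ Sum.inr) b = 0
        have : h44_E m F k b = 0 := if_neg hb'
        rw [this, zero_mul]
      · intro hh; exact absurd (Finset.mem_univ _) hh
    rw [hE]
    by_cases hk : k = 0
    · subst hk
      simp [be]
    · have hk' : ¬ (k.val = 0) := fun hh => hk (Fin.ext hh)
      have : (be (m := m) (F := F) 0) (Sum.inl k) = 0 := by
        unfold be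
        rw [Pi.single_apply, if_neg]
        intro hh
        exact hk (Sum.inl.inj hh)
      rw [this, if_neg hk']
      simp
  · simp only [Pi.add_apply, Pi.smul_apply, smul_eq_mul, Sum.elim_inr, Matrix.one_mulVec,
      Function.comp_apply, Matrix.zero_mulVec, Pi.zero_apply, zero_add]
    have : (be (m := m) (F := F) 0) (Sum.inr k) = 0 := by
      unfold be
      rw [Pi.single_apply, if_neg]
      intro hh
      cases hh
    rw [this, mul_zero, add_zero]

/-- (C13) `n ≥ 3`: `g = [[1, Z], [0, 1]]`, `Z = -c (E_11 - E_02 - E_20)` -/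
theorem exists_g_ge3 (hm : 1 ≤ m) (s c : F) :
    ∃ g : Matrix.symplecticGroup (Fin (m + 2)) F,
      g * uEl s * g⁻¹ = sympT (be 0) c * uEl s := by
  refine ⟨⟨h44_gM m c, h44_gM_mem c⟩, ?_⟩
  rw [mul_inv_eq_iff_eq_mul]
  apply Subtype.ext
  rw [Submonoid.coe_mul, Submonoid.coe_mul, Submonoid.coe_mul,
    Cfsg.Agent.Helper79.SR.uEl_val, h44_sympT_val]
  show h44_gM m c * uM s = Matrix.fromBlocks 1 (c • h44_E m F) 0 1 * uM s * h44_gM m c
  unfold h44_gM uM
  rw [Matrix.fromBlocks_multiply, Matrix.fromBlocks_multiply, Matrix.fromBlocks_multiply]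
  simp only [Matrix.one_mul, Matrix.mul_one, Matrix.mul_zero, Matrix.zero_mul, add_zero,
    zero_add]
  congr 1
  rw [h44_ZPinvT hm c]
  abel

end C

end Cfsg.Agent.Helper44.SR
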