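import Mathlib
import Cfsg.Agent.Lib.Helper2.SR0

/-!
# SR piece (T3) `tri_cyclic` (helper44, for helper2's SR server, S2281)
Also self-contained copies of (T1) and (T2) as `h44_tri_iter`, `h44_tri_iter_ne`.
-/

set_option autoImplicit false
set_option linter.style.haveILetI false

namespace Cfsg.Agent.Helper44.SR

open Matrix Cfsg Cfsg.Agent.Helper13 Cfsg.Agent.Helper84.SpRoot Cfsg.Agent.Helper5.SpAut
open Cfsg.Agent.Helper2.SR

section T
variable {F : Type*} [Field F] {ι : Type*} [Fintype ι] [DecidableEq ι]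

/-- one step: `T *ᵥ x` vanishes one level higher -/
theorem h44_tri_step (lv : ι → ℕ) (T : Matrix ι ι F) (hT : ∀ a b, lv a ≤ lv b → T a b = 0)
    (r : ℕ) (x : ι → F) (hx : ∀ b, lv b < r → x b = 0) :
    ∀ a, lv a < r + 1 → (T *ᵥ x) a = 0 := by
  intro a ha
  show ∑ b, T a b * x b = 0
  apply Finset.sum_eq_zero
  intro b _
  by_cases hb : lv b < r
  · rw [hx b hb, mul_zero]
  · rw [hT a b (by omega), zero_mul]

/-- (T1) copy -/
theorem h44_tri_iter (lv : ι → ℕ) (T : Matrix ι ι F) (hT : ∀ a b, lv a ≤ lv b → T a b = 0) :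
    ∀ (k r : ℕ) (x : ι → F), (∀ b, lv b < r → x b = 0) →
      ∀ a, lv a < r + k → ((T ^ k) *ᵥ x) a = 0 := by
  intro k
  induction k with
  | zero =>
    intro r x hx a ha
    rw [pow_zero, Matrix.one_mulVec]
    exact hx a (by omega)
  | succ k ih =>
    intro r x hx a ha
    rw [pow_succ, ← Matrix.mulVec_mulVec]
    exact ih (r + 1) (T *ᵥ x) (h44_tri_step lv T hT r x hx) a (by omega)

/-- one step, nonvanishing -/
theorem h44_tri_step_ne (lv : ι → ℕ) (hinj : Function.Injective lv)
    (T : Matrix ι ι F) (hT : ∀ a b, lv a ≤ lv b → T a b = 0)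
    (hsub : ∀ a b, lv a = lv b + 1 → T a b ≠ 0)
    (r : ℕ) (x : ι → F) (hx : ∀ b, lv b < r → x b = 0) (b₀ : ι) (hb₀ : lv b₀ = r)
    (hxb : x b₀ ≠ 0) (a : ι) (ha : lv a = r + 1) : (T *ᵥ x) a ≠ 0 := by
  have hsum : (T *ᵥ x) a = T a b₀ * x b₀ := by
    show ∑ b, T a b * x b = T a b₀ * x b₀
    apply Finset.sum_eq_single b₀
    · intro b _ hb
      by_cases hbr : lv b < r
      · rw [hx b hbr, mul_zero]
      · have hne : lv b ≠ r := fun h => hb (hinj (h.trans hb₀.symm))
        rw [hT a b (by omega), zero_mul]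
    · intro h
      exact absurd (Finset.mem_univ _) h
  rw [hsum]
  exact mul_ne_zero (hsub a b₀ (by omega)) hxb

/-- (T2) copy -/
theorem h44_tri_iter_ne (lv : ι → ℕ) (hinj : Function.Injective lv)
    (hsurj : ∀ a, ∀ j < lv a, ∃ b, lv b = j)
    (T : Matrix ι ι F) (hT : ∀ a b, lv a ≤ lv b → T a b = 0)
    (hsub : ∀ a b, lv a = lv b + 1 → T a b ≠ 0) :
    ∀ (k r : ℕ) (x : ι → F), (∀ b, lv b < r → x b = 0) → (∃ b, lv b = r ∧ x b ≠ 0) →
      ∀ a, lv a = r + k → ((T ^ k) *ᵥ x) a ≠ 0 := by
  intro k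
  induction k with
  | zero =>
    intro r x _ hx1 a ha
    obtain ⟨b, hb, hxb⟩ := hx1
    rw [pow_zero, Matrix.one_mulVec]
    have : a = b := hinj (by omega)
    rw [this]
    exact hxb
  | succ k ih =>
    intro r x hx hx1 a ha
    obtain ⟨b₀, hb₀, hxb⟩ := hx1
    rw [pow_succ, ← Matrix.mulVec_mulVec]
    -- an element of level `r + 1`
    have hex : ∃ b', lv b' = r + 1 := by
      by_cases hk : k = 0
      · exact ⟨a, by omega⟩
      · exact hsurj a (r + 1) (by omega)
    obtain ⟨b', hb'⟩ := hex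
    refine ih (r + 1) (T *ᵥ x) (h44_tri_step lv T hT r x hx) ⟨b', hb', ?_⟩ a (by omega)
    exact h44_tri_step_ne lv hinj T hT hsub r x hx b₀ hb₀ hxb b' hb'

/-- all levels are below the cardinality of the index type -/
theorem h44_lv_lt_card (lv : ι → ℕ) (hinj : Function.Injective lv)
    (hsurj : ∀ a, ∀ j < lv a, ∃ b, lv b = j) (a : ι) : lv a < Fintype.card ι := by
  classical
  have hex : ∀ j : Fin (lv a + 1), ∃ b, lv b = (j : ℕ) := by
    intro j
    by_cases hj : (j : ℕ) < lv a
    · exact hsurj a j hj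
    · exact ⟨a, by have := j.2; omega⟩
  choose f hf using hex
  have hfi : Function.Injective f := by
    intro j j' h
    apply Fin.ext
    rw [← hf j, ← hf j', h]
  have := Fintype.card_le_of_injective f hfi
  rw [Fintype.card_fin] at this
  omega

/-- (T3) downward induction on the level -/
theorem tri_cyclic (lv : ι → ℕ) (hinj : Function.Injective lv)
    (hsurj : ∀ a, ∀ j < lv a, ∃ b, lv b = j)
    (T : Matrix ι ι F) (hT : ∀ a b, lv a ≤ lv b → T a b = 0)
    (hsub : ∀ a b, lv a = lv b + 1 → T a b ≠ 0)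
    (S : Submodule F (ι → F)) (x : ι → F) (hxS : x ∈ S)
    (hx0 : ∀ b, lv b < 1 → x b = 0) (hx1 : ∃ b, lv b = 1 ∧ x b ≠ 0)
    (hS : ∀ y ∈ S, (1 + T) *ᵥ y ∈ S) :
    ∀ y : ι → F, (∀ b, lv b < 1 → y b = 0) → y ∈ S := by
  -- `S` is stable under `T`
  have hTS : ∀ y ∈ S, T *ᵥ y ∈ S := by
    intro y hy
    have h1 := hS y hy
    rw [Matrix.add_mulVec, Matrix.one_mulVec] at h1
    have := S.sub_mem h1 hy
    rwa [add_sub_cancel_left] at this
  have hpow : ∀ k : ℕ, (T ^ k) *ᵥ x ∈ S := by
    intro k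
    induction k with
    | zero => rw [pow_zero, Matrix.one_mulVec]; exact hxS
    | succ k ih =>
      rw [pow_succ', ← Matrix.mulVec_mulVec]
      exact hTS _ ih
  -- downward induction
  have key : ∀ d r : ℕ, 1 ≤ r → Fintype.card ι ≤ r + d →
      ∀ y : ι → F, (∀ b, lv b < r → y b = 0) → y ∈ S := by
    intro d
    induction d with
    | zero =>
      intro r _ hN y hy
      have : y = 0 := by
        funext b
        exact hy b (by have := h44_lv_lt_card lv hinj hsurj b; omega)
      rw [this]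
      exact S.zero_mem
    | succ d ih =>
      intro r hr hN y hy
      by_cases hex : ∃ b, lv b = r
      · obtain ⟨b₀, hb₀⟩ := hex
        set z := (T ^ (r - 1)) *ᵥ x with hz
        have hzS : z ∈ S := hpow (r - 1)
        have hz0 : ∀ b, lv b < r → z b = 0 := by
          intro b hb
          exact h44_tri_iter lv T hT (r - 1) 1 x hx0 b (by omega)
        have hzb : z b₀ ≠ 0 :=
          h44_tri_iter_ne lv hinj hsurj T hT hsub (r - 1) 1 x hx0 hx1 b₀ (by omega)
        have hy' : y - (y b₀ / z b₀) • z ∈ S := by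
          apply ih (r + 1) (by omega) (by omega)
          intro b hb
          by_cases hbr : lv b < r
          · simp [hy b hbr, hz0 b hbr]
          · have : b = b₀ := hinj (by omega)
            rw [this]
            simp only [Pi.sub_apply, Pi.smul_apply, smul_eq_mul]
            field_simp
            ring
        have := S.add_mem hy' (S.smul_mem (y b₀ / z b₀) hzS)
        rwa [sub_add_cancel] at this
      · apply ih (r + 1) (by omega) (by omega)
        intro b hb
        apply hy b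
        have : lv b ≠ r := fun h => hex ⟨b, h⟩
        omega
  intro y hy
  exact key (Fintype.card ι) 1 le_rfl (by omega) y hy

end T

end Cfsg.Agent.Helper44.SR
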