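import Mathlib
import Cfsg.Agent.Lib.Helper62.SUO0

/-!
# SUO (helper62 server, S2282), piece (C2) `exists_u`: hypothesis-form core (the element `R` of (C1)
enters as explicit data).  (helper44)
-/

set_option autoImplicit false
set_option linter.unusedSectionVars false
set_option linter.unusedVariables false
set_option quotPrecheck false

namespace Cfsg.Agent.Helper44.SUO

open Matrix Cfsg Cfsg.Agent.Helper13 Cfsg.Agent.Helper87.PsuA Cfsg.Agent.Helper87.PsuB0
  Cfsg.Agent.Helper62.SUO

section gen
variable {F : Type*} [Field F] [Fintype F] {q n : ℕ} (hF : Fintype.card F = q ^ 2)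
  {b : Fin n → Fin n → F}

include hF

/-- own copy of (U1): superdiagonal entries add -/
theorem h44_superdiag_mul (hb : HB q b) {g h : ↥(Cfsg.SU n F q)} (hg : g ∈ Usub hb)
    (hh : h ∈ Usub hb) (i j : Fin n) (hij : i.val + 1 = j.val) :
    co q b (actv (g * h) (b j)) i = co q b (actv g (b j)) i + co q b (actv h (b j)) i := by
  rw [mem_Usub_iff] at hg hh
  rw [← rhoM_apply, rhoM_mul hb, Matrix.mul_apply]
  simp only [rhoM_apply]
  have hne : i ≠ j := by
    intro e
    rw [e] at hij
    omega
  rw [Finset.sum_eq_add i j hne]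
  · rw [hg i i le_rfl, if_pos rfl, hh j j le_rfl, if_pos rfl, one_mul, mul_one, add_comm]
  · intro k _ hk
    obtain ⟨hki, hkj⟩ := hk
    by_cases h1 : k ≤ i
    · rw [hg i k h1, if_neg (Ne.symm hki), zero_mul]
    · have h2 : j ≤ k := by
        rw [Fin.le_def]
        rw [Fin.le_def] at h1
        omega
      rw [hh k j h2, if_neg hkj, mul_zero]
  · intro h
    exact absurd (Finset.mem_univ _) h
  · intro h
    exact absurd (Finset.mem_univ _) h

/-- action of a single root-type Eichler element `E(b_k, c • b_k', a)` on the basis -/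
theorem h44_eich_bb (hb : HB q b) (k k' : Fin n) (hk : k ≠ Fin.rev k) (hkk' : k' ≠ Fin.rev k)
    (c a : F)
    (ha : a + a ^ q + Cfsg.hermForm n F q (c • b k') (c • b k') = 0) (j : Fin n) :
    actv (eich hF (b k) (c • b k') a) (b j) =
      b j + (if k = Fin.rev j then c else 0) • b k' - (if Fin.rev j = k' then c ^ q else 0) • b k
        + (if k = Fin.rev j then a else 0) • b k := by
  have huw : Cfsg.hermForm n F q (b k) (c • b k') = 0 := by
    rw [hermForm_smul_right, hb k k', if_neg hkk', mul_zero]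
  rw [eich_b hF hb k hk _ a huw ha j, co_smul, co_b hb]
  have hz : (0 : F) ^ q = 0 := frob_zero hF
  by_cases h1 : k = Fin.rev j <;> by_cases h2 : Fin.rev j = k' <;>
    simp [h1, h2, hz]

end gen

section C
variable {F : Type*} [Field F] [Fintype F] {q m : ℕ} (hF : Fintype.card F = q ^ 2)
  {b : Fin (2 * m + 5) → Fin (2 * m + 5) → F}

include hF

theorem h44_rev_val (j : Fin (2 * m + 5)) : (Fin.rev j).val = 2 * m + 4 - j.val := by
  rw [Fin.val_rev]
  omega

/-- (C2), hypothesis form: `u = A * B * R` with `R` as in (C1). -/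
theorem h44_exists_u_of (hb : HB q b) (t a : F) (ht : t ≠ 0) (hta : a + a ^ q + t * t ^ q = 0)
    (R : ↥(Cfsg.SU (2 * m + 5) F q)) (hRU : R ∈ Usub hb)
    (hR3 : actv R (b ⟨m + 3, by omega⟩) = b ⟨m + 3, by omega⟩)
    (hR4 : actv R (b ⟨m + 4, by omega⟩) = b ⟨m + 4, by omega⟩)
    (hRnz : ∀ i j : Fin (2 * m + 5), i.val + 1 = j.val → (j.val ≤ m ∨ m + 5 ≤ j.val) →
        co q b (actv R (b j)) i ≠ 0)
    (hRz : ∀ i j : Fin (2 * m + 5), i.val + 1 = j.val → m + 1 ≤ j.val → j.val ≤ m + 4 →
        co q b (actv R (b j)) i = 0) :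
    ∃ u : ↥(Cfsg.SU (2 * m + 5) F q), u ∈ Usub hb ∧ SupNZ q b u ∧
      actv u (b ⟨m + 4, by omega⟩) = b ⟨m + 4, by omega⟩ - b ⟨m + 3, by omega⟩ ∧
      actv u (b ⟨m + 3, by omega⟩) = b ⟨m + 3, by omega⟩ + t • b ⟨m + 2, by omega⟩
        + a • b ⟨m + 1, by omega⟩ + a • b ⟨m, by omega⟩ := by
  have hz : (0 : F) ^ q = 0 := frob_zero hF
  have hm1 : ((-1 : F)) ^ q = -1 := by rw [frob_neg hF, one_pow]
  -- the two root elements
  have kA : (⟨m, by omega⟩ : Fin (2 * m + 5)) ≠ Fin.rev ⟨m, by omega⟩ := by
    intro e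
    have := congrArg Fin.val e
    rw [h44_rev_val hF] at this
    simp only at this
    omega
  have kA' : (⟨m + 3, by omega⟩ : Fin (2 * m + 5)) ≠ Fin.rev ⟨m, by omega⟩ := by
    intro e
    have := congrArg Fin.val e
    rw [h44_rev_val hF] at this
    simp only at this
    omega
  have kB : (⟨m + 1, by omega⟩ : Fin (2 * m + 5)) ≠ Fin.rev ⟨m + 1, by omega⟩ := by
    intro e
    have := congrArg Fin.val e
    rw [h44_rev_val hF] at this
    simp only at this
    omega
  have kB' : (⟨m + 2, by omega⟩ : Fin (2 * m + 5)) ≠ Fin.rev ⟨m + 1, by omega⟩ := by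
    intro e
    have := congrArg Fin.val e
    rw [h44_rev_val hF] at this
    simp only at this
    omega
  have h33 : Cfsg.hermForm (2 * m + 5) F q (b ⟨m + 3, by omega⟩) (b ⟨m + 3, by omega⟩) = 0 := by
    rw [hb]
    apply if_neg
    intro e
    have := congrArg Fin.val e
    rw [h44_rev_val hF] at this
    simp only at this
    omega
  have h22 : Cfsg.hermForm (2 * m + 5) F q (b ⟨m + 2, by omega⟩) (b ⟨m + 2, by omega⟩) = 1 := by
    rw [hb]
    apply if_pos
    apply Fin.ext
    rw [h44_rev_val hF]
    simp only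
    omega
  have haA : (0 : F) + 0 ^ q + Cfsg.hermForm (2 * m + 5) F q ((-1 : F) • b ⟨m + 3, by omega⟩)
      ((-1 : F) • b ⟨m + 3, by omega⟩) = 0 := by
    rw [hermForm_smul_left, hermForm_smul_right, h33, hz]
    ring
  have haB : a + a ^ q + Cfsg.hermForm (2 * m + 5) F q (t • b ⟨m + 2, by omega⟩)
      (t • b ⟨m + 2, by omega⟩) = 0 := by
    rw [hermForm_smul_left, hermForm_smul_right, h22, mul_one]
    exact hta
  have actA := h44_eich_bb hF hb ⟨m, by omega⟩ ⟨m + 3, by omega⟩ kA kA' (-1) 0 haA
  have actB := h44_eich_bb hF hb ⟨m + 1, by omega⟩ ⟨m + 2, by omega⟩ kB kB' t a haB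
  -- membership in `Usub`
  have hAU : eich hF (b ⟨m, by omega⟩) ((-1 : F) • b ⟨m + 3, by omega⟩) 0 ∈ Usub hb := by
    apply eich_mem_Usub hF hb ⟨m, by omega⟩ _ _ 0 _ haA
    · rw [Fin.lt_def, h44_rev_val hF]
      simp only
      omega
    · intro i hi
      rw [Fin.le_def, h44_rev_val hF] at hi
      simp only at hi
      rw [co_smul, co_b hb, if_neg, mul_zero]
      intro e
      have := congrArg Fin.val e
      simp only at this
      omega
  have hBU : eich hF (b ⟨m + 1, by omega⟩) (t • b ⟨m + 2, by omega⟩) a ∈ Usub hb := by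
    apply eich_mem_Usub hF hb ⟨m + 1, by omega⟩ _ _ a _ haB
    · rw [Fin.lt_def, h44_rev_val hF]
      simp only
      omega
    · intro i hi
      rw [Fin.le_def, h44_rev_val hF] at hi
      simp only at hi
      rw [co_smul, co_b hb, if_neg, mul_zero]
      intro e
      have := congrArg Fin.val e
      simp only at this
      omega
  -- superdiagonal entries of `A` and `B`
  have sA : ∀ i j : Fin (2 * m + 5), i.val + 1 = j.val →
      co q b (actv (eich hF (b ⟨m, by omega⟩) ((-1 : F) • b ⟨m + 3, by omega⟩) 0) (b j)) i =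
        if j.val = m + 1 then 1 else if j.val = m + 4 then -1 else 0 := by
    intro i j hij
    have hj := j.isLt
    rw [actA j]
    simp only [co_add, co_sub hF, co_smul, co_b hb, Fin.ext_iff, h44_rev_val hF]
    split_ifs <;> first | (exfalso; omega) | simp [hm1]
  have sB : ∀ i j : Fin (2 * m + 5), i.val + 1 = j.val →
      co q b (actv (eich hF (b ⟨m + 1, by omega⟩) (t • b ⟨m + 2, by omega⟩) a) (b j)) i =
        if j.val = m + 2 then -(t ^ q) else if j.val = m + 3 then t else 0 := by
    intro i j hij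
    have hj := j.isLt
    rw [actB j]
    simp only [co_add, co_sub hF, co_smul, co_b hb, Fin.ext_iff, h44_rev_val hF]
    split_ifs <;> first | (exfalso; omega) | simp
  refine ⟨eich hF (b ⟨m, by omega⟩) ((-1 : F) • b ⟨m + 3, by omega⟩) 0 *
      eich hF (b ⟨m + 1, by omega⟩) (t • b ⟨m + 2, by omega⟩) a * R,
    (Usub hb).mul_mem ((Usub hb).mul_mem hAU hBU) hRU, ?_, ?_, ?_⟩
  · -- SupNZ
    intro i j hij
    rw [h44_superdiag_mul hF hb ((Usub hb).mul_mem hAU hBU) hRU i j hij,
      h44_superdiag_mul hF hb hAU hBU i j hij, sA i j hij, sB i j hij]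
    have hj := j.isLt
    by_cases hout : j.val ≤ m ∨ m + 5 ≤ j.val
    · have hR := hRnz i j hij hout
      rw [if_neg (by omega), if_neg (by omega), if_neg (by omega), if_neg (by omega)]
      simpa using hR
    · have hR := hRz i j hij (by omega) (by omega)
      rw [hR, add_zero]
      have hcases : j.val = m + 1 ∨ j.val = m + 2 ∨ j.val = m + 3 ∨ j.val = m + 4 := by omega
      rcases hcases with h | h | h | h
      · rw [if_pos h, if_neg (by omega), if_neg (by omega)]
        simp
      · rw [if_neg (by omega), if_neg (by omega), if_pos h]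
        simpa using pow_ne_zero q ht
      · rw [if_neg (by omega), if_neg (by omega), if_neg (by omega), if_pos h]
        simpa using ht
      · rw [if_neg (by omega), if_pos h, if_neg (by omega), if_neg (by omega)]
        simp
  · -- action on `b (m+4)`
    rw [actv_mul, actv_mul, hR4, actB]
    simp only [Fin.ext_iff, h44_rev_val hF]
    rw [if_neg (by omega), if_neg (by omega), if_neg (by omega)]
    simp only [zero_smul, add_zero, sub_zero]
    rw [actA]
    simp only [Fin.ext_iff, h44_rev_val hF]
    rw [if_pos (by omega), if_neg (by omega), if_pos (by omega)]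
    simp only [zero_smul, add_zero, sub_zero, neg_smul, one_smul]
    rw [sub_eq_add_neg]
  · -- action on `b (m+3)`
    rw [actv_mul, actv_mul, hR3, actB]
    simp only [Fin.ext_iff, h44_rev_val hF]
    rw [if_pos (by omega), if_neg (by omega), if_pos (by omega)]
    simp only [zero_smul, sub_zero]
    rw [actv_add, actv_add, actv_smul, actv_smul, actA, actA, actA]
    simp only [Fin.ext_iff, h44_rev_val hF]
    rw [if_neg (by omega), if_neg (by omega), if_neg (by omega), if_neg (by omega),
      if_neg (by omega), if_neg (by omega), if_neg (by omega), if_pos (by omega),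
      if_neg (by omega)]
    simp only [zero_smul, add_zero, sub_zero, hm1, neg_smul, one_smul, sub_neg_eq_add, smul_add]
    abel

end C

end Cfsg.Agent.Helper44.SUO
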