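import Mathlib
import Cfsg.Agent.Lib.Helper62.SUO0
import Cfsg.Agent.Lib.Helper1.SUOC1
import Cfsg.Agent.Lib.Helper44.SUOC2

/-!
# SUO (helper62 server, S2282), piece (C2) `exists_u`, VERBATIM (helper44):
`u = A * B * R`, `R` from helper1's (C1) `exists_R`.
-/

set_option autoImplicit false
set_option linter.unusedSectionVars false
set_option linter.unusedVariables false
set_option quotPrecheck false

namespace Cfsg.Agent.Helper44.SUO

open Matrix Cfsg Cfsg.Agent.Helper13 Cfsg.Agent.Helper87.PsuA Cfsg.Agent.Helper62.SUO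

section C
variable {F : Type*} [Field F] [Fintype F] {q m : ℕ} (hF : Fintype.card F = q ^ 2)
  {b : Fin (2 * m + 5) → Fin (2 * m + 5) → F}

local notation "V" => Fin (2 * m + 5) → F
local notation "G" => ↥(Cfsg.SU (2 * m + 5) F q)
local notation "H" => Cfsg.hermForm (2 * m + 5) F q

include hF

/-- (C2) `u = A * B * R`, `A = eich (b m) (-(b (m+3))) 0`, `B = eich (b (m+1)) (t • b (m+2)) a`,
`R` from C1 (`eich_b`, `eich_mem_Usub`, U1) -/
theorem exists_u (hb : HB q b) (t a : F) (ht : t ≠ 0) (hta : a + a ^ q + t * t ^ q = 0) :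
    ∃ u : G, u ∈ Usub hb ∧ SupNZ q b u ∧
      actv u (b ⟨m + 4, by omega⟩) = b ⟨m + 4, by omega⟩ - b ⟨m + 3, by omega⟩ ∧
      actv u (b ⟨m + 3, by omega⟩) = b ⟨m + 3, by omega⟩ + t • b ⟨m + 2, by omega⟩
        + a • b ⟨m + 1, by omega⟩ + a • b ⟨m, by omega⟩ := by
  obtain ⟨R, hRU, hR3, hR4, hRnz, hRz⟩ := Cfsg.Agent.Helper1.SUO.exists_R hF hb
  exact h44_exists_u_of hF hb t a ht hta R hRU hR3 hR4 hRnz hRz

end C

end Cfsg.Agent.Helper44.SUO
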