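import Mathlib
import Cfsg.Agent.Lib.Helper62.SUO0
import Cfsg.Agent.Lib.Helper78.SUOM
import Cfsg.Agent.Lib.Helper96.SUOE5

/-!
# SUO (helper62 server, S2282), piece (E6) `core_top`, VERBATIM (helper44):
`Q_le` (M9, helper78) + `top_of_Q` (E5, helper96) with `t = l * l`.
-/

set_option autoImplicit false
set_option linter.unusedSectionVars false
set_option linter.unusedVariables false
set_option quotPrecheck false

namespace Cfsg.Agent.Helper44.SUO

open Matrix Cfsg Cfsg.Agent.Helper13 Cfsg.Agent.Helper87.PsuA Cfsg.Agent.Helper62.SUO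

section E
variable {F : Type*} [Field F] [Fintype F] {q n : ℕ} (hF : Fintype.card F = q ^ 2)
  {Hs : Subgroup ↥(Cfsg.SU n F q)}

local notation "V" => Fin n → F
local notation "G" => ↥(Cfsg.SU n F q)
local notation "H" => Cfsg.hermForm n F q

include hF

/-- (E6) M9 + E5 with `t = l * l` (`H (l (l e0)) e0 = H (l e1) (l p) = γ`) -/
theorem core_top (hn : 3 ≤ n) (h32 : ¬(n = 3 ∧ q = 2)) {u l : G} {e0 e1 p : V} {c γ : F}
    (hyp : Hyp hF Hs u l e0 e1 p c γ) : Hs = ⊤ := by
  apply Cfsg.Agent.Helper96.SUO.top_of_Q hF hn h32 hyp.e0e0 (Cfsg.Agent.Helper78.SUO.Q_le hF hyp)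
    (t := l * l) (Hs.mul_mem hyp.hl hyp.hl)
  rw [actv_mul, hyp.le0]
  have h1 : H (actv l e1) e0 = H (actv l e1) (actv l p) := by rw [hyp.lp]
  rw [h1, H_actv, hyp.e1p]
  exact hyp.γ0

end E

end Cfsg.Agent.Helper44.SUO
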