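import Mathlib
import Cfsg.Prelude.Def_Classical

/-!
# Hyperbolic quadratic form: polar form, reflections and Siegel elements

Generic facts about `Cfsg.quadFormPlus n F` used for the statement on Sylow `2`-subgroups of
`O⁺(2m,2)`.
-/

set_option autoImplicit false
set_option linter.unusedSectionVars false

namespace Cfsg.Agent.Helper44.SylMeet

open Matrix

universe u

variable {F : Type u} [Field F] {n : ℕ}

/-- the polar form of the hyperbolic quadratic form -/
def Bf (u v : Fin n ⊕ Fin n → F) : F :=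
  ∑ i : Fin n, (u (Sum.inl i) * v (Sum.inr i) + u (Sum.inr i) * v (Sum.inl i))

theorem Q_add (u v : Fin n ⊕ Fin n → F) :
    Cfsg.quadFormPlus n F (u + v) = Cfsg.quadFormPlus n F u + Cfsg.quadFormPlus n F v + Bf u v := by
  unfold Cfsg.quadFormPlus Bf
  rw [← Finset.sum_add_distrib, ← Finset.sum_add_distrib]
  apply Finset.sum_congr rfl
  intro i _
  simp only [Pi.add_apply]
  ring

theorem Q_smul (c : F) (u : Fin n ⊕ Fin n → F) :
    Cfsg.quadFormPlus n F (c • u) = c ^ 2 * Cfsg.quadFormPlus n F u := by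
  unfold Cfsg.quadFormPlus
  rw [Finset.mul_sum]
  apply Finset.sum_congr rfl
  intro i _
  simp only [Pi.smul_apply, smul_eq_mul]
  ring

theorem Q_neg (u : Fin n ⊕ Fin n → F) :
    Cfsg.quadFormPlus n F (-u) = Cfsg.quadFormPlus n F u := by
  have := Q_smul (-1 : F) u
  simpa using this

theorem Bf_comm (u v : Fin n ⊕ Fin n → F) : Bf u v = Bf v u := by
  unfold Bf
  apply Finset.sum_congr rfl
  intro i _
  ring

theorem Bf_add_left (u u' v : Fin n ⊕ Fin n → F) : Bf (u + u') v = Bf u v + Bf u' v := by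
  unfold Bf
  rw [← Finset.sum_add_distrib]
  apply Finset.sum_congr rfl
  intro i _
  simp only [Pi.add_apply]
  ring

theorem Bf_smul_left (c : F) (u v : Fin n ⊕ Fin n → F) : Bf (c • u) v = c * Bf u v := by
  unfold Bf
  rw [Finset.mul_sum]
  apply Finset.sum_congr rfl
  intro i _
  simp only [Pi.smul_apply, smul_eq_mul]
  ring

theorem Bf_add_right (u v v' : Fin n ⊕ Fin n → F) : Bf u (v + v') = Bf u v + Bf u v' := by
  rw [Bf_comm, Bf_add_left, Bf_comm v, Bf_comm v']

theorem Bf_smul_right (c : F) (u v : Fin n ⊕ Fin n → F) : Bf u (c • v) = c * Bf u v := by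
  rw [Bf_comm, Bf_smul_left, Bf_comm]

theorem Bf_neg_left (u v : Fin n ⊕ Fin n → F) : Bf (-u) v = - Bf u v := by
  have := Bf_smul_left (-1 : F) u v
  simpa using this

theorem Bf_sub_left (u u' v : Fin n ⊕ Fin n → F) : Bf (u - u') v = Bf u v - Bf u' v := by
  rw [sub_eq_add_neg, Bf_add_left, Bf_neg_left, sub_eq_add_neg]

theorem Bf_self (u : Fin n ⊕ Fin n → F) : Bf u u = 2 * Cfsg.quadFormPlus n F u := by
  unfold Bf Cfsg.quadFormPlus
  rw [Finset.mul_sum]
  apply Finset.sum_congr rfl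
  intro i _
  ring

theorem Bf_eq (u v : Fin n ⊕ Fin n → F) :
    Bf u v = Cfsg.quadFormPlus n F (u + v) - Cfsg.quadFormPlus n F u - Cfsg.quadFormPlus n F v := by
  rw [Q_add]
  ring

/-- `Bf` as a linear functional in the first variable -/
def Bl (v : Fin n ⊕ Fin n → F) : (Fin n ⊕ Fin n → F) →ₗ[F] F where
  toFun u := Bf u v
  map_add' u u' := Bf_add_left u u' v
  map_smul' c u := by
    simp only [RingHom.id_apply, smul_eq_mul]
    exact Bf_smul_left c u v

@[simp] theorem Bl_apply (u v : Fin n ⊕ Fin n → F) : Bl v u = Bf u v := rfl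

theorem Bf_single_inl (i : Fin n) (v : Fin n ⊕ Fin n → F) :
    Bf (Pi.single (Sum.inl i) (1 : F)) v = v (Sum.inr i) := by
  unfold Bf
  rw [Finset.sum_eq_single i]
  · simp
  · intro j _ hji
    have h1 : (Pi.single (Sum.inl i) (1 : F) : Fin n ⊕ Fin n → F) (Sum.inl j) = 0 := by
      rw [Pi.single_apply, if_neg]
      intro h
      exact hji (Sum.inl.inj h)
    have h2 : (Pi.single (Sum.inl i) (1 : F) : Fin n ⊕ Fin n → F) (Sum.inr j) = 0 := by
      rw [Pi.single_apply, if_neg]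
      intro h
      cases h
    rw [h1, h2]
    ring
  · intro h
    exact absurd (Finset.mem_univ i) h

theorem Bf_single_inr (i : Fin n) (v : Fin n ⊕ Fin n → F) :
    Bf (Pi.single (Sum.inr i) (1 : F)) v = v (Sum.inl i) := by
  unfold Bf
  rw [Finset.sum_eq_single i]
  · simp
  · intro j _ hji
    have h1 : (Pi.single (Sum.inr i) (1 : F) : Fin n ⊕ Fin n → F) (Sum.inl j) = 0 := by
      rw [Pi.single_apply, if_neg]
      intro h
      cases h
    have h2 : (Pi.single (Sum.inr i) (1 : F) : Fin n ⊕ Fin n → F) (Sum.inr j) = 0 := by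
      rw [Pi.single_apply, if_neg]
      intro h
      exact hji (Sum.inr.inj h)
    rw [h1, h2]
    ring
  · intro h
    exact absurd (Finset.mem_univ i) h

/-- nondegeneracy of the polar form -/
theorem exists_Bf_ne_zero {v : Fin n ⊕ Fin n → F} (hv : v ≠ 0) :
    ∃ x : Fin n ⊕ Fin n → F, Bf x v ≠ 0 := by
  have : ∃ j, v j ≠ 0 := by
    by_contra hcon
    apply hv
    funext j
    by_contra hj
    exact hcon ⟨j, hj⟩
  obtain ⟨j, hj⟩ := this
  rcases j with i | i
  · exact ⟨Pi.single (Sum.inr i) 1, by rw [Bf_single_inr]; exact hj⟩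
  · exact ⟨Pi.single (Sum.inl i) 1, by rw [Bf_single_inl]; exact hj⟩

/-! ### Isometries -/

theorem mem_iso_iff (g : GL (Fin n ⊕ Fin n) F) :
    g ∈ Cfsg.isometryGroup F (Cfsg.quadFormPlus n F) ↔
      ∀ u, Cfsg.quadFormPlus n F ((g : Matrix (Fin n ⊕ Fin n) (Fin n ⊕ Fin n) F) *ᵥ u) = Cfsg.quadFormPlus n F u := by
  constructor
  · intro h u
    exact h u u
  · intro h u _
    exact h u

theorem Bf_iso {g : GL (Fin n ⊕ Fin n) F}
    (hg : g ∈ Cfsg.isometryGroup F (Cfsg.quadFormPlus n F)) (u v : Fin n ⊕ Fin n → F) :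
    Bf ((g : Matrix (Fin n ⊕ Fin n) (Fin n ⊕ Fin n) F) *ᵥ u) ((g : Matrix (Fin n ⊕ Fin n) (Fin n ⊕ Fin n) F) *ᵥ v) = Bf u v := by
  rw [mem_iso_iff] at hg
  rw [Bf_eq, Bf_eq, ← Matrix.mulVec_add, hg, hg, hg]

/-- an involutive linear map as an element of `GL` -/
noncomputable def glOfInvol (φ : (Fin n ⊕ Fin n → F) →ₗ[F] (Fin n ⊕ Fin n → F))
    (h : ∀ x, φ (φ x) = x) : GL (Fin n ⊕ Fin n) F :=
  ⟨LinearMap.toMatrix' φ, LinearMap.toMatrix' φ, by
    rw [← LinearMap.toMatrix'_comp]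
    have : φ.comp φ = LinearMap.id := by
      apply LinearMap.ext
      intro x
      exact h x
    rw [this, LinearMap.toMatrix'_id], by
    rw [← LinearMap.toMatrix'_comp]
    have : φ.comp φ = LinearMap.id := by
      apply LinearMap.ext
      intro x
      exact h x
    rw [this, LinearMap.toMatrix'_id]⟩

theorem glOfInvol_mulVec (φ : (Fin n ⊕ Fin n → F) →ₗ[F] (Fin n ⊕ Fin n → F))
    (h : ∀ x, φ (φ x) = x) (x : Fin n ⊕ Fin n → F) :
    ((glOfInvol φ h : GL (Fin n ⊕ Fin n) F) : Matrix (Fin n ⊕ Fin n) (Fin n ⊕ Fin n) F) *ᵥ x = φ x := by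
  unfold glOfInvol
  simp only
  rw [LinearMap.toMatrix'_mulVec]

/-! ### Reflections -/

/-- the reflection in a nonsingular vector -/
noncomputable def reflMap (v : Fin n ⊕ Fin n → F) :
    (Fin n ⊕ Fin n → F) →ₗ[F] (Fin n ⊕ Fin n → F) :=
  LinearMap.id - (Cfsg.quadFormPlus n F v)⁻¹ • (Bl v).smulRight v

theorem reflMap_apply (v x : Fin n ⊕ Fin n → F) :
    reflMap v x = x - ((Cfsg.quadFormPlus n F v)⁻¹ * Bf x v) • v := by
  unfold reflMap
  simp [mul_smul]

theorem reflMap_of_Bf_eq_zero {v x : Fin n ⊕ Fin n → F} (h : Bf x v = 0) : reflMap v x = x := by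
  rw [reflMap_apply, h]
  simp

theorem Q_reflMap {v : Fin n ⊕ Fin n → F} (hv : Cfsg.quadFormPlus n F v ≠ 0)
    (x : Fin n ⊕ Fin n → F) :
    Cfsg.quadFormPlus n F (reflMap v x) = Cfsg.quadFormPlus n F x := by
  rw [reflMap_apply, sub_eq_add_neg, ← neg_smul, Q_add, Q_smul, Bf_smul_right]
  field_simp
  ring

theorem reflMap_invol {v : Fin n ⊕ Fin n → F} (hv : Cfsg.quadFormPlus n F v ≠ 0)
    (x : Fin n ⊕ Fin n → F) : reflMap v (reflMap v x) = x := by
  have hvv : reflMap v v = -v := by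
    rw [reflMap_apply, Bf_self]
    have : (Cfsg.quadFormPlus n F v)⁻¹ * (2 * Cfsg.quadFormPlus n F v) = 2 := by
      field_simp
    rw [this, two_smul]
    abel
  rw [reflMap_apply v x, map_sub, map_smul, hvv, reflMap_apply]
  simp

/-! ### Siegel elements -/

/-- the Siegel map attached to two vectors -/
def siegelMap (u v : Fin n ⊕ Fin n → F) :
    (Fin n ⊕ Fin n → F) →ₗ[F] (Fin n ⊕ Fin n → F) :=
  LinearMap.id + (Bl u).smulRight v - (Bl v).smulRight u

theorem siegelMap_apply (u v x : Fin n ⊕ Fin n → F) :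
    siegelMap u v x = x + Bf x u • v - Bf x v • u := by
  unfold siegelMap
  simp

theorem siegelMap_of_Bf_eq_zero {u v x : Fin n ⊕ Fin n → F} (h1 : Bf x u = 0) (h2 : Bf x v = 0) :
    siegelMap u v x = x := by
  rw [siegelMap_apply, h1, h2]
  simp

theorem Q_siegelMap {u v : Fin n ⊕ Fin n → F} (hu : Cfsg.quadFormPlus n F u = 0)
    (hv : Cfsg.quadFormPlus n F v = 0) (huv : Bf u v = 0)
    (x : Fin n ⊕ Fin n → F) :
    Cfsg.quadFormPlus n F (siegelMap u v x) = Cfsg.quadFormPlus n F x := by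
  rw [siegelMap_apply, sub_eq_add_neg, ← neg_smul, Q_add, Q_add, Q_smul, Q_smul, hu, hv,
    Bf_smul_right, Bf_smul_right, Bf_add_left, Bf_smul_left, Bf_comm v u, huv]
  ring

end Cfsg.Agent.Helper44.SylMeet
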