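import Mathlib
import Cfsg.Agent.Lib.Helper44.SylMeetA

/-!
# Sylow `2`-subgroups of `O⁺(2m,2)` pairwise meet

`C(W)`, the pointwise stabiliser of a totally singular `(m-1)`-space `W`, is a `2`-group
(every element has `g⁴ = 1`), and `C(W) ∩ C(W')` always contains a reflection or a Siegel element.
-/

set_option autoImplicit false
set_option linter.unusedSectionVars false

namespace Cfsg.Agent.Helper44.SylMeet

open Matrix

universe u

variable {F : Type u} [Field F] [Fintype F]

theorem eq_zero_or_one (hF : Fintype.card F = 2) (a : F) : a = 0 ∨ a = 1 := by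
  by_contra hcon
  have h0 : a ≠ 0 := fun h => hcon (Or.inl h)
  have h1 : a ≠ 1 := fun h => hcon (Or.inr h)
  have : 2 < Fintype.card F := by
    rw [Fintype.two_lt_card_iff]
    exact ⟨0, 1, a, zero_ne_one, fun h => h0 h.symm, fun h => h1 h.symm⟩
  omega

theorem two_eq_zero (hF : Fintype.card F = 2) : (2 : F) = 0 := by
  rcases eq_zero_or_one hF (2 : F) with h | h
  · exact h
  · exfalso
    have : (1 : F) + 1 = 1 := by rw [one_add_one_eq_two]; exact h
    have h10 : (1 : F) = 0 := by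
      have h' := congrArg (fun t => t - 1) this
      simp at h'
    exact one_ne_zero h10

theorem add_self_vec (hF : Fintype.card F = 2) {ι : Type} (y : ι → F) : y + y = 0 := by
  rw [← two_smul F y, two_eq_zero hF, zero_smul]

variable {n : ℕ}

theorem siegelMap_invol (hF : Fintype.card F = 2) {u v : Fin n ⊕ Fin n → F}
    (hu : Cfsg.quadFormPlus n F u = 0) (hv : Cfsg.quadFormPlus n F v = 0) (huv : Bf u v = 0)
    (x : Fin n ⊕ Fin n → F) : siegelMap u v (siegelMap u v x) = x := by
  have e1 : Bf (siegelMap u v x) u = Bf x u := by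
    rw [siegelMap_apply, Bf_sub_left, Bf_add_left, Bf_smul_left, Bf_smul_left, Bf_self, hu,
      Bf_comm v u, huv]
    ring
  have e2 : Bf (siegelMap u v x) v = Bf x v := by
    rw [siegelMap_apply, Bf_sub_left, Bf_add_left, Bf_smul_left, Bf_smul_left, Bf_self, hv, huv]
    ring
  rw [siegelMap_apply u v (siegelMap u v x), e1, e2, siegelMap_apply]
  have h : x + Bf x u • v - Bf x v • u + Bf x u • v - Bf x v • u
      = x + (Bf x u • v + Bf x u • v) - (Bf x v • u + Bf x v • u) := by abel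
  rw [h, add_self_vec hF, add_self_vec hF]
  simp

/-- a nontrivial isometry fixing everything orthogonal to a given pair of vectors -/
theorem exists_fix_of_pair (hF : Fintype.card F = 2) {u v : Fin n ⊕ Fin n → F} (hu : u ≠ 0)
    (hv : v ∉ Submodule.span F {u}) :
    ∃ z : GL (Fin n ⊕ Fin n) F, z ∈ Cfsg.isometryGroup F (Cfsg.quadFormPlus n F) ∧ z ≠ 1 ∧
      ∀ w : Fin n ⊕ Fin n → F, Bf w u = 0 → Bf w v = 0 →
        (z : Matrix (Fin n ⊕ Fin n) (Fin n ⊕ Fin n) F) *ᵥ w = w := by
  have hv0 : v ≠ 0 := by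
    intro h
    apply hv
    rw [h]
    exact Submodule.zero_mem _
  -- reflection case
  have hrefl : ∀ t : Fin n ⊕ Fin n → F, Cfsg.quadFormPlus n F t ≠ 0 →
      (∀ w : Fin n ⊕ Fin n → F, Bf w u = 0 → Bf w v = 0 → Bf w t = 0) →
      ∃ z : GL (Fin n ⊕ Fin n) F, z ∈ Cfsg.isometryGroup F (Cfsg.quadFormPlus n F) ∧ z ≠ 1 ∧
      ∀ w : Fin n ⊕ Fin n → F, Bf w u = 0 → Bf w v = 0 →
        (z : Matrix (Fin n ⊕ Fin n) (Fin n ⊕ Fin n) F) *ᵥ w = w := by
    intro t ht hort
    have ht0 : t ≠ 0 := by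
      intro h
      apply ht
      rw [h]
      unfold Cfsg.quadFormPlus
      simp
    refine ⟨glOfInvol (reflMap t) (reflMap_invol ht), ?_, ?_, ?_⟩
    · rw [mem_iso_iff]
      intro x
      rw [glOfInvol_mulVec, Q_reflMap ht]
    · intro h1
      obtain ⟨x, hx⟩ := exists_Bf_ne_zero ht0
      have h2 := glOfInvol_mulVec (reflMap t) (reflMap_invol ht) x
      rw [h1] at h2
      simp only [Units.val_one, Matrix.one_mulVec] at h2
      rw [reflMap_apply] at h2
      have h3 : ((Cfsg.quadFormPlus n F t)⁻¹ * Bf x t) • t = 0 := by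
        have := congrArg (fun y => x - y) h2
        simpa using this.symm
      rcases smul_eq_zero.mp h3 with h4 | h4
      · rcases mul_eq_zero.mp h4 with h5 | h5
        · exact ht (inv_eq_zero.mp h5)
        · exact hx h5
      · exact ht0 h4
    · intro w hwu hwv
      rw [glOfInvol_mulVec]
      exact reflMap_of_Bf_eq_zero (hort w hwu hwv)
  by_cases h1 : Cfsg.quadFormPlus n F u = 0
  swap
  · exact hrefl u h1 (fun w hwu _ => hwu)
  by_cases h2 : Cfsg.quadFormPlus n F v = 0
  swap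
  · exact hrefl v h2 (fun w _ hwv => hwv)
  by_cases h3 : Cfsg.quadFormPlus n F (u + v) = 0
  swap
  · exact hrefl (u + v) h3 (fun w hwu hwv => by rw [Bf_add_right, hwu, hwv, add_zero])
  have huv : Bf u v = 0 := by rw [Bf_eq, h1, h2, h3]; ring
  refine ⟨glOfInvol (siegelMap u v) (siegelMap_invol hF h1 h2 huv), ?_, ?_, ?_⟩
  · rw [mem_iso_iff]
    intro x
    rw [glOfInvol_mulVec, Q_siegelMap h1 h2 huv]
  · intro h4
    obtain ⟨x, hx⟩ := exists_Bf_ne_zero hu
    have h5 := glOfInvol_mulVec (siegelMap u v) (siegelMap_invol hF h1 h2 huv) x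
    rw [h4] at h5
    simp only [Units.val_one, Matrix.one_mulVec] at h5
    rw [siegelMap_apply] at h5
    have h6 : Bf x u • v = Bf x v • u := by
      have h8 := congrArg (fun y => y - x + Bf x v • u) h5.symm
      beta_reduce at h8
      rw [← sub_eq_zero]
      have h9 : x - x + Bf x v • u = Bf x v • u := by abel
      have h10 : x + Bf x u • v - Bf x v • u - x + Bf x v • u = Bf x u • v := by abel
      rw [h9, h10] at h8
      rw [h8]
      abel
    apply hv
    have h7 : v = ((Bf x u)⁻¹ * Bf x v) • u := by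
      rw [mul_smul, ← h6, smul_smul, inv_mul_cancel₀ hx, one_smul]
    rw [h7]
    exact Submodule.smul_mem _ _ (Submodule.mem_span_singleton_self u)
  · intro w hwu hwv
    rw [glOfInvol_mulVec]
    exact siegelMap_of_Bf_eq_zero hwu hwv

/-- a nontrivial isometry fixing two families of `k` vectors in dimension `2k+2` -/
theorem exists_fix (hF : Fintype.card F = 2) (k : ℕ)
    (w w' : Fin k → (Fin (k + 1) ⊕ Fin (k + 1) → F)) :
    ∃ z : GL (Fin (k + 1) ⊕ Fin (k + 1)) F,
      z ∈ Cfsg.isometryGroup F (Cfsg.quadFormPlus (k + 1) F) ∧ z ≠ 1 ∧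
      (∀ i, (z : Matrix (Fin (k + 1) ⊕ Fin (k + 1)) (Fin (k + 1) ⊕ Fin (k + 1)) F) *ᵥ w i = w i) ∧
      (∀ i, (z : Matrix (Fin (k + 1) ⊕ Fin (k + 1)) (Fin (k + 1) ⊕ Fin (k + 1)) F) *ᵥ w' i
        = w' i) := by
  classical
  let Φ : (Fin (k + 1) ⊕ Fin (k + 1) → F) →ₗ[F] (Fin k ⊕ Fin k → F) :=
    LinearMap.pi (fun j => Sum.elim (fun i => Bl (w i)) (fun i => Bl (w' i)) j)
  have hΦ1 : ∀ x i, Φ x (Sum.inl i) = Bf x (w i) := fun x i => rfl
  have hΦ2 : ∀ x i, Φ x (Sum.inr i) = Bf x (w' i) := fun x i => rfl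
  have hker : 2 ≤ Module.finrank F (LinearMap.ker Φ) := by
    have h1 := LinearMap.finrank_range_add_finrank_ker Φ
    have h2 : Module.finrank F (LinearMap.range Φ) ≤ Module.finrank F (Fin k ⊕ Fin k → F) :=
      Submodule.finrank_le _
    rw [Module.finrank_fintype_fun_eq_card] at h1 h2
    simp only [Fintype.card_sum, Fintype.card_fin] at h1 h2
    omega
  have hpos : 0 < Module.finrank F (LinearMap.ker Φ) := by omega
  obtain ⟨⟨u, hu⟩, hu0⟩ := Module.finrank_pos_iff_exists_ne_zero.mp hpos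
  have hu0' : u ≠ 0 := by
    intro h
    apply hu0
    exact Subtype.ext h
  have hnle : ¬ LinearMap.ker Φ ≤ Submodule.span F {u} := by
    intro hle
    have h1 := Submodule.finrank_mono hle
    have h2 : Module.finrank F (Submodule.span F {u}) ≤ 1 := by
      have := finrank_span_le_card (R := F) ({u} : Set (Fin (k + 1) ⊕ Fin (k + 1) → F))
      simpa using this
    omega
  obtain ⟨v, hv, hvu⟩ := SetLike.not_le_iff_exists.mp hnle
  obtain ⟨z, hz, hz1, hzfix⟩ := exists_fix_of_pair hF hu0' hvu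
  have hu' : ∀ j, Φ u j = 0 := fun j => by
    have : Φ u = 0 := LinearMap.mem_ker.mp hu
    rw [this]
    rfl
  have hv' : ∀ j, Φ v j = 0 := fun j => by
    have : Φ v = 0 := LinearMap.mem_ker.mp hv
    rw [this]
    rfl
  refine ⟨z, hz, hz1, ?_, ?_⟩
  · intro i
    apply hzfix
    · rw [Bf_comm, ← hΦ1]; exact hu' _
    · rw [Bf_comm, ← hΦ1]; exact hv' _
  · intro i
    apply hzfix
    · rw [Bf_comm, ← hΦ2]; exact hu' _
    · rw [Bf_comm, ← hΦ2]; exact hv' _

end Cfsg.Agent.Helper44.SylMeet
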