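import Mathlib
import Cfsg.Agent.Lib.Helper44.SylMeetB

/-!
# Sylow `2`-subgroups of `O⁺(2m,2)` pairwise meet: the `2`-group `C(W₀)` and the assembly
-/

set_option autoImplicit false
set_option linter.unusedSectionVars false

namespace Cfsg.Agent.Helper44.SylMeet

open Matrix
open scoped Pointwise

universe u

variable {F : Type u} [Field F] [Fintype F] {k : ℕ}

/-- basis vectors of the totally singular space `W₀` -/
def eW (F : Type u) [Field F] (k : ℕ) (i : Fin k) : Fin (k + 1) ⊕ Fin (k + 1) → F :=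
  Pi.single (Sum.inl (Fin.castSucc i)) 1

/-- the last hyperbolic pair -/
def eL (F : Type u) [Field F] (k : ℕ) : Fin (k + 1) ⊕ Fin (k + 1) → F :=
  Pi.single (Sum.inl (Fin.last k)) 1

/-- the last hyperbolic pair -/
def fL (F : Type u) [Field F] (k : ℕ) : Fin (k + 1) ⊕ Fin (k + 1) → F :=
  Pi.single (Sum.inr (Fin.last k)) 1

/-- membership in `W₀^⊥` -/
def WP (y : Fin (k + 1) ⊕ Fin (k + 1) → F) : Prop :=
  ∀ i : Fin k, y (Sum.inr (Fin.castSucc i)) = 0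

/-- membership in `W₀` -/
def W0 (w : Fin (k + 1) ⊕ Fin (k + 1) → F) : Prop :=
  (∀ j : Fin (k + 1), w (Sum.inr j) = 0) ∧ w (Sum.inl (Fin.last k)) = 0

theorem W0_expand (w : Fin (k + 1) ⊕ Fin (k + 1) → F) (hw : W0 w) :
    w = ∑ i : Fin k, w (Sum.inl (Fin.castSucc i)) • eW F k i := by
  funext j
  rw [Finset.sum_apply]
  simp only [Pi.smul_apply, smul_eq_mul, eW]
  rcases j with j | j
  · induction j using Fin.lastCases with
    | last =>
      rw [hw.2]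
      symm
      apply Finset.sum_eq_zero
      intro i _
      rw [Pi.single_apply, if_neg, mul_zero]
      intro h
      exact (Fin.castSucc_lt_last i).ne (Sum.inl.inj h).symm
    | cast i0 =>
      rw [Finset.sum_eq_single i0]
      · simp
      · intro i _ hi
        rw [Pi.single_apply, if_neg, mul_zero]
        intro h
        apply hi
        exact (Fin.castSucc_injective _ (Sum.inl.inj h)).symm
      · intro h
        exact absurd (Finset.mem_univ _) h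
  · rw [hw.1 j]
    symm
    apply Finset.sum_eq_zero
    intro i _
    rw [Pi.single_apply, if_neg, mul_zero]
    intro h
    cases h

theorem fix_W0 {A : Matrix (Fin (k + 1) ⊕ Fin (k + 1)) (Fin (k + 1) ⊕ Fin (k + 1)) F}
    (hfix : ∀ i, A *ᵥ eW F k i = eW F k i) {w : Fin (k + 1) ⊕ Fin (k + 1) → F} (hw : W0 w) :
    A *ᵥ w = w := by
  have h := W0_expand w hw
  have h2 : A *ᵥ (∑ i : Fin k, w (Sum.inl (Fin.castSucc i)) • eW F k i)
      = ∑ i : Fin k, w (Sum.inl (Fin.castSucc i)) • eW F k i := by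
    rw [← Matrix.mulVecLin_apply, map_sum]
    apply Finset.sum_congr rfl
    intro i _
    rw [map_smul, Matrix.mulVecLin_apply, hfix]
  rw [← h] at h2
  exact h2

theorem WP_eL : WP (eL F k) := by
  intro i
  unfold eL
  rw [Pi.single_apply, if_neg]
  intro h
  cases h

theorem WP_fL : WP (fL F k) := by
  intro i
  unfold fL
  rw [Pi.single_apply, if_neg]
  intro h
  exact (Fin.castSucc_lt_last i).ne (Sum.inr.inj h)

theorem WP_add {y y' : Fin (k + 1) ⊕ Fin (k + 1) → F} (hy : WP y) (hy' : WP y') : WP (y + y') := by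
  intro i
  rw [Pi.add_apply, hy i, hy' i, add_zero]

theorem Q_of_WP {y : Fin (k + 1) ⊕ Fin (k + 1) → F} (hy : WP y) :
    Cfsg.quadFormPlus (k + 1) F y = y (Sum.inl (Fin.last k)) * y (Sum.inr (Fin.last k)) := by
  unfold Cfsg.quadFormPlus
  rw [Fin.sum_univ_castSucc, Finset.sum_eq_zero (fun i _ => by rw [hy i, mul_zero]), zero_add]

theorem eL_inl : (eL F k) (Sum.inl (Fin.last k)) = 1 := by
  unfold eL
  rw [Pi.single_eq_same]

theorem eL_inr (j : Fin (k + 1)) : (eL F k) (Sum.inr j) = 0 := by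
  unfold eL
  rw [Pi.single_apply, if_neg]
  intro h
  cases h

theorem fL_inr : (fL F k) (Sum.inr (Fin.last k)) = 1 := by
  unfold fL
  rw [Pi.single_eq_same]

theorem fL_inl (j : Fin (k + 1)) : (fL F k) (Sum.inl j) = 0 := by
  unfold fL
  rw [Pi.single_apply, if_neg]
  intro h
  cases h

theorem fL_inr_cast (i : Fin k) : (fL F k) (Sum.inr (Fin.castSucc i)) = 0 := WP_fL i

theorem decomp {y : Fin (k + 1) ⊕ Fin (k + 1) → F} (hy : WP y) :
    W0 (y - y (Sum.inl (Fin.last k)) • eL F k - y (Sum.inr (Fin.last k)) • fL F k) := by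
  constructor
  · intro j
    simp only [Pi.sub_apply, Pi.smul_apply, smul_eq_mul]
    induction j using Fin.lastCases with
    | last =>
      rw [eL_inr, fL_inr]
      ring
    | cast i =>
      rw [hy i, eL_inr, fL_inr_cast]
      ring
  · simp only [Pi.sub_apply, Pi.smul_apply, smul_eq_mul]
    rw [eL_inl, fL_inl]
    ring

theorem coords_cases (hF : Fintype.card F = 2) (a b c d : F) (h1 : a * c = 0) (h2 : b * d = 0)
    (h3 : (a + b) * (c + d) = 1) :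
    (a = 1 ∧ b = 0 ∧ c = 0 ∧ d = 1) ∨ (a = 0 ∧ b = 1 ∧ c = 1 ∧ d = 0) := by
  rcases eq_zero_or_one hF a with ha | ha <;> rcases eq_zero_or_one hF b with hb | hb <;>
    rcases eq_zero_or_one hF c with hc | hc <;> rcases eq_zero_or_one hF d with hd | hd <;>
    subst ha hb hc hd <;> simp at h1 h2 h3 <;> simp

section fixed

variable (hF : Fintype.card F = 2)
  {A : Matrix (Fin (k + 1) ⊕ Fin (k + 1)) (Fin (k + 1) ⊕ Fin (k + 1)) F}
  (hQ : ∀ u, Cfsg.quadFormPlus (k + 1) F (A *ᵥ u) = Cfsg.quadFormPlus (k + 1) F u)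
  (hfix : ∀ i, A *ᵥ eW F k i = eW F k i)

include hQ in
theorem Bf_A (u v : Fin (k + 1) ⊕ Fin (k + 1) → F) : Bf (A *ᵥ u) (A *ᵥ v) = Bf u v := by
  rw [Bf_eq, Bf_eq, ← Matrix.mulVec_add, hQ, hQ, hQ]

include hQ hfix in
theorem step2 (v : Fin (k + 1) ⊕ Fin (k + 1) → F) : WP (A *ᵥ v - v) := by
  intro i
  have h0 : Bf (eW F k i) (A *ᵥ v - v) = 0 := by
    rw [Bf_comm, Bf_sub_left]
    have h1 : Bf (A *ᵥ v) (eW F k i) = Bf v (eW F k i) := by
      conv_lhs => rw [← hfix i]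
      exact Bf_A hQ v (eW F k i)
    rw [h1, sub_self]
  unfold eW at h0
  rw [Bf_single_inl] at h0
  exact h0

include hQ hfix in
theorem WP_map {y : Fin (k + 1) ⊕ Fin (k + 1) → F} (hy : WP y) : WP (A *ᵥ y) := by
  intro i
  have h := step2 hQ hfix y i
  rw [Pi.sub_apply, hy i, sub_zero] at h
  exact h

include hfix in
theorem map_decomp {y : Fin (k + 1) ⊕ Fin (k + 1) → F} (hy : WP y) :
    A *ᵥ y = (y - y (Sum.inl (Fin.last k)) • eL F k - y (Sum.inr (Fin.last k)) • fL F k)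
      + y (Sum.inl (Fin.last k)) • (A *ᵥ eL F k) + y (Sum.inr (Fin.last k)) • (A *ᵥ fL F k) := by
  have h0 := fix_W0 hfix (decomp hy)
  have h1 : y = (y - y (Sum.inl (Fin.last k)) • eL F k - y (Sum.inr (Fin.last k)) • fL F k)
      + y (Sum.inl (Fin.last k)) • eL F k + y (Sum.inr (Fin.last k)) • fL F k := by abel
  conv_lhs => rw [h1]
  rw [Matrix.mulVec_add, Matrix.mulVec_add, Matrix.mulVec_smul, Matrix.mulVec_smul, h0]

include hfix in
theorem map_inl {y : Fin (k + 1) ⊕ Fin (k + 1) → F} (hy : WP y) :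
    (A *ᵥ y) (Sum.inl (Fin.last k)) =
      y (Sum.inl (Fin.last k)) * (A *ᵥ eL F k) (Sum.inl (Fin.last k))
        + y (Sum.inr (Fin.last k)) * (A *ᵥ fL F k) (Sum.inl (Fin.last k)) := by
  have h := congrFun (map_decomp hfix hy) (Sum.inl (Fin.last k))
  rw [h]
  simp only [Pi.add_apply, Pi.smul_apply, smul_eq_mul]
  rw [(decomp hy).2, zero_add]

include hfix in
theorem map_inr {y : Fin (k + 1) ⊕ Fin (k + 1) → F} (hy : WP y) :
    (A *ᵥ y) (Sum.inr (Fin.last k)) =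
      y (Sum.inl (Fin.last k)) * (A *ᵥ eL F k) (Sum.inr (Fin.last k))
        + y (Sum.inr (Fin.last k)) * (A *ᵥ fL F k) (Sum.inr (Fin.last k)) := by
  have h := congrFun (map_decomp hfix hy) (Sum.inr (Fin.last k))
  rw [h]
  simp only [Pi.add_apply, Pi.smul_apply, smul_eq_mul]
  rw [(decomp hy).1 (Fin.last k), zero_add]

include hF hQ hfix in
theorem coords (y : Fin (k + 1) ⊕ Fin (k + 1) → F) (hy : WP y) :
    (A *ᵥ (A *ᵥ y)) (Sum.inl (Fin.last k)) = y (Sum.inl (Fin.last k)) ∧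
    (A *ᵥ (A *ᵥ y)) (Sum.inr (Fin.last k)) = y (Sum.inr (Fin.last k)) := by
  have hWe := WP_map hQ hfix (WP_eL (F := F) (k := k))
  have hWf := WP_map hQ hfix (WP_fL (F := F) (k := k))
  have h1 : (A *ᵥ eL F k) (Sum.inl (Fin.last k)) * (A *ᵥ eL F k) (Sum.inr (Fin.last k)) = 0 := by
    rw [← Q_of_WP hWe, hQ, Q_of_WP WP_eL, eL_inr, mul_zero]
  have h2 : (A *ᵥ fL F k) (Sum.inl (Fin.last k)) * (A *ᵥ fL F k) (Sum.inr (Fin.last k)) = 0 := by
    rw [← Q_of_WP hWf, hQ, Q_of_WP WP_fL, fL_inl, zero_mul]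
  have h3 : ((A *ᵥ eL F k) (Sum.inl (Fin.last k)) + (A *ᵥ fL F k) (Sum.inl (Fin.last k))) *
      ((A *ᵥ eL F k) (Sum.inr (Fin.last k)) + (A *ᵥ fL F k) (Sum.inr (Fin.last k))) = 1 := by
    have h4 := Q_of_WP (WP_add hWe hWf)
    have h5 : Cfsg.quadFormPlus (k + 1) F (A *ᵥ eL F k + A *ᵥ fL F k) = 1 := by
      rw [← Matrix.mulVec_add, hQ, Q_of_WP (WP_add WP_eL WP_fL)]
      simp only [Pi.add_apply]
      rw [eL_inl, eL_inr, fL_inl, fL_inr]
      ring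
    rw [h5] at h4
    simp only [Pi.add_apply] at h4
    exact h4.symm
  have hy' := WP_map hQ hfix hy
  rw [map_inl hfix hy', map_inr hfix hy', map_inl hfix hy, map_inr hfix hy]
  rcases coords_cases hF _ _ _ _ h1 h2 h3 with ⟨ha, hb, hc, hd⟩ | ⟨ha, hb, hc, hd⟩
  · rw [ha, hb, hc, hd]
    constructor <;> ring
  · rw [ha, hb, hc, hd]
    constructor <;> ring

include hF hQ hfix in
theorem M_W0 (y : Fin (k + 1) ⊕ Fin (k + 1) → F) (hy : WP y) : W0 (A *ᵥ (A *ᵥ y) - y) := by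
  obtain ⟨c1, c2⟩ := coords hF hQ hfix y hy
  constructor
  · intro j
    rw [Pi.sub_apply]
    induction j using Fin.lastCases with
    | last => rw [c2, sub_self]
    | cast i => rw [WP_map hQ hfix (WP_map hQ hfix hy) i, hy i, sub_self]
  · rw [Pi.sub_apply, c1, sub_self]

include hF hQ hfix in
theorem pow_four_vec (v : Fin (k + 1) ⊕ Fin (k + 1) → F) :
    A *ᵥ (A *ᵥ (A *ᵥ (A *ᵥ v))) = v := by
  have hy := step2 hQ hfix v
  have hm := fix_W0 hfix (M_W0 hF hQ hfix _ hy)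
  simp only [Matrix.mulVec_sub] at hm
  -- hm : (a4 - a3) - (a2 - a1) = (a3 - a2) - (a1 - v)
  have h5 : A *ᵥ (A *ᵥ (A *ᵥ (A *ᵥ v))) =
      (A *ᵥ (A *ᵥ (A *ᵥ (A *ᵥ v))) - A *ᵥ (A *ᵥ (A *ᵥ v)) - (A *ᵥ (A *ᵥ v) - A *ᵥ v))
        + A *ᵥ (A *ᵥ (A *ᵥ v)) + (A *ᵥ (A *ᵥ v) - A *ᵥ v) := by abel
  rw [h5, hm]
  have h6 : A *ᵥ (A *ᵥ (A *ᵥ v)) - A *ᵥ (A *ᵥ v) - (A *ᵥ v - v) + A *ᵥ (A *ᵥ (A *ᵥ v))
      + (A *ᵥ (A *ᵥ v) - A *ᵥ v)
      = v + (A *ᵥ (A *ᵥ (A *ᵥ v)) + A *ᵥ (A *ᵥ (A *ᵥ v))) - (A *ᵥ v + A *ᵥ v) := by abel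
  rw [h6, add_self_vec hF, add_self_vec hF]
  simp

end fixed

theorem mat_eq_one_of_mulVec {ι : Type} [Fintype ι] [DecidableEq ι] (M : Matrix ι ι F)
    (h : ∀ v, M *ᵥ v = v) : M = 1 := by
  apply Matrix.toLin'.injective
  apply LinearMap.ext
  intro v
  rw [Matrix.toLin'_apply, h v, Matrix.toLin'_one, LinearMap.id_apply]

theorem pow_four_eq_one (hF : Fintype.card F = 2) (g : GL (Fin (k + 1) ⊕ Fin (k + 1)) F)
    (hg : g ∈ Cfsg.isometryGroup F (Cfsg.quadFormPlus (k + 1) F))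
    (hfix : ∀ i, (g : Matrix (Fin (k + 1) ⊕ Fin (k + 1)) (Fin (k + 1) ⊕ Fin (k + 1)) F)
      *ᵥ eW F k i = eW F k i) : g ^ 4 = 1 := by
  apply Units.ext
  rw [Units.val_pow_eq_pow_val, Units.val_one]
  apply mat_eq_one_of_mulVec
  intro v
  have h4 : (g : Matrix (Fin (k + 1) ⊕ Fin (k + 1)) (Fin (k + 1) ⊕ Fin (k + 1)) F) ^ 4
      = (g : Matrix _ _ F) * ((g : Matrix _ _ F) * ((g : Matrix _ _ F) * (g : Matrix _ _ F))) := by
    noncomm_ring
  rw [h4, ← Matrix.mulVec_mulVec, ← Matrix.mulVec_mulVec, ← Matrix.mulVec_mulVec]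
  exact pow_four_vec hF ((mem_iso_iff g).mp hg) hfix v

/-- the pointwise stabiliser of `W₀` -/
def C0 (F : Type u) [Field F] (k : ℕ) :
    Subgroup ↥(Cfsg.isometryGroup F (Cfsg.quadFormPlus (k + 1) F)) where
  carrier := {g | ∀ i : Fin k,
    ((g : GL (Fin (k + 1) ⊕ Fin (k + 1)) F) :
      Matrix (Fin (k + 1) ⊕ Fin (k + 1)) (Fin (k + 1) ⊕ Fin (k + 1)) F) *ᵥ eW F k i = eW F k i}
  mul_mem' := by
    intro a b ha hb i
    rw [Subgroup.coe_mul, Units.val_mul, ← Matrix.mulVec_mulVec, hb i, ha i]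
  one_mem' := by
    intro i
    rw [Subgroup.coe_one, Units.val_one, Matrix.one_mulVec]
  inv_mem' := by
    intro a ha i
    have h := ha i
    rw [Subgroup.coe_inv]
    conv_lhs => rw [← h]
    rw [Matrix.mulVec_mulVec, Units.inv_mul, Matrix.one_mulVec]

theorem isPGroup_C0 (hF : Fintype.card F = 2) (k : ℕ) : IsPGroup 2 (C0 F k) := by
  intro g
  refine ⟨2, ?_⟩
  apply Subtype.ext
  apply Subtype.ext
  rw [Subgroup.coe_pow, Subgroup.coe_pow, Subgroup.coe_one, Subgroup.coe_one]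
  exact pow_four_eq_one hF _ g.1.2 g.2

theorem main (hF : Fintype.card F = 2) (k : ℕ)
    (H : Sylow 2 ↥(Cfsg.isometryGroup F (Cfsg.quadFormPlus (k + 1) F)))
    (x : ↥(Cfsg.isometryGroup F (Cfsg.quadFormPlus (k + 1) F))) :
    (H : Subgroup ↥(Cfsg.isometryGroup F (Cfsg.quadFormPlus (k + 1) F))) ⊓
      MulAut.conj x • (H : Subgroup _) ≠ ⊥ := by
  classical
  obtain ⟨P0, hP0⟩ := (isPGroup_C0 hF k).exists_le_sylow
  obtain ⟨c, hc⟩ := MulAction.exists_smul_eq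
    ↥(Cfsg.isometryGroup F (Cfsg.quadFormPlus (k + 1) F)) P0 H
  obtain ⟨z, hz, hz1, hzw, hzw'⟩ := exists_fix hF k
    (fun i => ((c : GL (Fin (k + 1) ⊕ Fin (k + 1)) F) :
      Matrix (Fin (k + 1) ⊕ Fin (k + 1)) (Fin (k + 1) ⊕ Fin (k + 1)) F) *ᵥ eW F k i)
    (fun i => (((x * c : ↥(Cfsg.isometryGroup F (Cfsg.quadFormPlus (k + 1) F))) :
      GL (Fin (k + 1) ⊕ Fin (k + 1)) F) :
      Matrix (Fin (k + 1) ⊕ Fin (k + 1)) (Fin (k + 1) ⊕ Fin (k + 1)) F) *ᵥ eW F k i)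
  have key : ∀ a : ↥(Cfsg.isometryGroup F (Cfsg.quadFormPlus (k + 1) F)),
      (∀ i, (z : Matrix (Fin (k + 1) ⊕ Fin (k + 1)) (Fin (k + 1) ⊕ Fin (k + 1)) F) *ᵥ
        (((a : GL (Fin (k + 1) ⊕ Fin (k + 1)) F) :
          Matrix (Fin (k + 1) ⊕ Fin (k + 1)) (Fin (k + 1) ⊕ Fin (k + 1)) F) *ᵥ eW F k i)
        = ((a : GL (Fin (k + 1) ⊕ Fin (k + 1)) F) :
          Matrix (Fin (k + 1) ⊕ Fin (k + 1)) (Fin (k + 1) ⊕ Fin (k + 1)) F) *ᵥ eW F k i) →
      (⟨z, hz⟩ : ↥(Cfsg.isometryGroup F (Cfsg.quadFormPlus (k + 1) F))) ∈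
        MulAut.conj a • (P0 : Subgroup ↥(Cfsg.isometryGroup F (Cfsg.quadFormPlus (k + 1) F))) := by
    intro a ha
    rw [Subgroup.mem_pointwise_smul_iff_inv_smul_mem]
    apply hP0
    intro i
    rw [MulAut.smul_def, MulAut.conj_inv_apply, Subgroup.coe_mul, Subgroup.coe_mul,
      Subgroup.coe_inv, Units.val_mul, Units.val_mul, ← Matrix.mulVec_mulVec,
      ← Matrix.mulVec_mulVec]
    show (((a : GL (Fin (k + 1) ⊕ Fin (k + 1)) F)⁻¹ : GL (Fin (k + 1) ⊕ Fin (k + 1)) F) :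
      Matrix (Fin (k + 1) ⊕ Fin (k + 1)) (Fin (k + 1) ⊕ Fin (k + 1)) F) *ᵥ
        ((z : Matrix (Fin (k + 1) ⊕ Fin (k + 1)) (Fin (k + 1) ⊕ Fin (k + 1)) F) *ᵥ
        (((a : GL (Fin (k + 1) ⊕ Fin (k + 1)) F) :
          Matrix (Fin (k + 1) ⊕ Fin (k + 1)) (Fin (k + 1) ⊕ Fin (k + 1)) F) *ᵥ eW F k i))
        = eW F k i
    rw [ha i, Matrix.mulVec_mulVec, Units.inv_mul, Matrix.one_mulVec]
  have hH : (H : Subgroup ↥(Cfsg.isometryGroup F (Cfsg.quadFormPlus (k + 1) F)))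
      = MulAut.conj c • (P0 : Subgroup _) := by
    rw [← hc]
    rfl
  have hxH : MulAut.conj x • (H : Subgroup ↥(Cfsg.isometryGroup F (Cfsg.quadFormPlus (k + 1) F)))
      = MulAut.conj (x * c) • (P0 : Subgroup _) := by
    rw [hH, map_mul, mul_smul]
  intro hbot
  have hmem : (⟨z, hz⟩ : ↥(Cfsg.isometryGroup F (Cfsg.quadFormPlus (k + 1) F))) ∈
      (H : Subgroup ↥(Cfsg.isometryGroup F (Cfsg.quadFormPlus (k + 1) F))) ⊓
        MulAut.conj x • (H : Subgroup _) := by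
    rw [Subgroup.mem_inf, hxH, hH]
    exact ⟨key c hzw, key (x * c) hzw'⟩
  rw [hbot, Subgroup.mem_bot] at hmem
  apply hz1
  exact congrArg Subtype.val hmem

end Cfsg.Agent.Helper44.SylMeet
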