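import Mathlib
import Cfsg.Agent.Lib.Helper93.U20

/-!
# U2 project (S2335), piece B2 (helper44): a matrix with `M* M = 1` preserves the standard
Hermitian form.
-/

set_option autoImplicit false

namespace Cfsg.Agent.Helper44.U2

open Matrix Cfsg.Agent.Helper13 Cfsg.Agent.Helper93.U2

section GRP

variable {F : Type*} [Field F] [Fintype F] {q : ℕ} (hF : Fintype.card F = q ^ 2)

/-- piece B2 -/
theorem unitary_preserves {n : ℕ} (M : Matrix (Fin n) (Fin n) F) (h : cT hF M * M = 1)
    (u v : Fin n → F) :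
    Cfsg.hermForm n F q (M *ᵥ u) (M *ᵥ v) = Cfsg.hermForm n F q u v := by
  have key : Mᵀ * M.map (frobQ hF) = 1 := by
    have h1 := congrArg Matrix.transpose h
    rw [Matrix.transpose_mul, Matrix.transpose_one] at h1
    unfold cT at h1
    rw [Matrix.transpose_transpose] at h1
    exact h1
  have e1 : ∀ a w : Fin n → F,
      Cfsg.hermForm n F q a w = a ⬝ᵥ (frobQ hF ∘ w) := by
    intro a w
    unfold Cfsg.hermForm dotProduct
    refine Finset.sum_congr rfl (fun i _ => ?_)
    rw [Function.comp_apply, frobQ_apply]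
  have e2 : (frobQ hF ∘ (M *ᵥ v)) = M.map (frobQ hF) *ᵥ (frobQ hF ∘ v) := by
    funext i
    rw [Function.comp_apply]
    exact RingHom.map_mulVec (frobQ hF) M v i
  rw [e1, e1, e2, Matrix.dotProduct_mulVec, ← Matrix.vecMul_transpose, Matrix.vecMul_vecMul,
    key, Matrix.vecMul_one]

end GRP

end Cfsg.Agent.Helper44.U2
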