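import Mathlib
import Cfsg.Agent.Lib.Helper93.U20

/-!
# U2 project (S2335), piece G7 (helper44): a congruence by `1 + E`, `E * E = 0`, moving a
Hermitian matrix.
-/

set_option autoImplicit false

namespace Cfsg.Agent.Helper44.U2

open Matrix Cfsg.Agent.Helper13 Cfsg.Agent.Helper93.U2

section GRP

variable {F : Type*} [Field F] [Fintype F] {q : ℕ} (hF : Fintype.card F = q ^ 2)

/-- piece G7 -/
theorem exists_cong_ne (m : ℕ) (hm : 2 ≤ m) :
    ∃ (E : Matrix (Fin m) (Fin m) F) (a : ↥(hermSub hF m)),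
      E * E = 0 ∧ congH hF (1 + E) a ≠ a := by
  classical
  let i0 : Fin m := ⟨0, by omega⟩
  let i1 : Fin m := ⟨1, by omega⟩
  have h01 : i0 ≠ i1 := by
    intro h
    have := congrArg Fin.val h
    simp [i0, i1] at this
  have hA : cT hF (Matrix.single i0 i0 (1 : F)) = Matrix.single i0 i0 1 := by
    ext i j
    rw [cT_apply]
    simp only [Matrix.single_apply]
    by_cases h : i0 = j ∧ i0 = i
    · rw [if_pos h, if_pos ⟨h.2, h.1⟩, one_pow]
    · rw [if_neg h, if_neg (fun h' => h ⟨h'.2, h'.1⟩), zero_pow]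
      have := q_pos hF
      omega
  have hcE : cT hF (Matrix.single i1 i0 (1 : F)) = Matrix.single i0 i1 1 := by
    ext i j
    rw [cT_apply]
    simp only [Matrix.single_apply]
    by_cases h : i1 = j ∧ i0 = i
    · rw [if_pos h, if_pos ⟨h.2, h.1⟩, one_pow]
    · rw [if_neg h, if_neg (fun h' => h ⟨h'.2, h'.1⟩), zero_pow]
      have := q_pos hF
      omega
  refine ⟨Matrix.single i1 i0 1, ⟨Matrix.single i0 i0 1, hA⟩, ?_, ?_⟩
  · exact Matrix.single_mul_single_of_ne (1 : F) i1 i0 i1 h01 (1 : F)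
  · intro h
    have h1 : (congH hF (1 + Matrix.single i1 i0 (1 : F)) ⟨Matrix.single i0 i0 1, hA⟩).1
        = Matrix.single i0 i0 1 := congrArg Subtype.val h
    rw [congH_val] at h1
    change (1 + Matrix.single i1 i0 (1 : F)) * Matrix.single i0 i0 1 *
      cT hF (1 + Matrix.single i1 i0 (1 : F)) = Matrix.single i0 i0 1 at h1
    rw [cT_add, cT_one, hcE] at h1
    simp only [Matrix.add_mul, Matrix.mul_add, Matrix.one_mul, Matrix.mul_one,
      Matrix.single_mul_single_same] at h1
    have h2 := congrFun (congrFun h1 i1) i1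
    simp only [Matrix.add_apply, Matrix.single_apply, mul_one] at h2
    simp [h01] at h2

end GRP

end Cfsg.Agent.Helper44.U2
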