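import Mathlib
import Cfsg.Agent.Lib.Helper93.U20

/-!
# U2 project (S2335), piece K1 (helper44): an irreducible representation of degree at least 2
is not trivial.
-/

set_option autoImplicit false

namespace Cfsg.Agent.Helper44.U2

open Matrix Cfsg.Agent.Helper13 Cfsg.Agent.Helper93.U2 Module

/-- piece K1 -/
theorem exists_ne_one_of_irreducible {G : Type*} [Group G] {k : ℕ}
    (ρ : Representation ℂ G (Fin k → ℂ)) (hρ : ρ.IsIrreducible) (hk : 2 ≤ k) :
    ∃ g : G, ρ g ≠ 1 := by
  by_contra hcon
  push Not at hcon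
  have htriv : ∀ x, ρ x = 1 := hcon
  let e₀ : Fin k → ℂ := Pi.single ⟨0, by omega⟩ 1
  have he₀ : e₀ ≠ 0 := by
    intro h0
    have := congrFun h0 ⟨0, by omega⟩
    simp [e₀] at this
  let S : Subrepresentation ρ :=
    { toSubmodule := Submodule.span ℂ {e₀}
      apply_mem_toSubmodule := by
        intro x v hv
        rw [htriv x]
        exact hv }
  rcases hρ.eq_bot_or_eq_top S with hS | hS
  · have h1 : S.toSubmodule = ⊥ := congrArg Subrepresentation.toSubmodule hS
    have h2 : e₀ ∈ S.toSubmodule := Submodule.subset_span rfl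
    rw [h1, Submodule.mem_bot] at h2
    exact he₀ h2
  · have h1 : S.toSubmodule = ⊤ := congrArg Subrepresentation.toSubmodule hS
    have h2 : finrank ℂ (Submodule.span ℂ {e₀}) = 1 := finrank_span_singleton he₀
    have h3 : finrank ℂ (Submodule.span ℂ {e₀}) = k := by
      change finrank ℂ S.toSubmodule = k
      rw [h1, finrank_top, Module.finrank_fin_fun]
    omega

end Cfsg.Agent.Helper44.U2
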