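import Mathlib
import Cfsg.Agent.Lib.Helper98.UT0
import Cfsg.Agent.Lib.Helper66.UTD2
import Cfsg.Agent.Lib.Helper42.UTD1

/-! UT server (helper98, S2283), piece (D3) `cm_yEl cm_lEl cm_dEl`: explicit coordinate matrices. (helper44) -/

set_option autoImplicit false
set_option quotPrecheck false
set_option linter.unusedSectionVars false
set_option linter.unusedVariables false

namespace Cfsg.Agent.Helper44.UT

open Matrix Cfsg Cfsg.Agent.Helper13 Cfsg.Agent.Helper87.PsuA Cfsg.Agent.Helper87.PsuB0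
  Cfsg.Agent.Helper98.UT

variable {F : Type*} [Field F] [Fintype F] {q : ℕ}

local notation "G" => ↥(Cfsg.SU 3 F q)
local notation "H" => Cfsg.hermForm 3 F q

variable (hF : Fintype.card F = q ^ 2) {b : Fin 3 → Fin 3 → F}

theorem h44_rev0 : Fin.rev (0 : Fin 3) = 2 := by decide
theorem h44_rev1 : Fin.rev (1 : Fin 3) = 1 := by decide
theorem h44_rev2 : Fin.rev (2 : Fin 3) = 0 := by decide

/-- (D3a) matrix of `x(a,β)` (`eich_act`, `co_b`, `hb`). -/
theorem cm_yEl (hb : HB q b) (a β : F) (hab : β + β ^ q + a * a ^ q = 0) :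
    cm b (yEl hF b a β) = !![1, a, β; 0, 1, -(a ^ q); 0, 0, 1] := by
  have h01 : H (b 0) (b 1) = 0 := by rw [hb 0 1, if_neg (by decide)]
  have h11 : H (b 1) (b 1) = 1 := by rw [hb 1 1, if_pos (by decide)]
  have huw : H (b 0) ((-(a ^ q)) • b 1) = 0 := by rw [hermForm_smul_right, h01, mul_zero]
  have hww : H ((-(a ^ q)) • b 1) ((-(a ^ q)) • b 1) = a * a ^ q := by
    rw [hermForm_smul_left, hermForm_smul_right, h11, frob_neg hF, frob_frob hF]
    ring
  have hpar : β + β ^ q + H ((-(a ^ q)) • b 1) ((-(a ^ q)) • b 1) = 0 := by rw [hww]; exact hab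
  have hz : (0 : F) ^ q = 0 := frob_zero hF
  have hna : (-(a ^ q)) ^ q = -a := by rw [frob_neg hF, frob_frob hF]
  have key : ∀ i j : Fin 3, cm b (yEl hF b a β) i j =
      (!![1, a, β; 0, 1, -(a ^ q); 0, 0, 1] : Matrix (Fin 3) (Fin 3) F) i j := by
    intro i j
    rw [Cfsg.Agent.Helper66.UT.cm_apply hb]
    unfold yEl
    rw [co_eich_b hF hb 0 (by decide) _ β huw hpar j i]
    simp only [co_smul, co_b hb]
    fin_cases i <;> fin_cases j <;>
      simp [h44_rev0, h44_rev1, h44_rev2, hz, hna]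
  ext i j
  exact key i j

/-- (D3b) matrix of `x⁻(a,β)`. -/
theorem cm_lEl (hb : HB q b) (a β : F) (hab : β + β ^ q + a * a ^ q = 0) :
    cm b (lEl hF b a β) = !![1, 0, 0; -(a ^ q), 1, 0; β, a, 1] := by
  have h21 : H (b 2) (b 1) = 0 := by rw [hb 2 1, if_neg (by decide)]
  have h11 : H (b 1) (b 1) = 1 := by rw [hb 1 1, if_pos (by decide)]
  have huw : H (b 2) ((-(a ^ q)) • b 1) = 0 := by rw [hermForm_smul_right, h21, mul_zero]
  have hww : H ((-(a ^ q)) • b 1) ((-(a ^ q)) • b 1) = a * a ^ q := by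
    rw [hermForm_smul_left, hermForm_smul_right, h11, frob_neg hF, frob_frob hF]
    ring
  have hpar : β + β ^ q + H ((-(a ^ q)) • b 1) ((-(a ^ q)) • b 1) = 0 := by rw [hww]; exact hab
  have hz : (0 : F) ^ q = 0 := frob_zero hF
  have hna : (-(a ^ q)) ^ q = -a := by rw [frob_neg hF, frob_frob hF]
  have key : ∀ i j : Fin 3, cm b (lEl hF b a β) i j =
      (!![1, 0, 0; -(a ^ q), 1, 0; β, a, 1] : Matrix (Fin 3) (Fin 3) F) i j := by
    intro i j
    rw [Cfsg.Agent.Helper66.UT.cm_apply hb]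
    unfold lEl
    rw [co_eich_b hF hb 2 (by decide) _ β huw hpar j i]
    simp only [co_smul, co_b hb]
    fin_cases i <;> fin_cases j <;>
      simp [h44_rev0, h44_rev1, h44_rev2, hz, hna]
  ext i j
  exact key i j

/-- (D3c) matrix of the diagonal element (from (D1)). -/
theorem cm_dEl (hb : HB q b) (d0 d1 d2 : F) (h02 : d0 * d2 ^ q = 1) (h11 : d1 * d1 ^ q = 1)
    (hdet : d0 * d1 * d2 = 1) :
    cm b (dEl hF b d0 d1 d2) = !![d0, 0, 0; 0, d1, 0; 0, 0, d2] := by
  obtain ⟨e0, e1, e2⟩ := Cfsg.Agent.Helper42.UT.dEl_act hF hb d0 d1 d2 h02 h11 hdet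
  have key : ∀ i j : Fin 3, cm b (dEl hF b d0 d1 d2) i j =
      (!![d0, 0, 0; 0, d1, 0; 0, 0, d2] : Matrix (Fin 3) (Fin 3) F) i j := by
    intro i j
    rw [Cfsg.Agent.Helper66.UT.cm_apply hb]
    fin_cases j
    · show co q b (actv (dEl hF b d0 d1 d2) (b 0)) i = _
      rw [e0, co_smul, co_b hb]
      fin_cases i <;> simp
    · show co q b (actv (dEl hF b d0 d1 d2) (b 1)) i = _
      rw [e1, co_smul, co_b hb]
      fin_cases i <;> simp
    · show co q b (actv (dEl hF b d0 d1 d2) (b 2)) i = _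
      rw [e2, co_smul, co_b hb]
      fin_cases i <;> simp
  ext i j
  exact key i j

end Cfsg.Agent.Helper44.UT
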